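import Cfsg.Agent.Lib.Lie.CentralLocal
import Cfsg.Agent.Lib.Lie.PermNine
import Cfsg.Agent.Lib.Lie.ConwayThreeOut.Data

/-!
Codes of elements of the third Conway group by the inverse images of a base, and checks for the additional
relations of the central tables.
-/

set_option autoImplicit false
set_option maxRecDepth 20000

namespace Cfsg.Agent.Lie.ConwayThreeMult

open Cfsg.Agent.Lie PermNine ConwayThreeOut

/-- A permutation, its inverse and a factorisation along the chain. -/
abbrev Elem : Type := ℕ × ℕ × List ℕ

/-- A power or a pair of words, the conjugate ones, and the conjugating element. -/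
abbrev Spec : Type := (ℕ × List ℕ × List ℕ × List ℕ × List ℕ) × Elem

/-- The base. -/
def baseL : List ℕ := chainX.map Prod.fst

/-- Packing of images. -/
def packL (l : List ℕ) : ℕ := l.foldr (fun a m => m * 512 + a) 0

/-- The code of the identity. -/
def oneC : ℕ := packL baseL

/-- The code of a product with a generator. -/
def actC (gs : List Elem) (s m : ℕ) : ℕ :=
  packL ((List.range baseL.length).map fun j => pg (gs.getD s (0, 0, [])).2.1 (pg m j))

/-- The representatives selected by a factorisation. -/
def repsOf (is : List ℕ) : List ℕ := (List.range is.length).map fun j => (chainX.getD j (0, [])).2.getD (is.getD j 0) 0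

/-- An element as it is claimed. -/
def elemOK (e : Elem) : Bool :=
  (Nat.ble e.2.2.length chainX.length && (List.range e.2.2.length).all fun j =>
      Nat.blt (e.2.2.getD j 0) (chainX.getD j (0, [])).2.length) &&
    (List.range 276).all fun k => (Nat.beq (pg e.1 k) (imgOf (repsOf e.2.2) k)) &&
      (Nat.blt (pg e.2.1 k) 276 && Nat.beq (pg e.1 (pg e.2.1 k)) k)

/-- The image of a point under a word. -/
def imgW (gs : List Elem) (w : List ℕ) (k : ℕ) : ℕ := w.foldr (fun s j => pg (gs.getD s (0, 0, [])).1 j) k

/-- The conjugation is as claimed. -/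
def conjOK (gs : List Elem) (h : ℕ) (a c : List ℕ) : Bool :=
  (List.range 276).all fun k => Nat.beq (pg h (imgW gs a k)) (imgW gs c (pg h k))

/-- The additional relation of a specification. -/
def extOf (e : Spec) : List ℕ × List ℕ × List ℕ × List ℕ :=
  bif Nat.beq e.1.1 0 then (e.1.2.1 ++ e.1.2.2.1, e.1.2.2.1 ++ e.1.2.1, e.1.2.2.2.1 ++ e.1.2.2.2.2, e.1.2.2.2.2 ++ e.1.2.2.2.1)
  else ((List.replicate e.1.1 e.1.2.1).flatten, [], (List.replicate e.1.1 e.1.2.2.2.1).flatten, [])

/-- A specification is as claimed. -/
def specOK (C : CentralLocal.Cert) (gs : List Elem) (e : Spec) : Bool :=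
  C.extOK (extOf e) && ((C.letters e.1.2.1 && (C.letters e.1.2.2.1 && (C.letters e.1.2.2.2.1 && C.letters e.1.2.2.2.2))) &&
    (conjOK gs e.2.1 e.1.2.1 e.1.2.2.2.1 &&
      ((Nat.beq e.1.1 0 && conjOK gs e.2.1 e.1.2.2.1 e.1.2.2.2.2) ||
        (!Nat.beq e.1.1 0 && Nat.beq (e.1.1 % C.q) 0))))

end Cfsg.Agent.Lie.ConwayThreeMult
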