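import Cfsg.Agent.Lib.Lie.CentralLocal
import Cfsg.Agent.Lib.Lie.ConwayThreeMult.Defs

/-!
Central table on a Sylow subgroup for the prime 5 of the third Conway group (generated).
-/

set_option autoImplicit false
set_option maxRecDepth 100000
set_option maxHeartbeats 0

namespace Cfsg.Agent.Lie.ConwayThreeMult

open Cfsg.Agent.Lie

def fiveElt0 : Janko.Tree (ℕ) :=
  (.node (.node (.node (.node (.leaf 2464856673237604538368) (.leaf 1783571966773956548363)) (.node (.leaf 1507302125745861572875) (.leaf 2003779977452388378636))) (.node (.node (.leaf 1784254936541440010969) (.leaf 2439639018434610918459)) (.node (.leaf 1300844820364285240513) (.leaf 2236567881091595694243)))) (.node (.node (.node (.leaf 166996583407177739009) (.leaf 2236974456453315180718)) (.node (.leaf 2411288866826971876057) (.leaf 2374676947957978535986))) (.node (.node (.leaf 115407814422740965121) (.leaf 2409411428792836122891)) (.node (.leaf 2002105332387785041979) (.leaf 1192067363628687578750)))))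

def fiveElt1 : Janko.Tree (ℕ) :=
  (.node (.node (.node (.node (.leaf 463550317031947020993) (.leaf 1488999394674530063070)) (.node (.leaf 1192304088698026520626) (.leaf 2232111872607836519105))) (.node (.node (.leaf 2262593551602455701771) (.leaf 2153737669323319162930)) (.node (.leaf 2234723087862007098101) (.leaf 2464143498044251089467)))) (.node (.node (.node (.leaf 544221538454817077322) (.leaf 1165786825523395926721)) (.node (.leaf 166584531411477817418) (.leaf 684260193323747658895))) (.node (.node (.leaf 1319992419899050300097) (.leaf 1506930412522168455944)) (.node (.leaf 2050005593622795806863) (.leaf 2435120292972477303826)))))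

def fiveElt2 : Janko.Tree (ℕ) :=
  (.node (.node (.node (.node (.leaf 2437822731678565087905) (.leaf 4615324374616789737)) (.node (.leaf 1605679187016732420872) (.leaf 2465595998343794336929))) (.node (.node (.leaf 3496589391966522590) (.leaf 1194664214108645403279)) (.node (.leaf 1938226208628710310400) (.leaf 2437066972055323146252)))) (.node (.node (.node (.leaf 464612415133977412341) (.leaf 2176849466894913424545)) (.node (.leaf 547910332493132534494) (.leaf 2049663879769514116734))) (.node (.node (.leaf 1488765314558724184138) (.leaf 113080196641345315969)) (.node (.leaf 2410695055160116006098) (.leaf 1938809225402463880763)))))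

def fiveElt3 : Janko.Tree (ℕ) :=
  (.node (.node (.node (.node (.leaf 548773120651783858409) (.leaf 166100722835357234305)) (.node (.leaf 1782455743455252052178) (.leaf 2437860764813875277312))) (.node (.node (.leaf 2408441569789092898056) (.leaf 1606224894963525171922)) (.node (.leaf 1194272131911008185997) (.leaf 1938386242001706999457)))) (.node (.node (.node (.leaf 114523773813913607902) (.leaf 2004805779483999867392)) (.node (.leaf 465817599471678417157) (.leaf 1507841691213088476377))) (.node (.node (.leaf 1162345430738514498293) (.leaf 1489196860340667215617)) (.node (.leaf 2152331349281448731774) (.leaf 2180301170424789703180)))))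

def fiveElt4 : Janko.Tree (ℕ) :=
  (.node (.node (.node (.node (.leaf 461931755618133626019) (.leaf 545014690076109107457)) (.node (.leaf 1488087630068170097281) (.leaf 2152584466820505639565))) (.node (.node (.leaf 166293986880840861417) (.leaf 2235157606729633011973)) (.node (.leaf 2177076913394132211218) (.leaf 2179527322600598768128)))) (.node (.node (.node (.leaf 1321921628130558629637) (.leaf 685216073534357429901)) (.node (.leaf 685598223917910856318) (.leaf 1606311702803626595083))) (.node (.node (.leaf 1303523195374491727109) (.leaf 3969124771869549642)) (.node (.leaf 1505070322247281739500) (.leaf 2003511161864011749025)))))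

def fiveElt5 : Janko.Tree (ℕ) :=
  (.node (.node (.node (.node (.leaf 1320371584402693621422) (.leaf 1320149735038237145333)) (.node (.leaf 2371584096694771436687) (.leaf 2504819590665615489))) (.node (.node (.leaf 545428991960317008513) (.leaf 2370790309800996108414)) (.node (.leaf 2374803507721498584306) (.leaf 686628374356811911922)))) (.node (.node (.node (.leaf 1163179280289845045411) (.leaf 1304603562652617250549)) (.node (.leaf 115473603641089538793) (.leaf 1782813535324557824776))) (.node (.node (.leaf 2002754382889690871826) (.leaf 167831710995071134430)) (.leaf 1605304479503871482585))))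

def fiveElt6 : Janko.Tree (ℕ) :=
  (.node (.node (.node (.node (.leaf 1939635342781479448588) (.leaf 1166726489590540066565)) (.node (.leaf 2263137925096093834988) (.leaf 1938821014231452804114))) (.node (.node (.leaf 463910150528701353134) (.leaf 1782543662148125721324)) (.node (.leaf 682621408421699152434) (.leaf 2052452973757670177330)))) (.node (.node (.node (.leaf 2181458985726912522811) (.leaf 2463434778986346992146)) (.node (.leaf 1322872979257414722723) (.leaf 2260993107565277672658))) (.node (.node (.leaf 2051410680923426935437) (.leaf 1486569208374370601705)) (.leaf 115239032397140642890))))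

def fiveElt7 : Janko.Tree (ℕ) :=
  (.node (.node (.node (.node (.leaf 2411074692741269090540) (.leaf 1303657550797955762851)) (.node (.leaf 543787875911096065) (.leaf 1193244801093501818610))) (.node (.node (.leaf 1505055180260979306194) (.leaf 2261654971933686781657)) (.node (.leaf 2262717848927053060360) (.leaf 2151967819499643863695)))) (.node (.node (.node (.leaf 2370520656893829277837) (.leaf 2049553469165376211698)) (.node (.leaf 1164746908573997788846) (.leaf 1609391383528020436204))) (.node (.node (.leaf 2153387964373348709618) (.leaf 1304550080967052956334)) (.leaf 2464772590286090080780))))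

def fiveElt : Janko.Tree (ℕ) := (.node (.node (.node fiveElt0 fiveElt4) (.node fiveElt2 fiveElt6)) (.node (.node fiveElt1 fiveElt5) (.node fiveElt3 fiveElt7)))

def fiveNext0 : Janko.Tree (ℕ) :=
  (.node (.node (.node (.node (.node (.leaf 1) (.leaf 81)) (.node (.leaf 54) (.leaf 112))) (.node (.node (.leaf 31) (.leaf 12)) (.node (.leaf 66) (.leaf 41)))) (.node (.node (.node (.leaf 17) (.leaf 93)) (.node (.leaf 53) (.leaf 113))) (.node (.node (.leaf 32) (.leaf 104)) (.node (.leaf 84) (.leaf 124))))) (.node (.node (.node (.node (.leaf 9) (.leaf 88)) (.node (.leaf 61) (.leaf 116))) (.node (.node (.leaf 38) (.leaf 8)) (.node (.leaf 77) (.leaf 48)))) (.node (.node (.node (.leaf 24) (.leaf 99)) (.node (.leaf 2) (.leaf 118))) (.node (.node (.leaf 39) (.leaf 109)) (.node (.leaf 76) (.leaf 72))))))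

def fiveNext1 : Janko.Tree (ℕ) :=
  (.node (.node (.node (.node (.node (.leaf 2) (.leaf 89)) (.node (.leaf 55) (.leaf 113))) (.node (.node (.leaf 32) (.leaf 102)) (.node (.leaf 71) (.leaf 49)))) (.node (.node (.node (.leaf 18) (.leaf 84)) (.node (.leaf 64) (.leaf 118))) (.node (.node (.leaf 42) (.leaf 109)) (.node (.leaf 78) (.leaf 44))))) (.node (.node (.node (.node (.leaf 10) (.leaf 93)) (.node (.leaf 62) (.leaf 15))) (.node (.node (.leaf 39) (.leaf 97)) (.node (.leaf 75) (.leaf 124)))) (.node (.node (.node (.leaf 25) (.leaf 100)) (.node (.leaf 59) (.leaf 19))) (.node (.node (.leaf 48) (.leaf 94)) (.node (.leaf 87) (.leaf 63))))))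

def fiveNext2 : Janko.Tree (ℕ) :=
  (.node (.node (.node (.node (.node (.leaf 3) (.leaf 83)) (.node (.leaf 56) (.leaf 20))) (.node (.node (.leaf 33) (.leaf 14)) (.node (.leaf 67) (.leaf 43)))) (.node (.node (.node (.leaf 19) (.leaf 94)) (.node (.leaf 55) (.leaf 114))) (.node (.node (.leaf 45) (.leaf 105)) (.node (.leaf 6) (.leaf 69))))) (.node (.node (.node (.node (.leaf 11) (.leaf 90)) (.node (.leaf 63) (.leaf 16))) (.node (.node (.leaf 40) (.leaf 98)) (.node (.leaf 78) (.leaf 121)))) (.node (.node (.node (.leaf 26) (.leaf 101)) (.node (.leaf 60) (.leaf 119))) (.node (.node (.leaf 49) (.leaf 110)) (.leaf 79)))))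

def fiveNext3 : Janko.Tree (ℕ) :=
  (.node (.node (.node (.node (.node (.leaf 4) (.leaf 90)) (.node (.leaf 54) (.leaf 112))) (.node (.node (.leaf 34) (.leaf 104)) (.node (.leaf 72) (.leaf 121)))) (.node (.node (.node (.leaf 20) (.leaf 13)) (.node (.leaf 66) (.leaf 119))) (.node (.node (.leaf 46) (.leaf 110)) (.node (.leaf 82) (.leaf 50))))) (.node (.node (.node (.node (.leaf 12) (.leaf 5)) (.node (.leaf 57) (.leaf 26))) (.node (.node (.leaf 41) (.leaf 106)) (.node (.leaf 79) (.leaf 31)))) (.node (.node (.node (.leaf 27) (.leaf 95)) (.node (.leaf 68) (.leaf 23))) (.node (.node (.leaf 0) (.leaf 101)) (.leaf 88)))))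

def fiveNext4 : Janko.Tree (ℕ) :=
  (.node (.node (.node (.node (.node (.leaf 5) (.leaf 86)) (.node (.leaf 57) (.leaf 22))) (.node (.node (.leaf 35) (.leaf 96)) (.node (.leaf 73) (.leaf 46)))) (.node (.node (.node (.leaf 21) (.leaf 95)) (.node (.leaf 58) (.leaf 115))) (.node (.node (.leaf 34) (.leaf 107)) (.node (.leaf 85) (.leaf 70))))) (.node (.node (.node (.node (.leaf 13) (.leaf 91)) (.node (.leaf 51) (.leaf 27))) (.node (.node (.leaf 42) (.leaf 100)) (.node (.leaf 80) (.leaf 122)))) (.node (.node (.node (.leaf 28) (.leaf 10)) (.node (.leaf 62) (.leaf 120))) (.node (.node (.leaf 50) (.leaf 111)) (.leaf 89)))))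

def fiveNext5 : Janko.Tree (ℕ) :=
  (.node (.node (.node (.node (.node (.leaf 6) (.leaf 91)) (.node (.leaf 58) (.leaf 114))) (.node (.node (.leaf 36) (.leaf 105)) (.node (.leaf 74) (.leaf 122)))) (.node (.node (.node (.leaf 22) (.leaf 96)) (.node (.leaf 67) (.leaf 120))) (.node (.node (.leaf 45) (.leaf 9)) (.node (.leaf 86) (.leaf 52))))) (.node (.node (.node (.node (.leaf 14) (.leaf 73)) (.node (.leaf 61) (.leaf 116))) (.node (.node (.leaf 43) (.leaf 107)) (.node (.leaf 81) (.leaf 33)))) (.node (.node (.node (.leaf 29) (.leaf 99)) (.node (.leaf 69) (.leaf 111))) (.node (.node (.leaf 51) (.leaf 24)) (.leaf 3)))))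

def fiveNext6 : Janko.Tree (ℕ) :=
  (.node (.node (.node (.node (.node (.leaf 7) (.leaf 87)) (.node (.leaf 59) (.leaf 25))) (.node (.node (.leaf 37) (.leaf 106)) (.node (.leaf 75) (.leaf 47)))) (.node (.node (.node (.leaf 23) (.leaf 97)) (.node (.leaf 68) (.leaf 117))) (.node (.node (.leaf 36) (.leaf 108)) (.node (.leaf 74) (.leaf 71))))) (.node (.node (.node (.node (.leaf 15) (.leaf 92)) (.node (.leaf 64) (.leaf 29))) (.node (.node (.leaf 44) (.leaf 103)) (.node (.leaf 82) (.leaf 123)))) (.node (.node (.node (.leaf 0) (.leaf 102)) (.node (.leaf 65) (.leaf 30))) (.node (.node (.leaf 52) (.leaf 18)) (.leaf 4)))))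

def fiveNext7 : Janko.Tree (ℕ) :=
  (.node (.node (.node (.node (.node (.leaf 8) (.leaf 92)) (.node (.leaf 60) (.leaf 115))) (.node (.node (.leaf 35) (.leaf 7)) (.node (.leaf 76) (.leaf 123)))) (.node (.node (.node (.leaf 21) (.leaf 98)) (.node (.leaf 1) (.leaf 17))) (.node (.node (.leaf 47) (.leaf 11)) (.node (.leaf 85) (.leaf 56))))) (.node (.node (.node (.node (.leaf 16) (.leaf 77)) (.node (.leaf 65) (.leaf 117))) (.node (.node (.leaf 38) (.leaf 108)) (.node (.leaf 83) (.leaf 37)))) (.node (.node (.node (.leaf 30) (.leaf 103)) (.node (.leaf 70) (.leaf 40))) (.node (.node (.leaf 53) (.leaf 28)) (.leaf 80)))))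

def fiveNext : Janko.Tree (ℕ) := (.node (.node (.node fiveNext0 fiveNext4) (.node fiveNext2 fiveNext6)) (.node (.node fiveNext1 fiveNext5) (.node fiveNext3 fiveNext7)))

def fiveWord0 : Janko.Tree (ℕ) :=
  (.node (.node (.node (.node (.leaf 1) (.leaf 16843024)) (.node (.leaf 1048593) (.leaf 4294971409))) (.node (.node (.leaf 65537) (.leaf 268439808)) (.node (.leaf 1118465) (.leaf 68719542544)))) (.node (.node (.node (.leaf 4097) (.leaf 17895681)) (.node (.leaf 1052928) (.leaf 4295036945))) (.node (.node (.leaf 69648) (.leaf 268505345)) (.node (.leaf 16781312) (.leaf 68720595201)))))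

def fiveWord1 : Janko.Tree (ℕ) :=
  (.node (.node (.node (.node (.leaf 16) (.leaf 16843025)) (.node (.leaf 1048832) (.leaf 4294971648))) (.node (.node (.leaf 65552) (.leaf 268439809)) (.node (.leaf 1118480) (.leaf 68719542545)))) (.node (.node (.node (.leaf 4112) (.leaf 268435712)) (.node (.leaf 1052929) (.leaf 4295037185))) (.node (.node (.leaf 69649) (.leaf 268505360)) (.node (.leaf 16781328) (.leaf 1099512680721)))))

def fiveWord2 : Janko.Tree (ℕ) :=
  (.node (.node (.node (.node (.leaf 17) (.leaf 16846865)) (.node (.leaf 1048833) (.leaf 4294971649))) (.node (.node (.leaf 65553) (.leaf 268439824)) (.node (.leaf 16777232) (.leaf 68719546385)))) (.node (.node (.node (.leaf 4113) (.leaf 268435713)) (.node (.leaf 1052944) (.leaf 4295037200))) (.node (.node (.leaf 69888) (.leaf 269488401)) (.node (.leaf 16781329) (.leaf 1099512742161)))))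

def fiveWord3 : Janko.Tree (ℕ) :=
  (.node (.node (.node (.node (.leaf 256) (.leaf 16847105)) (.node (.leaf 1048848) (.leaf 4294971664))) (.node (.node (.leaf 65792) (.leaf 268439825)) (.node (.leaf 16777233) (.leaf 68719546625)))) (.node (.node (.node (.leaf 4352) (.leaf 268435728)) (.node (.leaf 1052945) (.leaf 4296020241))) (.node (.node (.leaf 69889) (.leaf 269549841)) (.node (.leaf 16781568) (.leaf 1099512746001)))))

def fiveWord4 : Janko.Tree (ℕ) :=
  (.node (.node (.node (.node (.leaf 257) (.leaf 16847120)) (.node (.leaf 1048849) (.leaf 4294971665))) (.node (.node (.leaf 65793) (.leaf 268500992)) (.node (.leaf 16777472) (.leaf 68719546640)))) (.node (.node (.node (.leaf 4353) (.leaf 268435729)) (.node (.leaf 1114112) (.leaf 4296081681))) (.node (.node (.leaf 69904) (.leaf 269553681)) (.node (.leaf 16781569) (.leaf 1099512746241)))))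

def fiveWord5 : Janko.Tree (ℕ) :=
  (.node (.node (.node (.node (.leaf 272) (.leaf 17830161)) (.node (.leaf 1052672) (.leaf 4295032832))) (.node (.node (.leaf 65808) (.leaf 268501264)) (.node (.leaf 16777473) (.leaf 68720529681)))) (.node (.node (.node (.leaf 4368) (.leaf 268439552)) (.node (.leaf 1114384) (.leaf 4296085521))) (.node (.node (.leaf 69905) (.leaf 269553921)) (.leaf 16781584))))

def fiveWord6 : Janko.Tree (ℕ) :=
  (.node (.node (.node (.node (.leaf 273) (.leaf 17891601)) (.node (.leaf 1052688) (.leaf 4295033104))) (.node (.node (.leaf 65809) (.leaf 268501265)) (.node (.leaf 16777488) (.leaf 68720591121)))) (.node (.node (.node (.leaf 4369) (.leaf 268439568)) (.node (.leaf 1114385) (.leaf 4296085761))) (.node (.node (.leaf 1048577) (.leaf 4294971392)) (.leaf 16781585))))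

def fiveWord7 : Janko.Tree (ℕ) :=
  (.node (.node (.node (.node (.leaf 4096) (.leaf 17895441)) (.node (.leaf 1052689) (.leaf 4295033105))) (.node (.node (.leaf 69632) (.leaf 268505105)) (.node (.leaf 16777489) (.leaf 68720594961)))) (.node (.node (.node (.leaf 65536) (.leaf 268439569)) (.node (.leaf 1118225) (.leaf 68719542272))) (.node (.node (.leaf 1048592) (.leaf 4294971408)) (.leaf 16842752))))

def fiveWord : Janko.Tree (ℕ) := (.node (.node (.node fiveWord0 fiveWord4) (.node fiveWord2 fiveWord6)) (.node (.node fiveWord1 fiveWord5) (.node fiveWord3 fiveWord7)))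

def fivePar0 : Janko.Tree (ℕ) :=
  (.node (.node (.node (.node (.leaf 0) (.leaf 624)) (.node (.leaf 257) (.leaf 1185))) (.node (.node (.leaf 113) (.leaf 864)) (.node (.leaf 449) (.leaf 1536)))) (.node (.node (.node (.leaf 49) (.leaf 785)) (.node (.leaf 336) (.leaf 1297))) (.node (.node (.leaf 192) (.leaf 977)) (.node (.leaf 528) (.leaf 1697)))))

def fivePar1 : Janko.Tree (ℕ) :=
  (.node (.node (.node (.node (.leaf 0) (.leaf 625)) (.node (.leaf 272) (.leaf 1200))) (.node (.node (.leaf 128) (.leaf 865)) (.node (.leaf 464) (.leaf 1537)))) (.node (.node (.node (.leaf 64) (.leaf 800)) (.node (.leaf 337) (.leaf 1313))) (.node (.node (.leaf 193) (.leaf 992)) (.node (.leaf 544) (.leaf 1809)))))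

def fivePar2 : Janko.Tree (ℕ) :=
  (.node (.node (.node (.node (.leaf 1) (.leaf 657)) (.node (.leaf 273) (.leaf 1201))) (.node (.node (.leaf 129) (.leaf 880)) (.node (.leaf 480) (.leaf 1569)))) (.node (.node (.node (.leaf 65) (.leaf 801)) (.node (.leaf 352) (.leaf 1328))) (.node (.node (.leaf 208) (.leaf 1041)) (.node (.leaf 545) (.leaf 1825)))))

def fivePar3 : Janko.Tree (ℕ) :=
  (.node (.node (.node (.node (.leaf 16) (.leaf 673)) (.node (.leaf 288) (.leaf 1216))) (.node (.node (.leaf 144) (.leaf 881)) (.node (.leaf 481) (.leaf 1585)))) (.node (.node (.node (.leaf 80) (.leaf 816)) (.node (.leaf 353) (.leaf 1377))) (.node (.node (.leaf 209) (.leaf 1057)) (.node (.leaf 560) (.leaf 1841)))))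

def fivePar4 : Janko.Tree (ℕ) :=
  (.node (.node (.node (.node (.leaf 17) (.leaf 688)) (.node (.leaf 289) (.leaf 1217))) (.node (.node (.leaf 145) (.leaf 896)) (.node (.leaf 496) (.leaf 1600)))) (.node (.node (.node (.leaf 81) (.leaf 817)) (.node (.leaf 368) (.leaf 1393))) (.node (.node (.leaf 224) (.leaf 1073)) (.node (.leaf 561) (.leaf 1857)))))

def fivePar5 : Janko.Tree (ℕ) :=
  (.node (.node (.node (.node (.leaf 32) (.leaf 737)) (.node (.leaf 304) (.leaf 1232))) (.node (.node (.leaf 160) (.leaf 928)) (.node (.leaf 497) (.leaf 1649)))) (.node (.node (.node (.leaf 96) (.leaf 832)) (.node (.leaf 400) (.leaf 1409))) (.node (.node (.leaf 225) (.leaf 1089)) (.leaf 576))))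

def fivePar6 : Janko.Tree (ℕ) :=
  (.node (.node (.node (.node (.leaf 33) (.leaf 753)) (.node (.leaf 320) (.leaf 1264))) (.node (.node (.leaf 161) (.leaf 929)) (.node (.leaf 512) (.leaf 1665)))) (.node (.node (.node (.leaf 97) (.leaf 848)) (.node (.leaf 401) (.leaf 1425))) (.node (.node (.leaf 241) (.leaf 1168)) (.leaf 577))))

def fivePar7 : Janko.Tree (ℕ) :=
  (.node (.node (.node (.node (.leaf 48) (.leaf 769)) (.node (.leaf 321) (.leaf 1265))) (.node (.node (.leaf 176) (.leaf 961)) (.node (.leaf 513) (.leaf 1681)))) (.node (.node (.node (.leaf 112) (.leaf 849)) (.node (.leaf 433) (.leaf 1504))) (.node (.node (.leaf 256) (.leaf 1184)) (.leaf 592))))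

def fivePar : Janko.Tree (ℕ) := (.node (.node (.node fivePar0 fivePar4) (.node fivePar2 fivePar6)) (.node (.node fivePar1 fivePar5) (.node fivePar3 fivePar7)))

def fiveL0 : Janko.Tree (List ℤ) :=
  (.node (.node (.node (.node (.node (.node (.leaf []) (.leaf [1, 1])) (.leaf [])) (.node (.leaf []) (.leaf []))) (.node (.node (.leaf []) (.leaf [1, 0, 4, 1])) (.node (.leaf [2, 2, 3]) (.leaf [1])))) (.node (.node (.node (.leaf []) (.leaf [4, 4, 3, 3])) (.node (.leaf [0, 0, 4, 1]) (.leaf [3, 3, 2]))) (.node (.node (.leaf [0, 0, 1, 4]) (.leaf [2, 2, 3])) (.node (.leaf []) (.leaf [4, 4, 3, 3]))))) (.node (.node (.node (.node (.node (.leaf []) (.leaf [2, 3, 0, 4])) (.leaf [1, 1, 4])) (.node (.leaf []) (.leaf []))) (.node (.node (.leaf []) (.leaf [1])) (.node (.leaf []) (.leaf [2, 1, 4])))) (.node (.node (.node (.leaf []) (.leaf [])) (.node (.leaf [1]) (.leaf [2, 2, 4, 4]))) (.node (.node (.leaf [1, 1, 0, 4]) (.leaf [3, 3, 1, 1])) (.node (.leaf [4, 4, 0, 1]) (.leaf [0,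 4, 3, 3]))))))

def fiveL1 : Janko.Tree (List ℤ) :=
  (.node (.node (.node (.node (.node (.node (.leaf []) (.leaf [4, 3, 0, 3])) (.leaf [2, 2, 0, 3])) (.node (.leaf []) (.leaf []))) (.node (.node (.leaf []) (.leaf [3, 3, 3, 4])) (.node (.leaf []) (.leaf [3, 2, 0, 3])))) (.node (.node (.node (.leaf []) (.leaf [1, 3, 2, 1])) (.node (.leaf [3, 3, 3, 4]) (.leaf []))) (.node (.node (.leaf [0, 0, 4, 1]) (.leaf [])) (.node (.leaf [4, 4, 0, 1]) (.leaf [2, 3, 2, 1]))))) (.node (.node (.node (.node (.leaf []) (.leaf [])) (.node (.leaf []) (.leaf [0, 1]))) (.node (.node (.leaf []) (.leaf [3, 3, 0, 2])) (.node (.leaf [3, 3, 3, 4]) (.leaf [])))) (.node (.node (.node (.leaf []) (.leaf [])) (.node (.leaf [3, 3, 0, 2]) (.leaf [2, 3, 2, 1]))) (.node (.node (.leaf []) (.leaf [0, 2, 1, 3])) (.node (.leaf []) (.leaf [2, 3, 2, 1]))))))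

def fiveL2 : Janko.Tree (List ℤ) :=
  (.node (.node (.node (.node (.node (.node (.leaf []) (.leaf [2, 1, 3, 2])) (.leaf [4, 4, 1])) (.node (.leaf []) (.leaf [1, 0, 4, 1]))) (.node (.node (.leaf []) (.leaf [0, 4, 0, 1])) (.node (.leaf [1, 1, 4]) (.leaf [0, 4, 1])))) (.node (.node (.node (.leaf []) (.leaf [])) (.node (.leaf [4, 4, 0, 1]) (.leaf [2, 2, 3]))) (.node (.node (.leaf []) (.leaf [1, 1, 4])) (.node (.leaf [1, 0, 1, 4]) (.leaf [2, 1, 2, 2]))))) (.node (.node (.node (.node (.leaf []) (.leaf [1, 1, 2, 2])) (.node (.leaf []) (.leaf [1]))) (.node (.node (.leaf []) (.leaf [])) (.node (.leaf []) (.leaf [1, 1, 2, 2])))) (.node (.node (.node (.leaf []) (.leaf [])) (.node (.leaf []) (.leaf [3, 3, 1, 1]))) (.node (.node (.leaf []) (.leaf [4, 4, 3, 3])) (.node (.leaf [1, 1, 0, 4]) (.leaf [1, 0, 0, 0]))))))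

def fiveL3 : Janko.Tree (List ℤ) :=
  (.node (.node (.node (.node (.node (.node (.leaf []) (.leaf [1, 2, 2, 3])) (.leaf [])) (.node (.leaf [3, 3, 3, 4]) (.leaf [3, 3, 3, 4]))) (.node (.node (.leaf []) (.leaf [])) (.node (.leaf []) (.leaf [])))) (.node (.node (.node (.leaf []) (.leaf [4, 3, 3, 4])) (.node (.leaf []) (.leaf []))) (.node (.node (.leaf []) (.leaf [])) (.node (.leaf [0, 0, 4, 1]) (.leaf [0, 1]))))) (.node (.node (.node (.node (.leaf []) (.leaf [0, 1])) (.node (.leaf [4, 4, 0, 1]) (.leaf [4, 3, 0, 2]))) (.node (.node (.leaf []) (.leaf [2, 2, 0, 3])) (.node (.leaf []) (.leaf [0, 1])))) (.node (.node (.node (.leaf []) (.leaf [4, 4, 0, 1])) (.node (.leaf [2, 2, 0, 3]) (.leaf [1, 2, 1, 3]))) (.node (.node (.leaf [0, 1]) (.leaf [1, 3, 2, 1])) (.node (.leaf []) (.leaf [0, 1, 0, 0]))))))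

def fiveL4 : Janko.Tree (List ℤ) :=
  (.node (.node (.node (.node (.node (.node (.leaf []) (.leaf [3, 4, 2, 1])) (.leaf [3, 3, 2])) (.node (.leaf []) (.leaf [0, 4, 0, 1]))) (.node (.node (.leaf []) (.leaf [1, 1, 0, 4])) (.node (.leaf []) (.leaf [4, 3, 2])))) (.node (.node (.node (.leaf []) (.leaf [])) (.node (.leaf [1, 1, 0, 4]) (.leaf [1, 1, 4]))) (.node (.node (.leaf [0, 0, 4, 1]) (.leaf [1, 1, 2, 2])) (.node (.leaf []) (.leaf [3, 2, 4, 4]))))) (.node (.node (.node (.node (.leaf []) (.leaf [2, 2, 4, 4])) (.node (.leaf [0, 0, 1, 4]) (.leaf [1]))) (.node (.node (.leaf []) (.leaf [4, 4, 1])) (.node (.leaf []) (.leaf [2, 2, 4, 4])))) (.node (.node (.node (.leaf []) (.leaf [1, 0, 1, 4])) (.node (.leaf [4, 4, 1]) (.leaf [4, 4, 3, 3]))) (.node (.node (.leaf []) (.leaf [])) (.node (.leaf []) (.leaf [0, 0, 1, 0]))))))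

def fiveL5 : Janko.Tree (List ℤ) :=
  (.node (.node (.node (.node (.node (.node (.leaf []) (.leaf [1, 2, 3, 2])) (.leaf [])) (.node (.leaf []) (.leaf []))) (.node (.node (.leaf []) (.leaf [])) (.node (.leaf []) (.leaf [])))) (.node (.node (.node (.leaf []) (.leaf [])) (.node (.leaf []) (.leaf []))) (.node (.node (.leaf [3, 3, 3, 4]) (.leaf [0, 1])) (.node (.leaf []) (.leaf [2, 3, 2, 1]))))) (.node (.node (.node (.node (.leaf []) (.leaf [1, 3, 2, 1])) (.node (.leaf [0, 0, 4, 1]) (.leaf [2, 2, 0, 3]))) (.node (.node (.leaf []) (.leaf [])) (.node (.leaf []) (.leaf [2, 3, 2, 1])))) (.node (.node (.node (.leaf []) (.leaf [0, 0, 4, 1])) (.node (.leaf []) (.leaf [1, 3, 2, 1]))) (.node (.node (.leaf []) (.leaf [0, 4, 0, 1])) (.node (.leaf [0, 1]) (.leaf [0, 0, 0, 1]))))))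

def fiveL6 : Janko.Tree (List ℤ) :=
  (.node (.node (.node (.node (.node (.node (.leaf []) (.leaf [2, 3, 4])) (.leaf [2, 2, 3])) (.node (.leaf []) (.leaf [2, 1, 0, 4]))) (.node (.node (.leaf []) (.leaf [])) (.node (.leaf []) (.leaf [3, 2, 3])))) (.node (.node (.node (.leaf []) (.leaf [])) (.node (.leaf []) (.leaf [1, 1, 2, 2]))) (.node (.node (.leaf [4, 4, 0, 1]) (.leaf [2, 2, 4, 4])) (.node (.leaf [0, 0, 4, 1]) (.leaf [4, 3, 1, 1]))))) (.node (.node (.node (.node (.leaf []) (.leaf [3, 3, 1, 1])) (.node (.leaf []) (.leaf [0, 4, 1]))) (.node (.node (.leaf []) (.leaf [3, 3, 2])) (.node (.leaf []) (.leaf [3, 3, 1, 1])))) (.node (.node (.node (.leaf [1]) (.leaf [])) (.node (.leaf [3, 3, 2]) (.leaf [1]))) (.node (.node (.leaf []) (.leaf [1, 0, 1, 4])) (.node (.leaf [1]) (.leaf [3, 3, 3]))))))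

def fiveL7 : Janko.Tree (List ℤ) :=
  (.node (.node (.node (.node (.node (.node (.leaf []) (.leaf [4, 0, 3, 4])) (.leaf [])) (.node (.leaf []) (.leaf []))) (.node (.node (.leaf [3, 3, 3, 4]) (.leaf [0, 1])) (.node (.leaf []) (.leaf [])))) (.node (.node (.node (.leaf [3, 3, 3, 4]) (.leaf [])) (.node (.leaf [0, 1]) (.leaf [0, 1]))) (.node (.node (.leaf []) (.leaf [2, 3, 2, 1])) (.node (.leaf [3, 3, 3, 4]) (.leaf [1, 2, 1, 3]))))) (.node (.node (.node (.node (.leaf []) (.leaf [0, 2, 1, 3])) (.node (.leaf []) (.leaf []))) (.node (.node (.leaf [4, 4, 0, 1]) (.leaf [])) (.node (.leaf []) (.leaf [1, 2, 1, 3])))) (.node (.node (.node (.leaf []) (.leaf [])) (.node (.leaf []) (.leaf [4, 3, 0, 2]))) (.node (.node (.leaf []) (.leaf [1, 0, 4, 1])) (.node (.leaf [3, 3, 0, 2]) (.leaf [1, 1, 1, 4]))))))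

def fiveL : Janko.Tree (List ℤ) := (.node (.node (.node fiveL0 fiveL4) (.node fiveL2 fiveL6)) (.node (.node fiveL1 fiveL5) (.node fiveL3 fiveL7)))

def fiveKind0 : Janko.Tree (ℕ) :=
  (.node (.node (.node (.node (.node (.node (.leaf 0) (.leaf 3)) (.leaf 3)) (.node (.leaf 0) (.leaf 0))) (.node (.node (.leaf 0) (.leaf 3)) (.node (.leaf 3) (.leaf 3)))) (.node (.node (.node (.leaf 0) (.leaf 3)) (.node (.leaf 3) (.leaf 3))) (.node (.node (.leaf 3) (.leaf 3)) (.node (.leaf 0) (.leaf 3))))) (.node (.node (.node (.node (.node (.leaf 0) (.leaf 3)) (.leaf 3)) (.node (.leaf 0) (.leaf 0))) (.node (.node (.leaf 0) (.leaf 3)) (.node (.leaf 0) (.leaf 3)))) (.node (.node (.node (.leaf 0) (.leaf 0)) (.node (.leaf 3) (.leaf 3))) (.node (.node (.leaf 3) (.leaf 3)) (.node (.leaf 3) (.leaf 3))))))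

def fiveKind1 : Janko.Tree (ℕ) :=
  (.node (.node (.node (.node (.node (.node (.leaf 0) (.leaf 3)) (.leaf 3)) (.node (.leaf 0) (.leaf 0))) (.node (.node (.leaf 0) (.leaf 3)) (.node (.leaf 0) (.leaf 3)))) (.node (.node (.node (.leaf 0) (.leaf 3)) (.node (.leaf 3) (.leaf 0))) (.node (.node (.leaf 3) (.leaf 0)) (.node (.leaf 3) (.leaf 3))))) (.node (.node (.node (.node (.leaf 0) (.leaf 0)) (.node (.leaf 0) (.leaf 3))) (.node (.node (.leaf 0) (.leaf 3)) (.node (.leaf 3) (.leaf 0)))) (.node (.node (.node (.leaf 0) (.leaf 0)) (.node (.leaf 3) (.leaf 3))) (.node (.node (.leaf 0) (.leaf 3)) (.node (.leaf 0) (.leaf 3))))))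

def fiveKind2 : Janko.Tree (ℕ) :=
  (.node (.node (.node (.node (.node (.node (.leaf 0) (.leaf 3)) (.leaf 3)) (.node (.leaf 0) (.leaf 3))) (.node (.node (.leaf 0) (.leaf 3)) (.node (.leaf 3) (.leaf 3)))) (.node (.node (.node (.leaf 0) (.leaf 0)) (.node (.leaf 3) (.leaf 3))) (.node (.node (.leaf 0) (.leaf 3)) (.node (.leaf 3) (.leaf 3))))) (.node (.node (.node (.node (.leaf 0) (.leaf 3)) (.node (.leaf 0) (.leaf 3))) (.node (.node (.leaf 0) (.leaf 3)) (.node (.leaf 0) (.leaf 3)))) (.node (.node (.node (.leaf 0) (.leaf 0)) (.node (.leaf 3) (.leaf 3))) (.node (.node (.leaf 0) (.leaf 3)) (.node (.leaf 3) (.leaf 2))))))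

def fiveKind3 : Janko.Tree (ℕ) :=
  (.node (.node (.node (.node (.node (.node (.leaf 0) (.leaf 3)) (.leaf 0)) (.node (.leaf 3) (.leaf 3))) (.node (.node (.leaf 0) (.leaf 0)) (.node (.leaf 0) (.leaf 0)))) (.node (.node (.node (.leaf 0) (.leaf 3)) (.node (.leaf 0) (.leaf 0))) (.node (.node (.leaf 0) (.leaf 0)) (.node (.leaf 3) (.leaf 3))))) (.node (.node (.node (.node (.leaf 0) (.leaf 3)) (.node (.leaf 3) (.leaf 3))) (.node (.node (.leaf 0) (.leaf 3)) (.node (.leaf 0) (.leaf 3)))) (.node (.node (.node (.leaf 0) (.leaf 3)) (.node (.leaf 3) (.leaf 3))) (.node (.node (.leaf 3) (.leaf 3)) (.node (.leaf 0) (.leaf 2))))))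

def fiveKind4 : Janko.Tree (ℕ) :=
  (.node (.node (.node (.node (.node (.node (.leaf 0) (.leaf 3)) (.leaf 3)) (.node (.leaf 0) (.leaf 3))) (.node (.node (.leaf 0) (.leaf 3)) (.node (.leaf 0) (.leaf 3)))) (.node (.node (.node (.leaf 0) (.leaf 0)) (.node (.leaf 3) (.leaf 3))) (.node (.node (.leaf 3) (.leaf 3)) (.node (.leaf 0) (.leaf 3))))) (.node (.node (.node (.node (.leaf 0) (.leaf 3)) (.node (.leaf 3) (.leaf 3))) (.node (.node (.leaf 0) (.leaf 3)) (.node (.leaf 0) (.leaf 3)))) (.node (.node (.node (.leaf 0) (.leaf 3)) (.node (.leaf 3) (.leaf 3))) (.node (.node (.leaf 0) (.leaf 0)) (.node (.leaf 0) (.leaf 2))))))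

def fiveKind5 : Janko.Tree (ℕ) :=
  (.node (.node (.node (.node (.node (.node (.leaf 0) (.leaf 3)) (.leaf 0)) (.node (.leaf 0) (.leaf 0))) (.node (.node (.leaf 0) (.leaf 0)) (.node (.leaf 0) (.leaf 0)))) (.node (.node (.node (.leaf 0) (.leaf 0)) (.node (.leaf 0) (.leaf 0))) (.node (.node (.leaf 3) (.leaf 3)) (.node (.leaf 0) (.leaf 3))))) (.node (.node (.node (.node (.leaf 0) (.leaf 3)) (.node (.leaf 3) (.leaf 3))) (.node (.node (.leaf 0) (.leaf 0)) (.node (.leaf 0) (.leaf 3)))) (.node (.node (.node (.leaf 0) (.leaf 3)) (.node (.leaf 0) (.leaf 3))) (.node (.node (.leaf 0) (.leaf 3)) (.node (.leaf 3) (.leaf 2))))))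

def fiveKind6 : Janko.Tree (ℕ) :=
  (.node (.node (.node (.node (.node (.node (.leaf 0) (.leaf 3)) (.leaf 3)) (.node (.leaf 0) (.leaf 3))) (.node (.node (.leaf 0) (.leaf 0)) (.node (.leaf 0) (.leaf 3)))) (.node (.node (.node (.leaf 0) (.leaf 0)) (.node (.leaf 0) (.leaf 3))) (.node (.node (.leaf 3) (.leaf 3)) (.node (.leaf 3) (.leaf 3))))) (.node (.node (.node (.node (.leaf 0) (.leaf 3)) (.node (.leaf 0) (.leaf 3))) (.node (.node (.leaf 0) (.leaf 3)) (.node (.leaf 0) (.leaf 3)))) (.node (.node (.node (.leaf 3) (.leaf 0)) (.node (.leaf 3) (.leaf 3))) (.node (.node (.leaf 0) (.leaf 3)) (.node (.leaf 3) (.leaf 3))))))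

def fiveKind7 : Janko.Tree (ℕ) :=
  (.node (.node (.node (.node (.node (.node (.leaf 0) (.leaf 3)) (.leaf 0)) (.node (.leaf 0) (.leaf 0))) (.node (.node (.leaf 3) (.leaf 3)) (.node (.leaf 0) (.leaf 0)))) (.node (.node (.node (.leaf 3) (.leaf 0)) (.node (.leaf 3) (.leaf 3))) (.node (.node (.leaf 0) (.leaf 3)) (.node (.leaf 3) (.leaf 3))))) (.node (.node (.node (.node (.leaf 0) (.leaf 3)) (.node (.leaf 0) (.leaf 0))) (.node (.node (.leaf 3) (.leaf 0)) (.node (.leaf 0) (.leaf 3)))) (.node (.node (.node (.leaf 0) (.leaf 0)) (.node (.leaf 0) (.leaf 3))) (.node (.node (.leaf 0) (.leaf 3)) (.node (.leaf 3) (.leaf 3))))))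

def fiveKind : Janko.Tree (ℕ) := (.node (.node (.node fiveKind0 fiveKind4) (.node fiveKind2 fiveKind6)) (.node (.node fiveKind1 fiveKind5) (.node fiveKind3 fiveKind7)))

def fiveRank0 : Janko.Tree (ℕ) :=
  (.node (.node (.node (.node (.node (.node (.leaf 0) (.leaf 263)) (.leaf 262)) (.node (.leaf 53) (.leaf 111))) (.node (.node (.leaf 30) (.leaf 221)) (.node (.leaf 228) (.leaf 230)))) (.node (.node (.node (.leaf 16) (.leaf 214)) (.node (.leaf 260) (.leaf 238))) (.node (.node (.leaf 189) (.leaf 235)) (.node (.leaf 83) (.leaf 196))))) (.node (.node (.node (.node (.node (.leaf 8) (.leaf 166)) (.leaf 244)) (.node (.leaf 60) (.leaf 115))) (.node (.node (.leaf 37) (.leaf 127)) (.node (.leaf 76) (.leaf 173)))) (.node (.node (.node (.leaf 23) (.leaf 98)) (.node (.leaf 129) (.leaf 237))) (.node (.node (.leaf 172) (.leaf 184)) (.node (.leaf 154) (.leaf 195))))))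

def fiveRank1 : Janko.Tree (ℕ) :=
  (.node (.node (.node (.node (.node (.node (.leaf 1) (.leaf 261)) (.leaf 254)) (.node (.leaf 54) (.leaf 112))) (.node (.node (.leaf 31) (.leaf 215)) (.node (.leaf 70) (.leaf 241)))) (.node (.node (.node (.leaf 17) (.leaf 194)) (.node (.leaf 258) (.leaf 117))) (.node (.node (.leaf 167) (.leaf 108)) (.node (.leaf 211) (.leaf 223))))) (.node (.node (.node (.node (.leaf 9) (.leaf 92)) (.node (.leaf 61) (.leaf 135))) (.node (.node (.leaf 38) (.leaf 209)) (.node (.leaf 186) (.leaf 123)))) (.node (.node (.node (.leaf 24) (.leaf 99)) (.node (.leaf 224) (.leaf 178))) (.node (.node (.leaf 47) (.leaf 157)) (.node (.leaf 86) (.leaf 197))))))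

def fiveRank2 : Janko.Tree (ℕ) :=
  (.node (.node (.node (.node (.node (.node (.leaf 2) (.leaf 243)) (.leaf 144)) (.node (.leaf 55) (.leaf 149))) (.node (.node (.leaf 32) (.leaf 232)) (.node (.leaf 242) (.leaf 146)))) (.node (.node (.node (.leaf 18) (.leaf 93)) (.node (.leaf 225) (.leaf 202))) (.node (.node (.leaf 44) (.leaf 193)) (.node (.leaf 169) (.leaf 175))))) (.node (.node (.node (.node (.leaf 10) (.leaf 176)) (.node (.leaf 62) (.leaf 126))) (.node (.node (.leaf 39) (.leaf 159)) (.node (.leaf 77) (.leaf 205)))) (.node (.node (.node (.leaf 25) (.leaf 100)) (.node (.leaf 220) (.leaf 210))) (.node (.node (.leaf 48) (.leaf 256)) (.node (.leaf 187) (.leaf 124))))))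

def fiveRank3 : Janko.Tree (ℕ) :=
  (.node (.node (.node (.node (.node (.node (.leaf 3) (.leaf 156)) (.leaf 89)) (.node (.leaf 233) (.leaf 231))) (.node (.node (.leaf 33) (.leaf 103)) (.node (.leaf 71) (.leaf 120)))) (.node (.node (.node (.leaf 19) (.leaf 249)) (.node (.leaf 65) (.leaf 118))) (.node (.node (.leaf 45) (.leaf 109)) (.node (.leaf 191) (.leaf 132))))) (.node (.node (.node (.node (.leaf 11) (.leaf 138)) (.node (.leaf 177) (.leaf 247))) (.node (.node (.leaf 40) (.leaf 222)) (.node (.leaf 78) (.leaf 133)))) (.node (.node (.node (.leaf 26) (.leaf 164)) (.node (.leaf 245) (.leaf 162))) (.node (.node (.leaf 141) (.leaf 213)) (.node (.leaf 87) (.leaf 131))))))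

def fiveRank4 : Janko.Tree (ℕ) :=
  (.node (.node (.node (.node (.node (.node (.leaf 4) (.leaf 174)) (.leaf 239)) (.node (.leaf 56) (.leaf 158))) (.node (.node (.leaf 34) (.leaf 192)) (.node (.leaf 72) (.leaf 183)))) (.node (.node (.node (.leaf 20) (.leaf 94)) (.node (.leaf 168) (.leaf 212))) (.node (.node (.leaf 248) (.leaf 160)) (.node (.leaf 84) (.leaf 251))))) (.node (.node (.node (.node (.leaf 12) (.leaf 252)) (.node (.leaf 150) (.leaf 180))) (.node (.node (.leaf 41) (.leaf 143)) (.node (.leaf 79) (.leaf 234)))) (.node (.node (.node (.leaf 27) (.leaf 200)) (.node (.leaf 145) (.leaf 255))) (.node (.node (.leaf 49) (.leaf 110)) (.node (.leaf 88) (.leaf 142))))))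

def fiveRank5 : Janko.Tree (ℕ) :=
  (.node (.node (.node (.node (.node (.node (.leaf 5) (.leaf 161)) (.leaf 90)) (.node (.leaf 57) (.leaf 113))) (.node (.node (.leaf 35) (.leaf 104)) (.node (.leaf 73) (.leaf 121)))) (.node (.node (.node (.leaf 21) (.leaf 95)) (.node (.leaf 66) (.leaf 119))) (.node (.node (.leaf 246) (.leaf 136)) (.node (.leaf 85) (.leaf 165))))) (.node (.node (.node (.node (.leaf 13) (.leaf 250)) (.node (.leaf 199) (.leaf 198))) (.node (.node (.leaf 42) (.leaf 106)) (.node (.leaf 80) (.leaf 236)))) (.node (.node (.node (.leaf 28) (.leaf 188)) (.node (.leaf 68) (.leaf 257))) (.node (.node (.leaf 50) (.leaf 201)) (.node (.leaf 139) (.leaf 148))))))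

def fiveRank6 : Janko.Tree (ℕ) :=
  (.node (.node (.node (.node (.node (.node (.leaf 6) (.leaf 182)) (.leaf 203)) (.node (.leaf 58) (.leaf 152))) (.node (.node (.leaf 36) (.leaf 105)) (.node (.leaf 74) (.leaf 253)))) (.node (.node (.node (.leaf 22) (.leaf 96)) (.node (.leaf 67) (.leaf 206))) (.node (.node (.leaf 179) (.leaf 227)) (.node (.leaf 240) (.leaf 207))))) (.node (.node (.node (.node (.leaf 14) (.leaf 204)) (.node (.leaf 63) (.leaf 147))) (.node (.node (.leaf 43) (.leaf 181)) (.node (.leaf 81) (.leaf 208)))) (.node (.node (.node (.leaf 130) (.leaf 101)) (.node (.leaf 217) (.leaf 125))) (.node (.node (.leaf 51) (.leaf 163)) (.node (.leaf 128) (.leaf 264))))))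

def fiveRank7 : Janko.Tree (ℕ) :=
  (.node (.node (.node (.node (.node (.node (.leaf 7) (.leaf 185)) (.leaf 91)) (.node (.leaf 59) (.leaf 114))) (.node (.node (.leaf 218) (.leaf 137)) (.node (.leaf 75) (.leaf 122)))) (.node (.node (.node (.leaf 226) (.leaf 97)) (.node (.leaf 140) (.leaf 134))) (.node (.node (.leaf 46) (.leaf 229)) (.node (.leaf 219) (.leaf 155))))) (.node (.node (.node (.node (.leaf 15) (.leaf 170)) (.node (.leaf 64) (.leaf 116))) (.node (.node (.leaf 153) (.leaf 107)) (.node (.leaf 82) (.leaf 190)))) (.node (.node (.node (.leaf 29) (.leaf 102)) (.node (.leaf 69) (.leaf 259))) (.node (.node (.leaf 52) (.leaf 171)) (.node (.leaf 216) (.leaf 151))))))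

def fiveRank : Janko.Tree (ℕ) := (.node (.node (.node fiveRank0 fiveRank4) (.node fiveRank2 fiveRank6)) (.node (.node fiveRank1 fiveRank5) (.node fiveRank3 fiveRank7)))

def fiveVia0 : Janko.Tree (ℕ × ℕ) :=
  (.node (.node (.node (.node (.node (.node (.leaf (0, 0)) (.leaf (6, 121))) (.leaf (7, 104))) (.node (.leaf (0, 0)) (.leaf (0, 0)))) (.node (.node (.leaf (0, 0)) (.leaf (11, 25))) (.node (.leaf (14, 119)) (.leaf (13, 96))))) (.node (.node (.node (.leaf (0, 0)) (.leaf (14, 7))) (.node (.leaf (14, 80)) (.leaf (14, 104)))) (.node (.node (.leaf (14, 12)) (.leaf (14, 114))) (.node (.leaf (0, 0)) (.leaf (11, 120)))))) (.node (.node (.node (.node (.node (.leaf (0, 0)) (.leaf (14, 38))) (.leaf (8, 112))) (.node (.leaf (0, 0)) (.leaf (0, 0)))) (.node (.node (.leaf (0, 0)) (.leaf (0, 84))) (.node (.leaf (0, 0)) (.leaf (14, 100))))) (.node (.node (.node (.leaf (0, 0)) (.leaf (0, 0))) (.node (.leaf (0, 44)) (.leaf (14, 123)))) (.node (.node (.leaf (14, 20)) (.leaf (12,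 38))) (.node (.leaf (2, 60)) (.leaf (14, 3)))))))

def fiveVia1 : Janko.Tree (ℕ × ℕ) :=
  (.node (.node (.node (.node (.node (.node (.leaf (0, 0)) (.leaf (7, 84))) (.leaf (14, 115))) (.node (.leaf (0, 0)) (.leaf (0, 0)))) (.node (.node (.leaf (0, 0)) (.leaf (5, 124))) (.node (.leaf (0, 0)) (.leaf (14, 97))))) (.node (.node (.node (.leaf (0, 0)) (.leaf (13, 62))) (.node (.leaf (14, 111)) (.leaf (0, 0)))) (.node (.node (.leaf (14, 94)) (.leaf (0, 0))) (.node (.leaf (13, 109)) (.leaf (14, 44)))))) (.node (.node (.node (.node (.leaf (0, 0)) (.leaf (0, 0))) (.node (.leaf (0, 0)) (.leaf (1, 100)))) (.node (.node (.leaf (0, 0)) (.leaf (14, 9))) (.node (.leaf (13, 114)) (.leaf (0, 0))))) (.node (.node (.node (.leaf (0, 0)) (.leaf (0, 0))) (.node (.leaf (14, 65)) (.leaf (14, 95)))) (.node (.node (.leaf (0, 0)) (.leaf (9, 94))) (.node (.leaf (0, 0)) (.leaf (14, 1)))))))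

def fiveVia2 : Janko.Tree (ℕ × ℕ) :=
  (.node (.node (.node (.node (.node (.node (.leaf (0, 0)) (.leaf (8, 102))) (.leaf (2, 7))) (.node (.leaf (0, 0)) (.leaf (3, 51)))) (.node (.node (.leaf (0, 0)) (.leaf (14, 112))) (.node (.leaf (14, 120)) (.leaf (2, 1))))) (.node (.node (.node (.leaf (0, 0)) (.leaf (0, 0))) (.node (.leaf (14, 85)) (.leaf (14, 98)))) (.node (.node (.leaf (0, 0)) (.leaf (14, 62))) (.node (.leaf (14, 34)) (.leaf (10, 94)))))) (.node (.node (.node (.node (.leaf (0, 0)) (.leaf (14, 121))) (.node (.leaf (0, 0)) (.leaf (0, 101)))) (.node (.node (.leaf (0, 0)) (.leaf (3, 58))) (.node (.leaf (0, 0)) (.leaf (13, 71))))) (.node (.node (.node (.leaf (0, 0)) (.leaf (0, 0))) (.node (.leaf (14, 25)) (.leaf (13, 97)))) (.node (.node (.leaf (0, 0)) (.leaf (14, 93))) (.node (.leaf (13, 36)) (.leaf (0, 0)))))))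

def fiveVia3 : Janko.Tree (ℕ × ℕ) :=
  (.node (.node (.node (.node (.node (.node (.leaf (0, 0)) (.leaf (9, 56))) (.leaf (0, 0))) (.node (.leaf (13, 22)) (.leaf (13, 120)))) (.node (.node (.leaf (0, 0)) (.leaf (0, 0))) (.node (.leaf (0, 0)) (.leaf (0, 0))))) (.node (.node (.node (.leaf (0, 0)) (.leaf (11, 13))) (.node (.leaf (0, 0)) (.leaf (0, 0)))) (.node (.node (.leaf (0, 0)) (.leaf (0, 0))) (.node (.leaf (14, 37)) (.leaf (1, 121)))))) (.node (.node (.node (.node (.leaf (0, 0)) (.leaf (1, 69))) (.node (.leaf (11, 9)) (.leaf (14, 124)))) (.node (.node (.leaf (0, 0)) (.leaf (13, 69))) (.node (.leaf (0, 0)) (.leaf (1, 117))))) (.node (.node (.node (.leaf (0, 0)) (.leaf (2, 16))) (.node (.leaf (14, 105)) (.leaf (11, 76)))) (.node (.node (.leaf (1, 29)) (.leaf (13, 83))) (.node (.leaf (0, 0)) (.leaf (1, 0)))))))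

def fiveVia4 : Janko.Tree (ℕ × ℕ) :=
  (.node (.node (.node (.node (.node (.node (.leaf (0, 0)) (.leaf (10, 86))) (.leaf (13, 104))) (.node (.leaf (0, 0)) (.leaf (5, 94)))) (.node (.node (.leaf (0, 0)) (.leaf (14, 74))) (.node (.leaf (0, 0)) (.leaf (12, 114))))) (.node (.node (.node (.leaf (0, 0)) (.leaf (0, 0))) (.node (.leaf (14, 76)) (.leaf (14, 83)))) (.node (.node (.leaf (14, 99)) (.leaf (9, 58))) (.node (.leaf (0, 0)) (.leaf (14, 118)))))) (.node (.node (.node (.node (.leaf (0, 0)) (.leaf (14, 122))) (.node (.leaf (0, 97)) (.leaf (3, 79)))) (.node (.node (.leaf (0, 0)) (.leaf (2, 15))) (.node (.leaf (0, 0)) (.leaf (14, 8))))) (.node (.node (.node (.leaf (0, 0)) (.leaf (14, 53))) (.node (.leaf (2, 3)) (.leaf (13, 121)))) (.node (.node (.leaf (0, 0)) (.leaf (0, 0))) (.node (.leaf (0, 0)) (.leaf (2, 0)))))))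

def fiveVia5 : Janko.Tree (ℕ × ℕ) :=
  (.node (.node (.node (.node (.node (.node (.leaf (0, 0)) (.leaf (11, 15))) (.leaf (0, 0))) (.node (.leaf (0, 0)) (.leaf (0, 0)))) (.node (.node (.leaf (0, 0)) (.leaf (0, 0))) (.node (.leaf (0, 0)) (.leaf (0, 0))))) (.node (.node (.node (.leaf (0, 0)) (.leaf (0, 0))) (.node (.leaf (0, 0)) (.leaf (0, 0)))) (.node (.node (.leaf (14, 6)) (.leaf (1, 90))) (.node (.leaf (0, 0)) (.leaf (11, 95)))))) (.node (.node (.node (.node (.leaf (0, 0)) (.leaf (14, 79))) (.node (.leaf (13, 61)) (.leaf (13, 63)))) (.node (.node (.leaf (0, 0)) (.leaf (0, 0))) (.node (.leaf (0, 0)) (.leaf (14, 81))))) (.node (.node (.node (.leaf (0, 0)) (.leaf (14, 36))) (.node (.leaf (0, 0)) (.leaf (14, 52)))) (.node (.node (.leaf (0, 0)) (.leaf (11, 53))) (.node (.leaf (1, 62)) (.leaf (3, 0)))))))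

def fiveVia6 : Janko.Tree (ℕ × ℕ) :=
  (.node (.node (.node (.node (.node (.node (.leaf (0, 0)) (.leaf (12, 87))) (.leaf (13, 105))) (.node (.leaf (0, 0)) (.leaf (5, 76)))) (.node (.node (.leaf (0, 0)) (.leaf (0, 0))) (.node (.leaf (0, 0)) (.leaf (14, 109))))) (.node (.node (.node (.leaf (0, 0)) (.leaf (0, 0))) (.node (.leaf (0, 0)) (.leaf (14, 107)))) (.node (.node (.leaf (11, 57)) (.leaf (14, 2))) (.node (.leaf (11, 96)) (.leaf (13, 123)))))) (.node (.node (.node (.node (.leaf (0, 0)) (.leaf (14, 67))) (.node (.leaf (0, 0)) (.leaf (2, 0)))) (.node (.node (.leaf (0, 0)) (.leaf (10, 79))) (.node (.leaf (0, 0)) (.leaf (13, 119))))) (.node (.node (.node (.leaf (0, 15)) (.leaf (0, 0))) (.node (.leaf (14, 86)) (.leaf (0, 111)))) (.node (.node (.leaf (0, 0)) (.leaf (11, 74))) (.node (.leaf (0, 63)) (.leaf (4, 118)))))))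

def fiveVia7 : Janko.Tree (ℕ × ℕ) :=
  (.node (.node (.node (.node (.node (.node (.leaf (0, 0)) (.leaf (13, 15))) (.leaf (0, 0))) (.node (.leaf (0, 0)) (.leaf (0, 0)))) (.node (.node (.leaf (13, 87)) (.leaf (1, 83))) (.node (.leaf (0, 0)) (.leaf (0, 0))))) (.node (.node (.node (.leaf (13, 76)) (.leaf (0, 0))) (.node (.leaf (1, 43)) (.leaf (1, 107)))) (.node (.node (.leaf (0, 0)) (.leaf (14, 116))) (.node (.leaf (14, 75)) (.leaf (5, 56)))))) (.node (.node (.node (.node (.leaf (0, 0)) (.leaf (11, 34))) (.node (.leaf (0, 0)) (.leaf (0, 0)))) (.node (.node (.leaf (5, 5)) (.leaf (0, 0))) (.node (.leaf (0, 0)) (.leaf (11, 12))))) (.node (.node (.node (.leaf (0, 0)) (.leaf (0, 0))) (.node (.leaf (0, 0)) (.leaf (14, 110)))) (.node (.node (.leaf (0, 0)) (.leaf (14, 77))) (.node (.leaf (14, 102)) (.leaf (5, 15)))))))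

def fiveVia : Janko.Tree (ℕ × ℕ) := (.node (.node (.node fiveVia0 fiveVia4) (.node fiveVia2 fiveVia6)) (.node (.node fiveVia1 fiveVia5) (.node fiveVia3 fiveVia7)))

def fiveOrd0 : Janko.Tree (ℕ) :=
  (.node (.node (.node (.node (.leaf 39) (.leaf 111)) (.node (.leaf 47) (.leaf 49))) (.node (.node (.leaf 1) (.leaf 79)) (.node (.leaf 12) (.leaf 58)))) (.node (.node (.node (.leaf 24) (.leaf 122)) (.node (.leaf 48) (.leaf 38))) (.node (.node (.leaf 3) (.leaf 31)) (.node (.leaf 60) (.leaf 78)))))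

def fiveOrd1 : Janko.Tree (ℕ) :=
  (.node (.node (.node (.node (.leaf 101) (.leaf 35)) (.node (.leaf 73) (.leaf 84))) (.node (.node (.leaf 22) (.leaf 106)) (.node (.leaf 46) (.leaf 7)))) (.node (.node (.node (.leaf 45) (.leaf 102)) (.node (.leaf 28) (.leaf 15))) (.node (.node (.leaf 54) (.leaf 81)) (.node (.leaf 89) (.leaf 113)))))

def fiveOrd2 : Janko.Tree (ℕ) :=
  (.node (.node (.node (.node (.leaf 18) (.leaf 86)) (.node (.leaf 70) (.leaf 112))) (.node (.node (.leaf 10) (.leaf 57)) (.node (.leaf 94) (.leaf 40)))) (.node (.node (.node (.leaf 67) (.leaf 6)) (.node (.leaf 71) (.leaf 85))) (.node (.node (.leaf 105) (.leaf 74)) (.node (.leaf 32) (.leaf 63)))))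

def fiveOrd3 : Janko.Tree (ℕ) :=
  (.node (.node (.node (.node (.leaf 92) (.leaf 109)) (.node (.leaf 120) (.leaf 72))) (.node (.node (.leaf 43) (.leaf 30)) (.node (.leaf 36) (.leaf 121)))) (.node (.node (.node (.leaf 20) (.leaf 56)) (.node (.leaf 95) (.leaf 37))) (.node (.node (.leaf 76) (.leaf 52)) (.node (.leaf 107) (.leaf 0)))))

def fiveOrd4 : Janko.Tree (ℕ) :=
  (.node (.node (.node (.node (.leaf 66) (.leaf 64)) (.node (.leaf 33) (.leaf 110))) (.node (.node (.leaf 9) (.leaf 118)) (.node (.leaf 26) (.leaf 114)))) (.node (.node (.node (.leaf 41) (.leaf 29)) (.node (.leaf 77) (.leaf 104))) (.node (.node (.leaf 44) (.leaf 116)) (.node (.leaf 61) (.leaf 98)))))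

def fiveOrd5 : Janko.Tree (ℕ) :=
  (.node (.node (.node (.node (.leaf 90) (.leaf 16)) (.node (.leaf 103) (.leaf 87))) (.node (.node (.leaf 68) (.leaf 119)) (.node (.leaf 65) (.leaf 2)))) (.node (.node (.node (.leaf 8) (.leaf 124)) (.node (.leaf 25) (.leaf 53))) (.node (.node (.leaf 117) (.leaf 123)) (.leaf 34))))

def fiveOrd6 : Janko.Tree (ℕ) :=
  (.node (.node (.node (.node (.leaf 11) (.leaf 50)) (.node (.leaf 51) (.leaf 17))) (.node (.node (.leaf 21) (.leaf 59)) (.node (.leaf 91) (.leaf 99)))) (.node (.node (.node (.leaf 93) (.leaf 96)) (.node (.leaf 69) (.leaf 19))) (.node (.node (.leaf 27) (.leaf 14)) (.leaf 83))))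

def fiveOrd7 : Janko.Tree (ℕ) :=
  (.node (.node (.node (.node (.leaf 62) (.leaf 115)) (.node (.leaf 82) (.leaf 55))) (.node (.node (.leaf 42) (.leaf 100)) (.node (.leaf 23) (.leaf 80)))) (.node (.node (.node (.leaf 4) (.leaf 75)) (.node (.leaf 5) (.leaf 88))) (.node (.node (.leaf 13) (.leaf 97)) (.leaf 108))))

def fiveOrd : Janko.Tree (ℕ) := (.node (.node (.node fiveOrd0 fiveOrd4) (.node fiveOrd2 fiveOrd6)) (.node (.node fiveOrd1 fiveOrd5) (.node fiveOrd3 fiveOrd7)))

def fiveRels : List (List ℕ) := [[0, 0, 0, 0, 0],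
  [1, 1, 1, 1, 1],
  [0, 0, 0, 1, 0, 1, 1, 1, 0, 1],
  [0, 0, 0, 1, 1, 0, 1, 0, 1, 1],
  [0, 0, 1, 0, 0, 1, 1, 0, 1, 1],
  [0, 0, 1, 0, 1, 0, 0, 1, 1, 1],
  [0, 1, 0, 1, 0, 1, 0, 1, 0, 1],
  [0, 0, 0, 0, 1, 0, 0, 0, 0, 1, 0, 1, 1, 0, 1],
  [0, 0, 0, 0, 1, 0, 0, 0, 0, 1, 1, 0, 0, 1, 1],
  [0, 0, 0, 1, 1, 1, 0, 1, 1, 1, 1, 0, 1, 1, 1],
  [0, 0, 0, 1, 1, 1, 1, 0, 1, 1, 0, 1, 1, 1, 1],
  [0, 0, 1, 0, 1, 1, 1, 1, 0, 1, 1, 1, 1, 0, 1],
  [0, 0, 1, 1, 0, 1, 1, 1, 0, 1, 1, 1, 0, 1, 1],
  [0, 0, 1, 1, 1, 0, 1, 1, 0, 1, 1, 0, 1, 1, 1],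
  [0, 0, 1, 1, 1, 1, 0, 1, 0, 1, 0, 1, 1, 1, 1]]

/-- the generators, their inverses and their factorisations along the chain -/
def fiveGens : List Elem := [(0x5d968e20e661414c48808e8424a8229476c00294e0a13421a5b4262ca0123125ea1424dd6b365ccce37150eae97f11182d073a2c80147b0680e9008ab88aaf3e1d10306643c09efb1cb79fe224c06c023c159244857510a19a877eb84001e161ac1ecf1c2e9eeb372a09267818835629a63a8416232696e21071e87e061506258fc951b2a812c45bb7dd4a443370b847593f0c452842d5d8b87227ccc2f800b4867b4eb09eb0d463488ca7030d61234379045c6025b14fa5e41c3c3010021b61cf864a49b711211849cc312975110a6a8599458199589913769cdd0eb4f3e460b47028da8635f1917e5f040807e0a01144caef192812eee0cab0385513c2cfe3738409a6f43d1d8e4796ba2532e2450f98d0c7d2a160cb7999d56ad0b9a178f14e3c83aa9019b11c8f3526ceee35b345b0945c8a8528d, 0x2a3e0c8a9371a5002019170f28f543620307528ba168768bad86926a07c9c685cb8d022c0d84828d61e0e0a68d28265d85173bc56e8b04091844b4d349e89632bf5e40513bccb649169f80ce85e3c18b0f0e164ced757884e49c30209d3042291dee1589ae8068c4d81d1c4c5c24d621d6e37830360ca78201e3e4360c982531d5c3a4513d0613052c04acf1ca8940045a999f2e006034007f7308c4c5d6225decff37ad9b2fa18a84e2db420ac50b4048a9dada290a6222f3bbbcd40e5f02dfc160d2247a4624244c474221c0bc9555449f6586415868ee812407d0e6a985565539c21950c4a1f5baea4298cece5208894ecc82c29a6bb1827cf4782b8ed664d441d50cbf6580802c619bf0bec9563421242533002235673886e6d0b96948e4803d5be6c5ec4164a3569013a43709ee066b078fd9ac1,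 [74, 1, 38, 38, 10, 2, 0, 1]),
  (0x5d85928c977bb50cdb6cb4dbf0b4b9655c053b261d21f7ea415a922300d343e6a21d46f16b3c9c6ee7c86e08d2800cc942f73b459caf5f111c81e58405f604380e9d8e62b035d60645c2096a783028de3062bf84ab1292ace495600da0add151b4b62d729b0289b3faa9e6cd188e0207909bd58511271f5c4e1743609eb960980002c7b1ec986a5ba4590bf4f1d5eefa590261e0b47ae11a543243996205e105c1027e0fdbc07471f8e63d23a24c29d149c430a40a9e938653b875e8242e40ce87c4c804842e2d066130d2bb4224824b121b80e5d2a4689340280c66b21988221c53204102283b0daad76d43144b5281a1f02806295948c26bfcf0662c0c9e03c2f4293e2341a1168210b9544e5f63945985d2283c6e3559ba98cbd882216c69540ecdc670106880a11cc4c565324b1114cf562144c12, 0x5175581748a28c042840b8c2d223b3d82ed35211bceb1b329fe836ea51de3d4aa7d5c6d5abc9e83187bc21cd96a86a02a773b6176e178aa5508584a0580598610e16a6223cc8af7853b1cc5e023956821448e62099118659606232b546c34c38c30878995d488e4d85480290da4d90df72415fa03632d8ac136812c74747a904185216a5cf0715c3e4cf028396d89112a3f134fe479fd1a3869814f4167b434042a1597094535b9f954684f1c9603537c0d2c693eb14ecdb668457cba28270283e080d0e08b28938f2a2120bc406b5e98e0c332fb5c4c8c0431c443f52aac6e9d68ba40e5a3dbec3ee2279950c0d413e0f8300936816b20eb083855750c966cc7419178a004afcee3c12805926c16120508880380dc4c77038c47513c48e6b9578009ab10f161ac3b4833924494035208dc7d03ccca1,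 [223, 106, 68, 37, 4, 0, 1, 1])]

/-- the additional relations with conjugating elements -/
def fiveSpecs : List Spec := [((5, [0, 0, 0, 1, 1, 0, 1, 1], [], [0, 0, 0, 1, 1], []), (0x1ab6d7b01329a5860e2b2ce18b1292d153045fa948880871ac063654338449a189f620a27bb25c6fd4410d0c3b4e185a45e3faca002620a8536ee373a16af612a58f88a6fb342a98248bcb25f819bc704273a0cc5057e1c0a0724100440096c1de14782e331aa765e39828537a1311ef26e3050ec074af922c40b8b9a8fa2d254aeed833680cac490f9b2d11f918369f5b0b47845288702d112a41d8430799cd6e0a7293cd0bb70379262757c3418b90f9b43cb802a40aa21502ba05094bb85fcab000a83a6a2e9f8503485840ce04013bd8ed7518c8c09d4a3754e0f0c120f20d322659e1a1623112c638be51c84522e86e4a4691c9666842b410aa87b894cf5641d10a402db2ceaec363c1d4b089865a112099ec7a3911960242908939e2ca6b3e09a244f204f4637d8add6c505bfd16d37201c7433, 0x1188118f519bfcf5092faf4d8374527d9104679b620e5031a5e0c705a90841279b7060b343ac02a262d38140280489556de65ad90603788c8d47f6b9f8a4af8927932bf2c04d72a5023a5302124be9acba15051e42f2c91010a886a255cac81aaa22b7400f8f07442a4dbb068539a10243d9b86c9c340d20afb288c6043f2bbd1c46f4a03ca8eb70be094d435b6944533ea6d527258904764602b608aef56bb45a406530c1d0073989ecd90f0349abc5f2e0522e4331086c66737cec277f1921c812e8e21e4b06325d455683a0c6bb15a8da21a50c2ce28b5a41d1ec54105822b21c8f1a64e1d259210177331c62c4ba683a917600438cd1ebf2266000159ee886929924470519830613e391b6100dbe4e0c13b9d4ca8e4a920444f53a35aab50f8642e5e28430987903a11803501274e65c7e96d8467,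 [98, 26, 41, 57, 9, 1, 0, 0])),
  ((5, [1, 1, 0, 0], [], [1, 1, 1, 0, 1], []), (0x44b7ce6c90e965b5056f03534e9279c95c7b02bd0fc147f84d0cc003a6c9a5d473714664870310aa887914fad7151941c612a23074552315c709324245ac0447b8042d13e3158f037318978f220b3570b0738707c5f65846009d620d1987a7680500664e058b83f239d5f6e471bf02eba6791128741210d10fe253e8a0970c9a5b2840aafdd62d159e5522e43bf5646b512f9f09518098dcd31888e0868782bddcb70537612400599cff08611c590d450020d4bb0300c985a4f0954adb452d81ed019b60c6761e15a24b40830400980c1c1aad27516222921c981f26d292ac7a1b0fa35483b552cceee80117a270624a0484e258ab204783641d169617a84a699763295af3259bd21107aad464a7729449cef708d98cf72dc044e2986089ecbd670a040124f8681237618d614835c8794d0d413c4590b, 0x20984aa2877bcc081700025027c1b10218896a0e434c57faa12cb25aa98a2910e0544f02163400487102157e2f4e95e104465b4c46b4598f03eda8942d04f636435426676374b27846161b0685784d9cc1638ba20796a875acc3059ecbcfc4f24828d13a2c00ecd421a84c602325476cc434145a3a2711d32f012014da497aa4c6477079bd88bb7d424605c520d120ad70151bc296dbdc94e61a9ae26a94bbf5e2a00400c7cbd3ec05dad7823013438229916cac88c18f45a15234a0374a1d544883f2f1d4f432b49d05264109f0b90d9c21c5671189c8e71893c44a583885f27115a9c7edf5bb8ddcae550f59e805c3249a6324394a6e10607814c233895168f19a6138014dbac30120ca38dcab45059b2112581a1eca26039465b58ae93f007f0418c5f34ba614f23fa0c1a767d9ce06dc3910d7c5d,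 [245, 212, 58, 33, 30, 0, 1, 1])),
  ((0, [0, 0, 0, 1, 1, 1], [0, 1], [0, 0, 0, 1, 0, 1, 1, 1, 1], [0, 0, 0]), (0x77b94d43d1d90c2a543931e0a9201bb4de6d24bd1124f6128054171616dd8b26eaa8388258131aa113f37ca477079a168f37381df213578bd0ae400275f4d36b2d8680b53aacb88b620d5e2b73d938aed213c08442043a04b07423181f8e07591c750084b413c6e1e0b4605f26874c6324031410da6080a18e6200b9febf2ac4412e181819321f313a5d09f3b3512a86109b15c05130dd070f0c0d84abb68af60ca46baa002390cb2dfc383586a10e288439ec1e4e04186ce58c061a5e4b294ea9b89092264518a3494532e86d66fd4ba314c881f36d749a67c296a8a48031e4c8280ad449356904e64883834b2285ca3814a3333edb8cc50af01ca93833522de3fb29302322250ce122d0ccca7c3ebc11eee349c5ea5630909b2047c2e208e37b8a616515f058f27a1fb19924b0a211b0ac32301d478, 0x3299d4477461d8daa908949767921a1612154fb28dcbc529f4b8c11d375ca17099d43b0274135a222898820cf95f805349973aa224e00a1e140c0770c1ee392b2b0320541b6de2966e3310eba299c064383f0b8124c850295cd338bfd56025203d0c36441547e1668368a2e92ebe0def371a448e046b3d868826b964d4841e1246efe4c2e5bc73341513a2d2d9ad2a2a24420624f108f8c45a6a142025863a51c20646bd18caf17bbc4624678301a007625cd2c422c2c3c3382ae208923dc443eea148ec4a0358a6c36c25a1b0bed57d09c82c566871470c303b4204b8033966f20418606445f30cc82b870688ca70595e20b787af5007c47229a4d9132c0c6b5712996cfb253f4244065a3d12661632526c84e1d164f52f1e8fe8b7e03a1a07720a1e072758d4844e6c0f542ad73279201883aa902df,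 [130, 156, 111, 66, 18, 2, 1, 0])),
  ((0, [0, 0, 0, 0, 1, 0, 1, 1, 1, 1], [0], [0, 0, 0, 0, 1, 1, 1, 0, 1, 1], [0, 0, 1, 0, 0, 0, 0]), (0x1f0ccec785aa1ce20e84a999c1d152289c087ec09f2eb1c88d0b0157c196eea058786e98539886d0c499f00a9170a7422c97390c2c6d3abf08c64051e606a52f84c78b93bb6ce8d56a2ad9e442e0be0a3160c3438358703494f473105be6068ad80e73683345c65443e9d0122d18c4c9b248a030157722c12c258af92c4f87b0c60ac88b7476a4380e0020f0207cf6901042c80da10c489a222916542254f8e97e14570b032e41eac0d65751235ac8f760b47e80434200c5874bc18e667db28fa2462bc8ce034cbccfef75a04034ed422e88e4c4932dbc5d501a8d90a4a86d66a32db3104e283ab554894f32004427f05e208c6334dec5e5c14db2d2393bdf0e513b712f000641064541a3d456555eb5e2656602f11c81241bd76c441aa4d2d84a1b9647a788a4a29a229a0fce37012d50ff282700061, 0x10a393e3d51b1d94f049142167223be99a2a6ec09f82c020fe06e235ada0231300e44cc4311981e6e192acb877803e0deb573b0c608004121d607609553c2e6b2406a14111e5a8d31d0d17ebb68c25744a2b1a9d042368ecce18512a1961f42a98461e0c969b0377cafa1e5f268454e7e7da0c8ca0691142c0579c29b89c261ed12534390dd40258030c6f416a949e137795dd8943c074f43c5541888b7871cdfa5b0b924387430824d2ee4a841bd106bc45c6d55e0ce1a9b0d049c8513e9482a0a329b170e0593c800c06d8e0a8cf25acd14703e08048281b22c1a03524151a58033155e1b2cb8416d07310184913ac4cfed94ea19fe9a7abc59027890a598a1672e4ec8212c1c1cae17ac510687f2311e934b3da10c92717502ad1f39558846d2d1d25e4c4318c2b7bb7d53045e9c5da97321053201,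 [237, 110, 8, 7, 39, 0, 0, 0]))]

/-- the combinations -/
def fiveCombos : List (List (ℤ × ℕ) × List (ℤ × (ℕ × ℕ))) := [([(3, 0), (3, 1)], []),
  ([(1, 1), (4, 0)], []),
  ([(2, 3), (2, 0), (4, 1)], []),
  ([(3, 2), (2, 0), (4, 1)], [])]

/-- the certificate -/
def fiveCert : CentralLocal.Cert :=
  { act := actC fiveGens, one := oneC, N := 125, k := 2, q := 5, rels := fiveRels, P := 4,
    elt := fiveElt, next := fiveNext, word := fiveWord, par := fivePar, L := fiveL, kind := fiveKind, rank := fiveRank,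
    via := fiveVia, pv := [250, 251, 252, 253] }

end Cfsg.Agent.Lie.ConwayThreeMult
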