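import Cfsg.Prelude.Def_KGroupFacts
import Cfsg.Agent.Lib.Lie.ConwayThreeOut.Main
import Cfsg.Agent.Lib.Lie.ConwayThreeMult.FiveCheck
import Cfsg.Agent.Lib.Lie.ConwayThreeMult.ThreeCheck
import Cfsg.Agent.Lib.Lie.ConwayThreeMult.TwoCheck
import Cfsg.Agent.Lib.Solv.SchurSmall

/-!
The Schur multiplier of the third Conway group is trivial: for the primes 2, 3 and 5 the lifts of a Sylow
subgroup meet a kernel of that order trivially, by relations between lifts of conjugate elements.
-/

set_option autoImplicit false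
set_option maxRecDepth 100000

noncomputable section

namespace Cfsg.Agent.Lie.ConwayThreeMult

open Cfsg Cfsg.Agent.Lie PermNine ConwayThreeOut
open Cfsg.Agent.Lie.CentralLocal (ev Setup)

theorem packL_inj : ∀ a b : List ℕ, a.length = b.length → (∀ x ∈ a, x < 512) → (∀ x ∈ b, x < 512) →
    packL a = packL b → a = b
  | [], [], _, _, _, _ => rfl
  | [], _ :: _, h, _, _, _ => by simp at h
  | _ :: _, [], h, _, _, _ => by simp at h
  | x :: a, y :: b, h, ha, hb, e => by
    simp only [List.mem_cons, forall_eq_or_imp] at ha hb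
    have hx := ha.1
    have hy := hb.1
    have e' : packL a * 512 + x = packL b * 512 + y := e
    have h1 : x = y := by omega
    subst h1
    rw [packL_inj a b (by simpa using h) ha.2 hb.2 (by omega)]

theorem pg_packL : ∀ (l : List ℕ), (∀ x ∈ l, x < 512) → ∀ j < l.length, pg (packL l) j = l.getD j 0
  | [], _, j, hj => absurd hj (Nat.not_lt_zero j)
  | x :: l, h, j, hj => by
    simp only [List.mem_cons, forall_eq_or_imp] at h
    have hx := h.1
    show pg (packL l * 512 + x) j = _
    cases j with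
    | zero =>
      rw [pg, Nat.mul_zero, Nat.shiftRight_zero, List.getD_cons_zero]
      omega
    | succ j =>
      rw [pg, show 9 * (j + 1) = 9 + 9 * j by ring, Nat.shiftRight_add,
        show (packL l * 512 + x) >>> 9 = packL l by rw [Nat.shiftRight_eq_div_pow]; omega,
        List.getD_cons_succ]
      exact pg_packL l h.2 j (by simpa using hj)

theorem base_lt : baseL.all (fun b => Nat.blt b 276) = true := by decide +kernel

/-- A point of the base. -/
def basePt (j : Fin baseL.length) : Fin 276 :=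
  ⟨baseL[(j : ℕ)], by
    have := List.all_eq_true.1 base_lt _ (List.getElem_mem j.2)
    exact Nat.blt_eq.mp this⟩

/-- The code of an element. -/
def codeE (g : CG) : ℕ := packL (List.ofFn fun j => (perm276 g⁻¹ (basePt j) : ℕ))

theorem code_lt (g : CG) : ∀ x ∈ List.ofFn (fun j => (perm276 g⁻¹ (basePt j) : ℕ)), x < 512 := by
  intro x hx
  obtain ⟨j, rfl⟩ := List.mem_ofFn.1 hx
  exact lt_trans (perm276 g⁻¹ (basePt j)).2 (by norm_num)

theorem fixes_base : (fixes perm276 baseL).ncard ≤ 1 := by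
  have h := chain_le chainX [] chainX_ok (reps_of_roots rootsX_ok)
  rw [List.nil_append, sizes_ok.1] at h
  have h2 : (fixes perm276 ([] : List ℕ)).ncard ≤ 495766656000 :=
    (Set.ncard_le_ncard (Set.subset_univ _)).trans (le_of_eq (by rw [Set.ncard_univ, card_CG]))
  exact Nat.le_of_mul_le_mul_left (by rw [mul_one]; exact h.trans h2) (by norm_num)

theorem codeE_inj (g h : CG) (e : codeE g = codeE h) : g = h := by
  have e' := packL_inj _ _ (by simp) (code_lt g) (code_lt h) e
  have hmem : g * h⁻¹ ∈ fixes perm276 baseL := by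
    intro k hk
    obtain ⟨j, hj, hjk⟩ := List.getElem_of_mem hk
    have hk' : basePt ⟨j, hj⟩ = k := Fin.ext hjk
    have hj2 := congrArg (fun l => l.getD j 0) e'
    simp only [List.getD_eq_getElem, List.length_ofFn, hj, List.getElem_ofFn] at hj2
    have hp : perm276 g⁻¹ k = perm276 h⁻¹ k := by rw [← hk']; exact Fin.ext hj2
    rw [map_mul, Equiv.Perm.mul_apply, ← hp, ← Equiv.Perm.mul_apply, ← map_mul, mul_inv_cancel, map_one]
    rfl
  exact mul_inv_eq_one.1 ((Set.ncard_le_one (Set.toFinite _)).1 fixes_base _ hmem 1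
    fun k _ => by rw [map_one]; rfl)

theorem codeE_one : codeE 1 = oneC := by
  rw [codeE, oneC]
  congr 1
  refine List.ext_getElem (by simp) fun j h1 h2 => ?_
  rw [List.getElem_ofFn, inv_one, map_one]
  rfl

theorem exists_elem {e : Elem} (h : elemOK e = true) :
    ∃ g : CG, (∀ k : Fin 276, (perm276 g k : ℕ) = pg e.1 k) ∧ ∀ k : Fin 276, (perm276 g⁻¹ k : ℕ) = pg e.2.1 k := by
  simp only [elemOK, Bool.and_eq_true, Nat.ble_eq, List.all_eq_true, List.mem_range, Nat.blt_eq, Nat.beq_eq] at h
  obtain ⟨⟨hlen, hidx⟩, hk⟩ := h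
  have hr := reps_of_roots rootsX_ok
  have hus : ∀ us : List ℕ, (∀ p ∈ us, ∃ u : CG, Rep perm276 u p) →
      ∃ g : CG, ∀ k : Fin 276, (perm276 g k : ℕ) = imgOf us k := by
    intro us
    induction us with
    | nil => exact fun _ => ⟨1, fun k => by rw [map_one]; rfl⟩
    | cons p us ih =>
      intro hp
      obtain ⟨u, hu⟩ := hp p List.mem_cons_self
      obtain ⟨g, hg⟩ := ih fun q hq => hp q (List.mem_cons_of_mem _ hq)
      exact ⟨u * g, fun k => by rw [map_mul, Equiv.Perm.mul_apply, hu, hg]; rfl⟩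
  obtain ⟨g, hg⟩ := hus (repsOf e.2.2) (by
    intro p hp
    simp only [repsOf, List.mem_map, List.mem_range] at hp
    obtain ⟨j, hj, rfl⟩ := hp
    have hjl : j < chainX.length := lt_of_lt_of_le hj hlen
    obtain ⟨-, hrep⟩ := hr (chainX.getD j (0, []))
      (by rw [List.getD_eq_getElem _ _ hjl]; exact List.getElem_mem _)
    obtain ⟨u, -, hu⟩ := hrep ((chainX.getD j (0, [])).2.getD (e.2.2.getD j 0) 0)
      (by rw [List.getD_eq_getElem _ _ (hidx j hj)]; exact List.getElem_mem _)
    exact ⟨u, hu⟩)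
  have h1 : ∀ k : Fin 276, (perm276 g k : ℕ) = pg e.1 k := fun k => (hg k).trans (hk k k.2).1.symm
  refine ⟨g, h1, fun k => ?_⟩
  obtain ⟨-, hlt, hinv⟩ := hk k k.2
  have e1 : perm276 g ⟨pg e.2.1 k, hlt⟩ = k := Fin.ext ((h1 _).trans hinv)
  rw [map_inv, show (perm276 g)⁻¹ k = ⟨pg e.2.1 k, hlt⟩ from Equiv.Perm.inv_eq_iff_eq.2 e1.symm]

theorem code_step {gs : List Elem} {s : ℕ} {g x : CG}
    (hx : ∀ k : Fin 276, (perm276 x⁻¹ k : ℕ) = pg (gs.getD s (0, 0, [])).2.1 k) :
    codeE (g * x) = actC gs s (codeE g) := by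
  rw [codeE, actC]
  congr 1
  refine List.ext_getElem (by simp) fun j h1 h2 => ?_
  simp only [List.length_map, List.length_range] at h2
  rw [List.getElem_ofFn, List.getElem_map, List.getElem_range, codeE,
    pg_packL _ (code_lt g) j (by simpa using h2), List.getD_eq_getElem (List.ofFn _) 0 (n := j) (by simpa using h2), List.getElem_ofFn,
    mul_inv_rev, map_mul, Equiv.Perm.mul_apply, hx]

theorem word_apply {gs : List Elem} {C : CentralLocal.Cert} (hk : C.k ≤ gs.length) {Γ : Type} [Group Γ]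
    {σ : Γ →* CG} {x : ℕ → Γ} (hx : ∀ s < gs.length, ∀ k : Fin 276, (perm276 (σ (x s)) k : ℕ) = pg (gs.getD s (0, 0, [])).1 k) :
    ∀ (w : List ℕ), C.letters w = true → ∀ k : Fin 276, (perm276 (σ (ev x w)) k : ℕ) = imgW gs w k
  | [], _, k => by simp [ev, imgW]
  | s :: w, hw, k => by
    simp only [CentralLocal.Cert.letters, List.all_cons, Bool.and_eq_true, Nat.blt_eq] at hw
    rw [CentralLocal.ev_cons, map_mul, map_mul, Equiv.Perm.mul_apply, hx s (lt_of_lt_of_le hw.1 hk),
      word_apply hk hx w hw.2]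
    rfl

/-- No stem extension of prime kernel order. -/
theorem no_prime (C : CentralLocal.Cert) (gens : List Elem) (specs : List Spec) (ord : Janko.Tree ℕ)
    (combos : List (List (ℤ × ℕ) × List (ℤ × (ℕ × ℕ))))
    (hact : C.act = actC gens) (hone : C.one = oneC) (hk : C.k = gens.length) (hv : C.Valid)
    (hord : ∀ k < C.N, C.ordCheck ord k = true)
    (hgens : (gens.all elemOK) = true ∧ (specs.all fun e => elemOK e.2) = true ∧
      (specs.all (specOK C gens)) = true)
    (hkill : ((List.range C.P).all fun p => C.killCheck (specs.map extOf) (combos.getD p ([], [])) p) = true)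
    (hq : C.q.Prime) (hidx : ¬ C.q ∣ 495766656000 / C.N)
    {Γ : Type} [Group Γ] [Finite Γ] {σ : Γ →* CG} (hσ : Cfsg.IsStemExtension σ) (hcard : Nat.card σ.ker = C.q) :
    False := by
  obtain ⟨hg, hh, hs⟩ := hgens
  rw [List.all_eq_true] at hg hh hs
  have hlift : ∀ s, ∃ y : Γ, s < gens.length → (∀ k : Fin 276, (perm276 (σ y) k : ℕ) = pg (gens.getD s (0, 0, [])).1 k) ∧
      ∀ k : Fin 276, (perm276 (σ y)⁻¹ k : ℕ) = pg (gens.getD s (0, 0, [])).2.1 k := by
    intro s
    by_cases h : s < gens.length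
    · obtain ⟨g, h1, h2⟩ := exists_elem (hg (gens.getD s (0, 0, []))
        (by rw [List.getD_eq_getElem _ _ h]; exact List.getElem_mem _))
      obtain ⟨y, rfl⟩ := hσ.1 g
      exact ⟨y, fun _ => ⟨h1, h2⟩⟩
    · exact ⟨1, fun h' => absurd h' h⟩
  choose x hx using hlift
  let S : Setup C Γ CG :=
    { σ := σ, central := hσ.2.1
      exponent := fun z => by rw [← hcard]; exact pow_card_eq_one'
      code := codeE, x := x
      code_step := fun g s hs' => by rw [hact]; exact code_step (hx s (hk ▸ hs')).2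
      code_one := by rw [hone, codeE_one]
      code_inj := codeE_inj
      valid := hv }
  have hconj : ∀ (h : Elem) (g : CG), (∀ k : Fin 276, (perm276 g k : ℕ) = pg h.1 k) → ∀ a c : List ℕ,
      C.letters a = true → C.letters c = true → conjOK gens h.1 a c = true →
      g * S.σ (ev S.x a) = S.σ (ev S.x c) * g := by
    intro h g hg1 a c ha hc hok
    simp only [conjOK, List.all_eq_true, List.mem_range, Nat.beq_eq] at hok
    refine perm_ext fun k => ?_
    rw [ConwayThreeOut.mul_apply, ConwayThreeOut.mul_apply, hg1,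
      word_apply hk.le (fun s hs' => (hx s hs').1) a ha, word_apply hk.le (fun s hs' => (hx s hs').1) c hc, hg1]
    exact hok k k.2
  have hext : ∀ e ∈ specs.map extOf, S.ExtHolds e := by
    intro e he
    obtain ⟨⟨⟨n, a, b, c, d⟩, h⟩, hmem, rfl⟩ := List.mem_map.1 he
    obtain ⟨g, hg1, -⟩ := exists_elem (hh _ hmem)
    have hsp := hs _ hmem
    simp only [specOK, Bool.and_eq_true, Bool.or_eq_true, Bool.not_eq_true', Nat.beq_eq] at hsp
    obtain ⟨hok, ⟨la, lb, lc, ld⟩, hac, hrest⟩ := hsp
    have hgx : ∃ γ, S.σ γ = g := hσ.1 g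
    rcases Nat.eq_zero_or_pos n with rfl | hn
    · have hbd : conjOK gens h.1 b d = true := by
        rcases hrest with h' | h'
        · exact h'.2
        · exact absurd h'.1 (by decide)
      exact S.ext_comm hok g hgx (hconj h g hg1 a c la lc hac) (hconj h g hg1 b d lb ld hbd)
    · have hn0 : Nat.beq n 0 = false := by rw [← Bool.not_eq_true, Nat.beq_eq]; omega
      have hq' : C.q ∣ n := by
        rcases hrest with h' | h'
        · omega
        · exact Nat.dvd_of_mod_eq_zero h'.2
      simp only [extOf, hn0, cond_false] at hok ⊢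
      exact S.ext_pow hq' hok g hgx (hconj h g hg1 a c la lc hac)
  obtain ⟨hmeet, hN⟩ := S.ker_meet hord (S.vanish hext hkill)
  have hr1 : Set.range (fun s : {s // s < C.k} => x s) = S.x '' {s | s < C.k} := by
    rw [Set.image_eq_range]; rfl
  have hr2 : Set.range (fun s : {s // s < C.k} => σ (x s)) = (fun s => S.σ (S.x s)) '' {s | s < C.k} := by
    rw [Set.image_eq_range]; rfl
  refine CentralLocal.no_kernel hσ hq hcard (fun s : {s // s < C.k} => x s) (by rw [hr1]; exact hmeet) ?_
  rw [hr2]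
  have h := Subgroup.card_mul_index (Subgroup.closure ((fun s => S.σ (S.x s)) '' {s | s < C.k}))
  rw [hN, card_CG] at h
  rw [show (495766656000 : ℕ) = C.N * _ from h.symm, Nat.mul_div_cancel_left _ hv.npos] at hidx
  exact hidx

theorem multiplier_trivial : Cfsg.HasCyclicSchurMultiplier CG 1 := by
  refine Solv.hasCyclicSchur_one_of fun Γ _ _ σ hσ k hk => ?_
  haveI : Finite σ.ker := inferInstance
  have hno : ∀ q, q.Prime → ∀ z : σ.ker, z ^ q = 1 → z = 1 := by
    intro q hq z hz
    by_cases h235 : q = 2 ∨ q = 3 ∨ q = 5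
    · by_contra hne
      obtain ⟨Δ, _, _, τ, hτ, hcard⟩ := CentralLocal.exists_stem_of_prime hσ hq hz hne
      rcases h235 with rfl | rfl | rfl
      · exact no_prime twoCert twoGens twoSpecs twoOrd twoCombos rfl rfl rfl two_valid two_ord two_gens two_kills
          hq (by decide +kernel) hτ hcard
      · exact no_prime threeCert threeGens threeSpecs threeOrd threeCombos rfl rfl rfl three_valid three_ord
          three_gens three_kills hq (by decide +kernel) hτ hcard
      · exact no_prime fiveCert fiveGens fiveSpecs fiveOrd fiveCombos rfl rfl rfl five_valid five_ord five_gens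
          five_kills hq (by decide +kernel) hτ hcard
    refine CentralTable.ker_no_torsion hσ hq (fun h => ?_) z hz
    rw [card_CG, show (495766656000 : ℕ) = 2 ^ 10 * 3 ^ 7 * 5 ^ 3 * 7 * 11 * 23 by norm_num] at h
    have hdvd : q ∣ 2 ^ 10 * 3 ^ 7 * 5 ^ 3 * 7 * 11 * 23 := (dvd_pow_self q two_ne_zero).trans h
    simp only [hq.dvd_mul] at hdvd
    have key : ∀ p : ℕ, p.Prime → q ∣ p → q = p := fun p hp e => (Nat.prime_dvd_prime_iff_eq hq hp).1 e
    rcases hdvd with ((((e | e) | e) | e) | e) | e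
    · exact h235 (Or.inl (key 2 Nat.prime_two (hq.dvd_of_dvd_pow e)))
    · exact h235 (Or.inr (Or.inl (key 3 Nat.prime_three (hq.dvd_of_dvd_pow e))))
    · exact h235 (Or.inr (Or.inr (key 5 Nat.prime_five (hq.dvd_of_dvd_pow e))))
    all_goals
      obtain rfl := key _ (by norm_num) e
      norm_num at h
  by_contra hne
  have hne' : (⟨k, hk⟩ : σ.ker) ≠ 1 := fun e => hne (congrArg Subtype.val e)
  have hpos : orderOf (⟨k, hk⟩ : σ.ker) ≠ 1 := fun e => hne' (orderOf_eq_one_iff.1 e)
  obtain ⟨q, hq, hd⟩ := Nat.exists_prime_and_dvd hpos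
  have hord : orderOf ((⟨k, hk⟩ : σ.ker) ^ (orderOf (⟨k, hk⟩ : σ.ker) / q)) = q :=
    orderOf_pow_orderOf_div (orderOf_pos _).ne' hd
  have h1 := hno q hq _ (hord ▸ pow_orderOf_eq_one _)
  rw [h1, orderOf_one] at hord
  exact hq.one_lt.ne hord

/-- The statement on the group of the definitions. -/
theorem multiplier : Cfsg.HasCyclicSchurMultiplier ↥Cfsg.Spor.Co3 1 := by
  obtain ⟨e⟩ := co3_iso
  haveI : Finite ↥Cfsg.Spor.Co3 := Finite.of_equiv _ e.symm.toEquiv
  obtain ⟨-, hall⟩ := multiplier_trivial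
  refine Solv.hasCyclicSchur_one_of fun Γ _ _ σ hσ k hk => ?_
  have hker : (e.toMonoidHom.comp σ).ker = σ.ker := by ext y; simp [MonoidHom.mem_ker]
  obtain ⟨π, hπ⟩ := hall Γ (e.toMonoidHom.comp σ) ⟨e.surjective.comp hσ.1, hker ▸ hσ.2.1, hker ▸ hσ.2.2⟩
  obtain ⟨a, ha⟩ := hπ ⟨k, hker.symm ▸ hk⟩
  rw [Subsingleton.elim a 1, map_one] at ha
  exact (congrArg Subtype.val ha).symm

end Cfsg.Agent.Lie.ConwayThreeMult
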