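import Cfsg.Agent.Lib.Lie.CentralLocal
import Cfsg.Agent.Lib.Lie.ConwayThreeMult.Defs

/-!
Central table on a Sylow subgroup for the prime 3 of the third Conway group (generated).
-/

set_option autoImplicit false
set_option maxRecDepth 100000
set_option maxHeartbeats 0

namespace Cfsg.Agent.Lie.ConwayThreeMult

open Cfsg.Agent.Lie

def threeElt0 : Janko.Tree (ℕ) :=
  (.node (.node (.node (.node (.node (.node (.node (.node (.node (.leaf 2464856673237604538368) (.leaf 316446038145927826677)) (.leaf 1459532551743268328718)) (.node (.leaf 1987174281485579254346) (.leaf 2418168907454674487939))) (.node (.node (.leaf 1911148101060537108681) (.leaf 1218610494909735063585)) (.node (.leaf 2490947465628632582170) (.leaf 1452200030976964856929)))) (.node (.node (.node (.node (.leaf 363730732715425704497) (.leaf 861864699745107458309)) (.leaf 2199097472741635020930)) (.node (.leaf 2031057196204871225059) (.leaf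 1987516392964337978537))) (.node (.node (.leaf 491094285882607553070) (.leaf 1931739020610391002696)) (.node (.leaf 2407755922819584986646) (.leaf 1683290633162527421087))))) (.node (.node (.node (.node (.node (.leaf 491312158451368781943) (.leaf 1190559580662571855977)) (.leaf 723700999473583728213)) (.node (.leaf 2308189952611979218623) (.leaf 1080107887153215554830))) (.node (.node (.leaf 1596220465676017488444) (.leaf 2005618860645842519704)) (.node (.leaf 1420801426811620956190) (.leaf 1486296610898917300407)))) (.node (.node (.node (.leaf 2014466237968795946722) (.leaf 2014231239194086557785)) (.node (.leaf 2123274227222478694072) (.leaf 1442161707577172145822))) (.node (.node (.leaf 1818806300134712915590) (.leaf 1910686942638515983039)) (.node (.leaf 83015454696969118740) (.leaf 115622216930423787070)))))) (.node (.node (.node (.node (.node (.node (.leaf 815427072667831632434) (.leaf 1347158220812148551347))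 (.leaf 1312945063601093548233)) (.node (.leaf 1680657111270288347140) (.leaf 2159196630335643222712))) (.node (.node (.leaf 1985137995987329777690) (.leaf 1272988044768483749553)) (.node (.leaf 544599277630570213076) (.leaf 2279761930363247393830)))) (.node (.node (.node (.leaf 50676522295608876307) (.leaf 907786847493269246154)) (.node (.leaf 684026747976866670121) (.leaf 3103797664449306184))) (.node (.node (.leaf 2144617945369286410328) (.leaf 728702381306762300487)) (.node (.leaf 842895751700773126827) (.leaf 944035142307476512914))))) (.node (.node (.node (.node (.node (.leaf 2299364336234059893889) (.leaf 462128478943615191219)) (.leaf 1082922659883387741284)) (.node (.leaf 1375206250741517527153) (.leaf 2263619196404343258342))) (.node (.node (.leaf 2531835660517031094284) (.leaf 418944684095895093318)) (.node (.leaf 1047087493227633265791) (.leaf 30849241244119082575)))) (.node (.node (.node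 (.leaf 1554355002425003246183) (.leaf 2508981390660657327357)) (.node (.leaf 2464429221196582712568) (.leaf 2435643974152535793674))) (.node (.node (.leaf 1628256573012559017558) (.leaf 57034610722529217192)) (.node (.leaf 231454076198477400837) (.leaf 683023956526485734413))))))) (.node (.node (.node (.node (.node (.node (.node (.leaf 1579113296597975686704) (.leaf 1734305653451028253824)) (.leaf 1498857287731253353003)) (.node (.leaf 905286414729494162088) (.leaf 758341262512618247325))) (.node (.node (.leaf 1756174787398805308454) (.leaf 317926136360706773144)) (.node (.leaf 2347043779274341227264) (.leaf 2338186069751920708613)))) (.node (.node (.node (.leaf 1983465825230829506579) (.leaf 1597197672569925391364)) (.node (.leaf 2324316367517318251582) (.leaf 1181984056502697653918))) (.node (.node (.leaf 2287760354054021348936) (.leaf 1819041863213847177769)) (.node (.leaf 1476840426654877437080)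 (.leaf 2391018864816167435517))))) (.node (.node (.node (.node (.node (.leaf 714418786323456454784) (.leaf 55598570106137480774)) (.leaf 2122301525097060597387)) (.node (.leaf 290183091448830074999) (.leaf 1305133719454319971388))) (.node (.node (.leaf 93965151093475001426) (.leaf 104484076922937116691)) (.node (.leaf 2022909903014384247050) (.leaf 1069989021104330047564)))) (.node (.node (.node (.leaf 234302482507896469572) (.leaf 1919544258173551092737)) (.node (.leaf 2079623520921505552921) (.leaf 1507554800165214578398))) (.node (.node (.leaf 418658423436962040437) (.leaf 305749216533352946852)) (.node (.leaf 646110408321161333863) (.leaf 2371654925803472659730)))))) (.node (.node (.node (.node (.node (.node (.leaf 56878615169934835348) (.leaf 722241758637699992739)) (.leaf 1810147950568817341470)) (.node (.leaf 620242965922192169147) (.leaf 667279365219677505235))) (.node (.node (.leaf 2013693991284724519102)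 (.leaf 1913422681363045294128)) (.node (.leaf 30535046033352250013) (.leaf 2088414298629627009616)))) (.node (.node (.node (.leaf 444308966688608263771) (.leaf 2338415087241203831431)) (.node (.leaf 406953054168033794703) (.leaf 1268412851400070467219))) (.node (.node (.leaf 564866632158296250445) (.leaf 288699389476118865428)) (.node (.leaf 1045880595419060085293) (.leaf 243686908740862024944))))) (.node (.node (.node (.node (.node (.leaf 2195200631658460285064) (.leaf 774962046477052277994)) (.leaf 2050905299416417377429)) (.node (.leaf 1034987054195070288103) (.leaf 2356824792428288722672))) (.node (.node (.leaf 960983543378388314757) (.leaf 1679237331024753257212)) (.node (.leaf 2079225686694431124518) (.leaf 2189331871134321843985)))) (.node (.node (.node (.leaf 1079250652209868726328) (.leaf 465531898104211309064)) (.node (.leaf 1126231391953600448085) (.leaf 104359457543549664860))) (.node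 (.node (.leaf 1504820754025572741813) (.leaf 2076222069758560579281)) (.node (.leaf 786890757184719192261) (.leaf 372128718951509687523)))))))) (.node (.node (.node (.node (.node (.node (.node (.node (.leaf 1867543176793891653378) (.leaf 2260346417109215266553)) (.leaf 1024300713286297740823)) (.node (.leaf 160587509030032885304) (.leaf 1765394879920462106348))) (.node (.node (.leaf 3622834002970825989) (.leaf 262278847172029453935)) (.node (.leaf 399723151779621808713) (.leaf 67577480877445239552)))) (.node (.node (.node (.node (.leaf 297422794696874611454) (.leaf 443680433321835295428)) (.leaf 1940210575063739119769)) (.node (.leaf 872472038605326555) (.leaf 175739022390900068510))) (.node (.node (.leaf 233691615411701104137) (.leaf 1360017037616223923406)) (.node (.leaf 738774248658924734473) (.leaf 2457460675584534512305))))) (.node (.node (.node (.node (.node (.leaf 638378191149188299858) (.leaf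 935081982744337884364)) (.leaf 1800703309031283365071)) (.node (.leaf 861457376671173212422) (.leaf 1376051659936271196171))) (.node (.node (.leaf 640990369243974184588) (.leaf 324482567753369982055)) (.node (.leaf 1552792574964681758754) (.leaf 1799735702580055799467)))) (.node (.node (.node (.leaf 1291782308186450422413) (.leaf 1837889495474875749042)) (.node (.leaf 1063595320714233924627) (.leaf 140083777667624981223))) (.node (.node (.leaf 362114568757388824276) (.leaf 289463384951740309694)) (.node (.leaf 1245286651203819499556) (.leaf 416446629768463774761)))))) (.node (.node (.node (.node (.node (.node (.leaf 871850631851898909820) (.leaf 1162279564765654985327)) (.leaf 544202068181436625135)) (.node (.leaf 1018288016362587102750) (.leaf 1167089667922986581041))) (.node (.node (.leaf 1412835090053199924439) (.leaf 1994670318993813393453)) (.node (.leaf 2462678377853220652241) (.leaf 906399579929056776782))))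 (.node (.node (.node (.leaf 1162169025733657667104) (.leaf 307295068647898052645)) (.node (.leaf 1633402175277137195076) (.leaf 2492423418651058479871))) (.node (.node (.leaf 2472116488502642772202) (.leaf 1282356790124098665058)) (.node (.leaf 1193300604673588027988) (.leaf 1920487547918230311606))))) (.node (.node (.node (.node (.node (.leaf 1060930464281402660918) (.leaf 603559739151713384998)) (.leaf 499451240011384338113)) (.node (.leaf 2455241734129547830409) (.leaf 369389059169117832842))) (.node (.node (.leaf 1054510900074955796083) (.leaf 970318034827433511181)) (.node (.leaf 1018251669738672438852) (.leaf 593867980299854018590)))) (.node (.node (.node (.leaf 2427999210962561563766) (.leaf 1321339142334314767921)) (.node (.leaf 1304318328102079461931) (.leaf 1101942586897044127924))) (.node (.node (.leaf 2030296616891853361399) (.leaf 2112863344292607417086)) (.node (.leaf 1092095724990170466434)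 (.leaf 2021079879503405777527))))))) (.node (.node (.node (.node (.node (.node (.node (.leaf 316359695807519142569) (.leaf 2152074038714153088599)) (.leaf 213353114600960434747)) (.node (.leaf 1599772476057685141514) (.leaf 1266237190294082215976))) (.node (.node (.leaf 2301040322853558621323) (.leaf 1424497164451343516384)) (.node (.leaf 204704130516077784713) (.leaf 2067477126502389505747)))) (.node (.node (.node (.leaf 712615415266727428277) (.leaf 1956426561414790757420)) (.node (.leaf 1636992933387345874697) (.leaf 574718434642258062469))) (.node (.node (.leaf 1080907091278109480065) (.leaf 2279994397760363250854)) (.node (.leaf 2426906983371453307026) (.leaf 979823161530695892700))))) (.node (.node (.node (.node (.node (.leaf 2307832374741983404121) (.leaf 1074528830380139425954)) (.leaf 1628074751004441877264)) (.node (.leaf 445810880532391463424) (.leaf 1083134373712163003580))) (.node (.node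 (.leaf 83469194905870682303) (.leaf 2520796128230667850852)) (.node (.leaf 776265606623119151738) (.leaf 1541371788595910278663)))) (.node (.node (.node (.leaf 1136928529914382339673) (.leaf 658229129353803362468)) (.node (.leaf 159845539692265477820) (.leaf 124181038691551140977))) (.node (.node (.leaf 425235198738920937608) (.leaf 1052277083995462288523)) (.node (.leaf 594011847777179452167) (.leaf 1293854129017608498333)))))) (.node (.node (.node (.node (.node (.node (.leaf 816090221465755246270) (.leaf 332223479687477788804)) (.leaf 68693983886526196359)) (.node (.leaf 2490618641304415752348) (.leaf 1782002889731833392674))) (.node (.node (.leaf 1678713877164318905441) (.leaf 2493165556193111904301)) (.node (.leaf 1137668640621067520532) (.leaf 934012546577958783203)))) (.node (.node (.node (.leaf 2328975506280377272559) (.leaf 475041533685752136745)) (.node (.leaf 1154096252551072637135) (.leaf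 894692888937501388487))) (.node (.node (.leaf 1729082540031059751979) (.leaf 1625695179996500160515)) (.node (.leaf 2390604561364284428962) (.leaf 2113774514466781221549))))) (.node (.node (.node (.node (.node (.leaf 2411559540412281854218) (.leaf 951414098268241915032)) (.leaf 807301023192865442950)) (.node (.leaf 1175567616007604671093) (.leaf 638798605831531980527))) (.node (.node (.leaf 1245180399560381551177) (.leaf 1754034803234382659136)) (.node (.leaf 604246995696275164918) (.leaf 1921041222642914611844)))) (.node (.node (.node (.leaf 323737402779082222721) (.leaf 207622070127124675226)) (.node (.leaf 1507056343313705961065) (.leaf 1311397973238800309966))) (.node (.node (.leaf 1026066063876390935222) (.leaf 2500749338153691730096)) (.node (.leaf 2521026669433961653262) (.leaf 2439281789471279820839)))))))))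

def threeElt1 : Janko.Tree (ℕ) :=
  (.node (.node (.node (.node (.node (.node (.node (.node (.node (.leaf 2208931367515884930210) (.leaf 138766953387897693758)) (.leaf 759493558822994732551)) (.node (.leaf 519662386522142640342) (.leaf 1460103597060302444232))) (.node (.node (.leaf 1126585030963199859970) (.leaf 741589320700800401658)) (.node (.leaf 756587366794042927869) (.leaf 261626917372213075006)))) (.node (.node (.node (.node (.leaf 2032681511130443865746) (.leaf 249343806193586469613)) (.leaf 944297791570090425582)) (.node (.leaf 2215275096258364415160) (.leaf 1801988833770988436627))) (.node (.node (.leaf 139723444881764170838) (.leaf 2326025660671920797763)) (.node (.leaf 1615605252581115141147) (.leaf 1477153239469177040988))))) (.node (.node (.node (.node (.node (.leaf 1489381753960585358931) (.leaf 1062743088304332734592)) (.leaf 84456969550415821889)) (.node (.leaf 711307077582725678637)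 (.leaf 913265738330198377158))) (.node (.node (.leaf 2492516762911324770518) (.leaf 335212508837941934267)) (.node (.leaf 2125235753004758572215) (.leaf 77848768456074999907)))) (.node (.node (.node (.leaf 316262833324061460042) (.leaf 160353387960032845901)) (.node (.leaf 327651699686202772619) (.leaf 1448954066537382734340))) (.node (.node (.leaf 703506068767872995340) (.leaf 415671459146290204786)) (.node (.leaf 1558953105226693695093) (.leaf 1136194624254709698259)))))) (.node (.node (.node (.node (.node (.node (.leaf 1459191509795232295100) (.leaf 1033145815468610216656)) (.leaf 1737636665717128294487)) (.node (.leaf 2300172256778333819403) (.leaf 1276793590656817764959))) (.node (.node (.leaf 758485466092074457679) (.leaf 1820882465240741627409)) (.node (.leaf 628829633741511501001) (.leaf 1690781172170449015906)))) (.node (.node (.node (.leaf 372467727786186709057) (.leaf 2399634463373253533793))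 (.node (.leaf 1792921059870114696282) (.leaf 104149734144051865175))) (.node (.node (.leaf 694589756098759640101) (.leaf 1312192939667952632510)) (.node (.leaf 1441353821956154926865) (.leaf 1616401230567499220024))))) (.node (.node (.node (.node (.node (.leaf 1293442307700592267909) (.leaf 1286535968954261495021)) (.leaf 2061122490498602840604)) (.node (.leaf 47854833273210200625) (.leaf 1322064825498590867152))) (.node (.node (.leaf 1531442051954065022725) (.leaf 666431875896945190115)) (.node (.leaf 141635196168989394631) (.leaf 1660604306454381345030)))) (.node (.node (.node (.leaf 2346867780799760726640) (.leaf 2132226361561220724780)) (.node (.leaf 76147498734344077454) (.leaf 193912055844183799929))) (.node (.node (.leaf 721733936543052096606) (.leaf 1347841080053713406618)) (.node (.leaf 2353496900859789155989) (.leaf 1247987256119487423143))))))) (.node (.node (.node (.node (.node (.node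 (.node (.leaf 1368324955286610483315) (.leaf 1202663066512674273543)) (.leaf 399524363413543060755)) (.node (.leaf 2398662024451747037952) (.leaf 1093079520514503705710))) (.node (.node (.leaf 40180597666024850151) (.leaf 1540901408337159600207)) (.node (.leaf 490515994638516833840) (.leaf 1504154047120108749830)))) (.node (.node (.node (.leaf 960583612950420753058) (.leaf 684231364273404753443)) (.node (.leaf 1661043653979785950927) (.leaf 620406352797115115202))) (.node (.node (.leaf 1560609164025809605313) (.leaf 1209852299036410864819)) (.node (.leaf 48946152121487632103) (.leaf 2112914609718352438941))))) (.node (.node (.node (.node (.node (.leaf 198235725604693320836) (.leaf 733554093302339356416)) (.leaf 1471457563830747405315)) (.node (.leaf 564198764164050388563) (.leaf 77233180367404998246))) (.node (.node (.leaf 2094427055286555387126) (.leaf 2205470595065151347474)) (.node (.leaf 1551840898313850726560)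 (.leaf 1415777383516822171324)))) (.node (.node (.node (.leaf 2122350357636394129009) (.leaf 1258458334658697371283)) (.node (.leaf 1783378565698759437406) (.leaf 2024098385408754557118))) (.node (.node (.leaf 1007347793833791866480) (.leaf 860264698018625226820)) (.node (.leaf 1249714528551578441415) (.leaf 194287236634921456306)))))) (.node (.node (.node (.node (.node (.node (.leaf 193788677379252071959) (.leaf 1005732380000167209023)) (.leaf 1458627516514508860984)) (.node (.leaf 1101532415333112575153) (.leaf 158694968068459550731))) (.node (.node (.leaf 1127559076633517026574) (.leaf 341865366321895856834)) (.node (.leaf 2278717137238948141705) (.leaf 518618362674030595317)))) (.node (.node (.node (.leaf 295912992874718952983) (.leaf 2263334849276960099489)) (.node (.leaf 188203645186268747942) (.leaf 547555665714361757769))) (.node (.node (.leaf 263138152467842012704) (.leaf 317080013178904312447))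 (.node (.leaf 2032140806770506353378) (.leaf 1240207074001646868494))))) (.node (.node (.node (.node (.node (.leaf 253253570147174621203) (.leaf 453573753753990345988)) (.leaf 1358831394984480595660)) (.node (.leaf 1458270851051554614455) (.leaf 1449555151829544526881))) (.node (.node (.leaf 650231771254351210754) (.leaf 1156025050393294451977)) (.node (.leaf 1976685965292921287910) (.leaf 555948871067380758078)))) (.node (.node (.node (.leaf 917367244863481896649) (.leaf 1578841035972165020876)) (.node (.leaf 1831010322971871218424) (.leaf 1358312510962258684466))) (.node (.node (.leaf 583037850026347415043) (.leaf 1097751992207031236262)) (.node (.leaf 654994083793022578208) (.leaf 2047848574203988909592)))))))) (.node (.node (.node (.node (.node (.node (.node (.node (.leaf 332140018656932031682) (.leaf 1513718990426557251332)) (.leaf 2455977030549161780315)) (.node (.leaf 1974811000565563175073)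 (.leaf 1110083842758363321996))) (.node (.node (.leaf 908544169998499772053) (.leaf 2336475974505899332860)) (.node (.leaf 2420294481954136655566) (.leaf 2530165524307680496682)))) (.node (.node (.node (.node (.leaf 2122896811842382655139) (.leaf 2197000576875651276381)) (.leaf 702858376024301036554)) (.node (.leaf 2528519560549327188111) (.leaf 2057462139053108462084))) (.node (.node (.leaf 1487774987313040613564) (.leaf 381715934360772940856)) (.node (.leaf 2236493042207340139214) (.leaf 802632563878507963506))))) (.node (.node (.node (.node (.node (.leaf 1911711973544202741366) (.leaf 1194740145786709922940)) (.leaf 805828665160452625944)) (.node (.leaf 2344058059243742437957) (.leaf 115368014839147440848))) (.node (.node (.leaf 842750241998522292326) (.leaf 1600281650208853074544)) (.node (.leaf 583254134259230535205) (.leaf 804236467686723361940)))) (.node (.node (.node (.leaf 769180838839117243008)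 (.leaf 1098129738293173813955)) (.node (.leaf 454811187281330965636) (.leaf 1652595436813619333733))) (.node (.node (.leaf 1811407947523620134921) (.leaf 499922903056890073830)) (.node (.leaf 66042625407144696391) (.leaf 498268039239265970822)))))) (.node (.node (.node (.node (.node (.node (.leaf 899556208100295894590) (.leaf 667309404902894455361)) (.leaf 1414966161563806437902)) (.node (.leaf 1440887798634484708466) (.leaf 776462074769443686413))) (.node (.node (.leaf 897950778529362024040) (.leaf 1541079770071619665504)) (.node (.leaf 380465130919692361828) (.leaf 1006667933082006854172)))) (.node (.node (.node (.leaf 22920452879032094297) (.leaf 2305992439456311412362)) (.node (.leaf 2540975503645281367314) (.leaf 2130877743297774289167))) (.node (.node (.leaf 1255213385493004454472) (.leaf 2093749960678119176814)) (.node (.leaf 134053167767870021760) (.leaf 1202138856149857125114))))) (.node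 (.node (.node (.node (.node (.leaf 674395613387230295222) (.leaf 1819894619214213155363)) (.leaf 604265809576485059690)) (.node (.leaf 1588006290286339735577) (.leaf 862588759627238867163))) (.node (.node (.leaf 1091007963231817848938) (.leaf 2537562867402578374223)) (.node (.leaf 325110967100895931662) (.leaf 1857635245933662124544)))) (.node (.node (.node (.leaf 1670819111126294437446) (.leaf 462995844649291156145)) (.node (.leaf 741967058202640799300) (.leaf 2272752215782159155302))) (.node (.node (.leaf 2214082745303487802445) (.leaf 2537498656631702182664)) (.node (.leaf 646451804074952738492) (.leaf 1978673534007925292693))))))) (.node (.node (.node (.node (.node (.node (.node (.leaf 193879800486674955777) (.leaf 28810133497535084685)) (.leaf 2204566700470125030111)) (.node (.leaf 1098148270153806977745) (.leaf 1412689703548464486503))) (.node (.node (.leaf 489531763449464653332) (.leaf 2482746069384627816030))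 (.node (.leaf 251085336801246545462) (.leaf 1258671131804979034200)))) (.node (.node (.node (.leaf 1902581171106447755460) (.leaf 2334996112350116915343)) (.node (.leaf 969841823054535702541) (.leaf 1088525108375032469752))) (.node (.node (.leaf 2058133156179040335100) (.leaf 1248082391159600906819)) (.node (.leaf 222177046004506655800) (.leaf 730129712158983354885))))) (.node (.node (.node (.node (.node (.leaf 2300476742255722432215) (.leaf 1929288672792416924843)) (.leaf 1939414187782806572661)) (.node (.leaf 2426200988064290492614) (.leaf 916306184719195236524))) (.node (.node (.leaf 2301221909266785229838) (.leaf 1513990609807695947528)) (.node (.leaf 2364539250953238965781) (.leaf 1227830691283991034427)))) (.node (.node (.node (.leaf 323164098080402383949) (.leaf 1863591193083119787171)) (.node (.leaf 2501019036751987612188) (.leaf 410735499989334965281))) (.node (.node (.leaf 1063354947880238265395)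 (.leaf 553537260747568579657)) (.node (.leaf 65454802495707614283) (.leaf 1756368865077967285358)))))) (.node (.node (.node (.node (.node (.node (.leaf 1192505262856369703180) (.leaf 784222471574469227106)) (.leaf 2048083462473178740385)) (.node (.leaf 2089220897204739115103) (.leaf 86238733554078320247))) (.node (.node (.leaf 78237096384813987987) (.leaf 1291352980793048966777)) (.node (.leaf 470652673122054990453) (.leaf 1210479557695234700024)))) (.node (.node (.node (.leaf 2306536406362831788080) (.leaf 2531025036641084494938)) (.node (.leaf 2401039118348979354744) (.leaf 593925257160923364917))) (.node (.node (.leaf 806036888704620183101) (.leaf 354585963931874107003)) (.node (.leaf 2013171645346827575534) (.leaf 206879293067375936209))))) (.node (.node (.node (.node (.node (.leaf 1615663482591151230112) (.leaf 516820196534200394259)) (.leaf 2058687510215271138821)) (.node (.leaf 68390682974113848944)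 (.leaf 1673035159561376911609))) (.node (.node (.leaf 2236241190287016462049) (.leaf 184636081020608502280)) (.node (.leaf 1513878021869775207557) (.leaf 703071268108551951423)))) (.node (.node (.node (.leaf 392318221797511769829) (.leaf 2510117105630108501174)) (.node (.leaf 343018682767012047021) (.leaf 1323832952286946635503))) (.node (.node (.leaf 2310024406125353455315) (.leaf 1295890919930560329906)) (.node (.leaf 12976183216698301048) (.leaf 57148196249472712862)))))))))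

def threeElt2 : Janko.Tree (ℕ) :=
  (.node (.node (.node (.node (.node (.node (.node (.node (.node (.leaf 1762964867986463000584) (.leaf 1790815159955746283067)) (.leaf 1590389288419580787325)) (.node (.leaf 1543475608255602985548) (.leaf 240068430403353989269))) (.node (.node (.leaf 2273009975477794803461) (.leaf 694966685402626851444)) (.node (.leaf 2004234445824195388085) (.leaf 2060402147746127671847)))) (.node (.node (.node (.node (.leaf 2187799764549563184141) (.leaf 13386750828847598651)) (.leaf 354114845595062241963)) (.node (.leaf 216773783502860443663) (.leaf 2508837845437268928698))) (.node (.node (.leaf 913803447542362810123) (.leaf 2308095442572103927927)) (.node (.leaf 1228800207915257553072) (.leaf 674370840901784200957))))) (.node (.node (.node (.node (.node (.leaf 2361976913049736223440) (.leaf 778066405267639647434)) (.leaf 1559367643581749501501)) (.node (.leaf 295653976715522779257)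 (.leaf 243724012376030461076))) (.node (.node (.leaf 1581636761075462786691) (.leaf 22705357413786406667)) (.node (.leaf 1467893806849465049831) (.leaf 1221651552767865580101)))) (.node (.node (.node (.leaf 193968180002256627906) (.leaf 1930172574218408556807)) (.node (.leaf 1651890826332360414280) (.leaf 1992487626075932296926))) (.node (.node (.leaf 1274670034422320200829) (.leaf 139775742107673510100)) (.node (.leaf 1356521905983812041900) (.leaf 472091854477860609199)))))) (.node (.node (.node (.node (.node (.node (.leaf 1626526031662776902180) (.leaf 961249340071488271613)) (.leaf 1378881436231532605057)) (.node (.leaf 2289890034575080767006) (.leaf 1507741696114459451660))) (.node (.node (.leaf 426064533294358990502) (.leaf 1277192847667091039441)) (.node (.leaf 1413994725786982046937) (.leaf 797826977290822137965)))) (.node (.node (.node (.leaf 2125797928773275716796) (.leaf 786186397660594617087))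 (.node (.leaf 1663926773864037940326) (.leaf 3676593232682423520))) (.node (.node (.leaf 2068022202012684266122) (.leaf 567045345476089751822)) (.node (.leaf 713107991443741400118) (.leaf 68869610129043104382))))) (.node (.node (.node (.node (.node (.leaf 1756394438114849151513) (.leaf 176259390178886268494)) (.leaf 261613657624507456724)) (.node (.leaf 591907118758623462108) (.leaf 2049445113796337388605))) (.node (.node (.leaf 1182636094021889688751) (.leaf 1264000118394583596762)) (.node (.leaf 917294211172759259767) (.leaf 2236530115405415042679)))) (.node (.node (.node (.leaf 280472693198165658284) (.leaf 1735261472245594993244)) (.node (.leaf 1542887742680410405087) (.leaf 213025726155815244912))) (.node (.node (.leaf 1006555084486259061345) (.leaf 970257442537408088769)) (.node (.leaf 1450077491659100488197) (.leaf 645747906779046313632))))))) (.node (.node (.node (.node (.node (.node (.node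 (.leaf 141709741990099097161) (.leaf 2355877034146485538886)) (.leaf 631665421620993150655)) (.node (.leaf 353917385129573613829) (.leaf 2151897042347546994902))) (.node (.node (.leaf 1950643661099215223833) (.leaf 1351119725270041180908)) (.node (.leaf 1488968092106478396501) (.leaf 1644769650286322090506)))) (.node (.node (.node (.leaf 2234039636581289312494) (.leaf 1405870168585662215441)) (.node (.leaf 583473637871120824047) (.leaf 2365942846431120377942))) (.node (.node (.leaf 1599236257581850006687) (.leaf 1847529174150243255989)) (.node (.leaf 824809258692608072387) (.leaf 1847436077392416580183))))) (.node (.node (.node (.node (.node (.leaf 2428997218214384623331) (.leaf 1070997491312568629380)) (.leaf 1145393541783678727302)) (.node (.leaf 1450595235741448554059) (.leaf 802690884375450072239))) (.node (.node (.leaf 1701425857746166959228) (.leaf 1757162465433466314248)) (.node (.leaf 2343947243931941792261)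 (.leaf 121423176217932403928)))) (.node (.node (.node (.leaf 1469796785224474538046) (.leaf 1618692331052230120663)) (.node (.leaf 2327642270577374593811) (.leaf 813638888236438039683))) (.node (.node (.leaf 1268394433213193803014) (.leaf 1662352337852030818055)) (.node (.leaf 1257825160257232966798) (.leaf 1230878652147834407999)))))) (.node (.node (.node (.node (.node (.node (.leaf 1826954755850315056219) (.leaf 880300431126138500219)) (.leaf 1080055210903928112800)) (.node (.leaf 2389071466800672795159) (.leaf 2439926131221751999232))) (.node (.node (.leaf 1725979554378857352196) (.leaf 793812256795587800185)) (.node (.leaf 2511929737204442994797) (.leaf 2510779878315518668844)))) (.node (.node (.node (.leaf 823104486120210893403) (.leaf 363213531583943588937)) (.node (.leaf 2472478207768776151587) (.leaf 628872429768634819118))) (.node (.node (.leaf 666537830100309938878) (.leaf 825390860836590979251))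 (.node (.leaf 2328849337127153487589) (.leaf 1120931744335233886840))))) (.node (.node (.node (.node (.node (.leaf 2419769868698039653102) (.leaf 351665197320867242083)) (.leaf 518926567802878876698)) (.node (.leaf 1789990470411732243516) (.leaf 57377516594324359797))) (.node (.node (.leaf 1835960897869915160258) (.leaf 295364654455380784392)) (.node (.leaf 702983028738155154591) (.leaf 775778053891609628825)))) (.node (.node (.node (.leaf 897497354419729373732) (.leaf 1808654200086488728136)) (.node (.leaf 93031820435231999215) (.leaf 2355856083286219951769))) (.node (.node (.leaf 2002108223827937857781) (.leaf 1919747558855996607584)) (.node (.leaf 1366033783133647737939) (.leaf 1182671070365656582266)))))))) (.node (.node (.node (.node (.node (.node (.node (.node (.leaf 2195884793231189306474) (.leaf 2089203511846421136104)) (.leaf 1477856051150491532956)) (.node (.leaf 391946426811180232935)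 (.leaf 2522580376740165346360))) (.node (.node (.leaf 1830935239251741253184) (.leaf 2262052065204934092305)) (.node (.leaf 2482979611490692733041) (.leaf 936028723200422070806)))) (.node (.node (.node (.node (.leaf 567461588899483151454) (.leaf 1764748324137547405990)) (.leaf 1978453095590875123725)) (.node (.leaf 880281367190217201240) (.leaf 952768806983223268574))) (.node (.node (.leaf 2418995213543844142764) (.leaf 1716128777158970897447)) (.node (.leaf 1238221630847270896184) (.leaf 1513412708277515545362))))) (.node (.node (.node (.node (.node (.leaf 1781085243783310573289) (.leaf 1228582617042301041707)) (.leaf 2290501896233967963716)) (.node (.leaf 1946172994948378922589) (.leaf 1135167339337291193987))) (.node (.node (.leaf 1994919808204989097641) (.leaf 1505829709442275377226)) (.node (.leaf 1422527033694676351029) (.leaf 1496064873987848567311)))) (.node (.node (.node (.leaf 1837205592865830385918)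 (.leaf 2495158339257439480919)) (.node (.leaf 2096358673733414948944) (.leaf 1729402216995055033884))) (.node (.node (.leaf 1355988408310165181046) (.leaf 215100478553045687871)) (.node (.leaf 2416530692107254934718) (.leaf 1476173525154414769861)))))) (.node (.node (.node (.node (.node (.node (.leaf 1884656143103773475965) (.leaf 2438726053138471604778)) (.leaf 2531517974860317672056)) (.node (.leaf 2282137714526744573617) (.leaf 2067188835039820923146))) (.node (.node (.leaf 1267403572770681918706) (.leaf 1351352122559730616497)) (.node (.leaf 960295555600072900794) (.leaf 973107101646140317201)))) (.node (.node (.node (.leaf 225144531877381643479) (.leaf 2401092292390159985215)) (.node (.leaf 2012948952191129117330) (.leaf 1588208698907441364214))) (.node (.node (.leaf 472464206907009011217) (.leaf 622507610044036147983)) (.node (.leaf 2205456557345441906430) (.leaf 2189237815242811368582)))))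 (.node (.node (.node (.node (.node (.leaf 2079295974349942159880) (.leaf 2097674086479766789632)) (.leaf 804290684549519916266)) (.node (.leaf 424824105155141175476) (.leaf 1661815706433697371224))) (.node (.node (.leaf 2149789393733179980380) (.leaf 516943191554937626716)) (.node (.leaf 389768082859098440332) (.leaf 2140188056388630484115)))) (.node (.node (.node (.leaf 1790547129045514727493) (.leaf 2383954075041743025878)) (.node (.leaf 314032313947880228108) (.leaf 465944260382184451738))) (.node (.node (.leaf 216803862305573211271) (.leaf 600752755639367823967)) (.node (.leaf 1090203409687974388890) (.leaf 1054280467096839232568))))))) (.node (.node (.node (.node (.node (.node (.node (.leaf 821841391853847788264) (.leaf 822111085078811098624)) (.leaf 129365204229455676467)) (.node (.leaf 2215178585373929986075) (.leaf 95440857489502465793))) (.node (.node (.leaf 1367799092764357750385) (.leaf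 1663890394325848692956)) (.node (.leaf 429019427088804705872) (.leaf 1562361306506586600650)))) (.node (.node (.node (.leaf 1043348512907133190341) (.leaf 1809910387121353400026)) (.node (.leaf 2538865245752847620652) (.leaf 2152693185666520528082))) (.node (.node (.leaf 2407986694080111591562) (.leaf 664084803640681091263)) (.node (.leaf 691880951339731787024) (.leaf 1239489182707303706146))))) (.node (.node (.node (.node (.node (.leaf 2401896810809065227788) (.leaf 322934705805266054873)) (.leaf 40015438518079246083)) (.node (.leaf 225959668430048969250) (.leaf 1679969783062726220920))) (.node (.node (.leaf 657689718216801954563) (.leaf 830523142198790042343)) (.node (.leaf 565676122555550915723) (.leaf 1457643087481527190101)))) (.node (.node (.node (.leaf 141276944043097247253) (.leaf 1268060115635822984399)) (.node (.leaf 2271083007943633854606) (.leaf 1791339087149062724679))) (.node (.node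 (.leaf 2084649533566815636163) (.leaf 1636613212997876741704)) (.node (.leaf 244678721215773829834) (.leaf 696334380187012397331)))))) (.node (.node (.node (.node (.node (.node (.leaf 2112374506034274339335) (.leaf 21226240579777677578)) (.leaf 1635172758987692594811)) (.node (.leaf 101891382059217715206) (.leaf 2299884060205034005587))) (.node (.node (.leaf 105949897994669404756) (.leaf 2215922346040068774146)) (.node (.leaf 1163880251474546007113) (.leaf 794833126619841308293)))) (.node (.node (.node (.leaf 1403488893420046961913) (.leaf 867438153834595969098)) (.node (.leaf 204144484274689377526) (.leaf 2491414403426105496301))) (.node (.node (.leaf 1499086822101465780252) (.leaf 572937074445654753544)) (.node (.leaf 2408984001980708170371) (.leaf 1623732881935053495333))))) (.node (.node (.node (.node (.node (.leaf 1229232439906690738181) (.leaf 1849597449248170906138)) (.leaf 1258438988405853148200))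 (.node (.leaf 1424027965480714199302) (.leaf 2361309990331398798593))) (.node (.node (.leaf 1443713743220039284302) (.leaf 674088562387165232260)) (.node (.leaf 639696745640855965860) (.leaf 1273554413875232311450)))) (.node (.node (.node (.leaf 287639712391539249419) (.leaf 1323505307252410329632)) (.node (.leaf 1884216657342716707438) (.leaf 1726325264408877289592))) (.node (.node (.leaf 715118605296795979874) (.leaf 1366720200533813882551)) (.node (.leaf 2409642999434235128921) (.leaf 2464486369684180785774)))))))))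

def threeElt3 : Janko.Tree (ℕ) :=
  (.node (.node (.node (.node (.node (.node (.node (.node (.node (.leaf 129438745319826279469) (.leaf 2177581063050663597788)) (.leaf 1688621799599035178194)) (.node (.leaf 1855722344480873945242) (.leaf 1531949914922166796923))) (.node (.node (.leaf 1977117933948841281059) (.leaf 1019371340969352230952)) (.node (.leaf 618154110045056186554) (.leaf 1374758592610355477664)))) (.node (.node (.node (.node (.leaf 12179677753818296871) (.leaf 1587141130821344484019)) (.leaf 1717426504159585248000)) (.node (.leaf 1259197277606742868741) (.leaf 447465468625995789478))) (.node (.node (.leaf 1054211198823639907934) (.leaf 1403345648101900756682)) (.node (.leaf 2159928325926750092915) (.leaf 295744437876050150586))))) (.node (.node (.node (.node (.node (.leaf 74154410763665870338) (.leaf 278348960433872166465)) (.leaf 896095329141202105893)) (.node (.leaf 1109187629306239111762)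 (.leaf 2140998351012880499420))) (.node (.node (.leaf 2391434735725121922814) (.leaf 1183104217199769422377)) (.node (.leaf 279482607148356362990) (.leaf 740976797969739477199)))) (.node (.node (.node (.leaf 2483396736456011308059) (.leaf 18592527499033067726)) (.node (.leaf 1724833461446224910960) (.leaf 1932478243713366128670))) (.node (.node (.leaf 1044932405627370672284) (.leaf 1644287350259308942495)) (.node (.leaf 380901914023291627191) (.leaf 1147577744380709964861)))))) (.node (.node (.node (.node (.node (.node (.leaf 355281814329116607123) (.leaf 1844914592804810054701)) (.leaf 2022171931772001584865)) (.node (.leaf 2263635843412863881930) (.leaf 2150313843850540486707))) (.node (.node (.leaf 1549996709576858256467) (.leaf 888457196898655154218)) (.node (.leaf 2527586019084691919007) (.leaf 1217864444848344537776)))) (.node (.node (.node (.leaf 701864090116870187050) (.leaf 28759018371114112044))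 (.node (.leaf 2033401836788583106070) (.leaf 1145505035790783638165))) (.node (.node (.leaf 2337338311938988972607) (.leaf 397398195929965453906)) (.node (.leaf 198308622666051464466) (.leaf 600817885619454779046))))) (.node (.node (.node (.node (.node (.leaf 2493338921791821241428) (.leaf 1024502325919130101869)) (.leaf 161212510402872722459)) (.node (.leaf 2143901594871024619258) (.leaf 1755002499353412688514))) (.node (.node (.leaf 766645983565030924362) (.leaf 2353463547571854773265)) (.node (.leaf 1055021799918488623187) (.leaf 77864212554060710430)))) (.node (.node (.node (.leaf 1053363954261040108727) (.leaf 1847828944035804951797)) (.node (.leaf 823443262836497015872) (.leaf 1350580772419665740995))) (.node (.node (.leaf 1374629987884390504636) (.leaf 1597522852252122385660)) (.node (.leaf 2467150453378063100992) (.leaf 2188451207929933444330))))))) (.node (.node (.node (.node (.node (.node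 (.node (.leaf 20790464176992064225) (.leaf 74191316142851391016)) (.leaf 2474191338135500753522)) (.node (.leaf 629107317880509503577) (.leaf 1485440121857422984804))) (.node (.node (.leaf 572070697742035068573) (.leaf 1415032953545797938210)) (.node (.leaf 2365760558192472149615) (.leaf 729858820752630408207)))) (.node (.node (.node (.leaf 1469730505120692348453) (.leaf 1212305811528617167080)) (.node (.leaf 1821658135191003729145) (.leaf 982476482836889900597))) (.node (.node (.leaf 896639253029957759188) (.leaf 1958527236879647103609)) (.node (.leaf 710507905714442011732) (.leaf 2508942664414144811682))))) (.node (.node (.node (.node (.node (.leaf 770030744589795375667) (.leaf 2335520510862448208426)) (.leaf 361135671133783213313)) (.node (.leaf 185423229446251439352) (.leaf 1305162222562751607867))) (.node (.node (.leaf 813337163771907704521) (.leaf 1099365268286076699673)) (.node (.leaf 1663649762324424744991)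 (.leaf 1174666537447123695226)))) (.node (.node (.node (.leaf 276854109035494230739) (.leaf 547014431451252080744)) (.node (.leaf 731601323274027441242) (.leaf 1753000969554473859779))) (.node (.node (.leaf 500948202134093708958) (.leaf 252675771092700552373)) (.node (.leaf 556754948080270143727) (.leaf 1837614701394303478368)))))) (.node (.node (.node (.node (.node (.node (.leaf 1286192672479863238812) (.leaf 55547239098401273891)) (.leaf 1034752153080962322707)) (.node (.leaf 1995402546856778375836) (.leaf 1202466422027747389660))) (.node (.node (.leaf 2419304844728690310370) (.leaf 1129665953457269670615)) (.node (.leaf 1210101229843481366153) (.leaf 673491379688048430189)))) (.node (.node (.node (.leaf 1987872908381318337692) (.leaf 933475563529884280366)) (.node (.leaf 64943922324651766314) (.leaf 2530789840890680842878))) (.node (.node (.leaf 806631303240810533094) (.leaf 2483831402184646077640))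 (.node (.leaf 2310279660630113095435) (.leaf 850082090648950912785))))) (.node (.node (.node (.node (.node (.leaf 382428315640214953123) (.leaf 1701252324841826074239)) (.leaf 942500643048911290499)) (.node (.leaf 2021365447975359801462) (.leaf 2180522169248544788067))) (.node (.node (.leaf 767648588439227557468) (.leaf 186295732862550635729)) (.node (.leaf 1064906960688787552892) (.leaf 1541933027329653649074)))) (.node (.node (.node (.leaf 1239795774507200904277) (.leaf 1489795871534883887181)) (.node (.leaf 554778637093167220944) (.leaf 1855737304095324445248))) (.node (.node (.leaf 572120954351170116140) (.leaf 786834952206624086168)) (.node (.leaf 2177891812988641902082) (.leaf 2366070219565029982756)))))))) (.node (.node (.node (.node (.node (.node (.node (.node (.leaf 788135394904909025372) (.leaf 2382481725476937519301)) (.leaf 2282214255793122971741)) (.node (.leaf 2485505681591222015159)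 (.leaf 39722316973877604624))) (.node (.node (.leaf 971341469996652779122) (.leaf 2290971718658133363342)) (.node (.leaf 639627791059089934385) (.leaf 2162059870221941446683)))) (.node (.node (.node (.leaf 399961812707521450660) (.leaf 731660074782502538279)) (.node (.leaf 2328310742645843486348) (.leaf 658354849016940664551))) (.node (.node (.leaf 179144013698802775189) (.leaf 1533225411017627695106)) (.node (.leaf 1117579311945571408935) (.leaf 2365747404370809294988))))) (.node (.node (.node (.node (.node (.leaf 1679308053259790902341) (.leaf 1627897628061075510951)) (.leaf 2144113508202134179535)) (.node (.leaf 2362608432535328003783) (.leaf 471928517613120255011))) (.node (.node (.leaf 793487427051839121921) (.leaf 1884126521917139848884)) (.node (.leaf 1784385683645188336824) (.leaf 260224117426836786828)))) (.node (.node (.node (.leaf 1902668574387637414937) (.leaf 1293291721751942199458))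 (.node (.leaf 1697844364365228529762) (.leaf 786409146128451048105))) (.node (.node (.leaf 2122948107838857174231) (.leaf 840193200857639116809)) (.node (.leaf 2446180289043903058643) (.leaf 1672825074589121516225)))))) (.node (.node (.node (.node (.node (.node (.leaf 1282289418348624925906) (.leaf 775379541210723536966)) (.leaf 1369063725111523794135)) (.node (.leaf 1938605288138819374202) (.leaf 258388311332961758995))) (.node (.node (.leaf 1413076024587150197275) (.leaf 951277171160382269033)) (.node (.leaf 2076485701993057090739) (.leaf 1599469643479117526159)))) (.node (.node (.node (.leaf 732953496687095439372) (.leaf 971392461304650305560)) (.node (.leaf 96923280432754684176) (.leaf 1845312055495053312169))) (.node (.node (.leaf 961502162838703139592) (.leaf 814899980732912394999)) (.node (.leaf 2297431318521341630627) (.leaf 1901803167275017630333))))) (.node (.node (.node (.node (.node (.leaf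 721711483986526437081) (.leaf 251788282698672728191)) (.leaf 1498818029874443248766)) (.node (.leaf 1551764066366395264027) (.leaf 253882202113249951446))) (.node (.node (.leaf 943776174665963686155) (.leaf 1218802203467104476714)) (.node (.leaf 501673561723169720980) (.leaf 602084387314786392296)))) (.node (.node (.node (.leaf 981479503618616874703) (.leaf 1955445583122653065292)) (.node (.leaf 2532165938234760133296) (.leaf 2078992755828258554102))) (.node (.node (.leaf 177321851305753419457) (.leaf 1736752193888328922892)) (.node (.leaf 1986185300329749892364) (.leaf 1442744940790310877345))))))) (.node (.node (.node (.node (.node (.node (.node (.leaf 2482857950656082089742) (.leaf 1985782856935596460156)) (.leaf 1107605833055006980200)) (.node (.leaf 49042343092200500772) (.leaf 489999417426695204066))) (.node (.node (.leaf 1304658796600608527393) (.leaf 1283148165804869629056)) (.node (.leaf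 1061128164213854091903) (.leaf 1716201184052661852715)))) (.node (.node (.node (.leaf 452721893352672917580) (.leaf 2263928796954359759994)) (.node (.leaf 399153519803046662352) (.leaf 2474801990739635057677))) (.node (.node (.leaf 1378144671701785162403) (.leaf 1468488561683034031363)) (.node (.leaf 1018644219864257923337) (.leaf 308937522784925504021))))) (.node (.node (.node (.node (.node (.leaf 185030964433074261736) (.leaf 594589367976305391763)) (.leaf 1596317041754376340011)) (.node (.leaf 1019388792767522059317) (.leaf 2140652914157758224091))) (.node (.node (.leaf 2292206749062121426650) (.leaf 2279477712149509665817)) (.node (.leaf 2011147412833990644451) (.leaf 1883410652979458588396)))) (.node (.node (.node (.leaf 1655276351616807657735) (.leaf 843133179352768388676)) (.node (.leaf 1423840609709963638274) (.leaf 84657452024464681494))) (.node (.node (.leaf 2371691631842513168385) (.leaf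 639908036356988221140)) (.node (.leaf 731170246805384938081) (.leaf 1017997460537494230240)))))) (.node (.node (.node (.node (.node (.node (.leaf 379078650518876525579) (.leaf 2019920519327949053462)) (.leaf 143114944485085021413)) (.node (.leaf 2371762812635842148375) (.leaf 657047184178276577488))) (.node (.node (.leaf 2365875582685593814644) (.leaf 1470535300651754574403)) (.node (.leaf 21636315515065589294) (.leaf 2466605553360355311129)))) (.node (.node (.node (.leaf 2370595237325898028219) (.leaf 2437926422557294678031)) (.node (.leaf 1645507861854964747390) (.leaf 1239715523965052902483))) (.node (.node (.leaf 1191931239509801645143) (.leaf 1024012522031428955309)) (.node (.leaf 1614205419483937157832) (.leaf 261176526927528562887))))) (.node (.node (.node (.node (.node (.leaf 934793192908713920247) (.leaf 1277335075329894838890)) (.leaf 960855798347035077708)) (.node (.leaf 2051499727136450202270)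 (.leaf 2327406819771733812757))) (.node (.node (.leaf 2466371252525002789000) (.leaf 1654090556792007647403)) (.node (.leaf 1673341518855810323005) (.leaf 463822008590990712450)))) (.node (.node (.node (.leaf 499764011223712392233) (.leaf 1635031424792592398338)) (.node (.leaf 161396985767875337400) (.leaf 2343320179293472966148))) (.node (.node (.leaf 296212694923846362884) (.leaf 1836051322666522092767)) (.node (.leaf 1378553789200502494797) (.leaf 415544252651070117606)))))))))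

def threeElt4 : Janko.Tree (ℕ) :=
  (.node (.node (.node (.node (.node (.node (.node (.node (.node (.leaf 1111568228270264330919) (.leaf 1561692746934653363826)) (.leaf 914826870986189154326)) (.node (.leaf 1488751003770861720691) (.leaf 871920181631667699718))) (.node (.node (.leaf 1423034716423553594399) (.leaf 593723831430491935753)) (.node (.leaf 1098542168411053321346) (.leaf 593737590671999240416)))) (.node (.node (.node (.node (.leaf 2288266939909285352549) (.leaf 2030788377105685055148)) (.leaf 1655040601892324668959)) (.node (.leaf 1498318086508466270725) (.leaf 784422750332507743795))) (.node (.node (.leaf 1645929586484514186337) (.leaf 721196455283185755236)) (.node (.leaf 2327573486764701523060) (.leaf 94636159420869235459))))) (.node (.node (.node (.node (.node (.leaf 2298912780163198327902) (.leaf 2113220516392785712399)) (.leaf 2236315982222085867658)) (.node (.leaf 2273039356555046193835)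 (.leaf 1820396319475953116912))) (.node (.node (.leaf 465102960135902471348) (.leaf 2504169335691141203553)) (.node (.leaf 1145778380332003604638) (.leaf 316282575310072704045)))) (.node (.node (.node (.leaf 2411732295889534167238) (.leaf 1184506551244487505648)) (.node (.leaf 1155409508040278609461) (.leaf 341360128578097053191))) (.node (.node (.leaf 1948349224104307803273) (.leaf 2428977549732611418160)) (.node (.leaf 1719713805402412506684) (.leaf 637213900300691783766)))))) (.node (.node (.node (.node (.node (.node (.leaf 1697410508436167775500) (.leaf 2509839086821607815289)) (.leaf 2342795834038664899162)) (.node (.leaf 1929836254152154727059) (.leaf 521431842844715266828))) (.node (.node (.leaf 1957104220457379075213) (.leaf 1156550984067487929887)) (.node (.leaf 2088451769651677688430) (.leaf 1849524052613150848722)))) (.node (.node (.node (.leaf 379137555673777746648) (.leaf 446765122942699683423))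 (.node (.leaf 214660217513356372656) (.leaf 572358763961052087549))) (.node (.node (.leaf 2234529290818881348297) (.leaf 1199400318551274570411)) (.node (.leaf 954500933337693360727) (.leaf 932012767749549720265))))) (.node (.node (.node (.node (.node (.leaf 41469779653678690420) (.leaf 1919601755088337108658)) (.leaf 1975611539868930555033)) (.node (.leaf 1348455784831366593062) (.leaf 1365529454389649085698))) (.node (.node (.leaf 1919242000464654943496) (.leaf 767601310634189123668)) (.node (.leaf 1642340456104614961739) (.leaf 2334636003595061903962)))) (.node (.node (.node (.leaf 556615012947006670422) (.leaf 241506846844295844586)) (.node (.leaf 1653478422172300001891) (.leaf 1946680525050809820266))) (.node (.node (.leaf 114706162679866027779) (.leaf 1698367268663051751576)) (.node (.leaf 1589076141210341300984) (.leaf 1938951776948448220689))))))) (.node (.node (.node (.node (.node (.node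 (.node (.leaf 1183980351373329862734) (.leaf 804765007198487581424)) (.leaf 1625711055085747912786)) (.node (.leaf 234638179086851901703) (.leaf 656291394406780342376))) (.node (.node (.leaf 1911495091677197557515) (.leaf 1671236853560143808680)) (.node (.leaf 77215522343928520954) (.leaf 779628799179930469606)))) (.node (.node (.node (.leaf 277856094037532319948) (.leaf 923079601506708738262)) (.node (.leaf 1449625166397570568775) (.leaf 685417299841937424545))) (.node (.node (.leaf 1359602758299346568931) (.leaf 1738145749965290204397)) (.node (.leaf 2429516956957538863150) (.leaf 2079980428710137077444))))) (.node (.node (.node (.node (.node (.leaf 1836594436586567220498) (.leaf 452041289489415956239)) (.leaf 2159841424846692594289)) (.node (.leaf 952909575708303525545) (.leaf 1885502182045188978176))) (.node (.node (.leaf 121238744624945266261) (.leaf 1534525786608023146203)) (.node (.leaf 1180850968396147068072)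 (.leaf 2501412636491061740044)))) (.node (.node (.node (.leaf 1147612376879831465647) (.leaf 4818438076242332402)) (.node (.leaf 1202719815352005762562) (.leaf 1947435681922152454902))) (.node (.node (.leaf 1129042901115276235992) (.leaf 1110173982939477239555)) (.node (.leaf 2068382315725558679088) (.leaf 2206141868378407052987)))))) (.node (.node (.node (.node (.node (.node (.leaf 93608802884175331861) (.leaf 378970943533299385065)) (.leaf 122650582971855279755)) (.node (.leaf 399006725121055967253) (.leaf 2190810273286980220457))) (.node (.node (.leaf 2485916769606022044683) (.leaf 1700577879341027570182)) (.node (.leaf 1846088368268804620342) (.leaf 429054736329140473993)))) (.node (.node (.node (.leaf 115563006252260394005) (.leaf 972348954093940901022)) (.node (.leaf 106308083570166853686) (.leaf 834669975999333351591))) (.node (.node (.leaf 585635162567055901904) (.leaf 1542466905891739642989))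 (.node (.leaf 1404839937118999485481) (.leaf 1904721723785218473582))))) (.node (.node (.node (.node (.node (.leaf 832644148682098795045) (.leaf 647154545241732738187)) (.leaf 1009479993373373877391)) (.node (.leaf 1036391653239956478568) (.leaf 1285209712852050448410))) (.node (.node (.leaf 695777268644611461377) (.leaf 1928050324239175939846)) (.node (.leaf 1790006526591717674023) (.leaf 2503697093369093018767)))) (.node (.node (.node (.leaf 1119852173082574834759) (.leaf 813574829586044741778)) (.node (.leaf 2068815538369921095811) (.leaf 2002880633314989350938))) (.node (.node (.leaf 1955432245777666698493) (.leaf 1512712219871373964311)) (.node (.leaf 426095210413561266176) (.leaf 2409758649837701156402)))))))) (.node (.node (.node (.node (.node (.node (.node (.node (.leaf 656233793030667481857) (.leaf 1670439793381614927994)) (.leaf 2150456939097924615902)) (.node (.leaf 2500417109258312676412)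 (.leaf 235395808298964113161))) (.node (.node (.leaf 1597651527547817040519) (.leaf 757568347070898175629)) (.node (.leaf 844122452362820860124) (.leaf 1498498940523922858672)))) (.node (.node (.node (.leaf 1199941030796632820292) (.leaf 1212971276038769252548)) (.node (.leaf 157724645317476467470) (.leaf 490748881806829029036))) (.node (.node (.leaf 556522592805180447348) (.leaf 471893150942073542378)) (.node (.leaf 1046462927149089752138) (.leaf 794296673330750073019))))) (.node (.node (.node (.node (.node (.leaf 235041008469247527526) (.leaf 705936360687523159567)) (.leaf 2189820860221875859605)) (.node (.leaf 2195726454393883985984) (.leaf 2033328978610331336971))) (.node (.node (.leaf 2453458972435869135592) (.leaf 50697978096692827860)) (.node (.leaf 2326835111238687370801) (.leaf 159039955136979987470)))) (.node (.node (.node (.leaf 2218206763822819157667) (.leaf 1365172253033628013185)) (.node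 (.leaf 2162540518771036806244) (.leaf 2098450394119949131302))) (.node (.node (.leaf 1164692063038549059176) (.leaf 1441175352400128559818)) (.node (.leaf 58659957857718407343) (.leaf 28432048155087342774)))))) (.node (.node (.node (.node (.node (.node (.leaf 674009371086442772740) (.leaf 1642142341952186736679)) (.leaf 834681085240500857448)) (.node (.leaf 410786141153207654981) (.leaf 741948233863121869024))) (.node (.node (.leaf 95355494271245925412) (.leaf 573597102049163268729)) (.node (.leaf 835044544015780366032) (.leaf 1697534645897845402838)))) (.node (.node (.node (.leaf 2180396731454260789813) (.leaf 1312174259910948266250)) (.node (.leaf 1928084872728229715721) (.leaf 2509515645875727653377))) (.node (.node (.leaf 2235575988722184357567) (.leaf 2113289159511007089196)) (.node (.leaf 296434706327995234486) (.leaf 2335387196591102290465))))) (.node (.node (.node (.node (.node (.leaf 1918686149962360253090)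 (.leaf 1479955926104295112758)) (.leaf 2291471284222871238875)) (.node (.leaf 1956059095775383497735) (.leaf 701625832005830988321))) (.node (.node (.leaf 1615010896930678889688) (.leaf 629176340957635075809)) (.node (.leaf 214142969726243994202) (.leaf 1801189590711336040713)))) (.node (.node (.node (.leaf 848756952228568795329) (.leaf 1126769713884885271224)) (.node (.leaf 1532258477488128931942) (.leaf 924540776342338757244))) (.node (.node (.leaf 1496276513676417925791) (.leaf 1828012935826411185258)) (.node (.leaf 519362894128811392610) (.leaf 2447967080707562809070))))))) (.node (.node (.node (.node (.node (.node (.node (.leaf 1540381698190979108100) (.leaf 1736902824325950251189)) (.leaf 1985231582215224467693)) (.node (.leaf 2015168488273313049650) (.leaf 907194322402699691713))) (.node (.node (.leaf 1591145216410080343682) (.leaf 2537210769298874499266)) (.node (.leaf 1071268359577218059451)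 (.leaf 474597883213609044749)))) (.node (.node (.node (.leaf 2031484355740363685002) (.leaf 453196007792674930875)) (.node (.leaf 2428097318368225665250) (.leaf 465118826917453461188))) (.node (.node (.leaf 47545803844123471392) (.leaf 981249396259070457050)) (.node (.leaf 324152111614531585240) (.leaf 2262609104079529506573))))) (.node (.node (.node (.node (.node (.leaf 953039551731046888502) (.leaf 1282684679249864736310)) (.leaf 2032390421415120947425)) (.node (.leaf 1314152423459053373017) (.leaf 1819081064240559428264))) (.node (.node (.leaf 1457402705984341769250) (.leaf 2475743950065470363297)) (.node (.leaf 95063640309154768451) (.leaf 1116411775249496244871)))) (.node (.node (.node (.leaf 2050533503923056587025) (.leaf 424314955740702595318)) (.node (.leaf 1720220708640350089980) (.leaf 619322086453593046607))) (.node (.node (.leaf 281170576094174701614) (.leaf 1669923945192288554008)) (.node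 (.leaf 768206582425353195775) (.leaf 673578322282478180626)))))) (.node (.node (.node (.node (.node (.node (.leaf 899356827383175688963) (.leaf 1802128202346247490149)) (.leaf 1056297736407494018587)) (.node (.leaf 278687822797946780818) (.leaf 2289527286291375871490))) (.node (.node (.leaf 253359613785388732490) (.leaf 1145558684252096493258)) (.node (.leaf 223261004564242129011) (.leaf 871324208881193814100)))) (.node (.node (.node (.leaf 189249859495405388893) (.leaf 877087082023325139043)) (.node (.leaf 225635630810606929419) (.leaf 2261803259090976462397))) (.node (.node (.leaf 2347404242606994326091) (.leaf 2458125875028301802705)) (.node (.leaf 1230301942256799193743) (.leaf 1513143407275815840847))))) (.node (.node (.node (.node (.node (.leaf 648904427896695531241) (.leaf 1090141960713978567364)) (.leaf 2187438150779280321217)) (.node (.leaf 364472395761383119983) (.leaf 1405274418563581740301)))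 (.node (.node (.leaf 870478858509908564019) (.leaf 334625479438720672909)) (.node (.leaf 914796384957589899382) (.leaf 517255912784920318036)))) (.node (.node (.node (.leaf 96991532925707120713) (.leaf 491614598620486159961)) (.node (.leaf 2446450720221961234623) (.leaf 101769149027204309631))) (.node (.node (.leaf 2122191298426770676821) (.leaf 1102088654609887287432)) (.node (.leaf 50139188817227201557) (.leaf 905428208013179662453)))))))))

def threeElt5 : Janko.Tree (ℕ) :=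
  (.node (.node (.node (.node (.node (.node (.node (.node (.node (.leaf 2003887329428435200255) (.leaf 1634689406178481737256)) (.leaf 41776418398432739468)) (.node (.leaf 1368919954281048605400) (.leaf 627645788539068221074))) (.node (.node (.leaf 65236134847400124988) (.leaf 565891417719716281602)) (.node (.leaf 1864888515995145184956) (.leaf 1562630184791964782314)))) (.node (.node (.node (.node (.leaf 1939233648604991220458) (.leaf 204220061949612835011)) (.leaf 1920090459015767153309)) (.node (.leaf 2190590705479672732696) (.leaf 1025150662374288347744))) (.node (.node (.leaf 628632285899873429635) (.leaf 696444427993278869608)) (.node (.leaf 1664013075601785417768) (.leaf 333792561062448019642))))) (.node (.node (.node (.node (.node (.leaf 583457560599897367315) (.leaf 243418592650477762216)) (.leaf 1237506324539314037923)) (.node (.leaf 1236911774410444973273) (.leaf 1579979685873827293230)))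 (.node (.node (.leaf 1994452106521026280979) (.leaf 2269313583048721978610)) (.node (.leaf 2435858732882154848944) (.leaf 1212987328014998580861)))) (.node (.node (.node (.leaf 1616381748110926136971) (.leaf 2270122294806594264826)) (.node (.leaf 1939846490318169193633) (.leaf 1628203171013119753428))) (.node (.node (.leaf 285929814187225402103) (.leaf 693933208724853791343)) (.node (.leaf 1534651682244204298387) (.leaf 926561127152119277062)))))) (.node (.node (.node (.node (.node (.node (.leaf 454525104994179912711) (.leaf 188511224967235247707)) (.leaf 2298393612546026040423)) (.node (.leaf 1219576789442647896696) (.leaf 359730092493715097317))) (.node (.node (.leaf 1858263252691178587266) (.leaf 1725427682092028806727)) (.node (.leaf 102203720752554868892) (.leaf 960477468477422614799)))) (.node (.node (.node (.leaf 833390126657522670166) (.leaf 785399521967502069766)) (.node (.leaf 916347005471880644142)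 (.leaf 1155286854222211975418))) (.node (.node (.leaf 1319736675394247553191) (.leaf 887444339501829845519)) (.node (.leaf 2087564561328942373112) (.leaf 234391848810216028261))))) (.node (.node (.node (.node (.node (.leaf 223673284176691166904) (.leaf 1883790882384016183528)) (.leaf 240825082355888236102)) (.node (.leaf 2509828594656656353871) (.leaf 21445971159226394339))) (.node (.node (.leaf 868409324285917453526) (.leaf 1672735573717690928141)) (.node (.leaf 2425892913842300233793) (.leaf 1811492907601551462108)))) (.node (.node (.node (.leaf 1637330620828129197667) (.leaf 1996465743685336749161)) (.node (.leaf 1672375519000742454420) (.leaf 2003530655512172514378))) (.node (.node (.leaf 1138007420233285414060) (.leaf 2436092223261395160184)) (.node (.leaf 1692028183563093254825) (.leaf 1881738593532276456066))))))) (.node (.node (.node (.node (.node (.node (.node (.leaf 1992879443108320529506)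 (.leaf 1883388382358131771485)) (.leaf 941239414474701069942)) (.node (.leaf 1488826568668757206631) (.leaf 176744732760320250438))) (.node (.node (.leaf 131546603885898860550) (.leaf 409993465215479468554)) (.node (.leaf 1439051345363912405145) (.leaf 427360865762952388328)))) (.node (.node (.node (.leaf 1146995794668367119377) (.leaf 1292036726646095055439)) (.node (.leaf 1975501101198678477972) (.leaf 419701118626834228897))) (.node (.node (.leaf 2353761957966740500504) (.leaf 1586962481835706223184)) (.node (.leaf 2520720704276715597058) (.leaf 927189064649440090309))))) (.node (.node (.node (.node (.node (.leaf 1903096936782432959583) (.leaf 1116682672985292151455)) (.leaf 2631942708510332937)) (.node (.leaf 1840067833565023951533) (.leaf 371410631275097213460))) (.node (.node (.leaf 556899174799563300004) (.leaf 389116475139724756737)) (.node (.leaf 1222156653697021328447) (.leaf 2095529984319150734939))))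 (.node (.node (.node (.leaf 1626237940233230369903) (.leaf 877828912454763314718)) (.node (.leaf 889037427929484682245) (.leaf 2004950349119206789756))) (.node (.node (.leaf 1111490228859266744549) (.leaf 2021594451845647995442)) (.node (.leaf 1174760028987151921401) (.leaf 1766025210510254653021)))))) (.node (.node (.node (.node (.node (.node (.leaf 2097440951048492678237) (.leaf 933277758646384975626)) (.leaf 553818321826315350019)) (.node (.leaf 252062785746324160557) (.leaf 2058295127907337064490))) (.node (.node (.leaf 639768424084335784193) (.leaf 599681952802708735212)) (.node (.leaf 1320910878929201665572) (.leaf 1322443505558679511555)))) (.node (.node (.node (.leaf 1042477284268201306118) (.leaf 1072346905784093299309)) (.node (.leaf 2398965558865414201866) (.leaf 179119117608133344803))) (.node (.node (.leaf 86546981773123365090) (.leaf 1350564624995634944137)) (.node (.leaf 186689351245281402614)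 (.leaf 28378664774573555387))))) (.node (.node (.node (.node (.node (.leaf 942228916003204522700) (.leaf 1044915731539044630738)) (.leaf 84169260802057293450)) (.node (.leaf 1801663810429403598578) (.leaf 1157377049048602932999))) (.node (.node (.leaf 465876356556043115099) (.leaf 924452670586098810899)) (.node (.leaf 980167204946905940581) (.leaf 1974294004018375932038)))) (.node (.node (.node (.leaf 851438527925391200916) (.leaf 354546658782692052745)) (.node (.leaf 1173441749249719585827) (.leaf 1026968611261412585154))) (.node (.node (.leaf 1855490278138340797636) (.leaf 600245563836449815235)) (.node (.leaf 1165071776769611962942) (.leaf 852755609244252818073)))))))) (.node (.node (.node (.node (.node (.node (.node (.node (.leaf 1753743182718923702875) (.leaf 1093140283214687238902)) (.leaf 28175085756659407102)) (.node (.leaf 121801168244365374185) (.leaf 1689937878009902019199))) (.node (.node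 (.leaf 1014974458510721175282) (.leaf 1633439615282571648774)) (.node (.leaf 1106827975523183379523) (.leaf 2521986284786071488115)))) (.node (.node (.node (.leaf 2375022074970113185974) (.leaf 280237102634310043255)) (.node (.leaf 2436851745269135219716) (.leaf 2289761253446583656178))) (.node (.node (.leaf 1580966698765705822455) (.leaf 889192377975954875132)) (.node (.leaf 574126916967855676098) (.leaf 1264437848513031731342))))) (.node (.node (.node (.node (.node (.leaf 2356159054000629764271) (.leaf 1146023996140861804712)) (.leaf 1301977925711396158476)) (.node (.leaf 1045723817476569217664) (.leaf 212715040369408855137))) (.node (.node (.leaf 194472655160290957831) (.leaf 306755166963620169895)) (.node (.leaf 2307285185722402001042) (.leaf 814113218056947290160)))) (.node (.node (.node (.leaf 629531737542787073601) (.leaf 2213953233077381399074)) (.node (.leaf 850054263856284581104) (.leaf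 2381836339281700904034))) (.node (.node (.leaf 2143503381774327151858) (.leaf 1366632824755566946338)) (.node (.leaf 175500053033484161597) (.leaf 295243293746072959149)))))) (.node (.node (.node (.node (.node (.node (.leaf 667619601410791440918) (.leaf 2458163316282378956484)) (.leaf 2180140577807000964850)) (.node (.leaf 861222375645423110919) (.leaf 1865868172823436208361))) (.node (.node (.leaf 490827445675322066994) (.leaf 1948783416365022012507)) (.node (.leaf 2216425534654474153655) (.leaf 204738932062427093684)))) (.node (.node (.node (.leaf 242312701707420300449) (.leaf 562973285132435571872)) (.node (.leaf 290361880830502095598) (.leaf 326680891379661018312))) (.node (.node (.leaf 1864636198632620581902) (.leaf 2465724578199236338781)) (.node (.leaf 1985691758489314333381) (.leaf 1477007749234556503797))))) (.node (.node (.node (.node (.node (.leaf 2089189134630388069384) (.leaf 2163105408472674492576))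 (.leaf 1229666618552234865676)) (.node (.leaf 1469442979605704664658) (.leaf 354777507094117004538))) (.node (.node (.leaf 545912099512190020325) (.leaf 890111275243515488368)) (.node (.leaf 1441733628960303255792) (.leaf 354944907464931852809)))) (.node (.node (.node (.leaf 2419520391824683673718) (.leaf 1726865324166363520015)) (.node (.leaf 618723551981636726381) (.leaf 1865933418675595686427))) (.node (.node (.leaf 1515502616688065818208) (.leaf 342889827293465533192)) (.node (.leaf 1854618999806985252390) (.leaf 406496923712879912007))))))) (.node (.node (.node (.node (.node (.node (.node (.leaf 1348205621826092666880) (.leaf 2390134039280222797498)) (.leaf 961398929202627265759)) (.node (.leaf 970781723968375932569) (.leaf 58281898090709930137))) (.node (.node (.leaf 1692728285834455595757) (.leaf 1762895560121851119796)) (.node (.leaf 370918408080863104684) (.leaf 885504982056478793285))))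 (.node (.node (.node (.leaf 868097679379576191542) (.leaf 849562816371754667555)) (.node (.leaf 888398721087461714491) (.leaf 767958875040904968723))) (.node (.node (.leaf 592659514085055404251) (.leaf 1162944027053464819236)) (.node (.leaf 390878360478583625302) (.leaf 1128515760900542375015))))) (.node (.node (.node (.node (.node (.leaf 1312499570301755237441) (.leaf 1406817072666225019567)) (.leaf 2504494932077194781217)) (.node (.leaf 1081426135471630184151) (.leaf 1127545741833282018318))) (.node (.node (.leaf 41651335764844878869) (.leaf 646974437892696343155)) (.node (.leaf 1932500410709883288664) (.leaf 1579546512383609686222)))) (.node (.node (.node (.leaf 1725438758491143617595) (.leaf 978853653812098953339)) (.node (.leaf 1682407217544606859809) (.leaf 2161319623874259512909))) (.node (.node (.leaf 1690725308798953677567) (.leaf 1789714149680352350863)) (.node (.leaf 1716761307175058010652)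 (.leaf 2075299847159875990623)))))) (.node (.node (.node (.node (.node (.node (.leaf 2232057059212206835250) (.leaf 1174690688000718933777)) (.leaf 1645890807737657864368)) (.node (.leaf 897875705978161297647) (.leaf 2260743510120110886128))) (.node (.node (.leaf 2418207296756986953953) (.leaf 833741008590360326)) (.node (.leaf 733604116423876407934) (.leaf 1882112101348705890993)))) (.node (.node (.node (.leaf 305164553634674390727) (.leaf 2116700673700843272370)) (.node (.leaf 193771426515733210733) (.leaf 741438566339799474278))) (.node (.node (.leaf 1661109692761801619680) (.leaf 1478897859995835306058)) (.node (.leaf 1314188336668963260620) (.leaf 342616876344572247738))))) (.node (.node (.node (.node (.node (.leaf 1247336987566774687235) (.leaf 372182803743128422089)) (.leaf 1900058447172845509226)) (.node (.leaf 112051403241797753381) (.leaf 2180161652827932855045))) (.node (.node (.leaf 1830737261657545071299)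 (.leaf 1513232781307437246977)) (.node (.leaf 1051578486057572263145) (.leaf 30107882873806674528)))) (.node (.node (.node (.leaf 2445906974435568078382) (.leaf 74696175951580002567)) (.node (.leaf 123165474785939277326) (.leaf 334313050676062387935))) (.node (.node (.leaf 85480365024467241676) (.leaf 2233704190213139596023)) (.node (.leaf 1496713363392691051041) (.leaf 353118807718591203381)))))))))

def threeElt6 : Janko.Tree (ℕ) :=
  (.node (.node (.node (.node (.node (.node (.node (.node (.node (.leaf 618565510596209475717) (.leaf 969955770127107876070)) (.leaf 371393397476299253446)) (.node (.leaf 831535115037630626021) (.leaf 925242806822141474409))) (.node (.node (.leaf 1422886301366395936427) (.leaf 398790065319062674599)) (.node (.leaf 2388931537664441631876) (.leaf 10706014140553506942)))) (.node (.node (.node (.node (.leaf 2391726235632664639629) (.leaf 1941561122984706818216)) (.leaf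 1358291643268261538003)) (.node (.leaf 942429077125663627402) (.leaf 582443549140748439634))) (.node (.node (.leaf 2520270453729846989512) (.leaf 83696908628538040438)) (.node (.leaf 2186427399558644664398) (.leaf 1941106519604578256920))))) (.node (.node (.node (.node (.node (.leaf 1580427192863325971135) (.leaf 392142705401887237699)) (.leaf 1118558635741361812031)) (.node (.leaf 307651736229644103747) (.leaf 363068709621778985588))) (.node (.node (.leaf 399975524996590386287) (.leaf 1136390287047195468043)) (.node (.leaf 880313378635271239782) (.leaf 1736107435598056307397)))) (.node (.node (.node (.leaf 1228266276828360486922) (.leaf 2538451435388383140111)) (.node (.leaf 206864452611345485320) (.leaf 945222004562303264457))) (.node (.node (.leaf 1449192425468985877127) (.leaf 1016698294338408484602)) (.node (.leaf 471010285496689508070) (.leaf 813375263213796792518)))))) (.node (.node (.node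 (.node (.node (.node (.leaf 123764244760978375179) (.leaf 2131357204923306845362)) (.leaf 1577886623301811884258)) (.node (.leaf 742321327576807380187) (.leaf 2455259506712272258154))) (.node (.node (.leaf 1468701708408230524580) (.leaf 862066313222348362805)) (.node (.leaf 278414466306762737399) (.leaf 1421308568176982250638)))) (.node (.node (.node (.leaf 940934202704678365962) (.leaf 456485504017585012488)) (.node (.leaf 2178847629533466605608) (.leaf 1940516335278696214662))) (.node (.node (.leaf 225367273897740501664) (.leaf 1153326373117854518786)) (.node (.leaf 1783660663279706187905) (.leaf 1718556244779175287877))))) (.node (.node (.node (.node (.node (.leaf 694131444608545070147) (.leaf 1688516137053477468756)) (.leaf 2389563953598167645792)) (.node (.leaf 2444197362158330733187) (.leaf 1182091929315498639384))) (.node (.node (.leaf 2537783852139777177676) (.leaf 1736846346507164582015))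 (.node (.leaf 222934166368470012510) (.leaf 1248279497402522093287)))) (.node (.node (.node (.leaf 1126914838687954609764) (.leaf 1507895790749862901340)) (.node (.leaf 1116610997417437891674) (.leaf 131327013400811484186))) (.node (.node (.leaf 472249465218997470869) (.leaf 879939864302120357595)) (.node (.leaf 795481831180445717677) (.leaf 2383269923773131838701))))))) (.node (.node (.node (.node (.node (.node (.node (.leaf 2112430194148660293741) (.leaf 1542742293517497348282)) (.leaf 720941556652886207721)) (.node (.leaf 2519643709757739786369) (.leaf 1411286016854494094451))) (.node (.node (.leaf 2204985713614983891720) (.leaf 2269786665539634771032)) (.node (.leaf 1451818244467336494090) (.leaf 2382301196449424988265)))) (.node (.node (.node (.leaf 1071663841309363935276) (.leaf 1790452908998271497220)) (.node (.leaf 1405339824443926825586) (.leaf 843421437703069433094))) (.node (.node (.leaf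 260640918662931394724) (.leaf 1376516856693350568482)) (.node (.leaf 1912752477287913672931) (.leaf 668555641083065379022))))) (.node (.node (.node (.node (.node (.leaf 2217160139868757130334) (.leaf 2059828401681025002059)) (.leaf 904901316736599329529)) (.node (.leaf 133618776842629410060) (.leaf 2218029339211369557095))) (.node (.node (.leaf 2069281698382202930753) (.leaf 2152528984776002070271)) (.node (.leaf 2158742900927768896728) (.leaf 1190450567650155252892)))) (.node (.node (.node (.leaf 720234245303195447968) (.leaf 1865360257896856444017)) (.node (.leaf 1156638988487746943194) (.leaf 1303022942660693125722))) (.node (.node (.leaf 2269347847672889084447) (.leaf 1549638398547101336280)) (.node (.leaf 1135917573244213381822) (.leaf 2427424227668064085770)))))) (.node (.node (.node (.node (.node (.node (.leaf 1699306238960552208606) (.leaf 1245574852364809542931)) (.leaf 2069553604709869538039))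 (.node (.leaf 336660308458382083193) (.leaf 2015135491923062858943))) (.node (.node (.leaf 840228155553834880542) (.leaf 871483199448547594266)) (.node (.leaf 1378283293668593994952) (.leaf 1065612861879450160325)))) (.node (.node (.node (.leaf 452651562089908807191) (.leaf 1249912051855419865204)) (.node (.leaf 4095393508665882377) (.leaf 1808611240381735796255))) (.node (.node (.leaf 1218374331912480108603) (.leaf 1037597137925460518436)) (.node (.leaf 1766438514589082678408) (.leaf 2281258677230047993424))))) (.node (.node (.node (.node (.node (.leaf 683150588101233850385) (.leaf 1227923231893277213223)) (.leaf 2419720588449950605377)) (.node (.leaf 558292712533693591824) (.leaf 48088454024510112513))) (.node (.node (.leaf 1736679118027758834328) (.leaf 1478772467456318232790)) (.node (.leaf 851491869186466061546) (.leaf 14124958613664965217)))) (.node (.node (.node (.leaf 1683609334215153652826)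 (.leaf 2179354385289707863653)) (.node (.leaf 2097636400856587142298) (.leaf 584426932398035663047))) (.node (.node (.leaf 1469634480872037921329) (.leaf 566628693808665427569)) (.node (.leaf 1855131607249784501885) (.leaf 2309379123561661262022)))))))) (.node (.node (.node (.node (.node (.node (.node (.node (.leaf 2493792557951846838424) (.leaf 132771226061608390878)) (.leaf 361899814036273983747)) (.node (.leaf 362926552567025348099) (.leaf 2133032717431714741892))) (.node (.node (.leaf 1701324426098649958556) (.leaf 1798962344224577574502)) (.node (.leaf 2024393271183444028115) (.leaf 1171571865350221204046)))) (.node (.node (.node (.leaf 1781775920505382003929) (.leaf 56735835331526660722)) (.node (.leaf 21963334319724404947) (.leaf 2051486933159245528693))) (.node (.node (.leaf 2519322224739103898701) (.leaf 581494798614324856037)) (.node (.leaf 1950082793012923055796) (.leaf 30248230527358057732)))))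 (.node (.node (.node (.node (.node (.leaf 1448128521204397624379) (.leaf 2503661141879461110016)) (.leaf 738705573905281409147)) (.node (.leaf 576389726700018711806) (.leaf 1256529528397497400933))) (.node (.node (.leaf 1830970905276134267546) (.leaf 2399395557445577772144)) (.node (.leaf 1402572195840530965517) (.leaf 1978004442274882774265)))) (.node (.node (.node (.leaf 2522250555616317511774) (.leaf 1061949427174972940898)) (.node (.leaf 979806936791362920516) (.leaf 1956603149320328395012))) (.node (.node (.leaf 546564008078028702992) (.leaf 1182917420240270335245)) (.node (.leaf 1025964856527038712989) (.leaf 821607912548242866385)))))) (.node (.node (.node (.node (.node (.node (.leaf 1037706739390111920268) (.leaf 756501761569188842255)) (.leaf 175450823855669036774)) (.node (.leaf 518567788349724604085) (.leaf 1359355022132645564042))) (.node (.node (.leaf 907211249115418364057) (.leaf 825582449642536738399))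 (.node (.leaf 309254843884695234134) (.leaf 954337923400342302957)))) (.node (.node (.node (.leaf 2334836731609132430080) (.leaf 1203332936957444257504)) (.node (.leaf 655657866252489672265) (.leaf 388757247533047955728))) (.node (.node (.leaf 1318965298259365572867) (.leaf 2463207260122159562889)) (.node (.leaf 113226490782586613792) (.leaf 1079953777588606609491))))) (.node (.node (.node (.node (.node (.leaf 2382789657036033164333) (.leaf 768567957943090742377)) (.leaf 777095711439053524655)) (.node (.leaf 1412946417536712689352) (.leaf 2131883029775747945732))) (.node (.node (.leaf 1612118936377134623) (.leaf 1856463846543221989030)) (.node (.leaf 981390460291390671448) (.leaf 1992994093281795444991)))) (.node (.node (.node (.leaf 2482013838746784469719) (.leaf 2003585538712204546176)) (.node (.leaf 1766174888925201300063) (.leaf 334067495845091609676))) (.node (.node (.leaf 600060636279716780669)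 (.leaf 493098954910027620577)) (.node (.leaf 334473982093588211894) (.leaf 839695169692727511651))))))) (.node (.node (.node (.node (.node (.node (.node (.leaf 950643959300282767484) (.leaf 1551300408288121787625)) (.leaf 297725984133136636594)) (.node (.leaf 1912487760092338365630) (.leaf 1478425513165631377513))) (.node (.node (.leaf 794454023472918301919) (.leaf 1534707799828560411868)) (.node (.leaf 2371169353858057778447) (.leaf 667848374770928815814)))) (.node (.node (.node (.leaf 2536933760746956367030) (.leaf 1683558916783872183311)) (.node (.leaf 369080831274335457006) (.leaf 2475252080706276357693))) (.node (.node (.leaf 1562641632779892451857) (.leaf 20706570218320168686)) (.node (.leaf 289172237883695039242) (.leaf 861576660360497483352))))) (.node (.node (.node (.node (.node (.leaf 132609063411246170199) (.leaf 1423968151123104136827)) (.leaf 2151103139348527555317)) (.node (.leaf 2058370044852390923276)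 (.leaf 2272053980004938480858))) (.node (.node (.leaf 373190058575341855833) (.leaf 1562048345758391651089)) (.node (.leaf 212517697209792828476) (.leaf 1690551709390888069244)))) (.node (.node (.node (.leaf 1636217242113946247375) (.leaf 2380736650155689897011)) (.node (.leaf 1506098898568597001385) (.leaf 2407303908709556111586))) (.node (.node (.leaf 2130676983192099797125) (.leaf 851059559859469208698)) (.node (.leaf 1654786472113975361166) (.leaf 2380899548704601558284)))))) (.node (.node (.node (.node (.node (.node (.leaf 1238174206436067569368) (.leaf 1071541013560031820896)) (.leaf 776156180286102680654)) (.node (.leaf 2355265352243359327993) (.leaf 1931311114338935802586))) (.node (.node (.leaf 815844664912977185452) (.leaf 905967927885806488333)) (.node (.leaf 288178282680510071010) (.leaf 1284107422842944258140)))) (.node (.node (.node (.leaf 1765599794818465437760) (.leaf 685470949217144271942))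 (.node (.leaf 378631913647074206849) (.leaf 1171986724531137285295))) (.node (.node (.leaf 1024574023725638037757) (.leaf 48516588024614728229)) (.node (.leaf 1201187884324928654920) (.leaf 1276862512283426818739))))) (.node (.node (.node (.node (.node (.leaf 1256505319371042062459) (.leaf 2457370961682430824558)) (.leaf 1692201107612197262005)) (.node (.leaf 1137254048729118812876) (.leaf 415305893383944843342))) (.node (.node (.leaf 316009612474015916628) (.leaf 1194302413972401398482)) (.node (.leaf 1645346935953898156613) (.leaf 454220333296277883549)))) (.node (.node (.node (.leaf 124740531057682649715) (.leaf 656830197626163024583)) (.node (.leaf 405889565498685534328) (.leaf 1046388128872442220799))) (.node (.node (.leaf 1864097703734298122340) (.leaf 1442724237323076910214)) (.node (.leaf 419924126724138078969) (.leaf 2132623777584072211597)))))))))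

def threeElt7 : Janko.Tree (ℕ) :=
  (.node (.node (.node (.node (.node (.node (.node (.node (.node (.leaf 1100144642064999581802) (.leaf 387511498834662147075)) (.leaf 2051789714521263030420)) (.node (.leaf 2179082196852991874079) (.leaf 2205636063483469109327))) (.node (.node (.leaf 757455186101936172033) (.leaf 1201172544296757758213)) (.node (.leaf 462760009137904814160) (.leaf 1485780061115056526859)))) (.node (.node (.node (.node (.leaf 2012612654806952344780) (.leaf 1826792237176127527078)) (.leaf 2121718877934935207641)) (.node (.leaf 547679026858505411616) (.leaf 2529295280768026749552))) (.node (.node (.leaf 40265951869481366228) (.leaf 1560282135653588013638)) (.node (.leaf 1301146018672772784715) (.leaf 407919988883295969835))))) (.node (.node (.node (.node (.node (.leaf 1820609007504969807986) (.leaf 1213042782619894110728)) (.leaf 1082184425276092550361)) (.node (.leaf 1309868026863237603447)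 (.leaf 1808687095633358175784))) (.node (.node (.leaf 2485094873877723525732) (.leaf 40393383964698071719)) (.node (.leaf 2475183637832546776142) (.leaf 1037961395538820203602)))) (.node (.node (.node (.leaf 923749486248229701719) (.leaf 768446326887367692525)) (.node (.leaf 703985247679592348743) (.leaf 1006902783191340344479))) (.node (.node (.leaf 122142901071193908424) (.leaf 391402642191864852512)) (.node (.leaf 886118736937239214718) (.leaf 1165357257949136557635)))))) (.node (.node (.node (.node (.node (.node (.leaf 793967164669274205444) (.leaf 1588640874251388737731)) (.leaf 1818540807030707446977)) (.node (.leaf 675743220518441764094) (.leaf 2066041856636602633953))) (.node (.node (.leaf 2447389285027520981622) (.leaf 1836736190456292469901)) (.node (.leaf 1192489146342333265653) (.leaf 757099723610701458655)))) (.node (.node (.node (.leaf 686440592435796905594) (.leaf 2095003135160770431583))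 (.node (.leaf 719767344993552893543) (.leaf 203083469704343673469))) (.node (.node (.leaf 630382915039743526934) (.leaf 1827533197301854001232)) (.node (.leaf 446452861249013773849) (.leaf 1653614338354381887183))))) (.node (.node (.node (.node (.node (.leaf 1018666182551882756184) (.leaf 1506567629691407132882)) (.leaf 2141427427945660084296)) (.node (.leaf 796385644598470431389) (.leaf 648681047089909404801))) (.node (.node (.leaf 1761828132932868251290) (.leaf 851944088506724042509)) (.node (.leaf 694294601497879098020) (.leaf 1720453107471230296127)))) (.node (.node (.node (.leaf 638148187829492363880) (.leaf 342400241428522938464)) (.node (.leaf 1092308507702673076972) (.leaf 2199890903763764514854))) (.node (.node (.leaf 832290375061965162612) (.leaf 2472879743004592945320)) (.node (.leaf 927257145490318649525) (.leaf 1277528760278102672632))))))) (.node (.node (.node (.node (.node (.node (.node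 (.leaf 289156332926181953222) (.leaf 2278732377683451194888)) (.leaf 1007445707066135663685)) (.node (.leaf 13856882549246522108) (.leaf 895090258912242355828))) (.node (.node (.leaf 445280931788991273196) (.leaf 704800409942984089660)) (.node (.leaf 1265966928016370917429) (.leaf 1955630899020534658221)))) (.node (.node (.node (.leaf 2282540867778909572733) (.leaf 252184138301825739998)) (.node (.leaf 887541174782885399562) (.leaf 878711784372370672393))) (.node (.node (.leaf 1311165266743711542320) (.leaf 1070615563721390206738)) (.node (.leaf 417093188354215633944) (.leaf 1783163734251336733297))))) (.node (.node (.node (.node (.node (.leaf 307207574697670088224) (.leaf 1211344152758447848000)) (.leaf 1010251235973874671175)) (.node (.leaf 2205521861802259707911) (.leaf 858139869431650934926))) (.node (.node (.leaf 1171863480471836013629) (.leaf 232733296890590322906)) (.node (.leaf 1163573328828694556758)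 (.leaf 344131103969117825723)))) (.node (.node (.node (.leaf 1008357623522798213637) (.leaf 1904734993603692733520)) (.node (.leaf 714528572031752823401) (.leaf 2447706962988467080724))) (.node (.node (.leaf 674590643296067497183) (.leaf 2346329913382579772459)) (.node (.leaf 2500854155561826013700) (.leaf 952210530552642599475)))))) (.node (.node (.node (.node (.node (.node (.leaf 620133783133347129086) (.leaf 1257016475243934183648)) (.leaf 1173409170034871516806)) (.node (.leaf 1295818928170057945623) (.leaf 1912432700049747904225))) (.node (.node (.leaf 500572228447663817930) (.leaf 1513915839970187959037)) (.node (.leaf 114054262552906450192) (.leaf 1191084489434437321856)))) (.node (.node (.node (.leaf 1781878229717238268430) (.leaf 409655918044501810432)) (.node (.leaf 1147013349518815632909) (.leaf 1866173616318553872467))) (.node (.node (.leaf 742166025214657896078) (.leaf 1459599271294523524841))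 (.node (.leaf 131884056981573297683) (.leaf 2149287086314158419071))))) (.node (.node (.node (.node (.node (.leaf 112110124805089795183) (.leaf 869052554316302058706)) (.leaf 1794296736862042647082)) (.node (.leaf 2068487139940257112084) (.leaf 1855684981849169370833))) (.node (.node (.leaf 1356992382800128395312) (.leaf 1955865802525506861330)) (.node (.leaf 2371549306788968000162) (.leaf 1063447758228095287029)))) (.node (.node (.node (.leaf 1950172547862577088748) (.leaf 2371118012643521948333)) (.node (.leaf 141724588269858993746) (.leaf 1221237435368191896139))) (.node (.node (.leaf 445377205317336122545) (.leaf 1137465798598888039446)) (.node (.leaf 2384556759975243070162) (.leaf 981971381699280960683)))))))) (.node (.node (.node (.node (.node (.node (.node (.node (.leaf 759181822746333652162) (.leaf 1716222570737611674639)) (.leaf 932715166800108085810)) (.node (.leaf 1812579275957928728699)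 (.leaf 2199527102370812607155))) (.node (.node (.leaf 1292516732770477190732) (.leaf 1304085399581848584956)) (.node (.leaf 1553315521052601004555) (.leaf 1653344501459400002057)))) (.node (.node (.node (.leaf 1093100977609674681480) (.leaf 2435555264668715315847)) (.node (.leaf 2159787336094439032025) (.leaf 1535534420366327552262))) (.node (.node (.leaf 9897940705041566855) (.leaf 1580715561772185570059)) (.node (.leaf 1028414017709586003020) (.leaf 2536522460302793345714))))) (.node (.node (.node (.node (.node (.leaf 820921954598652478132) (.leaf 564922019285442631253)) (.leaf 316627206511029931059)) (.node (.leaf 1616832067940540578979) (.leaf 1497935210256925824135))) (.node (.node (.leaf 1283311669581312205022) (.leaf 2142190690296527605347)) (.node (.leaf 1111746571932843741295) (.leaf 425502141810145633476)))) (.node (.node (.node (.leaf 40918478609847470244) (.leaf 101693292414009670313))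 (.node (.leaf 686406436102179704081) (.leaf 1275480618732546520157))) (.node (.node (.leaf 1912468410142899654164) (.leaf 401188684778289503281)) (.node (.leaf 935813920395385645588) (.leaf 1901313611507381663412)))))) (.node (.node (.node (.node (.node (.node (.leaf 2444879164427022486214) (.leaf 1350541122464578846856)) (.leaf 2060564237684111648927)) (.node (.leaf 2005692426399511557342) (.leaf 2354000956981991513361))) (.node (.node (.leaf 1323883431231081990284) (.leaf 712884368644536129542)) (.node (.leaf 862228961653095175779) (.leaf 2370498523787741188749)))) (.node (.node (.node (.leaf 2206970462460226940025) (.leaf 668270679472650706679)) (.node (.leaf 1300557277050058580606) (.leaf 500139738925990002805))) (.node (.node (.leaf 1531908988152258778842) (.leaf 1995283374493777879797)) (.node (.leaf 1904374769609008306752) (.leaf 1108989666188498357959))))) (.node (.node (.node (.node (.node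 (.leaf 546581003302155417767) (.leaf 1802629439454490673666)) (.leaf 1074458813070581787269)) (.node (.leaf 1267176842335284895241) (.leaf 234013026244418084392))) (.node (.node (.leaf 925983334361354539775) (.leaf 1156598272335749076699)) (.node (.leaf 684572302332928302750) (.leaf 185190066454699967106)))) (.node (.node (.node (.leaf 840932074879622659826) (.leaf 573867250417599276676)) (.node (.leaf 2453983201291344584230) (.leaf 2085438674642644111537))) (.node (.node (.leaf 344440619588982472748) (.leaf 960518198663598387373)) (.node (.leaf 2195703610135661077736) (.leaf 1403815809043046092948))))))) (.node (.node (.node (.node (.node (.node (.node (.leaf 1036136101318043702846) (.leaf 2199942353615717268560)) (.leaf 1835721831117568913029)) (.node (.leaf 1780458891112079711502) (.leaf 205133728889024160878))) (.node (.node (.leaf 914760300788005048014) (.leaf 620834027375668537367)) (.node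 (.leaf 2085041094880355547784) (.leaf 1646719508888590361148)))) (.node (.node (.node (.leaf 1053040509756173462745) (.leaf 1950913100268825788595)) (.node (.leaf 306915080046288400111) (.leaf 69234443607141533212))) (.node (.node (.leaf 10773246477900792463) (.leaf 224627671604879552085)) (.node (.leaf 498553549997455457402) (.leaf 2343862222532748367024))))) (.node (.node (.node (.node (.node (.leaf 447233939890011691768) (.leaf 241339474837013119017)) (.leaf 258273454120828417539)) (.node (.leaf 2410294259004326937294) (.leaf 1238748626577997022285))) (.node (.node (.leaf 2050101425011205691149) (.leaf 595112797545994950245)) (.node (.leaf 1800165903467179220704) (.leaf 1553083132731568752398)))) (.node (.node (.node (.leaf 2021636360187034290322) (.leaf 1847365078082148912325)) (.node (.leaf 2114315590380626516130) (.leaf 2402243517259180484860))) (.node (.node (.leaf 1461297788182371084034)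 (.leaf 877397264813720606751)) (.node (.leaf 1923073647370644064991) (.leaf 379495096859244949176)))))) (.node (.node (.node (.node (.node (.node (.leaf 1117148682282001339435) (.leaf 1209488384926947793644)) (.leaf 9610165387495273500)) (.node (.leaf 785087442114267597850) (.leaf 2398139331820327875147))) (.node (.node (.leaf 326368915472065894071) (.leaf 675579777926648931599)) (.node (.leaf 585757850544480562945) (.leaf 2444651976375836928050)))) (.node (.node (.node (.leaf 2389040649049480966151) (.leaf 2079211901763361835144)) (.node (.leaf 879667220461618484837) (.leaf 1587380577038866416640))) (.node (.node (.leaf 1811834722122958696698) (.leaf 546719551092867798803)) (.node (.leaf 724251913629814324424) (.leaf 2476517939577381244173))))) (.node (.node (.node (.node (.node (.leaf 645980337141818613944) (.leaf 1725660428067538237964)) (.leaf 2130689585907762850490)) (.node (.leaf 833603344153047508529)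 (.leaf 1120339440238748843083))) (.node (.node (.leaf 341489504791157838849) (.leaf 158138182219750808715)) (.node (.leaf 113083603240826480357) (.leaf 710835439871377814168)))) (.node (.node (.node (.leaf 409958772830291706494) (.leaf 177047340225158248176)) (.node (.leaf 1754664239003491498732) (.leaf 1616331922044365079298))) (.node (.node (.leaf 1218142459394165842460) (.leaf 1033438123740749431568)) (.node (.leaf 2133469744793480385025) (.leaf 1827814590653203621001)))))))))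

def threeElt : Janko.Tree (ℕ) := (.node (.node (.node threeElt0 threeElt4) (.node threeElt2 threeElt6)) (.node (.node threeElt1 threeElt5) (.node threeElt3 threeElt7)))

def threeNext0 : Janko.Tree (ℕ) :=
  (.node (.node (.node (.node (.node (.node (.node (.node (.node (.node (.node (.leaf 1) (.leaf 1395)) (.leaf 1848)) (.node (.leaf 933) (.leaf 2049))) (.node (.node (.leaf 683) (.leaf 1565)) (.node (.leaf 1449) (.leaf 2054)))) (.node (.node (.node (.node (.leaf 432) (.leaf 1738)) (.leaf 1826)) (.node (.leaf 831) (.leaf 2058))) (.node (.node (.leaf 1051) (.leaf 1945)) (.node (.leaf 1579) (.leaf 2025))))) (.node (.node (.node (.node (.node (.leaf 4) (.leaf 811)) (.leaf 117)) (.node (.leaf 821) (.leaf 640))) (.node (.node (.leaf 902) (.leaf 1453)) (.node (.leaf 246) (.leaf 476)))) (.node (.node (.node (.leaf 587) (.leaf 1931)) (.node (.leaf 70) (.leaf 703))) (.node (.node (.leaf 1082) (.leaf 300))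 (.node (.leaf 1433) (.leaf 1241)))))) (.node (.node (.node (.node (.node (.node (.leaf 119) (.leaf 1157)) (.leaf 1547)) (.node (.leaf 1162) (.leaf 576))) (.node (.node (.leaf 804) (.leaf 1917)) (.node (.leaf 1496) (.leaf 383)))) (.node (.node (.node (.leaf 520) (.leaf 1642)) (.node (.leaf 1098) (.leaf 644))) (.node (.node (.leaf 1133) (.leaf 1948)) (.node (.leaf 1613) (.leaf 755))))) (.node (.node (.node (.node (.node (.leaf 317) (.leaf 974)) (.leaf 129)) (.node (.leaf 980) (.leaf 2137))) (.node (.node (.leaf 986) (.leaf 239)) (.node (.leaf 1667) (.leaf 1965)))) (.node (.node (.node (.leaf 670) (.leaf 1690)) (.node (.leaf 938) (.leaf 1995))) (.node (.node (.leaf 976) (.leaf 678)) (.node (.leaf 1695) (.leaf 1291))))))) (.node (.node (.node (.node (.node (.node (.node (.leaf 60) (.leaf 1371)) (.leaf 1583)) (.node (.leaf 901) (.leaf 2112))) (.node (.node (.leaf 25) (.leaf 188)) (.node (.leaf 167) (.leaf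 2020)))) (.node (.node (.node (.leaf 474) (.leaf 130)) (.node (.leaf 1093) (.leaf 1957))) (.node (.node (.leaf 850) (.leaf 680)) (.node (.leaf 1743) (.leaf 2165))))) (.node (.node (.node (.node (.node (.leaf 274) (.leaf 1069)) (.leaf 1885)) (.node (.leaf 1357) (.leaf 378))) (.node (.node (.leaf 934) (.leaf 1525)) (.node (.leaf 139) (.leaf 2105)))) (.node (.node (.node (.leaf 633) (.leaf 199)) (.node (.leaf 1025) (.leaf 2135))) (.node (.node (.leaf 780) (.leaf 622)) (.node (.leaf 146) (.leaf 768)))))) (.node (.node (.node (.node (.node (.node (.leaf 172) (.leaf 1139)) (.leaf 1892)) (.node (.leaf 1296) (.leaf 609))) (.node (.node (.leaf 857) (.leaf 1924)) (.node (.leaf 1566) (.leaf 597)))) (.node (.node (.node (.leaf 562) (.leaf 1926)) (.node (.leaf 886) (.leaf 2040))) (.node (.node (.leaf 1158) (.leaf 582)) (.node (.leaf 176) (.leaf 923))))) (.node (.node (.node (.node (.node (.leaf 286) (.leaf 1221))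 (.leaf 1796)) (.node (.leaf 59) (.leaf 694))) (.node (.node (.leaf 997) (.leaf 1909)) (.node (.leaf 263) (.leaf 550)))) (.node (.node (.node (.leaf 675) (.leaf 1781)) (.node (.leaf 135) (.leaf 494))) (.node (.node (.leaf 819) (.leaf 289)) (.node (.leaf 1853) (.leaf 1365)))))))) (.node (.node (.node (.node (.node (.node (.node (.node (.leaf 32) (.leaf 1396)) (.leaf 110)) (.node (.leaf 45) (.leaf 2104))) (.node (.node (.leaf 442) (.leaf 1791)) (.node (.leaf 206) (.leaf 2034)))) (.node (.node (.node (.node (.leaf 316) (.leaf 1936)) (.leaf 1718)) (.node (.leaf 1040) (.leaf 2108))) (.node (.node (.leaf 1080) (.leaf 456)) (.node (.leaf 268) (.leaf 493))))) (.node (.node (.node (.node (.node (.leaf 248) (.leaf 1282)) (.leaf 1810)) (.node (.leaf 1261) (.leaf 342))) (.node (.node (.leaf 924) (.leaf 1438)) (.node (.leaf 1621) (.leaf 388)))) (.node (.node (.node (.leaf 563) (.leaf 144)) (.node (.leaf 1225)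 (.leaf 545))) (.node (.node (.leaf 858) (.leaf 1947)) (.node (.leaf 101) (.leaf 1243)))))) (.node (.node (.node (.node (.node (.node (.leaf 143) (.leaf 1338)) (.leaf 159)) (.node (.leaf 1209) (.leaf 489))) (.node (.node (.leaf 830) (.leaf 178)) (.node (.leaf 1543) (.leaf 674)))) (.node (.node (.node (.leaf 538) (.leaf 1873)) (.node (.leaf 1389) (.leaf 2154))) (.node (.node (.leaf 788) (.leaf 1999)) (.node (.leaf 1771) (.leaf 1172))))) (.node (.node (.node (.node (.node (.leaf 7) (.leaf 1023)) (.leaf 235)) (.node (.leaf 1369) (.leaf 2055))) (.node (.node (.leaf 866) (.leaf 219)) (.node (.leaf 1671) (.leaf 742)))) (.node (.node (.node (.leaf 686) (.leaf 1757)) (.node (.leaf 929) (.leaf 514))) (.node (.node (.leaf 841) (.leaf 355)) (.node (.leaf 1843) (.leaf 1286))))))) (.node (.node (.node (.node (.node (.node (.node (.leaf 91) (.leaf 1005)) (.leaf 1473)) (.node (.leaf 1148) (.leaf 2090))) (.node (.node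 (.leaf 777) (.leaf 1920)) (.node (.leaf 1513) (.leaf 502)))) (.node (.node (.node (.leaf 452) (.leaf 1854)) (.node (.leaf 967) (.leaf 734))) (.node (.node (.leaf 1116) (.leaf 1981)) (.node (.leaf 1595) (.leaf 1194))))) (.node (.node (.node (.node (.node (.leaf 303) (.leaf 1186)) (.leaf 124)) (.node (.leaf 952) (.leaf 488))) (.node (.node (.leaf 968) (.leaf 223)) (.node (.leaf 1630) (.leaf 2113)))) (.node (.node (.node (.leaf 651) (.leaf 1459)) (.node (.leaf 1199) (.leaf 407))) (.node (.node (.leaf 1053) (.leaf 287)) (.node (.leaf 244) (.leaf 1253)))))) (.node (.node (.node (.node (.node (.node (.leaf 180) (.leaf 1332)) (.leaf 1638)) (.node (.leaf 1191) (.leaf 463))) (.node (.node (.leaf 881) (.leaf 1877)) (.node (.leaf 1409) (.leaf 372)))) (.node (.node (.node (.leaf 581) (.leaf 140)) (.node (.leaf 1301) (.leaf 459))) (.node (.node (.leaf 1170) (.leaf 2018)) (.node (.leaf 1790) (.leaf 1223))))) (.node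 (.node (.node (.node (.node (.leaf 406) (.leaf 2185)) (.leaf 1465)) (.node (.leaf 1310) (.leaf 2138))) (.node (.node (.leaf 870) (.leaf 1761)) (.node (.leaf 1705) (.leaf 1989)))) (.node (.node (.node (.leaf 19) (.leaf 158)) (.node (.leaf 1425) (.leaf 391))) (.node (.node (.leaf 1258) (.leaf 2091)) (.node (.leaf 1745) (.leaf 891))))))))) (.node (.node (.node (.node (.node (.node (.node (.node (.node (.leaf 17) (.leaf 1359)) (.leaf 1471)) (.node (.leaf 1165) (.leaf 743))) (.node (.node (.leaf 733) (.leaf 1884)) (.node (.leaf 1460) (.leaf 2133)))) (.node (.node (.node (.node (.leaf 444) (.leaf 1422)) (.leaf 1649)) (.node (.leaf 1379) (.leaf 2021))) (.node (.node (.leaf 1070) (.leaf 1952)) (.node (.leaf 243) (.leaf 1943))))) (.node (.node (.node (.node (.node (.leaf 237) (.leaf 1380)) (.leaf 1464)) (.node (.leaf 1348) (.leaf 664))) (.node (.node (.leaf 911) (.leaf 1812)) (.node (.leaf 1614) (.leaf 2085))))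 (.node (.node (.node (.leaf 433) (.leaf 1548)) (.node (.leaf 766) (.leaf 2064))) (.node (.node (.leaf 1190) (.leaf 346)) (.node (.leaf 1806) (.leaf 1352)))))) (.node (.node (.node (.node (.node (.node (.leaf 2) (.leaf 1036)) (.leaf 1684)) (.node (.leaf 1163) (.leaf 710))) (.node (.node (.leaf 51) (.leaf 1753)) (.node (.leaf 84) (.leaf 2093)))) (.node (.node (.node (.leaf 531) (.leaf 134)) (.node (.leaf 1376) (.leaf 2151))) (.node (.node (.leaf 1112) (.leaf 482)) (.node (.leaf 1767) (.leaf 922))))) (.node (.node (.node (.node (.node (.leaf 340) (.leaf 1397)) (.leaf 260)) (.node (.leaf 1232) (.leaf 301))) (.node (.node (.leaf 999) (.leaf 1706)) (.node (.leaf 1672) (.leaf 709)))) (.node (.node (.node (.leaf 679) (.leaf 1478)) (.node (.leaf 78) (.leaf 2161))) (.node (.node (.leaf 1238) (.leaf 2005)) (.node (.leaf 1512) (.leaf 1266))))))) (.node (.node (.node (.node (.node (.node (.node (.leaf 76) (.leaf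 1269)) (.leaf 1639)) (.node (.leaf 969) (.leaf 523))) (.node (.node (.leaf 754) (.leaf 1560)) (.node (.leaf 1501) (.leaf 580)))) (.node (.node (.node (.leaf 487) (.leaf 1505)) (.node (.leaf 1384) (.leaf 546))) (.node (.node (.leaf 1107) (.leaf 1974)) (.node (.leaf 1556) (.leaf 769))))) (.node (.node (.node (.node (.node (.leaf 288) (.leaf 915)) (.leaf 185)) (.node (.leaf 1007) (.leaf 2136))) (.node (.node (.leaf 957) (.leaf 1819)) (.node (.leaf 1647) (.leaf 2114)))) (.node (.node (.node (.leaf 643) (.leaf 1804)) (.node (.leaf 1047) (.leaf 2132))) (.node (.node (.leaf 1216) (.leaf 282)) (.node (.leaf 1435) (.leaf 1344)))))) (.node (.node (.node (.node (.node (.node (.leaf 183) (.leaf 801)) (.leaf 1784)) (.node (.leaf 1016) (.leaf 745))) (.node (.node (.leaf 869) (.leaf 1544)) (.node (.leaf 1574) (.leaf 427)))) (.node (.node (.node (.leaf 429) (.leaf 1737)) (.node (.leaf 1129) (.leaf 516))) (.node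 (.node (.leaf 1120) (.leaf 473)) (.node (.leaf 1489) (.leaf 1399))))) (.node (.node (.node (.node (.node (.leaf 393) (.leaf 905)) (.leaf 1420)) (.node (.leaf 963) (.leaf 1972))) (.node (.node (.leaf 1024) (.leaf 1811)) (.node (.leaf 1694) (.leaf 2160)))) (.node (.node (.node (.leaf 351) (.leaf 1609)) (.node (.leaf 210) (.leaf 2042))) (.node (.node (.leaf 43) (.leaf 2083)) (.node (.leaf 145) (.leaf 1288)))))))) (.node (.node (.node (.node (.node (.node (.node (.node (.leaf 27) (.leaf 1378)) (.leaf 1779)) (.node (.leaf 1086) (.leaf 1954))) (.node (.node (.leaf 645) (.leaf 1878)) (.node (.leaf 1482) (.leaf 2066)))) (.node (.node (.node (.leaf 465) (.leaf 1700)) (.node (.leaf 1377) (.leaf 469))) (.node (.node (.leaf 1088) (.leaf 1961)) (.node (.leaf 95) (.leaf 2168))))) (.node (.node (.node (.node (.node (.leaf 261) (.leaf 1110)) (.leaf 1580)) (.node (.leaf 1330) (.leaf 658))) (.node (.node (.leaf 889)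 (.leaf 1407)) (.node (.leaf 1631) (.leaf 434)))) (.node (.node (.node (.leaf 614) (.leaf 1518)) (.node (.leaf 845) (.leaf 475))) (.node (.node (.leaf 813) (.leaf 650)) (.node (.leaf 1661) (.leaf 1398)))))) (.node (.node (.node (.node (.node (.node (.leaf 157) (.leaf 973)) (.leaf 1856)) (.node (.leaf 1181) (.leaf 402))) (.node (.node (.leaf 843) (.leaf 1744)) (.node (.leaf 1555) (.leaf 359)))) (.node (.node (.node (.leaf 549) (.leaf 207)) (.node (.leaf 829) (.leaf 2072))) (.node (.node (.leaf 34) (.leaf 371)) (.node (.leaf 1643) (.leaf 1160))))) (.node (.node (.node (.node (.node (.leaf 367) (.leaf 2171)) (.leaf 1495)) (.node (.leaf 1307) (.leaf 302))) (.node (.node (.leaf 1018) (.leaf 1863)) (.node (.leaf 1685) (.leaf 699)))) (.node (.node (.node (.leaf 696) (.leaf 1590)) (.node (.leaf 964) (.leaf 2095))) (.node (.node (.leaf 993) (.leaf 507)) (.node (.leaf 1837) (.leaf 855))))))) (.node (.node (.node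 (.node (.node (.node (.node (.leaf 104) (.leaf 817)) (.leaf 1840)) (.node (.leaf 787) (.leaf 657))) (.node (.node (.leaf 22) (.leaf 1572)) (.node (.leaf 1523) (.leaf 2065)))) (.node (.node (.node (.leaf 497) (.leaf 1919)) (.node (.leaf 1278) (.leaf 446))) (.node (.node (.leaf 1123) (.leaf 529)) (.node (.leaf 169) (.leaf 1218))))) (.node (.node (.node (.node (.node (.leaf 10) (.leaf 1149)) (.leaf 1670)) (.node (.leaf 1029) (.leaf 2053))) (.node (.node (.leaf 975) (.leaf 1891)) (.node (.leaf 1592) (.leaf 2033)))) (.node (.node (.node (.leaf 413) (.leaf 1829)) (.node (.leaf 1079) (.leaf 2048))) (.node (.node (.leaf 1068) (.leaf 623)) (.node (.leaf 1727) (.leaf 1334)))))) (.node (.node (.node (.node (.node (.node (.leaf 209) (.leaf 868)) (.leaf 1601)) (.node (.leaf 812) (.leaf 585))) (.node (.node (.leaf 753) (.leaf 1817)) (.node (.leaf 1593) (.leaf 2061)))) (.node (.node (.node (.leaf 560) (.leaf 1619))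 (.node (.leaf 1089) (.leaf 548))) (.node (.node (.leaf 879) (.leaf 1980)) (.node (.leaf 1797) (.leaf 1251))))) (.node (.node (.node (.node (.node (.leaf 420) (.leaf 1922)) (.leaf 1859)) (.node (.leaf 1285) (.leaf 557))) (.node (.node (.leaf 1000) (.leaf 270)) (.node (.leaf 1713) (.leaf 698)))) (.node (.node (.node (.leaf 721) (.leaf 1545)) (.node (.leaf 1437) (.leaf 1955))) (.node (.node (.leaf 1265) (.leaf 738)) (.node (.leaf 1868) (.leaf 1306)))))))))) (.node (.node (.node (.node (.node (.node (.node (.node (.node (.node (.leaf 9) (.leaf 1043)) (.leaf 1452)) (.node (.leaf 1230) (.leaf 2011))) (.node (.node (.leaf 729) (.leaf 1882)) (.node (.leaf 1454) (.leaf 1987)))) (.node (.node (.node (.node (.leaf 439) (.leaf 1929)) (.leaf 1910)) (.node (.leaf 1022) (.leaf 1975))) (.node (.node (.leaf 1064) (.leaf 421)) (.node (.leaf 1415) (.leaf 2167))))) (.node (.node (.node (.node (.node (.leaf 230) (.leaf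 1302)) (.leaf 1898)) (.node (.leaf 1175) (.leaf 603))) (.node (.node (.leaf 41) (.leaf 1656)) (.node (.leaf 1608) (.leaf 2099)))) (.node (.node (.node (.leaf 598) (.leaf 1440)) (.node (.leaf 994) (.leaf 739))) (.node (.node (.leaf 1187) (.leaf 280)) (.node (.leaf 1573) (.leaf 1287)))))) (.node (.node (.node (.node (.node (.node (.leaf 127) (.leaf 1027)) (.leaf 1575)) (.node (.leaf 1060) (.leaf 2119))) (.node (.node (.leaf 810) (.leaf 1888)) (.node (.leaf 250) (.leaf 2007)))) (.node (.node (.node (.leaf 397) (.leaf 1620)) (.node (.leaf 1303) (.leaf 492))) (.node (.node (.leaf 1105) (.leaf 404)) (.node (.leaf 1764) (.leaf 1220))))) (.node (.node (.node (.node (.node (.leaf 333) (.leaf 1294)) (.leaf 197)) (.node (.leaf 1094) (.leaf 2139))) (.node (.node (.leaf 992) (.leaf 1586)) (.node (.leaf 111) (.leaf 2123)))) (.node (.node (.node (.leaf 518) (.leaf 151)) (.node (.leaf 883) (.leaf 1992))) (.node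 (.node (.leaf 966) (.leaf 1959)) (.node (.leaf 1834) (.leaf 1092))))))) (.node (.node (.node (.node (.node (.node (.node (.leaf 68) (.leaf 1236)) (.leaf 1462)) (.node (.leaf 1087) (.leaf 515))) (.node (.node (.leaf 37) (.leaf 1912)) (.node (.leaf 148) (.leaf 491)))) (.node (.node (.node (.leaf 480) (.leaf 1641)) (.node (.leaf 1095) (.leaf 1949))) (.node (.node (.leaf 1100) (.leaf 616)) (.node (.leaf 1529) (.leaf 751))))) (.node (.node (.node (.node (.node (.leaf 12) (.leaf 1189)) (.leaf 126)) (.node (.leaf 1204) (.leaf 530))) (.node (.node (.leaf 950) (.leaf 194)) (.node (.leaf 118) (.leaf 604)))) (.node (.node (.node (.leaf 411) (.leaf 1758)) (.node (.leaf 906) (.leaf 1984))) (.node (.node (.leaf 1211) (.leaf 711)) (.node (.leaf 1673) (.leaf 961)))))) (.node (.node (.node (.node (.node (.node (.leaf 177) (.leaf 1295)) (.leaf 156)) (.node (.leaf 944) (.leaf 2060))) (.node (.node (.leaf 846) (.leaf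 1674)) (.node (.leaf 1571) (.leaf 362)))) (.node (.node (.node (.leaf 567) (.leaf 138)) (.node (.leaf 67) (.leaf 628))) (.node (.node (.leaf 1020) (.leaf 2008)) (.node (.leaf 1723) (.leaf 1031))))) (.node (.node (.node (.node (.node (.leaf 385) (.leaf 2178)) (.leaf 1567)) (.node (.leaf 839) (.leaf 2051))) (.node (.node (.leaf 1003) (.leaf 1491)) (.node (.leaf 265) (.leaf 470)))) (.node (.node (.node (.leaf 704) (.leaf 1808)) (.node (.leaf 142) (.leaf 366))) (.node (.node (.leaf 808) (.leaf 1941)) (.node (.leaf 1676) (.leaf 1367)))))))) (.node (.node (.node (.node (.node (.node (.node (.node (.leaf 39) (.leaf 1055)) (.leaf 1569)) (.node (.leaf 783) (.leaf 2107))) (.node (.node (.leaf 578) (.leaf 1408)) (.node (.leaf 1476) (.leaf 2010)))) (.node (.node (.node (.node (.leaf 458) (.leaf 1925)) (.leaf 1830)) (.node (.leaf 1101) (.leaf 588))) (.node (.node (.leaf 1083) (.leaf 343)) (.node (.leaf 1527)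 (.leaf 2170))))) (.node (.node (.node (.node (.node (.leaf 256) (.leaf 1374)) (.leaf 225)) (.node (.leaf 1180) (.leaf 656))) (.node (.node (.leaf 26) (.leaf 1849)) (.node (.leaf 1626) (.leaf 574)))) (.node (.node (.node (.leaf 512) (.leaf 1740)) (.node (.leaf 1271) (.leaf 2141))) (.node (.node (.leaf 1202) (.leaf 464)) (.node (.leaf 218) (.leaf 1312)))))) (.node (.node (.node (.node (.node (.node (.leaf 150) (.leaf 1300)) (.leaf 1602)) (.node (.leaf 1255) (.leaf 294))) (.node (.node (.leaf 837) (.leaf 1522)) (.node (.leaf 1549) (.leaf 706)))) (.node (.node (.node (.leaf 437) (.leaf 1711)) (.node (.leaf 66) (.leaf 2116))) (.node (.node (.leaf 958) (.leaf 382)) (.node (.leaf 1765) (.leaf 1102))))) (.node (.node (.node (.node (.node (.leaf 15) (.leaf 887)) (.leaf 1645)) (.node (.leaf 1147) (.leaf 449))) (.node (.node (.leaf 1014) (.leaf 1703)) (.node (.leaf 1494) (.leaf 2166)))) (.node (.node (.node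 (.leaf 690) (.leaf 1770)) (.node (.leaf 1401) (.leaf 504))) (.node (.node (.leaf 919) (.leaf 2046)) (.node (.leaf 105) (.leaf 1028))))))) (.node (.node (.node (.node (.node (.node (.node (.leaf 97) (.leaf 1227)) (.leaf 1635)) (.node (.leaf 47) (.leaf 543))) (.node (.node (.leaf 785) (.leaf 1913)) (.node (.leaf 1519) (.leaf 416)))) (.node (.node (.node (.leaf 503) (.leaf 174)) (.node (.leaf 1386) (.leaf 501))) (.node (.node (.leaf 1119) (.leaf 539)) (.node (.leaf 1463) (.leaf 824))))) (.node (.node (.node (.node (.node (.leaf 311) (.leaf 1346)) (.leaf 1752)) (.node (.leaf 960) (.leaf 661))) (.node (.node (.leaf 778) (.leaf 1799)) (.node (.leaf 1416) (.leaf 2120)))) (.node (.node (.node (.leaf 345) (.leaf 1760)) (.node (.leaf 983) (.leaf 1983))) (.node (.node (.leaf 1224) (.leaf 725)) (.node (.leaf 103) (.leaf 1073)))))) (.node (.node (.node (.node (.node (.node (.leaf 201) (.leaf 890)) (.leaf 1421))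 (.node (.leaf 1333) (.leaf 394))) (.node (.node (.leaf 888) (.leaf 1855)) (.node (.leaf 86) (.leaf 596)))) (.node (.node (.node (.leaf 584) (.leaf 1689)) (.node (.leaf 1222) (.leaf 714))) (.node (.node (.leaf 77) (.leaf 496)) (.node (.leaf 1793) (.leaf 1001))))) (.node (.node (.node (.node (.node (.leaf 414) (.leaf 2174)) (.leaf 1589)) (.node (.leaf 1182) (.leaf 305))) (.node (.node (.leaf 838) (.leaf 1540)) (.node (.leaf 1709) (.leaf 1996)))) (.node (.node (.node (.leaf 671) (.leaf 1803)) (.node (.leaf 1431) (.leaf 2031))) (.node (.node (.leaf 910) (.leaf 384)) (.node (.leaf 1867) (.leaf 1361))))))))) (.node (.node (.node (.node (.node (.node (.node (.node (.node (.leaf 24) (.leaf 1403)) (.leaf 1479)) (.node (.leaf 65) (.leaf 2080))) (.node (.node (.leaf 312) (.leaf 1805)) (.node (.leaf 181) (.leaf 2068)))) (.node (.node (.node (.node (.leaf 451) (.leaf 1607)) (.leaf 128)) (.node (.leaf 1077) (.leaf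 408))) (.node (.node (.leaf 848) (.leaf 376)) (.node (.leaf 1725) (.leaf 457))))) (.node (.node (.node (.node (.node (.leaf 242) (.leaf 840)) (.leaf 1678)) (.node (.leaf 1299) (.leaf 2127))) (.node (.node (.leaf 917) (.leaf 184)) (.node (.leaf 1616) (.leaf 554)))) (.node (.node (.node (.leaf 401) (.leaf 1916)) (.node (.leaf 1308) (.leaf 630))) (.node (.node (.leaf 1195) (.leaf 649)) (.node (.leaf 1444) (.leaf 942)))))) (.node (.node (.node (.node (.node (.node (.leaf 93) (.leaf 1360)) (.leaf 1720)) (.node (.leaf 1115) (.leaf 2057))) (.node (.node (.leaf 822) (.leaf 1786)) (.node (.leaf 116) (.leaf 544)))) (.node (.node (.node (.leaf 341) (.leaf 152)) (.node (.leaf 1387) (.leaf 527))) (.node (.node (.leaf 1141) (.leaf 556)) (.node (.leaf 1591) (.leaf 757))))) (.node (.node (.node (.node (.node (.leaf 348) (.leaf 1244)) (.leaf 154)) (.node (.leaf 1013) (.leaf 392))) (.node (.node (.leaf 1004) (.leaf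 1432)) (.node (.leaf 1414) (.leaf 700)))) (.node (.node (.node (.leaf 682) (.leaf 1861)) (.node (.leaf 1081) (.leaf 2009))) (.node (.node (.leaf 1198) (.leaf 744)) (.node (.leaf 1838) (.leaf 775))))))) (.node (.node (.node (.node (.node (.node (.node (.leaf 83) (.leaf 795)) (.leaf 1734)) (.node (.leaf 1059) (.leaf 592))) (.node (.node (.leaf 770) (.leaf 1876)) (.node (.leaf 1506) (.leaf 2144)))) (.node (.node (.node (.leaf 11) (.leaf 1691)) (.node (.leaf 815) (.leaf 642))) (.node (.node (.leaf 955) (.leaf 631)) (.node (.leaf 1562) (.leaf 1356))))) (.node (.node (.node (.node (.node (.leaf 295) (.leaf 836)) (.leaf 1889)) (.node (.leaf 1362) (.leaf 2028))) (.node (.node (.leaf 834) (.leaf 1897)) (.node (.leaf 88) (.leaf 2013)))) (.node (.node (.node (.leaf 646) (.leaf 1869)) (.node (.leaf 1207) (.leaf 2027))) (.node (.node (.leaf 1117) (.leaf 350)) (.node (.leaf 1659) (.leaf 1240)))))) (.node (.node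 (.node (.node (.node (.node (.leaf 190) (.leaf 921)) (.leaf 147)) (.node (.leaf 54) (.leaf 2035))) (.node (.node (.leaf 876) (.leaf 1553)) (.node (.leaf 1578) (.leaf 561)))) (.node (.node (.node (.leaf 577) (.leaf 1439)) (.node (.leaf 1131) (.leaf 1964))) (.node (.node (.leaf 1166) (.leaf 2015)) (.node (.leaf 1789) (.leaf 761))))) (.node (.node (.node (.node (.node (.leaf 400) (.leaf 1090)) (.leaf 1736)) (.node (.leaf 1046) (.leaf 652))) (.node (.node (.leaf 1035) (.leaf 1914)) (.node (.leaf 1701) (.leaf 435)))) (.node (.node (.node (.leaf 521) (.leaf 1783)) (.node (.leaf 141) (.leaf 605))) (.node (.node (.leaf 1019) (.leaf 375)) (.node (.leaf 1842) (.leaf 1274)))))))) (.node (.node (.node (.node (.node (.node (.node (.node (.leaf 53) (.leaf 1400)) (.leaf 1526)) (.node (.leaf 1197) (.leaf 570))) (.node (.node (.leaf 750) (.leaf 1823)) (.node (.leaf 1487) (.leaf 748)))) (.node (.node (.node (.leaf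 276) (.leaf 1651)) (.node (.leaf 779) (.leaf 610))) (.node (.node (.leaf 782) (.leaf 1966)) (.node (.leaf 155) (.leaf 2156))))) (.node (.node (.node (.node (.node (.leaf 267) (.leaf 856)) (.leaf 1507)) (.node (.leaf 1354) (.leaf 2134))) (.node (.node (.leaf 940) (.leaf 251)) (.node (.leaf 1623) (.leaf 634)))) (.node (.node (.node (.leaf 627) (.leaf 1768)) (.node (.leaf 1358) (.leaf 2140))) (.node (.node (.leaf 893) (.leaf 532)) (.node (.leaf 1814) (.leaf 1173)))))) (.node (.node (.node (.node (.node (.node (.leaf 164) (.leaf 936)) (.leaf 1864)) (.node (.leaf 792) (.leaf 526))) (.node (.node (.leaf 851) (.leaf 200)) (.node (.leaf 1561) (.leaf 2079)))) (.node (.node (.node (.leaf 555) (.leaf 1735)) (.node (.leaf 1305) (.leaf 2078))) (.node (.node (.leaf 1108) (.leaf 278)) (.node (.leaf 1773) (.leaf 2180))))) (.node (.node (.node (.node (.node (.leaf 373) (.leaf 2179)) (.leaf 258)) (.node (.leaf 926)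 (.leaf 692))) (.node (.node (.leaf 1021) (.leaf 1666)) (.node (.leaf 90) (.leaf 2074)))) (.node (.node (.node (.leaf 668) (.leaf 1851)) (.node (.leaf 1404) (.leaf 715))) (.node (.node (.leaf 1249) (.leaf 579)) (.node (.leaf 1836) (.leaf 1048))))))) (.node (.node (.node (.node (.node (.node (.node (.leaf 112) (.leaf 2173)) (.leaf 113)) (.node (.leaf 52) (.leaf 1982))) (.node (.node (.leaf 30) (.leaf 1895)) (.node (.leaf 99) (.leaf 412)))) (.node (.node (.node (.leaf 513) (.leaf 1870)) (.node (.leaf 925) (.leaf 313))) (.node (.node (.leaf 1127) (.leaf 1988)) (.node (.leaf 1488) (.leaf 2175))))) (.node (.node (.node (.node (.node (.leaf 272) (.leaf 1392)) (.leaf 1655)) (.node (.leaf 1340) (.leaf 2126))) (.node (.node (.leaf 874) (.leaf 1627)) (.node (.leaf 1662) (.leaf 472)))) (.node (.node (.node (.leaf 663) (.leaf 1915)) (.node (.leaf 1171) (.leaf 1979))) (.node (.node (.leaf 1231) (.leaf 726)) (.node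 (.leaf 1729) (.leaf 1264)))))) (.node (.node (.node (.node (.node (.node (.leaf 216) (.leaf 1008)) (.leaf 1769)) (.node (.leaf 1341) (.leaf 2129))) (.node (.node (.leaf 895) (.leaf 1490)) (.node (.leaf 189) (.leaf 1963)))) (.node (.node (.node (.leaf 566) (.leaf 1677)) (.node (.leaf 1388) (.leaf 353))) (.node (.node (.leaf 1015) (.leaf 728)) (.node (.leaf 215) (.leaf 816))))) (.node (.node (.node (.node (.node (.leaf 409) (.leaf 1930)) (.leaf 1844)) (.node (.leaf 900) (.leaf 329))) (.node (.node (.leaf 949) (.leaf 1940)) (.node (.leaf 1717) (.leaf 727)))) (.node (.node (.node (.leaf 583) (.leaf 238)) (.node (.leaf 245) (.leaf 600))) (.node (.node (.leaf 1268) (.leaf 2098)) (.node (.leaf 1686) (.leaf 805)))))))))))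

def threeNext1 : Janko.Tree (ℕ) :=
  (.node (.node (.node (.node (.node (.node (.node (.node (.node (.node (.node (.leaf 2) (.leaf 1323)) (.leaf 127)) (.node (.leaf 1231) (.leaf 287))) (.node (.node (.leaf 614) (.leaf 1760)) (.node (.leaf 270) (.leaf 402)))) (.node (.node (.node (.node (.leaf 433) (.leaf 1623)) (.leaf 1454)) (.node (.leaf 960) (.leaf 692))) (.node (.node (.leaf 1059) (.leaf 678)) (.node (.leaf 93) (.leaf 449))))) (.node (.node (.node (.node (.node (.leaf 223) (.leaf 999)) (.leaf 197)) (.node (.leaf 953) (.leaf 2015))) (.node (.node (.leaf 903) (.leaf 1730)) (.node (.leaf 1603) (.leaf 360)))) (.node (.node (.node (.leaf 592) (.leaf 1480)) (.node (.leaf 765) (.leaf 2128))) (.node (.node (.leaf 1181) (.leaf 2028)) (.node (.leaf 211) (.leaf 1091)))))) (.node (.node (.node (.node (.node (.node (.leaf 120) (.leaf 804)) (.leaf 1746)) (.node (.leaf 1303) (.leaf 1969))) (.node (.node (.leaf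 805) (.leaf 1853)) (.node (.leaf 125) (.leaf 2023)))) (.node (.node (.node (.leaf 421) (.leaf 1680)) (.node (.leaf 1374) (.leaf 2067))) (.node (.node (.leaf 992) (.leaf 465)) (.node (.leaf 239) (.leaf 1062))))) (.node (.node (.node (.node (.node (.leaf 327) (.leaf 2174)) (.leaf 1417)) (.node (.leaf 1088) (.leaf 665))) (.node (.node (.leaf 987) (.leaf 1411)) (.node (.leaf 1668) (.leaf 2147)))) (.node (.node (.node (.leaf 538) (.leaf 150)) (.node (.leaf 1309) (.leaf 732))) (.node (.node (.leaf 1107) (.leaf 1968)) (.node (.leaf 1830) (.leaf 1090))))))) (.node (.node (.node (.node (.node (.node (.node (.leaf 61) (.leaf 1366)) (.leaf 1881)) (.node (.leaf 1220) (.leaf 1976))) (.node (.node (.leaf 753) (.leaf 1674)) (.node (.leaf 234) (.leaf 688)))) (.node (.node (.node (.leaf 314) (.leaf 1616)) (.node (.leaf 1192) (.leaf 2066))) (.node (.node (.leaf 901) (.leaf 1971)) (.node (.leaf 1744) (.leaf 499)))))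 (.node (.node (.node (.node (.node (.leaf 5) (.leaf 986)) (.leaf 1752)) (.node (.leaf 845) (.leaf 594))) (.node (.node (.leaf 946) (.leaf 1852)) (.node (.leaf 1476) (.leaf 2057)))) (.node (.node (.node (.leaf 634) (.leaf 145)) (.node (.leaf 1002) (.leaf 2083))) (.node (.node (.leaf 948) (.leaf 683)) (.node (.leaf 1773) (.leaf 1173)))))) (.node (.node (.node (.node (.node (.node (.leaf 173) (.leaf 955)) (.leaf 1893)) (.node (.leaf 49) (.leaf 2032))) (.node (.node (.leaf 23) (.leaf 1855)) (.node (.leaf 1467) (.leaf 537)))) (.node (.node (.node (.leaf 373) (.leaf 1927)) (.node (.leaf 967) (.leaf 703))) (.node (.node (.leaf 1159) (.leaf 505)) (.node (.leaf 1523) (.leaf 789))))) (.node (.node (.node (.node (.node (.leaf 379) (.leaf 1106)) (.leaf 1662)) (.node (.leaf 812) (.leaf 302))) (.node (.node (.leaf 1023) (.leaf 1644)) (.node (.leaf 1689) (.leaf 632)))) (.node (.node (.node (.leaf 702) (.leaf 1574))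 (.node (.leaf 1407) (.leaf 2167))) (.node (.node (.leaf 1251) (.leaf 743)) (.node (.leaf 1854) (.leaf 824)))))))) (.node (.node (.node (.node (.node (.node (.node (.node (.leaf 33) (.leaf 1384)) (.leaf 1427)) (.node (.leaf 934) (.leaf 2079))) (.node (.node (.leaf 737) (.leaf 1733)) (.node (.leaf 1471) (.leaf 585)))) (.node (.node (.node (.node (.leaf 9) (.leaf 1692)) (.leaf 1628)) (.node (.leaf 1277) (.leaf 2091))) (.node (.node (.leaf 832) (.leaf 1956)) (.node (.leaf 1731) (.leaf 503))))) (.node (.node (.node (.node (.node (.leaf 249) (.leaf 1078)) (.leaf 1900)) (.node (.leaf 815) (.leaf 481))) (.node (.node (.leaf 925) (.leaf 1803)) (.node (.leaf 1622) (.leaf 629)))) (.node (.node (.node (.leaf 615) (.leaf 1831)) (.node (.leaf 1380) (.leaf 436))) (.node (.node (.leaf 1119) (.leaf 2038)) (.node (.leaf 1487) (.leaf 1170)))))) (.node (.node (.node (.node (.node (.node (.leaf 144) (.leaf 1356)) (.leaf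 1433)) (.node (.leaf 1310) (.leaf 412))) (.node (.node (.leaf 783) (.leaf 1919)) (.node (.leaf 1544) (.leaf 354)))) (.node (.node (.node (.leaf 539) (.leaf 1924)) (.node (.leaf 1293) (.leaf 715))) (.node (.node (.leaf 1144) (.leaf 589)) (.node (.leaf 1772) (.leaf 1147))))) (.node (.node (.node (.node (.node (.leaf 355) (.leaf 996)) (.leaf 167)) (.node (.leaf 1188) (.leaf 638))) (.node (.node (.leaf 1010) (.leaf 1500)) (.node (.leaf 1679) (.leaf 610)))) (.node (.node (.node (.leaf 384) (.leaf 168)) (.node (.leaf 78) (.leaf 612))) (.node (.node (.leaf 1141) (.leaf 370)) (.node (.leaf 1844) (.leaf 920))))))) (.node (.node (.node (.node (.node (.node (.node (.leaf 92) (.leaf 1258)) (.leaf 1884)) (.node (.leaf 1295) (.leaf 2098))) (.node (.node (.leaf 778) (.leaf 1898)) (.node (.leaf 1514) (.leaf 404)))) (.node (.node (.node (.leaf 498) (.leaf 1917)) (.node (.leaf 1275) (.leaf 383))) (.node (.node (.leaf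 809) (.leaf 1982)) (.node (.leaf 1563) (.leaf 1109))))) (.node (.node (.node (.node (.node (.leaf 304) (.leaf 889)) (.leaf 1606)) (.node (.leaf 1264) (.leaf 2100))) (.node (.node (.leaf 835) (.leaf 240)) (.node (.leaf 149) (.leaf 551)))) (.node (.node (.node (.leaf 434) (.leaf 1535)) (.node (.leaf 74) (.leaf 2127))) (.node (.node (.leaf 1215) (.leaf 282)) (.node (.leaf 1721) (.leaf 998)))))) (.node (.node (.node (.node (.node (.node (.leaf 196) (.leaf 1190)) (.leaf 1495)) (.node (.leaf 1332) (.leaf 1949))) (.node (.node (.leaf 882) (.leaf 1508)) (.node (.leaf 1584) (.leaf 631)))) (.node (.node (.node (.leaf 582) (.leaf 1904)) (.node (.leaf 1393) (.leaf 621))) (.node (.node (.leaf 1048) (.leaf 636)) (.node (.leaf 1688) (.leaf 1319))))) (.node (.node (.node (.node (.node (.leaf 407) (.leaf 1175)) (.leaf 259)) (.node (.leaf 1208) (.leaf 2118))) (.node (.node (.leaf 1041) (.leaf 266)) (.node (.leaf 1706)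 (.leaf 427)))) (.node (.node (.node (.leaf 716) (.leaf 1899)) (.node (.leaf 1426) (.leaf 339))) (.node (.node (.leaf 1259) (.leaf 2092)) (.node (.leaf 1600) (.leaf 989))))))))) (.node (.node (.node (.node (.node (.node (.node (.node (.node (.leaf 18) (.leaf 875)) (.leaf 205)) (.node (.leaf 867) (.leaf 288))) (.node (.node (.leaf 611) (.leaf 1896)) (.node (.leaf 1461) (.leaf 2139)))) (.node (.node (.node (.node (.leaf 445) (.leaf 1755)) (.leaf 1478)) (.node (.leaf 956) (.leaf 2145))) (.node (.node (.leaf 1071) (.leaf 1953)) (.node (.leaf 1488) (.leaf 656))))) (.node (.node (.node (.node (.node (.leaf 238) (.leaf 1224)) (.leaf 117)) (.node (.leaf 1349) (.leaf 2037))) (.node (.node (.leaf 751) (.leaf 1475)) (.node (.leaf 1557) (.leaf 2168)))) (.node (.node (.node (.leaf 604) (.leaf 1778)) (.node (.leaf 1391) (.leaf 323))) (.node (.node (.leaf 1191) (.leaf 301)) (.node (.leaf 1783) (.leaf 1365))))))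 (.node (.node (.node (.node (.node (.node (.leaf 94) (.leaf 796)) (.leaf 1754)) (.node (.leaf 1270) (.leaf 443))) (.node (.node (.leaf 816) (.leaf 1701)) (.node (.leaf 1521) (.leaf 1994)))) (.node (.node (.node (.leaf 398) (.leaf 1915)) (.node (.leaf 907) (.leaf 495))) (.node (.node (.leaf 1139) (.leaf 298)) (.node (.leaf 1643) (.leaf 756))))) (.node (.node (.node (.node (.node (.leaf 341) (.leaf 1053)) (.leaf 1511)) (.node (.leaf 933) (.leaf 393))) (.node (.node (.leaf 810) (.leaf 1886)) (.node (.leaf 1673) (.leaf 2029)))) (.node (.node (.node (.leaf 372) (.leaf 1534)) (.node (.leaf 872) (.leaf 2154))) (.node (.node (.leaf 41) (.leaf 2062)) (.node (.leaf 1837) (.leaf 1063))))))) (.node (.node (.node (.node (.node (.node (.node (.leaf 77) (.leaf 1124)) (.leaf 1573)) (.node (.leaf 842) (.leaf 624))) (.node (.node (.leaf 764) (.leaf 1597)) (.node (.leaf 1436) (.leaf 695)))) (.node (.node (.node (.leaf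 488) (.leaf 1572)) (.node (.leaf 1353) (.leaf 2052))) (.node (.node (.leaf 975) (.leaf 1975)) (.node (.leaf 1518) (.leaf 2172))))) (.node (.node (.node (.node (.node (.leaf 289) (.leaf 1054)) (.leaf 243)) (.node (.leaf 793) (.leaf 2071))) (.node (.node (.leaf 858) (.leaf 219)) (.node (.leaf 1648) (.leaf 388)))) (.node (.node (.node (.leaf 395) (.leaf 1617)) (.node (.leaf 1242) (.leaf 337))) (.node (.node (.leaf 1217) (.leaf 2049)) (.node (.leaf 1777) (.leaf 1311)))))) (.node (.node (.node (.node (.node (.node (.leaf 184) (.leaf 917)) (.leaf 1526)) (.node (.leaf 1064) (.leaf 2109))) (.node (.node (.leaf 870) (.leaf 1766)) (.node (.leaf 1469) (.leaf 2013)))) (.node (.node (.node (.leaf 573) (.leaf 233)) (.node (.leaf 1210) (.leaf 686))) (.node (.node (.leaf 1051) (.leaf 2012)) (.node (.leaf 220) (.leaf 1390))))) (.node (.node (.node (.node (.node (.leaf 346) (.leaf 1238)) (.leaf 1715)) (.node (.leaf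 1370) (.leaf 451))) (.node (.node (.leaf 1029) (.leaf 1651)) (.node (.leaf 1695) (.leaf 699)))) (.node (.node (.node (.leaf 707) (.leaf 1758)) (.node (.leaf 1416) (.leaf 563))) (.node (.node (.leaf 1187) (.leaf 2084)) (.node (.leaf 106) (.leaf 1196)))))))) (.node (.node (.node (.node (.node (.node (.node (.node (.leaf 46) (.leaf 1290)) (.leaf 110)) (.node (.leaf 868) (.leaf 731))) (.node (.node (.leaf 744) (.leaf 1937)) (.node (.leaf 1483) (.leaf 2166)))) (.node (.node (.node (.leaf 466) (.leaf 153)) (.node (.leaf 843) (.leaf 2107))) (.node (.node (.leaf 871) (.leaf 1962)) (.node (.leaf 1739) (.leaf 571))))) (.node (.node (.node (.node (.node (.leaf 262) (.leaf 1194)) (.leaf 1806)) (.node (.leaf 995) (.leaf 344))) (.node (.node (.leaf 935) (.leaf 1845)) (.node (.leaf 87) (.leaf 543)))) (.node (.node (.node (.leaf 622) (.leaf 1555)) (.node (.leaf 906) (.leaf 595))) (.node (.node (.leaf 913) (.leaf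 2041)) (.node (.leaf 1538) (.leaf 911)))))) (.node (.node (.node (.node (.node (.node (.leaf 158) (.leaf 1121)) (.leaf 1675)) (.node (.leaf 1315) (.leaf 548))) (.node (.node (.leaf 844) (.leaf 1879)) (.node (.leaf 1556) (.leaf 598)))) (.node (.node (.node (.leaf 550) (.leaf 1869)) (.node (.leaf 1011) (.leaf 2136))) (.node (.node (.leaf 1153) (.leaf 2003)) (.node (.leaf 1774) (.leaf 1301))))) (.node (.node (.node (.node (.node (.leaf 368) (.leaf 1354)) (.leaf 1490)) (.node (.leaf 1037) (.leaf 693))) (.node (.node (.leaf 1019) (.leaf 237)) (.node (.leaf 244) (.leaf 2159)))) (.node (.node (.node (.leaf 555) (.leaf 1868)) (.node (.leaf 1403) (.leaf 2169))) (.node (.node (.leaf 1133) (.leaf 2074)) (.node (.leaf 1847) (.leaf 1346))))))) (.node (.node (.node (.node (.node (.node (.node (.leaf 105) (.leaf 1118)) (.leaf 1788)) (.node (.leaf 926) (.leaf 2034))) (.node (.node (.leaf 792) (.leaf 1880)) (.node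 (.leaf 1524) (.leaf 645)))) (.node (.node (.node (.leaf 509) (.leaf 177)) (.node (.leaf 64) (.leaf 2093))) (.node (.node (.leaf 821) (.leaf 366)) (.node (.leaf 1757) (.leaf 1195))))) (.node (.node (.node (.node (.node (.leaf 316) (.leaf 908)) (.leaf 1414)) (.node (.leaf 56) (.leaf 717))) (.node (.node (.leaf 976) (.leaf 1929)) (.node (.leaf 1659) (.leaf 440)))) (.node (.node (.node (.leaf 464) (.leaf 1771)) (.node (.leaf 1280) (.leaf 701))) (.node (.node (.leaf 1116) (.leaf 2056)) (.node (.leaf 1825) (.leaf 1385)))))) (.node (.node (.node (.node (.node (.node (.leaf 210) (.leaf 863)) (.leaf 1485)) (.node (.leaf 945) (.leaf 657))) (.node (.node (.leaf 24) (.leaf 1672)) (.node (.leaf 1594) (.leaf 2075)))) (.node (.node (.node (.leaf 586) (.leaf 140)) (.node (.leaf 68) (.leaf 2054))) (.node (.node (.leaf 1174) (.leaf 279)) (.node (.leaf 1798) (.leaf 818))))) (.node (.node (.node (.node (.node (.leaf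 8) (.leaf 1871)) (.leaf 1875)) (.node (.leaf 1122) (.leaf 2033))) (.node (.node (.leaf 1052) (.leaf 1918)) (.node (.leaf 1714) (.leaf 2121)))) (.node (.node (.node (.leaf 722) (.leaf 1745)) (.node (.leaf 1438) (.leaf 380))) (.node (.node (.leaf 1076) (.leaf 2095)) (.node (.leaf 1785) (.leaf 1347)))))))))) (.node (.node (.node (.node (.node (.node (.node (.node (.node (.node (.leaf 10) (.leaf 1080)) (.leaf 1703)) (.node (.leaf 44) (.leaf 378))) (.node (.node (.leaf 730) (.leaf 207)) (.node (.leaf 1455) (.leaf 729)))) (.node (.node (.node (.node (.leaf 343) (.leaf 1615)) (.leaf 1677)) (.node (.leaf 1094) (.leaf 2130))) (.node (.node (.leaf 1042) (.leaf 682)) (.node (.leaf 131) (.leaf 666))))) (.node (.node (.node (.node (.node (.leaf 231) (.leaf 836)) (.leaf 1481)) (.node (.leaf 1345) (.leaf 2027))) (.node (.node (.leaf 905) (.leaf 1472)) (.node (.leaf 1609) (.leaf 2090)))) (.node (.node (.node (.leaf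 599) (.leaf 172)) (.node (.leaf 1283) (.leaf 577))) (.node (.node (.leaf 42) (.leaf 497)) (.node (.leaf 1802) (.leaf 1100)))))) (.node (.node (.node (.node (.node (.node (.leaf 128) (.leaf 1249)) (.leaf 1412)) (.node (.leaf 1306) (.leaf 1938))) (.node (.node (.leaf 811) (.leaf 1883)) (.node (.leaf 1494) (.leaf 2000)))) (.node (.node (.node (.leaf 525) (.leaf 1448)) (.node (.leaf 1154) (.leaf 313))) (.node (.node (.leaf 1137) (.leaf 704)) (.node (.leaf 1765) (.leaf 850))))) (.node (.node (.node (.node (.node (.leaf 334) (.leaf 1134)) (.leaf 1464)) (.node (.leaf 1284) (.leaf 2043))) (.node (.node (.leaf 993) (.leaf 1503)) (.node (.leaf 1541) (.leaf 1952)))) (.node (.node (.node (.leaf 675) (.leaf 1690)) (.node (.leaf 1343) (.leaf 742))) (.node (.node (.leaf 803) (.leaf 2060)) (.node (.leaf 1835) (.leaf 1241))))))) (.node (.node (.node (.node (.node (.node (.node (.leaf 69) (.leaf 1184)) (.leaf 114))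 (.node (.leaf 1291) (.leaf 2014))) (.node (.node (.leaf 758) (.leaf 1840)) (.node (.leaf 1496) (.leaf 409)))) (.node (.node (.node (.leaf 363) (.leaf 1678)) (.node (.leaf 781) (.leaf 309))) (.node (.node (.leaf 1101) (.leaf 1965)) (.node (.leaf 1747) (.leaf 1398))))) (.node (.node (.node (.node (.node (.leaf 281) (.leaf 1369)) (.leaf 1717)) (.node (.leaf 1168) (.leaf 2025))) (.node (.node (.leaf 951) (.leaf 1516)) (.node (.leaf 1501) (.leaf 432)))) (.node (.node (.node (.leaf 637) (.leaf 1608)) (.node (.leaf 1357) (.leaf 607))) (.node (.node (.leaf 1212) (.leaf 2045)) (.node (.leaf 1817) (.leaf 1017)))))) (.node (.node (.node (.node (.node (.node (.leaf 178) (.leaf 958)) (.leaf 115)) (.node (.leaf 1324) (.leaf 1958))) (.node (.node (.leaf 862) (.leaf 187)) (.node (.leaf 1431) (.leaf 2110)))) (.node (.node (.node (.leaf 13) (.leaf 1579)) (.node (.leaf 1130) (.leaf 317))) (.node (.node (.leaf 1030)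 (.leaf 2009)) (.node (.leaf 189) (.leaf 1261))))) (.node (.node (.node (.node (.node (.leaf 386) (.leaf 1098)) (.leaf 1878)) (.node (.leaf 985) (.leaf 2143))) (.node (.node (.leaf 1025) (.leaf 1925)) (.node (.leaf 90) (.leaf 2125)))) (.node (.node (.node (.leaf 502) (.leaf 1607)) (.node (.leaf 1409) (.leaf 528))) (.node (.node (.leaf 1253) (.leaf 2082)) (.node (.leaf 1856) (.leaf 1379)))))))) (.node (.node (.node (.node (.node (.node (.node (.node (.leaf 0) (.leaf 1363)) (.leaf 1809)) (.node (.leaf 66) (.leaf 408))) (.node (.node (.leaf 739) (.leaf 1506)) (.node (.leaf 1439) (.leaf 342)))) (.node (.node (.node (.node (.leaf 459) (.leaf 1551)) (.leaf 1694)) (.node (.leaf 1287) (.leaf 565))) (.node (.node (.leaf 1028) (.leaf 511)) (.node (.leaf 248) (.leaf 613))))) (.node (.node (.node (.node (.node (.leaf 257) (.leaf 2178)) (.leaf 1889)) (.node (.leaf 53) (.leaf 1942))) (.node (.node (.leaf 930) (.leaf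 1707)) (.node (.leaf 1627) (.leaf 2002)))) (.node (.node (.node (.leaf 15) (.leaf 1836)) (.node (.leaf 1395) (.leaf 676))) (.node (.node (.leaf 1203) (.leaf 1970)) (.node (.leaf 1601) (.leaf 1254)))))) (.node (.node (.node (.node (.node (.node (.leaf 151) (.leaf 1155)) (.leaf 1811)) (.node (.leaf 1312) (.leaf 375))) (.node (.node (.leaf 838) (.leaf 1775)) (.node (.leaf 1550) (.leaf 1995)))) (.node (.node (.node (.leaf 545) (.leaf 1626)) (.node (.leaf 830) (.leaf 698))) (.node (.node (.leaf 1148) (.leaf 2001)) (.node (.leaf 1681) (.leaf 757))))) (.node (.node (.node (.node (.node (.leaf 361) (.leaf 1401)) (.leaf 1909)) (.node (.leaf 880) (.leaf 530))) (.node (.node (.leaf 1015) (.leaf 1406)) (.node (.leaf 1682) (.leaf 1957)))) (.node (.node (.node (.leaf 691) (.leaf 1515)) (.node (.leaf 932) (.leaf 332))) (.node (.node (.leaf 63) (.leaf 284)) (.node (.leaf 1813) (.leaf 1228))))))) (.node (.node (.node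 (.node (.node (.node (.node (.leaf 98) (.leaf 1362)) (.leaf 1722)) (.node (.leaf 1299) (.leaf 651))) (.node (.node (.leaf 786) (.leaf 1901)) (.node (.leaf 1520) (.leaf 467)))) (.node (.node (.node (.leaf 11) (.leaf 1718)) (.node (.leaf 1321) (.leaf 2059))) (.node (.node (.leaf 957) (.leaf 670)) (.node (.leaf 100) (.leaf 1352))))) (.node (.node (.node (.node (.node (.leaf 312) (.leaf 854)) (.leaf 1905)) (.node (.leaf 1061) (.leaf 2124))) (.node (.node (.leaf 31) (.leaf 1595)) (.node (.leaf 209) (.leaf 2164)))) (.node (.node (.node (.leaf 658) (.leaf 1687)) (.node (.leaf 1302) (.leaf 633))) (.node (.node (.leaf 1225) (.leaf 2053)) (.node (.leaf 1728) (.leaf 1351)))))) (.node (.node (.node (.node (.node (.node (.leaf 202) (.leaf 1328)) (.leaf 1498)) (.node (.leaf 1334) (.leaf 523))) (.node (.node (.leaf 40) (.leaf 1873)) (.node (.leaf 160) (.leaf 475)))) (.node (.node (.node (.leaf 351) (.leaf 1664))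 (.node (.leaf 888) (.leaf 2163))) (.node (.node (.leaf 898) (.leaf 1981)) (.node (.leaf 1784) (.leaf 1038))))) (.node (.node (.node (.node (.node (.leaf 415) (.leaf 1034)) (.leaf 126)) (.node (.leaf 1359) (.leaf 328))) (.node (.node (.leaf 972) (.leaf 1513)) (.node (.leaf 1710) (.leaf 2149)))) (.node (.node (.node (.leaf 576) (.leaf 1437)) (.node (.leaf 1432) (.leaf 642))) (.node (.node (.leaf 1262) (.leaf 516)) (.node (.leaf 1441) (.leaf 2186))))))))) (.node (.node (.node (.node (.node (.node (.node (.node (.node (.leaf 25) (.leaf 1381)) (.leaf 216)) (.node (.leaf 1278) (.leaf 558))) (.node (.node (.leaf 461) (.leaf 1713)) (.node (.leaf 1466) (.leaf 644)))) (.node (.node (.node (.node (.leaf 275) (.leaf 1604)) (.leaf 1848)) (.node (.leaf 1265) (.leaf 469))) (.node (.node (.leaf 1074) (.leaf 476)) (.node (.leaf 1726) (.leaf 659))))) (.node (.node (.node (.node (.node (.leaf 146) (.leaf 857)) (.leaf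 1786)) (.node (.leaf 52) (.leaf 406))) (.node (.node (.leaf 800) (.leaf 1434)) (.node (.leaf 1444) (.leaf 362)))) (.node (.node (.node (.leaf 535) (.leaf 1907)) (.node (.leaf 1129) (.leaf 322))) (.node (.node (.leaf 1115) (.leaf 431)) (.node (.leaf 130) (.leaf 1018)))))) (.node (.node (.node (.node (.node (.node (.leaf 138) (.leaf 991)) (.leaf 1890)) (.node (.leaf 1218) (.leaf 600))) (.node (.node (.leaf 823) (.leaf 1641)) (.node (.leaf 156) (.leaf 416)))) (.node (.node (.node (.leaf 16) (.leaf 1923)) (.node (.leaf 1102) (.leaf 2153))) (.node (.node (.leaf 939) (.leaf 696)) (.node (.leaf 230) (.leaf 1387))))) (.node (.node (.node (.node (.node (.leaf 349) (.leaf 883)) (.leaf 1700)) (.node (.leaf 1219) (.leaf 574))) (.node (.node (.leaf 28) (.leaf 1571)) (.node (.leaf 89) (.leaf 667)))) (.node (.node (.node (.leaf 520) (.leaf 1828)) (.node (.leaf 1317) (.leaf 568))) (.node (.node (.leaf 902) (.leaf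 2065)) (.node (.leaf 1839) (.leaf 1382))))))) (.node (.node (.node (.node (.node (.node (.node (.leaf 84) (.leaf 1402)) (.leaf 1791)) (.node (.leaf 1120) (.leaf 291))) (.node (.node (.leaf 771) (.leaf 258)) (.node (.leaf 1507) (.leaf 2076)))) (.node (.node (.node (.leaf 493) (.leaf 261)) (.node (.leaf 1031) (.leaf 2030))) (.node (.node (.leaf 1112) (.leaf 679)) (.node (.leaf 1751) (.leaf 2173))))) (.node (.node (.node (.node (.node (.leaf 296) (.leaf 983)) (.leaf 1486)) (.node (.leaf 1226) (.leaf 299))) (.node (.node (.leaf 962) (.leaf 1741)) (.node (.leaf 1631) (.leaf 1989)))) (.node (.node (.node (.leaf 591) (.leaf 1882)) (.node (.leaf 1316) (.leaf 660))) (.node (.node (.leaf 1221) (.leaf 489)) (.node (.leaf 1822) (.leaf 785)))))) (.node (.node (.node (.node (.node (.node (.leaf 3) (.leaf 1286)) (.leaf 1582)) (.node (.leaf 1180) (.leaf 685))) (.node (.node (.leaf 780) (.leaf 179)) (.node (.leaf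 214) (.leaf 371)))) (.node (.node (.node (.leaf 578) (.leaf 139)) (.node (.leaf 67) (.leaf 447))) (.node (.node (.leaf 1167) (.leaf 639)) (.node (.leaf 112) (.leaf 1314))))) (.node (.node (.node (.node (.node (.leaf 401) (.leaf 1087)) (.leaf 1625)) (.node (.leaf 1282) (.leaf 303))) (.node (.node (.leaf 1036) (.leaf 1570)) (.node (.leaf 1702) (.leaf 492)))) (.node (.node (.node (.leaf 711) (.leaf 1580)) (.node (.leaf 91) (.leaf 579))) (.node (.node (.leaf 942) (.leaf 508)) (.node (.leaf 1861) (.leaf 1216)))))))) (.node (.node (.node (.node (.node (.node (.node (.node (.leaf 54) (.leaf 1336)) (.leaf 1793)) (.node (.leaf 1288) (.leaf 356))) (.node (.node (.leaf 277) (.leaf 1864)) (.node (.leaf 82) (.leaf 1986)))) (.node (.node (.node (.leaf 468) (.leaf 1602)) (.node (.leaf 918) (.leaf 1992))) (.node (.node (.leaf 1095) (.leaf 1967)) (.node (.leaf 1740) (.leaf 504))))) (.node (.node (.node (.node (.node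 (.leaf 268) (.leaf 894)) (.leaf 1408)) (.node (.leaf 1329) (.leaf 2103))) (.node (.node (.leaf 26) (.leaf 246)) (.node (.leaf 1634) (.leaf 1983)))) (.node (.node (.node (.leaf 605) (.leaf 201)) (.node (.leaf 1341) (.leaf 1996))) (.node (.node (.leaf 1206) (.leaf 405)) (.node (.leaf 1815) (.leaf 767)))))) (.node (.node (.node (.node (.node (.node (.leaf 165) (.leaf 1213)) (.leaf 1577)) (.node (.leaf 807) (.leaf 2120))) (.node (.node (.leaf 852) (.leaf 1635)) (.node (.leaf 1562) (.leaf 2155)))) (.node (.node (.node (.leaf 556) (.leaf 1712)) (.node (.leaf 1075) (.leaf 315))) (.node (.node (.leaf 1013) (.leaf 750)) (.node (.leaf 242) (.leaf 963))))) (.node (.node (.node (.node (.node (.leaf 374) (.leaf 1150)) (.leaf 1699)) (.node (.leaf 849) (.leaf 1960))) (.node (.node (.leaf 788) (.leaf 1425)) (.node (.leaf 264) (.leaf 506)))) (.node (.node (.node (.leaf 700) (.leaf 1902)) (.node (.leaf 1152) (.leaf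 2161))) (.node (.node (.leaf 1026) (.leaf 627)) (.node (.leaf 155) (.leaf 1243))))))) (.node (.node (.node (.node (.node (.node (.node (.leaf 113) (.leaf 1338)) (.leaf 1789)) (.node (.leaf 47) (.leaf 496))) (.node (.node (.leaf 798) (.leaf 1807)) (.node (.leaf 1529) (.leaf 350)))) (.node (.node (.node (.leaf 514) (.leaf 1913)) (.node (.leaf 1350) (.leaf 435))) (.node (.node (.leaf 1128) (.leaf 276)) (.node (.leaf 185) (.leaf 2176))))) (.node (.node (.node (.node (.node (.leaf 321) (.leaf 1127)) (.leaf 1814)) (.node (.leaf 1348) (.leaf 470))) (.node (.node (.leaf 982) (.leaf 1711)) (.node (.leaf 1663) (.leaf 712)))) (.node (.node (.node (.leaf 664) (.leaf 1428)) (.node (.leaf 820) (.leaf 583))) (.node (.node (.leaf 1232) (.leaf 2020)) (.node (.leaf 103) (.leaf 1057)))))) (.node (.node (.node (.node (.node (.node (.leaf 217) (.leaf 1335)) (.leaf 212)) (.node (.leaf 1342) (.leaf 519))) (.node (.node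 (.leaf 896) (.leaf 1638)) (.node (.leaf 1410) (.leaf 2165)))) (.node (.node (.node (.leaf 588) (.leaf 1818)) (.node (.leaf 1368) (.leaf 486))) (.node (.node (.leaf 1176) (.leaf 430)) (.node (.leaf 1560) (.leaf 762))))) (.node (.node (.node (.node (.node (.leaf 425) (.leaf 1667)) (.leaf 1911)) (.node (.leaf 1199) (.leaf 2141))) (.node (.node (.leaf 30) (.leaf 1941)) (.node (.leaf 1589) (.leaf 1997)))) (.node (.node (.node (.leaf 593) (.leaf 1863)) (.node (.leaf 1445) (.leaf 2105))) (.node (.node (.leaf 1073) (.leaf 2099)) (.node (.leaf 1660) (.leaf 1157)))))))))))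

def threeNext2 : Janko.Tree (ℕ) :=
  (.node (.node (.node (.node (.node (.node (.node (.node (.node (.node (.node (.leaf 3) (.leaf 1224)) (.leaf 1433)) (.node (.leaf 1271) (.leaf 2026))) (.node (.node (.leaf 455) (.leaf 172)) (.node (.leaf 1450) (.leaf 552)))) (.node (.node (.node (.node (.leaf 434) (.leaf 1650)) (.leaf 157)) (.node (.leaf 1238) (.leaf 2000))) (.node (.node (.leaf 840) (.leaf 435)) (.node (.leaf 1624) (.leaf 2142))))) (.node (.node (.node (.node (.node (.leaf 224) (.leaf 1337)) (.leaf 1713)) (.node (.leaf 752) (.leaf 2118))) (.node (.node (.leaf 904) (.leaf 1512)) (.node (.leaf 1604) (.leaf 396)))) (.node (.node (.node (.leaf 593) (.leaf 1442)) (.node (.leaf 1038) (.leaf 490))) (.node (.node (.leaf 1182) (.leaf 340)) (.node (.leaf 1799) (.leaf 1137)))))) (.node (.node (.node (.node (.node (.node (.leaf 121) (.leaf 1258)) (.leaf 1709)) (.node (.leaf 1304) (.leaf 484))) (.node (.node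 (.leaf 798) (.leaf 1542)) (.node (.leaf 1533) (.leaf 2151)))) (.node (.node (.node (.leaf 339) (.leaf 1827)) (.node (.leaf 1168) (.leaf 2043))) (.node (.node (.leaf 1134) (.leaf 684)) (.node (.leaf 1534) (.leaf 917))))) (.node (.node (.node (.node (.node (.leaf 328) (.leaf 1398)) (.leaf 1710)) (.node (.leaf 1288) (.leaf 2092))) (.node (.node (.leaf 965) (.leaf 1501)) (.node (.leaf 1669) (.leaf 1977)))) (.node (.node (.node (.leaf 671) (.leaf 1743)) (.node (.leaf 951) (.leaf 1961))) (.node (.node (.leaf 945) (.leaf 1964)) (.node (.leaf 1678) (.leaf 1115))))))) (.node (.node (.node (.node (.node (.node (.node (.leaf 62) (.leaf 816)) (.leaf 235)) (.node (.leaf 1280) (.leaf 2042))) (.node (.node (.leaf 43) (.leaf 202)) (.node (.leaf 1490) (.leaf 1950)))) (.node (.node (.node (.leaf 475) (.leaf 1580)) (.node (.leaf 957) (.leaf 454))) (.node (.node (.leaf 1070) (.leaf 544)) (.node (.leaf 136) (.leaf 586)))))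 (.node (.node (.node (.node (.node (.leaf 275) (.leaf 1177)) (.leaf 128)) (.node (.leaf 1061) (.leaf 623))) (.node (.node (.leaf 947) (.leaf 1405)) (.node (.leaf 1639) (.leaf 2152)))) (.node (.node (.node (.leaf 635) (.leaf 1689)) (.node (.leaf 1036) (.leaf 620))) (.node (.node (.leaf 1143) (.leaf 281)) (.node (.leaf 1785) (.leaf 2183)))))) (.node (.node (.node (.node (.node (.node (.leaf 174) (.leaf 800)) (.leaf 1597)) (.node (.leaf 914) (.leaf 704))) (.node (.node (.leaf 858) (.leaf 1874)) (.node (.leaf 1567) (.leaf 355)))) (.node (.node (.node (.leaf 563) (.leaf 1489)) (.node (.leaf 1391) (.leaf 424))) (.node (.node (.leaf 1013) (.leaf 545)) (.node (.leaf 1781) (.leaf 1348))))) (.node (.node (.node (.node (.node (.leaf 380) (.leaf 1133)) (.leaf 1695)) (.node (.leaf 1139) (.leaf 482))) (.node (.node (.leaf 1007) (.leaf 1830)) (.node (.leaf 1690) (.leaf 707)))) (.node (.node (.node (.leaf 522) (.leaf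 1921)) (.node (.leaf 252) (.leaf 2057))) (.node (.node (.leaf 1176) (.leaf 2072)) (.node (.leaf 105) (.leaf 778)))))))) (.node (.node (.node (.node (.node (.node (.node (.node (.leaf 34) (.leaf 894)) (.leaf 1877)) (.node (.leaf 834) (.leaf 2105))) (.node (.node (.leaf 464) (.leaf 1848)) (.node (.leaf 1472) (.leaf 532)))) (.node (.node (.node (.node (.leaf 324) (.leaf 1455)) (.leaf 1913)) (.node (.leaf 1376) (.leaf 399))) (.node (.node (.leaf 1081) (.leaf 655)) (.node (.leaf 1684) (.leaf 2112))))) (.node (.node (.node (.node (.node (.leaf 250) (.leaf 1019)) (.leaf 130)) (.node (.leaf 1166) (.leaf 406))) (.node (.node (.leaf 926) (.leaf 184)) (.node (.leaf 189) (.leaf 1962)))) (.node (.node (.node (.leaf 616) (.leaf 1871)) (.node (.leaf 1232) (.leaf 322))) (.node (.node (.leaf 1199) (.leaf 280)) (.node (.leaf 1541) (.leaf 1174)))))) (.node (.node (.node (.node (.node (.node (.leaf 145) (.leaf 859))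 (.leaf 1890)) (.node (.leaf 1220) (.leaf 304))) (.node (.node (.leaf 831) (.leaf 194)) (.node (.leaf 94) (.leaf 438)))) (.node (.node (.node (.leaf 540) (.leaf 1676)) (.node (.leaf 1204) (.leaf 749))) (.node (.node (.leaf 1101) (.leaf 713)) (.node (.leaf 97) (.leaf 1002))))) (.node (.node (.node (.node (.node (.leaf 356) (.leaf 1027)) (.leaf 1509)) (.node (.leaf 57) (.leaf 327))) (.node (.node (.leaf 812) (.leaf 1663)) (.node (.leaf 1680) (.leaf 1968)))) (.node (.node (.node (.leaf 17) (.leaf 1745)) (.node (.leaf 1242) (.leaf 2168))) (.node (.node (.leaf 1241) (.leaf 1999)) (.node (.leaf 104) (.leaf 976))))))) (.node (.node (.node (.node (.node (.node (.node (.leaf 84) (.leaf 1297)) (.leaf 239)) (.node (.leaf 1281) (.leaf 1983))) (.node (.node (.leaf 779) (.leaf 1424)) (.node (.leaf 1515) (.leaf 2015)))) (.node (.node (.node (.leaf 499) (.leaf 151)) (.node (.leaf 1195) (.leaf 2149))) (.node (.node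 (.leaf 874) (.leaf 734)) (.node (.leaf 1636) (.leaf 1340))))) (.node (.node (.node (.node (.node (.leaf 305) (.leaf 1129)) (.leaf 156)) (.node (.leaf 1320) (.leaf 2055))) (.node (.node (.leaf 786) (.leaf 1535)) (.node (.leaf 198) (.leaf 720)))) (.node (.node (.node (.leaf 652) (.leaf 1751)) (.node (.leaf 1105) (.leaf 326))) (.node (.node (.leaf 1103) (.leaf 639)) (.node (.leaf 1602) (.leaf 2174)))))) (.node (.node (.node (.node (.node (.node (.leaf 197) (.leaf 1298)) (.leaf 208)) (.node (.leaf 1311) (.leaf 1967))) (.node (.node (.leaf 832) (.leaf 1681)) (.node (.leaf 1585) (.leaf 608)))) (.node (.node (.node (.leaf 583) (.leaf 1673)) (.node (.leaf 1381) (.leaf 476))) (.node (.node (.leaf 1096) (.leaf 675)) (.node (.leaf 1764) (.leaf 1239))))) (.node (.node (.node (.node (.node (.leaf 408) (.leaf 938)) (.leaf 1811)) (.node (.leaf 1315) (.leaf 592))) (.node (.node (.leaf 1042) (.leaf 1652)) (.node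 (.leaf 1549) (.leaf 743)))) (.node (.node (.node (.leaf 651) (.leaf 1862)) (.node (.leaf 1427) (.leaf 2138))) (.node (.node (.leaf 758) (.leaf 610)) (.node (.leaf 1863) (.leaf 958))))))))) (.node (.node (.node (.node (.node (.node (.node (.node (.node (.leaf 19) (.leaf 1209)) (.leaf 1873)) (.node (.leaf 755) (.leaf 2082))) (.node (.node (.leaf 659) (.leaf 173)) (.node (.leaf 92) (.leaf 2143)))) (.node (.node (.node (.node (.leaf 395) (.leaf 1773)) (.leaf 1870)) (.node (.leaf 878) (.leaf 471))) (.node (.node (.leaf 1072) (.leaf 462)) (.node (.leaf 93) (.leaf 505))))) (.node (.node (.node (.node (.node (.leaf 231) (.leaf 943)) (.leaf 1412)) (.node (.leaf 1079) (.leaf 312))) (.node (.node (.leaf 912) (.leaf 1896)) (.node (.leaf 1615) (.leaf 370)))) (.node (.node (.node (.leaf 605) (.leaf 1792)) (.node (.leaf 1300) (.leaf 617))) (.node (.node (.leaf 36) (.leaf 517)) (.node (.leaf 1807) (.leaf 830))))))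 (.node (.node (.node (.node (.node (.node (.leaf 134) (.leaf 1312)) (.leaf 1889)) (.node (.leaf 1130) (.leaf 2046))) (.node (.node (.leaf 817) (.leaf 1657)) (.node (.leaf 201) (.leaf 358)))) (.node (.node (.node (.leaf 349) (.leaf 1902)) (.node (.leaf 780) (.leaf 2069))) (.node (.node (.leaf 959) (.leaf 1993)) (.node (.leaf 1543) (.leaf 822))))) (.node (.node (.node (.node (.node (.leaf 342) (.leaf 2172)) (.leaf 1895)) (.node (.leaf 1015) (.leaf 2035))) (.node (.node (.leaf 1000) (.leaf 1850)) (.node (.leaf 1607) (.leaf 584)))) (.node (.node (.node (.leaf 437) (.leaf 1876)) (.node (.leaf 1124) (.leaf 338))) (.node (.node (.leaf 1158) (.leaf 323)) (.node (.leaf 113) (.leaf 882))))))) (.node (.node (.node (.node (.node (.node (.node (.leaf 78) (.leaf 987)) (.leaf 1612)) (.node (.leaf 1031) (.leaf 2028))) (.node (.node (.leaf 765) (.leaf 1753)) (.node (.leaf 1502) (.leaf 2166)))) (.node (.node (.node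 (.leaf 489) (.leaf 1666)) (.node (.leaf 923) (.leaf 320))) (.node (.node (.leaf 1108) (.leaf 1973)) (.node (.leaf 1485) (.leaf 1118))))) (.node (.node (.node (.node (.node (.leaf 290) (.leaf 1400)) (.leaf 119)) (.node (.leaf 1361) (.leaf 577))) (.node (.node (.leaf 776) (.leaf 1415)) (.node (.leaf 1649) (.leaf 2139)))) (.node (.node (.node (.leaf 644) (.leaf 1662)) (.node (.leaf 1128) (.leaf 2163))) (.node (.node (.leaf 52) (.leaf 654)) (.node (.leaf 164) (.leaf 1225)))))) (.node (.node (.node (.node (.node (.node (.leaf 185) (.leaf 1351)) (.leaf 1487)) (.node (.leaf 1328) (.leaf 306))) (.node (.node (.leaf 871) (.leaf 1936)) (.node (.leaf 1513) (.leaf 746)))) (.node (.node (.node (.leaf 375) (.leaf 1884)) (.node (.leaf 1369) (.leaf 317))) (.node (.node (.leaf 892) (.leaf 2013)) (.node (.leaf 1787) (.leaf 1262))))) (.node (.node (.node (.node (.node (.leaf 394) (.leaf 1256)) (.leaf 1510)) (.node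 (.leaf 1153) (.leaf 2132))) (.node (.node (.leaf 1030) (.leaf 1929)) (.node (.leaf 1696) (.leaf 413)))) (.node (.node (.node (.leaf 664) (.leaf 1791)) (.node (.leaf 1417) (.leaf 2116))) (.node (.node (.leaf 1035) (.leaf 2085)) (.node (.leaf 1860) (.leaf 1074)))))))) (.node (.node (.node (.node (.node (.node (.node (.node (.leaf 47) (.leaf 1301)) (.leaf 1880)) (.node (.leaf 1284) (.leaf 2033))) (.node (.node (.leaf 745) (.leaf 1454)) (.node (.leaf 1484) (.leaf 1944)))) (.node (.node (.node (.leaf 467) (.leaf 1841)) (.node (.leaf 1339) (.leaf 619))) (.node (.node (.leaf 1089) (.leaf 606)) (.node (.leaf 1467) (.leaf 474))))) (.node (.node (.node (.node (.node (.leaf 220) (.leaf 1154)) (.leaf 1738)) (.node (.leaf 1334) (.leaf 429))) (.node (.node (.leaf 936) (.leaf 1451)) (.node (.leaf 1441) (.leaf 621)))) (.node (.node (.node (.leaf 403) (.leaf 1931)) (.node (.leaf 823) (.leaf 2165))) (.node (.node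 (.leaf 953) (.leaf 676)) (.node (.leaf 1808) (.leaf 1272)))))) (.node (.node (.node (.node (.node (.node (.leaf 2) (.leaf 1266)) (.leaf 114)) (.node (.leaf 1316) (.leaf 672))) (.node (.node (.leaf 845) (.leaf 1853)) (.node (.leaf 237) (.leaf 2077)))) (.node (.node (.node (.leaf 528) (.leaf 248)) (.node (.leaf 1097) (.leaf 2023))) (.node (.node (.leaf 1088) (.leaf 1963)) (.node (.leaf 1770) (.leaf 1318))))) (.node (.node (.node (.node (.node (.leaf 361) (.leaf 1394)) (.leaf 1557)) (.node (.leaf 1371) (.leaf 2045))) (.node (.node (.leaf 1020) (.leaf 1463)) (.node (.leaf 1686) (.leaf 645)))) (.node (.node (.node (.leaf 697) (.leaf 1924)) (.node (.leaf 1374) (.leaf 1939))) (.node (.node (.leaf 1245) (.leaf 2075)) (.node (.leaf 1550) (.leaf 870))))))) (.node (.node (.node (.node (.node (.node (.node (.leaf 106) (.leaf 1187)) (.leaf 187)) (.node (.leaf 1197) (.leaf 549))) (.node (.node (.leaf 793) (.leaf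 1897)) (.node (.leaf 1525) (.leaf 2134)))) (.node (.node (.node (.leaf 510) (.leaf 1747)) (.node (.leaf 1010) (.leaf 1965))) (.node (.node (.leaf 32) (.leaf 1987)) (.node (.leaf 1659) (.leaf 868))))) (.node (.node (.node (.node (.node (.leaf 278) (.leaf 1190)) (.leaf 1581)) (.node (.leaf 873) (.leaf 733))) (.node (.node (.leaf 977) (.leaf 1616)) (.node (.leaf 88) (.leaf 680)))) (.node (.node (.node (.leaf 633) (.leaf 1457)) (.node (.leaf 990) (.leaf 1998))) (.node (.node (.leaf 1229) (.leaf 2029)) (.node (.leaf 1826) (.leaf 2186)))))) (.node (.node (.node (.node (.node (.node (.leaf 211) (.leaf 1100)) (.leaf 116)) (.node (.leaf 1338) (.leaf 491))) (.node (.node (.leaf 761) (.leaf 1804)) (.node (.leaf 1595) (.leaf 368)))) (.node (.node (.node (.leaf 570) (.leaf 1778)) (.node (.leaf 1240) (.leaf 699))) (.node (.node (.leaf 901) (.leaf 443)) (.node (.leaf 1627) (.leaf 1395))))) (.node (.node (.node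 (.node (.node (.leaf 421) (.leaf 1911)) (.leaf 1786)) (.node (.leaf 1377) (.leaf 444))) (.node (.node (.leaf 1053) (.leaf 1461)) (.node (.leaf 1558) (.leaf 478)))) (.node (.node (.node (.leaf 576) (.leaf 1887)) (.node (.leaf 1439) (.leaf 493))) (.node (.node (.leaf 1202) (.leaf 2007)) (.node (.leaf 1869) (.leaf 1387)))))))))) (.node (.node (.node (.node (.node (.node (.node (.node (.node (.node (.leaf 11) (.leaf 1236)) (.leaf 1491)) (.node (.leaf 880) (.leaf 729))) (.node (.node (.leaf 632) (.leaf 161)) (.node (.leaf 1452) (.leaf 425)))) (.node (.node (.node (.node (.leaf 440) (.leaf 1677)) (.leaf 1702)) (.node (.leaf 928) (.leaf 1982))) (.node (.node (.leaf 1065) (.leaf 1949)) (.node (.leaf 1603) (.leaf 2005))))) (.node (.node (.node (.node (.node (.leaf 232) (.leaf 898)) (.leaf 1715)) (.node (.leaf 1257) (.leaf 2126))) (.node (.node (.leaf 906) (.leaf 183)) (.node (.leaf 1610) (.leaf 519)))) (.node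 (.node (.node (.leaf 600) (.leaf 1865)) (.node (.leaf 881) (.leaf 333))) (.node (.node (.leaf 999) (.leaf 397)) (.node (.leaf 1803) (.leaf 1145)))))) (.node (.node (.node (.node (.node (.node (.leaf 129) (.leaf 2185)) (.leaf 1867)) (.node (.leaf 1279) (.leaf 292))) (.node (.node (.leaf 24) (.leaf 199)) (.node (.leaf 1422) (.leaf 569)))) (.node (.node (.node (.leaf 526) (.leaf 1843)) (.node (.leaf 1170) (.leaf 1992))) (.node (.node (.leaf 809) (.leaf 1991)) (.node (.leaf 1466) (.leaf 1367))))) (.node (.node (.node (.node (.node (.leaf 335) (.leaf 2178)) (.leaf 123)) (.node (.leaf 986) (.leaf 1954))) (.node (.node (.leaf 994) (.leaf 1694)) (.node (.leaf 1561) (.leaf 679)))) (.node (.node (.node (.leaf 538) (.leaf 1934)) (.node (.leaf 1215) (.leaf 329))) (.node (.node (.leaf 1237) (.leaf 1970)) (.node (.leaf 103) (.leaf 1274))))))) (.node (.node (.node (.node (.node (.node (.node (.leaf 70) (.leaf 1140))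 (.leaf 1882)) (.node (.leaf 1113) (.leaf 2070))) (.node (.node (.leaf 54) (.leaf 1741)) (.node (.leaf 1497) (.leaf 447)))) (.node (.node (.node (.leaf 481) (.leaf 225)) (.node (.leaf 866) (.leaf 668))) (.node (.node (.leaf 1102) (.leaf 666)) (.node (.leaf 1722) (.leaf 1385))))) (.node (.node (.node (.node (.node (.leaf 282) (.leaf 1333)) (.leaf 1866)) (.node (.leaf 1283) (.leaf 1945))) (.node (.node (.leaf 952) (.leaf 1854)) (.node (.leaf 1642) (.leaf 564)))) (.node (.node (.node (.leaf 638) (.leaf 1654)) (.node (.leaf 1056) (.leaf 1953))) (.node (.node (.leaf 1043) (.leaf 2031)) (.node (.leaf 1611) (.leaf 1359)))))) (.node (.node (.node (.node (.node (.node (.leaf 179) (.leaf 1379)) (.leaf 1479)) (.node (.leaf 1325) (.leaf 2065))) (.node (.node (.leaf 863) (.leaf 1775)) (.node (.leaf 1569) (.leaf 450)))) (.node (.node (.node (.leaf 568) (.leaf 1434)) (.node (.leaf 1295) (.leaf 348))) (.node (.node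 (.leaf 1104) (.leaf 321)) (.node (.leaf 1784) (.leaf 1275))))) (.node (.node (.node (.node (.node (.leaf 387) (.leaf 1160)) (.leaf 1705)) (.node (.leaf 1109) (.leaf 2131))) (.node (.node (.leaf 1012) (.leaf 1915)) (.node (.leaf 1465) (.leaf 2002)))) (.node (.node (.node (.leaf 572) (.leaf 1632)) (.node (.leaf 1410) (.leaf 2097))) (.node (.node (.leaf 1213) (.leaf 2061)) (.node (.leaf 1682) (.leaf 790)))))))) (.node (.node (.node (.node (.node (.node (.node (.node (.leaf 40) (.leaf 1380)) (.leaf 177)) (.node (.leaf 954) (.leaf 624))) (.node (.node (.leaf 288) (.leaf 1475)) (.node (.leaf 1477) (.leaf 483)))) (.node (.node (.node (.node (.leaf 460) (.leaf 1739)) (.leaf 1819)) (.node (.leaf 77) (.leaf 599))) (.node (.node (.leaf 1084) (.leaf 706)) (.node (.leaf 1736) (.leaf 689))))) (.node (.node (.node (.node (.node (.leaf 4) (.leaf 1099)) (.leaf 1672)) (.node (.leaf 1332) (.leaf 520))) (.node (.node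 (.leaf 931) (.leaf 1815)) (.node (.leaf 1628) (.leaf 2039)))) (.node (.node (.node (.leaf 618) (.leaf 1756)) (.node (.leaf 908) (.leaf 2108))) (.node (.node (.leaf 899) (.leaf 2030)) (.node (.leaf 1496) (.leaf 940)))))) (.node (.node (.node (.node (.node (.node (.leaf 152) (.leaf 1287)) (.leaf 1419)) (.node (.leaf 760) (.leaf 702))) (.node (.node (.leaf 839) (.leaf 1814)) (.node (.leaf 1551) (.leaf 2133)))) (.node (.node (.node (.leaf 12) (.leaf 1857)) (.node (.leaf 1285) (.leaf 2155))) (.node (.node (.leaf 1071) (.leaf 739)) (.node (.leaf 1768) (.leaf 1261))))) (.node (.node (.node (.node (.node (.leaf 362) (.leaf 944)) (.leaf 171)) (.node (.leaf 1296) (.leaf 2141))) (.node (.node (.leaf 28) (.leaf 1646)) (.node (.leaf 120) (.leaf 2160)))) (.node (.node (.node (.leaf 366) (.leaf 1925)) (.node (.leaf 1319) (.leaf 1994))) (.node (.node (.leaf 1243) (.leaf 477)) (.node (.leaf 1846) (.leaf 1370)))))))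 (.node (.node (.node (.node (.node (.node (.node (.leaf 99) (.leaf 1336)) (.leaf 1831)) (.node (.leaf 1091) (.leaf 2038))) (.node (.node (.leaf 787) (.leaf 1411)) (.node (.leaf 193) (.leaf 747)))) (.node (.node (.node (.leaf 504) (.leaf 1724)) (.node (.leaf 1014) (.leaf 514))) (.node (.node (.leaf 1120) (.leaf 508)) (.node (.leaf 1640) (.leaf 865))))) (.node (.node (.node (.node (.node (.leaf 313) (.leaf 946)) (.leaf 1816)) (.node (.leaf 1278) (.leaf 731))) (.node (.node (.leaf 971) (.leaf 1536)) (.node (.leaf 1576) (.leaf 376)))) (.node (.node (.node (.leaf 16) (.leaf 1691)) (.node (.leaf 757) (.leaf 694))) (.node (.node (.leaf 1223) (.leaf 2054)) (.node (.leaf 1528) (.leaf 2173)))))) (.node (.node (.node (.node (.node (.node (.leaf 203) (.leaf 934)) (.leaf 1834)) (.node (.leaf 1335) (.leaf 1988))) (.node (.node (.leaf 889) (.leaf 242)) (.node (.leaf 1590) (.leaf 2058)))) (.node (.node (.node (.leaf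 585) (.leaf 1519)) (.node (.leaf 1382) (.leaf 560))) (.node (.node (.leaf 885) (.leaf 2021)) (.node (.leaf 240) (.leaf 2180))))) (.node (.node (.node (.node (.node (.leaf 416) (.leaf 1222)) (.leaf 1820)) (.node (.leaf 71) (.leaf 601))) (.node (.node (.leaf 1048) (.leaf 1544)) (.node (.leaf 1456) (.leaf 1941)))) (.node (.node (.node (.leaf 345) (.leaf 1493)) (.node (.leaf 80) (.leaf 2159))) (.node (.node (.leaf 1263) (.leaf 315)) (.node (.leaf 1600) (.leaf 937))))))))) (.node (.node (.node (.node (.node (.node (.node (.node (.node (.leaf 26) (.leaf 907)) (.leaf 238)) (.node (.leaf 777) (.leaf 2084))) (.node (.node (.leaf 448) (.leaf 1591)) (.node (.leaf 247) (.leaf 347)))) (.node (.node (.node (.node (.leaf 452) (.leaf 1644)) (.leaf 1568)) (.node (.leaf 1368) (.leaf 386))) (.node (.node (.leaf 1075) (.leaf 516)) (.node (.leaf 221) (.leaf 711))))) (.node (.node (.node (.node (.node (.leaf 243) (.leaf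 1018)) (.leaf 229)) (.node (.leaf 1276) (.leaf 2089))) (.node (.node (.leaf 918) (.leaf 1868)) (.node (.leaf 1583) (.leaf 1996)))) (.node (.node (.node (.leaf 611) (.leaf 1779)) (.node (.leaf 1250) (.leaf 390))) (.node (.node (.leaf 872) (.leaf 2034)) (.node (.leaf 1794) (.leaf 1234)))))) (.node (.node (.node (.node (.node (.node (.leaf 139) (.leaf 1164)) (.leaf 1723)) (.node (.leaf 1214) (.leaf 2121))) (.node (.node (.leaf 824) (.leaf 1504)) (.node (.leaf 204) (.leaf 2153)))) (.node (.node (.node (.leaf 534) (.leaf 1635)) (.node (.leaf 1342) (.leaf 2124))) (.node (.node (.leaf 1009) (.leaf 1995)) (.node (.leaf 1545) (.leaf 1156))))) (.node (.node (.node (.node (.node (.leaf 350) (.leaf 1135)) (.leaf 1748)) (.node (.leaf 921) (.leaf 660))) (.node (.node (.leaf 1005) (.leaf 1917)) (.node (.leaf 1556) (.leaf 389)))) (.node (.node (.node (.leaf 683) (.leaf 1742)) (.node (.leaf 1293) (.leaf 2094))) (.node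 (.node (.leaf 1121) (.leaf 2066)) (.node (.leaf 1840) (.leaf 1345))))))) (.node (.node (.node (.node (.node (.node (.node (.leaf 85) (.leaf 811)) (.leaf 111)) (.node (.leaf 46) (.leaf 436))) (.node (.node (.leaf 772) (.leaf 1726)) (.node (.leaf 1478) (.leaf 566)))) (.node (.node (.node (.leaf 494) (.leaf 1698)) (.node (.leaf 1060) (.leaf 553))) (.node (.node (.leaf 975) (.leaf 1979)) (.node (.leaf 1752) (.leaf 1159))))) (.node (.node (.node (.node (.node (.leaf 297) (.leaf 1146)) (.leaf 1858)) (.node (.leaf 1292) (.leaf 573))) (.node (.node (.leaf 963) (.leaf 1460)) (.node (.leaf 180) (.leaf 567)))) (.node (.node (.node (.leaf 647) (.leaf 213)) (.node (.leaf 891) (.leaf 466))) (.node (.node (.leaf 981) (.leaf 1947)) (.node (.leaf 1407) (.leaf 1228)))))) (.node (.node (.node (.node (.node (.node (.leaf 191) (.leaf 801)) (.leaf 115)) (.node (.leaf 1322) (.leaf 2127))) (.node (.node (.leaf 877) (.leaf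 1829)) (.node (.leaf 1579) (.leaf 1960)))) (.node (.node (.node (.leaf 13) (.leaf 205)) (.node (.leaf 919) (.leaf 2056))) (.node (.node (.leaf 1069) (.leaf 1952)) (.node (.leaf 1668) (.leaf 1354))))) (.node (.node (.node (.node (.node (.leaf 402) (.leaf 1127)) (.leaf 227)) (.node (.leaf 1141) (.leaf 1990))) (.node (.node (.leaf 1037) (.leaf 1923)) (.node (.leaf 90) (.leaf 546)))) (.node (.node (.node (.leaf 634) (.leaf 265)) (.node (.leaf 154) (.leaf 677))) (.node (.node (.leaf 982) (.leaf 2088)) (.node (.leaf 1426) (.leaf 1331)))))))) (.node (.node (.node (.node (.node (.node (.node (.node (.leaf 55) (.leaf 1025)) (.leaf 1584)) (.node (.leaf 45) (.leaf 2111))) (.node (.node (.leaf 562) (.leaf 1904)) (.node (.leaf 127) (.leaf 669)))) (.node (.node (.node (.leaf 469) (.leaf 1892)) (.node (.leaf 843) (.leaf 691))) (.node (.node (.leaf 31) (.leaf 287)) (.node (.leaf 1508) (.leaf 710))))) (.node (.node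 (.node (.node (.node (.leaf 269) (.leaf 984)) (.leaf 118)) (.node (.leaf 1355) (.leaf 486))) (.node (.node (.leaf 941) (.leaf 1617)) (.node (.leaf 1495) (.leaf 1958)))) (.node (.node (.node (.leaf 628) (.leaf 1912)) (.node (.leaf 836) (.leaf 2071))) (.node (.node (.leaf 1092) (.leaf 594)) (.node (.leaf 1449) (.leaf 1226)))))) (.node (.node (.node (.node (.node (.node (.leaf 166) (.leaf 995)) (.leaf 131)) (.node (.leaf 1249) (.leaf 716))) (.node (.node (.leaf 853) (.leaf 1704)) (.node (.leaf 1563) (.leaf 2004)))) (.node (.node (.node (.leaf 557) (.leaf 251)) (.node (.leaf 764) (.leaf 410))) (.node (.node (.leaf 782) (.leaf 598)) (.node (.leaf 1777) (.leaf 925))))) (.node (.node (.node (.node (.node (.leaf 9) (.leaf 1330)) (.leaf 122)) (.node (.leaf 69) (.leaf 2119))) (.node (.node (.leaf 1022) (.leaf 1707)) (.node (.leaf 212) (.leaf 701)))) (.node (.node (.node (.leaf 372) (.leaf 1937)) (.node (.leaf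 1186) (.leaf 612))) (.node (.node (.leaf 1150) (.leaf 2078)) (.node (.leaf 1505) (.leaf 789))))))) (.node (.node (.node (.node (.node (.node (.node (.leaf 1) (.leaf 1357)) (.leaf 1692)) (.node (.leaf 1076) (.leaf 578))) (.node (.node (.leaf 799) (.leaf 1818)) (.node (.leaf 266) (.leaf 459)))) (.node (.node (.node (.leaf 515) (.leaf 262)) (.node (.leaf 1305) (.leaf 687))) (.node (.node (.leaf 803) (.leaf 721)) (.node (.leaf 96) (.leaf 972))))) (.node (.node (.node (.node (.node (.leaf 289) (.leaf 1313)) (.leaf 1907)) (.node (.leaf 1233) (.leaf 343))) (.node (.node (.leaf 27) (.leaf 1671)) (.node (.leaf 1483) (.leaf 2136)))) (.node (.node (.node (.leaf 665) (.leaf 1789)) (.node (.leaf 1399) (.leaf 1966))) (.node (.node (.leaf 1171) (.leaf 693)) (.node (.leaf 259) (.leaf 1404)))))) (.node (.node (.node (.node (.node (.node (.leaf 218) (.leaf 888)) (.leaf 1881)) (.node (.leaf 1047) (.leaf 441))) (.node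 (.node (.leaf 897) (.leaf 1783)) (.node (.leaf 1594) (.leaf 2161)))) (.node (.node (.node (.leaf 575) (.leaf 1835)) (.node (.leaf 1029) (.leaf 725))) (.node (.node (.leaf 53) (.leaf 318)) (.node (.leaf 1481) (.leaf 1172))))) (.node (.node (.node (.node (.node (.leaf 426) (.leaf 1847)) (.leaf 150)) (.node (.leaf 1217) (.leaf 2050))) (.node (.node (.leaf 1055) (.leaf 271)) (.node (.leaf 1718) (.leaf 2009)))) (.node (.node (.node (.leaf 667) (.leaf 253)) (.node (.leaf 1446) (.leaf 2147))) (.node (.node (.leaf 1112) (.leaf 642)) (.node (.leaf 234) (.leaf 819)))))))))))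

def threeNext3 : Janko.Tree (ℕ) :=
  (.node (.node (.node (.node (.node (.node (.node (.node (.node (.node (.node (.leaf 4) (.leaf 1196)) (.leaf 1817)) (.node (.leaf 1165) (.leaf 2092))) (.node (.node (.leaf 688) (.leaf 1448)) (.node (.leaf 1451) (.leaf 338)))) (.node (.node (.node (.node (.leaf 435) (.leaf 1531)) (.leaf 242)) (.node (.leaf 1280) (.leaf 2115))) (.node (.node (.leaf 1060) (.leaf 271)) (.node (.leaf 1589) (.leaf 473))))) (.node (.node (.node (.node (.node (.leaf 225) (.leaf 1045)) (.leaf 1696)) (.node (.leaf 1317) (.leaf 650))) (.node (.node (.leaf 24) (.leaf 1480)) (.node (.leaf 177) (.leaf 2053)))) (.node (.node (.node (.leaf 594) (.leaf 1729)) (.node (.leaf 1178) (.leaf 2095))) (.node (.node (.leaf 1183) (.leaf 2029)) (.node (.leaf 1800) (.leaf 1379)))))) (.node (.node (.node (.node (.node (.node (.leaf 122) (.leaf 800)) (.leaf 1835)) (.node (.leaf 795) (.leaf 726))) (.node (.node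 (.leaf 806) (.leaf 1579)) (.node (.leaf 1534) (.leaf 658)))) (.node (.node (.node (.leaf 521) (.leaf 1740)) (.node (.leaf 1363) (.leaf 514))) (.node (.node (.leaf 1135) (.leaf 1989)) (.node (.leaf 1761) (.leaf 2178))))) (.node (.node (.node (.node (.node (.leaf 329) (.leaf 1356)) (.leaf 1687)) (.node (.leaf 1281) (.leaf 2093))) (.node (.node (.leaf 988) (.leaf 1667)) (.node (.leaf 88) (.leaf 716)))) (.node (.node (.node (.leaf 584) (.leaf 1546)) (.node (.leaf 847) (.leaf 374))) (.node (.node (.leaf 1148) (.leaf 2005)) (.node (.leaf 1831) (.leaf 772))))))) (.node (.node (.node (.node (.node (.node (.node (.leaf 63) (.leaf 1350)) (.leaf 110)) (.node (.leaf 53) (.leaf 2015))) (.node (.node (.leaf 754) (.leaf 1441)) (.node (.leaf 1491) (.leaf 513)))) (.node (.node (.node (.leaf 476) (.leaf 1457)) (.node (.leaf 1290) (.leaf 379))) (.node (.node (.leaf 911) (.leaf 274)) (.node (.leaf 1745) (.leaf 1953)))))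 (.node (.node (.node (.node (.node (.leaf 276) (.leaf 2186)) (.leaf 1893)) (.node (.leaf 1358) (.leaf 330))) (.node (.node (.leaf 948) (.leaf 1714)) (.node (.leaf 1421) (.leaf 2127)))) (.node (.node (.node (.leaf 15) (.leaf 1639)) (.node (.leaf 72) (.leaf 437))) (.node (.node (.leaf 1188) (.leaf 2044)) (.node (.leaf 1679) (.leaf 1010)))))) (.node (.node (.node (.node (.node (.node (.leaf 2) (.leaf 1109)) (.leaf 182)) (.node (.leaf 778) (.leaf 2124))) (.node (.node (.leaf 790) (.leaf 1927)) (.node (.leaf 1568) (.leaf 417)))) (.node (.node (.node (.leaf 564) (.leaf 1572)) (.node (.leaf 915) (.leaf 735))) (.node (.node (.leaf 1099) (.leaf 529)) (.node (.leaf 185) (.leaf 817))))) (.node (.node (.node (.node (.node (.leaf 297) (.leaf 1014)) (.leaf 1840)) (.node (.leaf 1169) (.leaf 2047))) (.node (.node (.leaf 1024) (.leaf 1911)) (.node (.leaf 1656) (.leaf 2087)))) (.node (.node (.node (.leaf 703) (.leaf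 1654)) (.node (.leaf 1408) (.leaf 423))) (.node (.node (.leaf 960) (.leaf 328)) (.node (.leaf 1584) (.leaf 1117)))))))) (.node (.node (.node (.node (.node (.node (.node (.node (.leaf 35) (.leaf 1033)) (.leaf 170)) (.node (.leaf 885) (.leaf 686))) (.node (.node (.leaf 738) (.leaf 1926)) (.node (.leaf 1473) (.leaf 496)))) (.node (.node (.node (.node (.leaf 299) (.leaf 1487)) (.leaf 1914)) (.node (.leaf 1321) (.leaf 472))) (.node (.node (.leaf 1025) (.leaf 492)) (.node (.leaf 1732) (.leaf 722))))) (.node (.node (.node (.node (.node (.leaf 251) (.leaf 1200)) (.leaf 1842)) (.node (.leaf 1224) (.leaf 745))) (.node (.node (.leaf 927) (.leaf 1889)) (.node (.leaf 1623) (.leaf 2084)))) (.node (.node (.node (.leaf 468) (.leaf 224)) (.node (.leaf 827) (.leaf 2153))) (.node (.node (.leaf 1144) (.leaf 693)) (.node (.leaf 1691) (.leaf 935)))))) (.node (.node (.node (.node (.node (.node (.leaf 146) (.leaf 1195))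 (.leaf 1484)) (.node (.leaf 1311) (.leaf 2054))) (.node (.node (.leaf 832) (.leaf 1476)) (.node (.leaf 1545) (.leaf 2154)))) (.node (.node (.node (.leaf 541) (.leaf 265)) (.node (.leaf 1308) (.leaf 1990))) (.node (.node (.leaf 42) (.leaf 640)) (.node (.leaf 1734) (.leaf 1373))))) (.node (.node (.node (.node (.node (.leaf 19) (.leaf 979)) (.leaf 1771)) (.node (.leaf 946) (.leaf 729))) (.node (.node (.leaf 1011) (.leaf 1553)) (.node (.leaf 1681) (.leaf 562)))) (.node (.node (.node (.leaf 687) (.leaf 1812)) (.node (.leaf 1320) (.leaf 624))) (.node (.node (.leaf 853) (.leaf 538)) (.node (.leaf 1437) (.leaf 1389))))))) (.node (.node (.node (.node (.node (.node (.node (.leaf 93) (.leaf 954)) (.leaf 179)) (.node (.leaf 1296) (.leaf 2116))) (.node (.node (.leaf 780) (.leaf 1923)) (.node (.leaf 249) (.leaf 2063)))) (.node (.node (.node (.leaf 463) (.leaf 1631)) (.node (.leaf 1385) (.leaf 652))) (.node (.node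 (.leaf 838) (.leaf 436)) (.node (.leaf 1619) (.leaf 1263))))) (.node (.node (.node (.node (.node (.leaf 306) (.leaf 1285)) (.leaf 1904)) (.node (.leaf 1286) (.leaf 2098))) (.node (.node (.leaf 969) (.leaf 1900)) (.node (.leaf 1655) (.leaf 2096)))) (.node (.node (.node (.leaf 653) (.leaf 1650)) (.node (.leaf 1245) (.leaf 1961))) (.node (.node (.leaf 1068) (.leaf 2051)) (.node (.leaf 134) (.leaf 1260)))))) (.node (.node (.node (.node (.node (.node (.leaf 198) (.leaf 1076)) (.leaf 1570)) (.node (.leaf 1268) (.leaf 730))) (.node (.node (.leaf 883) (.leaf 1869)) (.node (.leaf 1586) (.leaf 1964)))) (.node (.node (.node (.leaf 547) (.leaf 203)) (.node (.leaf 1187) (.leaf 2125))) (.node (.node (.leaf 944) (.leaf 2019)) (.node (.leaf 1791) (.leaf 1229))))) (.node (.node (.node (.node (.node (.leaf 409) (.leaf 970)) (.leaf 1425)) (.node (.leaf 1326) (.leaf 311))) (.node (.node (.leaf 1043) (.leaf 1924)) (.node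 (.leaf 228) (.leaf 2164)))) (.node (.node (.node (.leaf 674) (.leaf 1479)) (.node (.leaf 1414) (.leaf 402))) (.node (.node (.leaf 828) (.leaf 285)) (.node (.leaf 1864) (.leaf 1057))))))))) (.node (.node (.node (.node (.node (.node (.node (.node (.node (.leaf 20) (.leaf 1333)) (.leaf 1801)) (.node (.leaf 1275) (.leaf 428))) (.node (.node (.leaf 507) (.leaf 191)) (.node (.leaf 1462) (.leaf 2077)))) (.node (.node (.node (.node (.leaf 446) (.leaf 1827)) (.leaf 1742)) (.node (.leaf 1258) (.leaf 1942))) (.node (.node (.leaf 30) (.leaf 694)) (.node (.leaf 1724) (.leaf 2141))))) (.node (.node (.node (.node (.node (.leaf 239) (.leaf 813)) (.leaf 1833)) (.node (.leaf 1330) (.leaf 452))) (.node (.node (.leaf 913) (.leaf 1886)) (.node (.leaf 112) (.leaf 407)))) (.node (.node (.node (.leaf 606) (.leaf 1454)) (.node (.leaf 1037) (.leaf 411))) (.node (.node (.leaf 1083) (.leaf 744)) (.node (.leaf 1707) (.leaf 1128))))))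 (.node (.node (.node (.node (.node (.node (.leaf 135) (.leaf 1016)) (.leaf 113)) (.node (.leaf 1227) (.leaf 2120))) (.node (.node (.leaf 62) (.leaf 1934)) (.node (.leaf 102) (.leaf 418)))) (.node (.node (.node (.leaf 532) (.leaf 139)) (.node (.leaf 1052) (.leaf 520))) (.node (.node (.leaf 1140) (.leaf 566)) (.node (.leaf 1536) (.leaf 1177))))) (.node (.node (.node (.node (.node (.leaf 343) (.leaf 976)) (.leaf 1770)) (.node (.leaf 1064) (.leaf 313))) (.node (.node (.leaf 1001) (.leaf 241)) (.node (.leaf 1674) (.leaf 2169)))) (.node (.node (.node (.leaf 401) (.leaf 151)) (.node (.leaf 1399) (.leaf 2049))) (.node (.node (.leaf 77) (.leaf 304)) (.node (.leaf 213) (.leaf 2171))))))) (.node (.node (.node (.node (.node (.node (.node (.leaf 0) (.leaf 819)) (.leaf 1588)) (.node (.leaf 1292) (.leaf 2041))) (.node (.node (.leaf 766) (.leaf 188)) (.node (.leaf 187) (.leaf 501)))) (.node (.node (.node (.leaf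 490) (.leaf 1855)) (.node (.leaf 1332) (.leaf 561))) (.node (.node (.leaf 1021) (.leaf 485)) (.node (.leaf 1750) (.leaf 779))))) (.node (.node (.node (.node (.node (.leaf 291) (.leaf 833)) (.leaf 1701)) (.node (.leaf 1142) (.leaf 2017))) (.node (.node (.leaf 958) (.leaf 1522)) (.node (.leaf 1453) (.leaf 477)))) (.node (.node (.node (.leaf 588) (.leaf 1460)) (.node (.leaf 1006) (.leaf 385))) (.node (.node (.leaf 1218) (.leaf 354)) (.node (.leaf 1819) (.leaf 1238)))))) (.node (.node (.node (.node (.node (.node (.leaf 186) (.leaf 992)) (.leaf 1587)) (.node (.leaf 1022) (.leaf 617))) (.node (.node (.leaf 872) (.leaf 1590)) (.node (.leaf 1575) (.leaf 518)))) (.node (.node (.node (.leaf 574) (.leaf 143)) (.node (.leaf 1388) (.leaf 2146))) (.node (.node (.leaf 1125) (.leaf 481)) (.node (.leaf 98) (.leaf 1339))))) (.node (.node (.node (.node (.node (.leaf 395) (.leaf 1310)) (.leaf 1852)) (.node (.leaf 879)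 (.leaf 488))) (.node (.node (.leaf 1031) (.leaf 1529)) (.node (.leaf 1697) (.leaf 2150)))) (.node (.node (.node (.leaf 277) (.leaf 1881)) (.node (.leaf 1418) (.leaf 453))) (.node (.node (.leaf 906) (.leaf 605)) (.node (.leaf 1716) (.leaf 1145)))))))) (.node (.node (.node (.node (.node (.node (.node (.node (.leaf 48) (.leaf 1395)) (.leaf 1758)) (.node (.leaf 997) (.leaf 289))) (.node (.node (.leaf 746) (.leaf 164)) (.node (.leaf 81) (.leaf 2022)))) (.node (.node (.node (.leaf 9) (.leaf 128)) (.node (.leaf 878) (.leaf 1951))) (.node (.node (.leaf 1090) (.leaf 1963)) (.node (.leaf 1410) (.leaf 1943))))) (.node (.node (.node (.node (.node (.leaf 263) (.leaf 1008)) (.leaf 1429)) (.node (.leaf 60) (.leaf 549))) (.node (.node (.leaf 900) (.leaf 1909)) (.node (.leaf 1632) (.leaf 2039)))) (.node (.node (.node (.leaf 623) (.leaf 1617)) (.node (.leaf 1393) (.leaf 671))) (.node (.node (.leaf 1204) (.leaf 612))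 (.node (.leaf 190) (.leaf 899)))))) (.node (.node (.node (.node (.node (.node (.leaf 159) (.leaf 932)) (.leaf 1672)) (.node (.leaf 930) (.leaf 1981))) (.node (.node (.leaf 846) (.leaf 1868)) (.node (.leaf 1557) (.leaf 540)))) (.node (.node (.node (.leaf 551) (.leaf 1507)) (.node (.leaf 1173) (.leaf 534))) (.node (.node (.leaf 1111) (.leaf 489)) (.node (.leaf 1558) (.leaf 1004))))) (.node (.node (.node (.node (.node (.leaf 369) (.leaf 1059)) (.leaf 1669)) (.node (.leaf 1093) (.leaf 2105))) (.node (.node (.leaf 984) (.leaf 234)) (.node (.leaf 144) (.leaf 613)))) (.node (.node (.node (.leaf 698) (.leaf 1598)) (.node (.leaf 1232) (.leaf 2028))) (.node (.node (.leaf 1246) (.leaf 1984)) (.node (.leaf 1848) (.leaf 987))))))) (.node (.node (.node (.node (.node (.node (.node (.leaf 107) (.leaf 824)) (.leaf 226)) (.node (.leaf 994) (.leaf 337))) (.node (.node (.leaf 34) (.leaf 1799)) (.node (.leaf 1526) (.leaf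 1972)))) (.node (.node (.node (.leaf 511) (.leaf 209)) (.node (.leaf 903) (.leaf 609))) (.node (.node (.leaf 1124) (.leaf 275)) (.node (.leaf 1490) (.leaf 2174))))) (.node (.node (.node (.node (.node (.leaf 317) (.leaf 1116)) (.leaf 1858)) (.node (.leaf 1168) (.leaf 586))) (.node (.node (.leaf 978) (.leaf 1853)) (.node (.leaf 1660) (.leaf 598)))) (.node (.node (.node (.leaf 474) (.leaf 165)) (.node (.leaf 1251) (.leaf 327))) (.node (.node (.leaf 876) (.leaf 595)) (.node (.leaf 1601) (.leaf 867)))))) (.node (.node (.node (.node (.node (.node (.leaf 212) (.leaf 1248)) (.leaf 172)) (.node (.leaf 1048) (.leaf 504))) (.node (.node (.leaf 64) (.leaf 1767)) (.node (.leaf 1596) (.leaf 420)))) (.node (.node (.node (.leaf 587) (.leaf 1930)) (.node (.leaf 1098) (.leaf 332))) (.node (.node (.leaf 1175) (.leaf 651)) (.node (.leaf 99) (.leaf 1120))))) (.node (.node (.node (.node (.node (.leaf 353) (.leaf 1576))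 (.leaf 1706)) (.node (.leaf 1097) (.leaf 2009))) (.node (.node (.leaf 905) (.leaf 1874)) (.node (.leaf 1715) (.leaf 1956)))) (.node (.node (.node (.leaf 662) (.leaf 1787)) (.node (.leaf 1440) (.leaf 531))) (.node (.node (.leaf 1266) (.leaf 628)) (.node (.leaf 1870) (.leaf 1191)))))))))) (.node (.node (.node (.node (.node (.node (.node (.node (.node (.node (.leaf 12) (.leaf 805)) (.leaf 1464)) (.node (.leaf 1088) (.leaf 1974))) (.node (.node (.leaf 286) (.leaf 1634)) (.node (.leaf 1456) (.leaf 2072)))) (.node (.node (.node (.node (.leaf 284) (.leaf 1878)) (.leaf 175)) (.node (.leaf 941) (.leaf 390))) (.node (.node (.leaf 1066) (.leaf 707)) (.node (.leaf 1722) (.leaf 2026))))) (.node (.node (.node (.node (.node (.leaf 233) (.leaf 1005)) (.leaf 1899)) (.node (.leaf 1065) (.leaf 2071))) (.node (.node (.leaf 907) (.leaf 1626)) (.node (.leaf 1611) (.leaf 2140)))) (.node (.node (.node (.leaf 545) (.leaf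 200)) (.node (.leaf 1259) (.leaf 668))) (.node (.node (.leaf 1119) (.leaf 448)) (.node (.leaf 1804) (.leaf 943)))))) (.node (.node (.node (.node (.node (.node (.leaf 130) (.leaf 1073)) (.leaf 1725)) (.node (.leaf 1032) (.leaf 509))) (.node (.node (.leaf 812) (.leaf 1867)) (.node (.leaf 260) (.leaf 721)))) (.node (.node (.node (.leaf 527) (.leaf 1822)) (.node (.leaf 1023) (.leaf 2070))) (.node (.node (.leaf 989) (.leaf 416)) (.node (.leaf 1591) (.leaf 760))))) (.node (.node (.node (.node (.node (.leaf 336) (.leaf 1012)) (.leaf 1702)) (.node (.leaf 774) (.leaf 2058))) (.node (.node (.leaf 995) (.leaf 1937)) (.node (.leaf 1671) (.leaf 465)))) (.node (.node (.node (.leaf 676) (.leaf 1527)) (.node (.leaf 1046) (.leaf 512))) (.node (.node (.leaf 40) (.leaf 2061)) (.node (.leaf 1836) (.leaf 1364))))))) (.node (.node (.node (.node (.node (.node (.node (.leaf 71) (.leaf 2183)) (.leaf 1754)) (.node (.leaf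 1049) (.leaf 2036))) (.node (.node (.leaf 759) (.leaf 1713)) (.node (.leaf 1498) (.leaf 2168)))) (.node (.node (.node (.leaf 482) (.leaf 1747)) (.node (.leaf 986) (.leaf 1995))) (.node (.node (.leaf 1103) (.leaf 631)) (.node (.leaf 1547) (.leaf 756))))) (.node (.node (.node (.node (.node (.leaf 283) (.leaf 858)) (.leaf 1551)) (.node (.leaf 54) (.leaf 2135))) (.node (.node (.leaf 953) (.leaf 1562)) (.node (.leaf 1643) (.leaf 2065)))) (.node (.node (.node (.leaf 426) (.leaf 1896)) (.node (.leaf 1201) (.leaf 2166))) (.node (.node (.leaf 1213) (.leaf 2046)) (.node (.leaf 1519) (.leaf 768)))))) (.node (.node (.node (.node (.node (.node (.leaf 180) (.leaf 1369)) (.leaf 1510)) (.node (.leaf 1234) (.leaf 2076))) (.node (.node (.leaf 864) (.leaf 183)) (.node (.leaf 206) (.leaf 398)))) (.node (.node (.node (.leaf 349) (.leaf 1929)) (.node (.leaf 1355) (.leaf 673))) (.node (.node (.leaf 1161) (.leaf 391)) (.node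 (.leaf 1597) (.leaf 937))))) (.node (.node (.node (.node (.node (.leaf 388) (.leaf 1361)) (.leaf 123)) (.node (.leaf 1231) (.leaf 750))) (.node (.node (.leaf 783) (.leaf 1873)) (.node (.leaf 1668) (.leaf 515)))) (.node (.node (.node (.leaf 695) (.leaf 155)) (.node (.leaf 1411) (.leaf 334))) (.node (.node (.leaf 926) (.leaf 2018)) (.node (.leaf 1857) (.leaf 808)))))))) (.node (.node (.node (.node (.node (.node (.node (.node (.leaf 41) (.leaf 1282)) (.leaf 223)) (.node (.leaf 1181) (.leaf 2108))) (.node (.node (.leaf 484) (.leaf 1574)) (.node (.leaf 1478) (.leaf 2131)))) (.node (.node (.node (.node (.leaf 461) (.leaf 1595)) (.leaf 1915)) (.node (.leaf 889) (.leaf 307))) (.node (.node (.leaf 1085) (.leaf 1938)) (.node (.leaf 1737) (.leaf 1966))))) (.node (.node (.node (.node (.node (.leaf 258) (.leaf 1336)) (.leaf 1781)) (.node (.leaf 865) (.leaf 2040))) (.node (.node (.leaf 869) (.leaf 1593)) (.node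 (.leaf 136) (.leaf 2059)))) (.node (.node (.node (.leaf 619) (.leaf 1746)) (.node (.leaf 1192) (.leaf 2165))) (.node (.node (.leaf 1131) (.leaf 288)) (.node (.leaf 1810) (.leaf 782)))))) (.node (.node (.node (.node (.node (.node (.leaf 125) (.leaf 1250)) (.leaf 201)) (.node (.leaf 69) (.leaf 732))) (.node (.node (.leaf 22) (.leaf 1471)) (.node (.leaf 1537) (.leaf 361)))) (.node (.node (.node (.leaf 546) (.leaf 1780)) (.node (.leaf 78) (.leaf 480))) (.node (.node (.leaf 1149) (.leaf 523)) (.node (.leaf 1773) (.leaf 2179))))) (.node (.node (.node (.node (.node (.leaf 309) (.leaf 1357)) (.leaf 1861)) (.node (.leaf 1370) (.leaf 478))) (.node (.node (.leaf 896) (.leaf 1802)) (.node (.leaf 1502) (.leaf 2136)))) (.node (.node (.node (.leaf 692) (.leaf 1777)) (.node (.leaf 957) (.leaf 412))) (.node (.node (.leaf 1003) (.leaf 341)) (.node (.leaf 168) (.leaf 1270))))))) (.node (.node (.node (.node (.node (.node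 (.node (.leaf 100) (.leaf 1351)) (.leaf 1885)) (.node (.leaf 791) (.leaf 2031))) (.node (.node (.leaf 788) (.leaf 1550)) (.node (.leaf 116) (.leaf 2152)))) (.node (.node (.node (.leaf 505) (.leaf 1918)) (.node (.leaf 1267) (.leaf 410))) (.node (.node (.leaf 1121) (.leaf 711)) (.node (.leaf 220) (.leaf 990))))) (.node (.node (.node (.node (.node (.leaf 5) (.leaf 851)) (.leaf 1726)) (.node (.leaf 1291) (.leaf 2113))) (.node (.node (.leaf 972) (.leaf 1717)) (.node (.leaf 1603) (.leaf 425)))) (.node (.node (.node (.leaf 659) (.leaf 1452)) (.node (.leaf 998) (.leaf 570))) (.node (.node (.leaf 922) (.leaf 358)) (.node (.leaf 1824) (.leaf 1081)))))) (.node (.node (.node (.node (.node (.node (.leaf 204) (.leaf 1392)) (.leaf 1513)) (.node (.leaf 1042) (.leaf 2030))) (.node (.node (.leaf 801) (.leaf 1712)) (.node (.leaf 267) (.leaf 543)))) (.node (.node (.node (.leaf 13) (.leaf 1890)) (.node (.leaf 925) (.leaf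 318))) (.node (.node (.leaf 1015) (.leaf 728)) (.node (.leaf 1794) (.leaf 1100))))) (.node (.node (.node (.node (.node (.leaf 321) (.leaf 1078)) (.leaf 1829)) (.node (.leaf 1054) (.leaf 741))) (.node (.node (.leaf 29) (.leaf 1496)) (.node (.leaf 1711) (.leaf 433)))) (.node (.node (.node (.leaf 697) (.leaf 1906)) (.node (.leaf 1433) (.leaf 589))) (.node (.node (.leaf 918) (.leaf 2067)) (.node (.leaf 1673) (.leaf 781))))))))) (.node (.node (.node (.node (.node (.node (.node (.node (.node (.leaf 27) (.leaf 2172)) (.leaf 1876)) (.node (.leaf 1279) (.leaf 295))) (.node (.node (.leaf 578) (.leaf 1662)) (.node (.leaf 197) (.leaf 2112)))) (.node (.node (.node (.node (.leaf 364) (.leaf 1743)) (.leaf 1866)) (.node (.leaf 1087) (.leaf 2143))) (.node (.node (.leaf 863) (.leaf 1954)) (.node (.leaf 1727) (.leaf 2023))))) (.node (.node (.node (.node (.node (.leaf 244) (.leaf 1383)) (.leaf 1766)) (.node (.leaf 1342)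 (.leaf 441))) (.node (.node (.leaf 919) (.leaf 1509)) (.node (.leaf 1405) (.leaf 1985)))) (.node (.node (.node (.leaf 14) (.leaf 1856)) (.node (.leaf 1365) (.leaf 415))) (.node (.node (.leaf 36) (.leaf 560)) (.node (.leaf 153) (.leaf 1133)))))) (.node (.node (.node (.node (.node (.node (.leaf 140) (.leaf 1352)) (.leaf 1663)) (.node (.leaf 1255) (.leaf 656))) (.node (.node (.leaf 825) (.leaf 202)) (.node (.leaf 1482) (.leaf 1997)))) (.node (.node (.node (.leaf 535) (.leaf 162)) (.node (.leaf 1343) (.leaf 1982))) (.node (.node (.leaf 1132) (.leaf 1996)) (.node (.leaf 1769) (.leaf 820))))) (.node (.node (.node (.node (.node (.leaf 351) (.leaf 2173)) (.leaf 121)) (.node (.leaf 1163) (.leaf 736))) (.node (.node (.leaf 786) (.leaf 216)) (.node (.leaf 1677) (.leaf 690)))) (.node (.node (.node (.leaf 684) (.leaf 1755)) (.node (.leaf 951) (.leaf 397))) (.node (.node (.leaf 1239) (.leaf 493)) (.node (.leaf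 1592) (.leaf 962))))))) (.node (.node (.node (.node (.node (.node (.node (.leaf 86) (.leaf 959)) (.leaf 264)) (.node (.leaf 1294) (.leaf 731))) (.node (.node (.leaf 773) (.leaf 1850)) (.node (.leaf 1508) (.leaf 458)))) (.node (.node (.node (.leaf 432) (.leaf 1788)) (.node (.leaf 767) (.leaf 2001))) (.node (.node (.leaf 1113) (.leaf 439)) (.node (.leaf 1753) (.leaf 882))))) (.node (.node (.node (.node (.node (.leaf 298) (.leaf 1036)) (.leaf 1877)) (.node (.leaf 1265) (.leaf 466))) (.node (.node (.leaf 964) (.leaf 196)) (.node (.leaf 1653) (.leaf 1952)))) (.node (.node (.node (.leaf 648) (.leaf 1645)) (.node (.leaf 816) (.leaf 325))) (.node (.node (.leaf 39) (.leaf 557)) (.node (.leaf 1760) (.leaf 1295)))))) (.node (.node (.node (.node (.node (.node (.leaf 192) (.leaf 1372)) (.leaf 1895)) (.node (.leaf 765) (.leaf 660))) (.node (.node (.leaf 49) (.leaf 1533)) (.node (.leaf 1580) (.leaf 654)))) (.node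 (.node (.node (.leaf 459) (.leaf 1694)) (.node (.leaf 1297) (.leaf 2161))) (.node (.node (.leaf 51) (.leaf 2016)) (.node (.leaf 1556) (.leaf 841))))) (.node (.node (.node (.node (.node (.leaf 7) (.leaf 1226)) (.leaf 1823)) (.node (.leaf 1374) (.leaf 661))) (.node (.node (.leaf 982) (.leaf 1493)) (.node (.leaf 1703) (.leaf 2121)))) (.node (.node (.node (.leaf 712) (.leaf 1922)) (.node (.leaf 87) (.leaf 2117))) (.node (.node (.leaf 966) (.leaf 611)) (.node (.leaf 1845) (.leaf 2175)))))))) (.node (.node (.node (.node (.node (.node (.node (.node (.leaf 56) (.leaf 1062)) (.leaf 1618)) (.node (.leaf 1130) (.leaf 705))) (.node (.node (.leaf 682) (.leaf 1708)) (.node (.leaf 1445) (.leaf 2074)))) (.node (.node (.node (.leaf 470) (.leaf 1544)) (.node (.leaf 1182) (.leaf 569))) (.node (.node (.leaf 1096) (.leaf 1968)) (.node (.leaf 1736) (.leaf 655))))) (.node (.node (.node (.node (.node (.leaf 270) (.leaf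 1150)) (.leaf 1517)) (.node (.leaf 1123) (.leaf 2082))) (.node (.node (.leaf 942) (.leaf 1765)) (.node (.leaf 1635) (.leaf 373)))) (.node (.node (.node (.leaf 629) (.leaf 1637)) (.node (.leaf 909) (.leaf 581))) (.node (.node (.leaf 929) (.leaf 2042)) (.node (.leaf 101) (.leaf 1029)))))) (.node (.node (.node (.node (.node (.node (.leaf 167) (.leaf 963)) (.leaf 1871)) (.node (.leaf 975) (.leaf 442))) (.node (.node (.leaf 758) (.leaf 207)) (.node (.leaf 1564) (.leaf 394)))) (.node (.node (.node (.leaf 558) (.leaf 1925)) (.node (.leaf 1166) (.leaf 1971))) (.node (.node (.leaf 1134) (.leaf 469)) (.node (.leaf 1778) (.leaf 1212))))) (.node (.node (.node (.node (.node (.leaf 375) (.leaf 892)) (.leaf 1779)) (.node (.leaf 1304) (.leaf 2138))) (.node (.node (.leaf 28) (.leaf 1633)) (.node (.leaf 1688) (.leaf 601)))) (.node (.node (.node (.leaf 552) (.leaf 250)) (.node (.leaf 1240) (.leaf 340))) (.node (.node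 (.leaf 1077) (.leaf 585)) (.node (.leaf 254) (.leaf 931))))))) (.node (.node (.node (.node (.node (.node (.node (.leaf 114) (.leaf 2176)) (.leaf 1561)) (.node (.leaf 1301) (.leaf 627))) (.node (.node (.leaf 74) (.leaf 1912)) (.node (.leaf 1530) (.leaf 449)))) (.node (.node (.node (.leaf 516) (.leaf 1846)) (.node (.leaf 1348) (.leaf 2149))) (.node (.node (.leaf 1129) (.leaf 312)) (.node (.leaf 1759) (.leaf 1055))))) (.node (.node (.node (.node (.node (.leaf 322) (.leaf 1394)) (.leaf 120)) (.node (.leaf 1366) (.leaf 615))) (.node (.node (.leaf 983) (.leaf 1525)) (.node (.leaf 1664) (.leaf 670)))) (.node (.node (.node (.leaf 666) (.leaf 1416)) (.node (.leaf 1089) (.leaf 2134))) (.node (.node (.leaf 873) (.leaf 1977)) (.node (.leaf 1815) (.leaf 1137)))))) (.node (.node (.node (.node (.node (.node (.leaf 219) (.leaf 1197)) (.leaf 1897)) (.node (.leaf 50) (.leaf 2008))) (.node (.node (.leaf 898) (.leaf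 1449)) (.node (.leaf 1599) (.leaf 675)))) (.node (.node (.node (.leaf 346) (.leaf 1521)) (.node (.leaf 76) (.leaf 739))) (.node (.node (.leaf 921) (.leaf 2025)) (.node (.leaf 1774) (.leaf 1122))))) (.node (.node (.node (.node (.node (.leaf 427) (.leaf 1409)) (.leaf 1621)) (.node (.leaf 1167) (.leaf 600))) (.node (.node (.leaf 1056) (.leaf 646)) (.node (.leaf 92) (.leaf 704)))) (.node (.node (.node (.leaf 724) (.leaf 1504)) (.node (.leaf 80) (.leaf 2038))) (.node (.node (.leaf 1269) (.leaf 2080)) (.node (.leaf 176) (.leaf 924)))))))))))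

def threeNext4 : Janko.Tree (ℕ) :=
  (.node (.node (.node (.node (.node (.node (.node (.node (.node (.node (.node (.leaf 5) (.leaf 939)) (.leaf 1847)) (.node (.leaf 1272) (.leaf 2101))) (.node (.node (.leaf 540) (.leaf 1835)) (.node (.leaf 1406) (.leaf 591)))) (.node (.node (.node (.node (.leaf 436) (.leaf 1447)) (.leaf 228)) (.node (.leaf 764) (.leaf 2092))) (.node (.node (.leaf 1061) (.leaf 1946)) (.node (.leaf 196) (.leaf 450))))) (.node (.node (.node (.node (.node (.leaf 226) (.leaf 1363)) (.leaf 1894)) (.node (.leaf 1325) (.leaf 647))) (.node (.node (.leaf 758) (.leaf 1508)) (.node (.leaf 1605) (.leaf 2050)))) (.node (.node (.node (.leaf 595) (.leaf 1584)) (.node (.leaf 1219) (.leaf 665))) (.node (.node (.leaf 1184) (.leaf 2030)) (.node (.leaf 1603) (.leaf 844)))))) (.node (.node (.node (.node (.node (.node (.leaf 123) (.leaf 809)) (.leaf 1824)) (.node (.leaf 1142) (.leaf 2073))) (.node (.node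 (.leaf 807) (.leaf 1498)) (.node (.leaf 1535) (.leaf 618)))) (.node (.node (.node (.leaf 522) (.leaf 1481)) (.node (.leaf 1372) (.leaf 2152))) (.node (.node (.leaf 33) (.leaf 349)) (.node (.leaf 1510) (.leaf 896))))) (.node (.node (.node (.node (.node (.leaf 330) (.leaf 1239)) (.leaf 212)) (.node (.leaf 1217) (.leaf 716))) (.node (.node (.leaf 989) (.leaf 1654)) (.node (.leaf 89) (.leaf 2124)))) (.node (.node (.node (.leaf 672) (.leaf 1776)) (.node (.leaf 1174) (.leaf 2062))) (.node (.node (.leaf 1045) (.leaf 1960)) (.node (.leaf 1698) (.leaf 828))))))) (.node (.node (.node (.node (.node (.node (.node (.leaf 64) (.leaf 1111)) (.leaf 1546)) (.node (.leaf 927) (.leaf 2012))) (.node (.node (.leaf 38) (.leaf 1911)) (.node (.leaf 1492) (.leaf 2111)))) (.node (.node (.node (.leaf 477) (.leaf 1596)) (.node (.leaf 1161) (.leaf 746))) (.node (.node (.leaf 1099) (.leaf 275)) (.node (.leaf 1585) (.leaf 2158)))))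 (.node (.node (.node (.node (.node (.leaf 277) (.leaf 1179)) (.leaf 1795)) (.node (.leaf 962) (.leaf 626))) (.node (.node (.leaf 798) (.leaf 1780)) (.node (.leaf 1640) (.leaf 453)))) (.node (.node (.node (.leaf 16) (.leaf 1794)) (.node (.leaf 73) (.leaf 564))) (.node (.node (.leaf 1208) (.leaf 707)) (.node (.leaf 170) (.leaf 951)))))) (.node (.node (.node (.node (.node (.node (.leaf 3) (.leaf 825)) (.leaf 1802)) (.node (.leaf 1321) (.leaf 2089))) (.node (.node (.leaf 859) (.leaf 1515)) (.node (.leaf 1517) (.leaf 1977)))) (.node (.node (.node (.leaf 565) (.leaf 1731)) (.node (.leaf 771) (.leaf 387))) (.node (.node (.leaf 897) (.leaf 689)) (.node (.leaf 1782) (.leaf 982))))) (.node (.node (.node (.node (.node (.leaf 381) (.leaf 930)) (.leaf 1606)) (.node (.leaf 1203) (.leaf 541))) (.node (.node (.leaf 61) (.leaf 255)) (.node (.leaf 262) (.leaf 2096)))) (.node (.node (.node (.leaf 462) (.leaf 1559))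 (.node (.leaf 136) (.leaf 636))) (.node (.node (.leaf 1074) (.leaf 2070)) (.node (.leaf 195) (.leaf 1284)))))))) (.node (.node (.node (.node (.node (.node (.node (.node (.leaf 36) (.leaf 820)) (.leaf 1524)) (.node (.leaf 832) (.leaf 517))) (.node (.node (.leaf 445) (.leaf 1702)) (.node (.leaf 1474) (.leaf 2117)))) (.node (.node (.node (.node (.leaf 322) (.leaf 1932)) (.leaf 1564)) (.node (.leaf 1252) (.leaf 695))) (.node (.node (.leaf 806) (.leaf 423)) (.node (.leaf 1733) (.leaf 2162))))) (.node (.node (.node (.node (.node (.leaf 252) (.leaf 1215)) (.leaf 1901)) (.node (.leaf 1169) (.leaf 510))) (.node (.node (.leaf 862) (.leaf 1588)) (.node (.leaf 1624) (.leaf 2045)))) (.node (.node (.node (.leaf 617) (.leaf 1907)) (.node (.leaf 1327) (.leaf 594))) (.node (.node (.leaf 1200) (.leaf 2039)) (.node (.leaf 1486) (.leaf 1245)))))) (.node (.node (.node (.node (.node (.node (.leaf 137) (.leaf 913)) (.leaf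 1480)) (.node (.leaf 1212) (.leaf 730))) (.node (.node (.leaf 833) (.leaf 1846)) (.node (.leaf 1541) (.leaf 1986)))) (.node (.node (.node (.leaf 328) (.leaf 1845)) (.node (.leaf 1138) (.leaf 314))) (.node (.node (.leaf 1145) (.leaf 2000)) (.node (.leaf 98) (.leaf 1140))))) (.node (.node (.node (.node (.node (.leaf 357) (.leaf 1275)) (.leaf 1646)) (.node (.leaf 58) (.leaf 440))) (.node (.node (.leaf 44) (.leaf 1841)) (.node (.leaf 1637) (.leaf 1939)))) (.node (.node (.node (.leaf 298) (.leaf 1669)) (.node (.leaf 1353) (.leaf 524))) (.node (.node (.leaf 971) (.leaf 558)) (.node (.leaf 1533) (.leaf 1304))))))) (.node (.node (.node (.node (.node (.node (.node (.leaf 94) (.leaf 1034)) (.leaf 1749)) (.node (.leaf 1297) (.leaf 685))) (.node (.node (.leaf 781) (.leaf 232)) (.node (.leaf 1516) (.leaf 606)))) (.node (.node (.node (.leaf 500) (.leaf 133)) (.node (.leaf 990) (.leaf 551))) (.node (.node (.leaf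 1106) (.leaf 602)) (.node (.leaf 1755) (.leaf 1290))))) (.node (.node (.node (.node (.node (.leaf 307) (.leaf 987)) (.leaf 1893)) (.node (.leaf 1009) (.leaf 365))) (.node (.node (.leaf 970) (.leaf 1426)) (.node (.leaf 1629) (.leaf 2052)))) (.node (.node (.node (.leaf 654) (.leaf 1746)) (.node (.leaf 1134) (.leaf 2037))) (.node (.node (.leaf 772) (.leaf 481)) (.node (.leaf 1680) (.leaf 931)))))) (.node (.node (.node (.node (.node (.node (.leaf 106) (.leaf 1355)) (.leaf 1896)) (.node (.leaf 1319) (.leaf 2017))) (.node (.node (.leaf 884) (.leaf 1730)) (.node (.leaf 1587) (.leaf 590)))) (.node (.node (.node (.leaf 430) (.leaf 173)) (.node (.leaf 875) (.leaf 1970))) (.node (.node (.leaf 35) (.leaf 535)) (.node (.leaf 1682) (.leaf 1385))))) (.node (.node (.node (.node (.node (.leaf 410) (.leaf 2181)) (.leaf 149)) (.node (.leaf 1347) (.leaf 466))) (.node (.node (.leaf 1044) (.leaf 1681)) (.node (.leaf 1707)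 (.leaf 2044)))) (.node (.node (.node (.leaf 291) (.leaf 1554)) (.node (.leaf 1428) (.leaf 655))) (.node (.node (.leaf 1256) (.leaf 325)) (.node (.leaf 1865) (.leaf 1270))))))))) (.node (.node (.node (.node (.node (.node (.node (.node (.node (.leaf 0) (.leaf 1315)) (.leaf 1874)) (.node (.leaf 1276) (.leaf 2081))) (.node (.node (.leaf 20) (.leaf 1777)) (.node (.leaf 1451) (.leaf 611)))) (.node (.node (.node (.node (.leaf 447) (.leaf 1935)) (.leaf 1542)) (.node (.leaf 904) (.leaf 2059))) (.node (.node (.leaf 31) (.leaf 625)) (.node (.leaf 163) (.leaf 2163))))) (.node (.node (.node (.node (.node (.leaf 240) (.leaf 1283)) (.leaf 1610)) (.node (.leaf 1350) (.leaf 297))) (.node (.node (.leaf 914) (.leaf 1528)) (.node (.leaf 233) (.leaf 499)))) (.node (.node (.node (.leaf 607) (.leaf 1908)) (.node (.leaf 1072) (.leaf 2164))) (.node (.node (.leaf 1192) (.leaf 479)) (.node (.leaf 1418) (.leaf 1298)))))) (.node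 (.node (.node (.node (.node (.node (.leaf 80) (.leaf 1311)) (.leaf 114)) (.node (.leaf 48) (.leaf 593))) (.node (.node (.leaf 818) (.leaf 1660)) (.node (.leaf 1514) (.leaf 2150)))) (.node (.node (.node (.leaf 533) (.leaf 1883)) (.node (.leaf 1235) (.leaf 688))) (.node (.node (.leaf 899) (.leaf 659)) (.node (.leaf 202) (.leaf 985))))) (.node (.node (.node (.node (.node (.leaf 344) (.leaf 1135)) (.leaf 269)) (.node (.leaf 1118) (.leaf 309))) (.node (.node (.leaf 1002) (.leaf 1933)) (.node (.leaf 1675) (.leaf 419)))) (.node (.node (.node (.leaf 669) (.leaf 1458)) (.node (.leaf 791) (.leaf 736))) (.node (.node (.leaf 946) (.leaf 741)) (.node (.leaf 1813) (.leaf 1205))))))) (.node (.node (.node (.node (.node (.node (.node (.leaf 79) (.leaf 796)) (.leaf 1497)) (.node (.leaf 835) (.leaf 629))) (.node (.node (.leaf 767) (.leaf 236)) (.node (.leaf 1503) (.leaf 368)))) (.node (.node (.node (.leaf 425) (.leaf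 1455)) (.node (.leaf 842) (.leaf 310))) (.node (.node (.leaf 1109) (.leaf 1976)) (.node (.leaf 1493) (.leaf 1322))))) (.node (.node (.node (.node (.node (.leaf 292) (.leaf 1136)) (.leaf 1615)) (.node (.leaf 1052) (.leaf 2118))) (.node (.node (.leaf 959) (.leaf 1887)) (.node (.leaf 1650) (.leaf 571)))) (.node (.node (.node (.leaf 369) (.leaf 1750)) (.node (.leaf 1313) (.leaf 379))) (.node (.node (.leaf 1010) (.leaf 326)) (.node (.leaf 1679) (.leaf 1345)))))) (.node (.node (.node (.node (.node (.node (.leaf 187) (.leaf 871)) (.leaf 214)) (.node (.leaf 50) (.leaf 2125))) (.node (.node (.leaf 873) (.leaf 1550)) (.node (.leaf 1568) (.leaf 2157)))) (.node (.node (.node (.leaf 279) (.leaf 1668)) (.node (.leaf 1128) (.leaf 2159))) (.node (.node (.leaf 977) (.leaf 356)) (.node (.leaf 1450) (.leaf 912))))) (.node (.node (.node (.node (.node (.leaf 396) (.leaf 2184)) (.leaf 125)) (.node (.leaf 1085) (.leaf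 2029))) (.node (.node (.leaf 1032) (.leaf 1763)) (.node (.leaf 1599) (.leaf 2142)))) (.node (.node (.node (.leaf 708) (.leaf 1798)) (.node (.leaf 1419) (.leaf 2014))) (.node (.node (.leaf 1248) (.leaf 2086)) (.node (.leaf 204) (.leaf 1316)))))))) (.node (.node (.node (.node (.node (.node (.node (.node (.leaf 49) (.leaf 1343)) (.leaf 1469)) (.node (.leaf 1056) (.leaf 290))) (.node (.node (.leaf 747) (.leaf 1445)) (.node (.leaf 1485) (.leaf 2024)))) (.node (.node (.node (.leaf 321) (.leaf 1716)) (.node (.leaf 1381) (.leaf 1951))) (.node (.node (.leaf 1091) (.leaf 448)) (.node (.leaf 1570) (.leaf 653))))) (.node (.node (.node (.node (.node (.leaf 264) (.leaf 1146)) (.leaf 1484)) (.node (.leaf 935) (.leaf 2043))) (.node (.node (.leaf 937) (.leaf 1558)) (.node (.leaf 1633) (.leaf 484)))) (.node (.node (.node (.leaf 624) (.leaf 1751)) (.node (.leaf 1393) (.leaf 324))) (.node (.node (.leaf 898) (.leaf 281))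 (.node (.leaf 1665) (.leaf 2177)))))) (.node (.node (.node (.node (.node (.node (.leaf 160) (.leaf 1335)) (.leaf 1827)) (.node (.leaf 1317) (.leaf 339))) (.node (.node (.leaf 847) (.leaf 182)) (.node (.leaf 253) (.leaf 358)))) (.node (.node (.node (.leaf 552) (.leaf 1582)) (.node (.leaf 814) (.leaf 2106))) (.node (.node (.leaf 56) (.leaf 2004)) (.node (.leaf 1775) (.leaf 1314))))) (.node (.node (.node (.node (.node (.leaf 370) (.leaf 1193)) (.leaf 1818)) (.node (.leaf 1058) (.leaf 415))) (.node (.node (.leaf 867) (.leaf 1424)) (.node (.leaf 1687) (.leaf 399)))) (.node (.node (.node (.leaf 18) (.leaf 186)) (.node (.leaf 1103) (.leaf 1990))) (.node (.node (.leaf 1247) (.leaf 2076)) (.node (.leaf 1708) (.leaf 1383))))))) (.node (.node (.node (.node (.node (.node (.node (.leaf 108) (.leaf 864)) (.leaf 1886)) (.node (.leaf 1156) (.leaf 519))) (.node (.node (.leaf 794) (.leaf 1774)) (.node (.leaf 249)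 (.leaf 2153)))) (.node (.node (.node (.leaf 361) (.leaf 1446)) (.node (.leaf 71) (.leaf 2087))) (.node (.node (.leaf 63) (.leaf 641)) (.node (.leaf 224) (.leaf 953))))) (.node (.node (.node (.node (.node (.leaf 273) (.leaf 2176)) (.leaf 1906)) (.node (.leaf 945) (.leaf 304))) (.node (.node (.leaf 765) (.leaf 1890)) (.node (.leaf 171) (.leaf 403)))) (.node (.node (.node (.leaf 662) (.leaf 1759)) (.node (.leaf 1124) (.leaf 505))) (.node (.node (.leaf 1012) (.leaf 424)) (.node (.leaf 1726) (.leaf 1292)))))) (.node (.node (.node (.node (.node (.node (.leaf 213) (.leaf 1364)) (.leaf 1557)) (.node (.leaf 1159) (.leaf 684))) (.node (.node (.leaf 759) (.leaf 1866)) (.node (.leaf 1597) (.leaf 2110)))) (.node (.node (.node (.leaf 296) (.leaf 1693)) (.node (.leaf 1050) (.leaf 320))) (.node (.node (.leaf 882) (.leaf 2023)) (.node (.leaf 100) (.leaf 1382))))) (.node (.node (.node (.node (.node (.leaf 422) (.leaf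 1710)) (.leaf 1742)) (.node (.leaf 773) (.leaf 511))) (.node (.node (.leaf 1054) (.leaf 1938)) (.node (.leaf 241) (.leaf 1994)))) (.node (.node (.node (.leaf 460) (.leaf 1754)) (.node (.leaf 1441) (.leaf 338))) (.node (.node (.leaf 1206) (.leaf 1978)) (.node (.leaf 1778) (.leaf 1017)))))))))) (.node (.node (.node (.node (.node (.node (.node (.node (.node (.node (.leaf 13) (.leaf 853)) (.leaf 1871)) (.node (.leaf 1273) (.leaf 732))) (.node (.node (.leaf 731) (.leaf 1801)) (.node (.leaf 1457) (.leaf 418)))) (.node (.node (.node (.node (.leaf 441) (.leaf 1937)) (.leaf 1875)) (.node (.leaf 1121) (.leaf 2077))) (.node (.node (.leaf 892) (.leaf 1950)) (.node (.leaf 1410) (.leaf 2155))))) (.node (.node (.node (.node (.node (.leaf 234) (.leaf 1370)) (.leaf 162)) (.node (.leaf 1228) (.leaf 2002))) (.node (.node (.leaf 908) (.leaf 208)) (.node (.leaf 165) (.leaf 536)))) (.node (.node (.node (.leaf 601) (.leaf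 1499)) (.node (.leaf 948) (.leaf 723))) (.node (.node (.leaf 1188) (.leaf 395)) (.node (.leaf 1714) (.leaf 1233)))))) (.node (.node (.node (.node (.node (.node (.leaf 131) (.leaf 1033)) (.leaf 1443)) (.node (.leaf 861) (.leaf 293))) (.node (.node (.leaf 797) (.leaf 1628)) (.node (.leaf 1538) (.leaf 2128)))) (.node (.node (.node (.leaf 528) (.leaf 1921)) (.node (.leaf 69) (.leaf 2103))) (.node (.node (.leaf 1113) (.leaf 534)) (.node (.leaf 1766) (.leaf 1151))))) (.node (.node (.node (.node (.node (.leaf 337) (.leaf 1246)) (.leaf 1822)) (.node (.leaf 956) (.leaf 701))) (.node (.node (.leaf 996) (.leaf 1696)) (.node (.leaf 1625) (.leaf 673)))) (.node (.node (.node (.leaf 677) (.leaf 1468)) (.node (.leaf 1337) (.leaf 2148))) (.node (.node (.leaf 1078) (.leaf 1962)) (.node (.leaf 175) (.leaf 1281))))))) (.node (.node (.node (.node (.node (.node (.node (.leaf 72) (.leaf 1143)) (.leaf 1857)) (.node (.leaf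 46) (.leaf 572))) (.node (.node (.leaf 760) (.leaf 1456)) (.node (.leaf 257) (.leaf 2056)))) (.node (.node (.node (.leaf 483) (.leaf 1688)) (.node (.leaf 1293) (.leaf 697))) (.node (.node (.leaf 1104) (.leaf 335)) (.node (.leaf 1748) (.leaf 1366))))) (.node (.node (.node (.node (.node (.leaf 284) (.leaf 2182)) (.leaf 1442)) (.node (.leaf 55) (.leaf 553))) (.node (.node (.leaf 823) (.leaf 1880)) (.node (.leaf 1644) (.leaf 431)))) (.node (.node (.node (.leaf 639) (.leaf 227)) (.node (.leaf 1201) (.leaf 2001))) (.node (.node (.leaf 885) (.leaf 2047)) (.node (.leaf 107) (.leaf 941)))))) (.node (.node (.node (.node (.node (.node (.leaf 85) (.leaf 1011)) (.leaf 1417)) (.node (.leaf 1326) (.leaf 2097))) (.node (.node (.leaf 865) (.leaf 192)) (.node (.leaf 1466) (.leaf 380)))) (.node (.node (.node (.leaf 569) (.leaf 1413)) (.node (.leaf 852) (.leaf 1968))) (.node (.node (.leaf 1154) (.leaf 2006)) (.node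 (.leaf 1785) (.leaf 1391))))) (.node (.node (.node (.node (.node (.leaf 389) (.leaf 2186)) (.leaf 1905)) (.node (.leaf 776) (.leaf 438))) (.node (.node (.leaf 1026) (.leaf 1756)) (.node (.leaf 1532) (.leaf 712)))) (.node (.node (.node (.leaf 638) (.leaf 211)) (.node (.leaf 1412) (.leaf 2084))) (.node (.node (.leaf 1254) (.leaf 2069)) (.node (.leaf 1858) (.leaf 1260)))))))) (.node (.node (.node (.node (.node (.node (.node (.node (.leaf 42) (.leaf 1257)) (.leaf 1879)) (.node (.leaf 916) (.leaf 525))) (.node (.node (.leaf 740) (.leaf 1787)) (.node (.leaf 217) (.leaf 2038)))) (.node (.node (.node (.leaf 390) (.leaf 1724)) (.node (.leaf 62) (.leaf 308))) (.node (.node (.leaf 863) (.leaf 1958)) (.node (.leaf 1634) (.leaf 468))))) (.node (.node (.node (.node (.node (.leaf 259) (.leaf 1373)) (.leaf 198)) (.node (.leaf 1331) (.leaf 724))) (.node (.node (.leaf 932) (.leaf 1872)) (.node (.leaf 1472) (.leaf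 364)))) (.node (.node (.node (.leaf 620) (.leaf 1902)) (.node (.leaf 1309) (.leaf 2149))) (.node (.node (.leaf 1062) (.leaf 490)) (.node (.leaf 1576) (.leaf 1242)))))) (.node (.node (.node (.node (.node (.node (.leaf 153) (.leaf 1349)) (.leaf 1563)) (.node (.leaf 1178) (.leaf 1953))) (.node (.node (.leaf 23) (.leaf 1551)) (.node (.leaf 1552) (.leaf 2019)))) (.node (.node (.node (.leaf 547) (.leaf 1807)) (.node (.leaf 74) (.leaf 332))) (.node (.node (.leaf 1150) (.leaf 637)) (.node (.leaf 1536) (.leaf 1176))))) (.node (.node (.node (.node (.node (.leaf 363) (.leaf 2183)) (.leaf 1648)) (.node (.leaf 1030) (.leaf 334))) (.node (.node (.leaf 979) (.leaf 1504)) (.node (.leaf 1683) (.leaf 478)))) (.node (.node (.node (.leaf 693) (.leaf 1448)) (.node (.leaf 1125) (.leaf 2094))) (.node (.node (.leaf 1096) (.leaf 2071)) (.node (.leaf 109) (.leaf 1237))))))) (.node (.node (.node (.node (.node (.node (.node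 (.leaf 82) (.leaf 799)) (.leaf 1530)) (.node (.leaf 763) (.leaf 1967))) (.node (.node (.leaf 789) (.leaf 203)) (.node (.leaf 1521) (.leaf 2109)))) (.node (.node (.node (.leaf 506) (.leaf 1598)) (.node (.leaf 1368) (.leaf 737))) (.node (.node (.leaf 756) (.leaf 608)) (.node (.leaf 1715) (.leaf 1065))))) (.node (.node (.node (.node (.node (.leaf 6) (.leaf 907)) (.leaf 1904)) (.node (.leaf 1066) (.leaf 2122))) (.node (.node (.leaf 784) (.leaf 1732)) (.node (.leaf 1658) (.leaf 2130)))) (.node (.node (.node (.leaf 660) (.leaf 1762)) (.node (.leaf 75) (.leaf 2102))) (.node (.node (.leaf 1226) (.leaf 705)) (.node (.leaf 1632) (.leaf 803)))))) (.node (.node (.node (.node (.node (.node (.leaf 205) (.leaf 1041)) (.leaf 1594)) (.node (.leaf 1336) (.leaf 327))) (.node (.node (.leaf 752) (.leaf 1430)) (.node (.leaf 231) (.leaf 599)))) (.node (.node (.node (.leaf 14) (.leaf 1657)) (.node (.leaf 1279) (.leaf 485)))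 (.node (.node (.leaf 880) (.leaf 2022)) (.node (.leaf 120) (.leaf 1234))))) (.node (.node (.node (.node (.node (.leaf 417) (.leaf 1934)) (.leaf 1825)) (.node (.leaf 1375) (.leaf 1969))) (.node (.node (.leaf 1049) (.leaf 1792)) (.node (.leaf 1712) (.leaf 2147)))) (.node (.node (.node (.leaf 718) (.leaf 1821)) (.node (.leaf 1434) (.leaf 2016))) (.node (.node (.leaf 793) (.leaf 2075)) (.node (.leaf 1816) (.leaf 928))))))))) (.node (.node (.node (.node (.node (.node (.node (.node (.node (.leaf 28) (.leaf 849)) (.leaf 1721)) (.node (.leaf 1280) (.leaf 498))) (.node (.node (.leaf 443) (.leaf 1833)) (.node (.leaf 1467) (.leaf 2115)))) (.node (.node (.node (.node (.leaf 315) (.leaf 1923)) (.leaf 1423)) (.node (.leaf 1084) (.leaf 2143))) (.node (.node (.leaf 1076) (.leaf 461)) (.node (.leaf 1728) (.leaf 1971))))) (.node (.node (.node (.node (.node (.leaf 229) (.leaf 909)) (.leaf 1612)) (.node (.leaf 1351)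 (.leaf 2131))) (.node (.node (.leaf 920) (.leaf 254)) (.node (.leaf 1617) (.leaf 702)))) (.node (.node (.node (.leaf 612) (.leaf 1429)) (.node (.leaf 1342) (.leaf 486))) (.node (.node (.leaf 1196) (.leaf 619)) (.node (.leaf 1604) (.leaf 1229)))))) (.node (.node (.node (.node (.node (.node (.leaf 92) (.leaf 1213)) (.leaf 222)) (.node (.leaf 1210) (.leaf 621))) (.node (.node (.leaf 826) (.leaf 179)) (.node (.leaf 1520) (.leaf 2121)))) (.node (.node (.node (.leaf 347) (.leaf 1839)) (.node (.leaf 1153) (.leaf 666))) (.node (.node (.leaf 1075) (.leaf 1997)) (.node (.leaf 191) (.leaf 790))))) (.node (.node (.node (.node (.node (.leaf 352) (.leaf 1164)) (.leaf 122)) (.node (.leaf 1323) (.leaf 377))) (.node (.node (.leaf 1006) (.leaf 1653)) (.node (.leaf 1537) (.leaf 632)))) (.node (.node (.node (.leaf 319) (.leaf 1862)) (.node (.leaf 1402) (.leaf 331))) (.node (.node (.leaf 786) (.leaf 2067)) (.node (.leaf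 1461) (.leaf 1037))))))) (.node (.node (.node (.node (.node (.node (.node (.leaf 87) (.leaf 1329)) (.leaf 1611)) (.node (.leaf 1144) (.leaf 508))) (.node (.node (.leaf 774) (.leaf 1832)) (.node (.leaf 1509) (.leaf 2145)))) (.node (.node (.node (.leaf 495) (.leaf 266)) (.node (.leaf 1063) (.leaf 687))) (.node (.node (.leaf 1114) (.leaf 575)) (.node (.leaf 1483) (.leaf 1328))))) (.node (.node (.node (.node (.node (.leaf 299) (.leaf 1324)) (.leaf 1820)) (.node (.leaf 1262) (.leaf 306))) (.node (.node (.leaf 965) (.leaf 1800)) (.node (.leaf 1622) (.leaf 374)))) (.node (.node (.node (.leaf 426) (.leaf 1815)) (.node (.leaf 1183) (.leaf 1991))) (.node (.node (.leaf 40) (.leaf 719)) (.node (.leaf 1577) (.leaf 1152)))))) (.node (.node (.node (.node (.node (.node (.leaf 193) (.leaf 1071)) (.leaf 1539)) (.node (.leaf 1320) (.leaf 336))) (.node (.node (.leaf 878) (.leaf 1828)) (.node (.leaf 1581) (.leaf 720))))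 (.node (.node (.node (.leaf 542) (.leaf 1502)) (.node (.leaf 978) (.leaf 318))) (.node (.node (.leaf 1168) (.leaf 1956)) (.node (.leaf 1747) (.leaf 1390))))) (.node (.node (.node (.node (.node (.leaf 8) (.leaf 2172)) (.leaf 1511)) (.node (.leaf 1339) (.leaf 613))) (.node (.node (.leaf 1038) (.leaf 1652)) (.node (.leaf 1704) (.leaf 537)))) (.node (.node (.node (.leaf 713) (.leaf 1722)) (.node (.leaf 96) (.leaf 2041))) (.node (.node (.leaf 1126) (.leaf 722)) (.node (.leaf 1692) (.leaf 1185)))))))) (.node (.node (.node (.node (.node (.node (.node (.node (.leaf 57) (.leaf 981)) (.leaf 1477)) (.node (.leaf 1289) (.leaf 615))) (.node (.node (.leaf 21) (.leaf 1534)) (.node (.leaf 161) (.leaf 454)))) (.node (.node (.node (.leaf 471) (.leaf 1500)) (.node (.leaf 947) (.leaf 2063))) (.node (.node (.leaf 1097) (.leaf 573)) (.node (.leaf 1741) (.leaf 2169))))) (.node (.node (.node (.node (.node (.leaf 271) (.leaf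 1137)) (.leaf 1903)) (.node (.leaf 954) (.leaf 405))) (.node (.node (.leaf 943) (.leaf 1881)) (.node (.leaf 1636) (.leaf 2082)))) (.node (.node (.node (.leaf 455) (.leaf 1899)) (.node (.leaf 1132) (.leaf 1973))) (.node (.node (.leaf 860) (.leaf 398)) (.node (.leaf 102) (.leaf 1259)))))) (.node (.node (.node (.node (.node (.node (.leaf 168) (.leaf 991)) (.leaf 1699)) (.node (.leaf 995) (.leaf 648))) (.node (.node (.leaf 854) (.leaf 247)) (.node (.leaf 221) (.leaf 568)))) (.node (.node (.node (.leaf 559) (.leaf 1470)) (.node (.leaf 877) (.leaf 1944))) (.node (.node (.leaf 1155) (.leaf 1998)) (.node (.leaf 1427) (.leaf 1067))))) (.node (.node (.node (.node (.node (.leaf 360) (.leaf 894)) (.leaf 1739)) (.node (.leaf 1167) (.leaf 691))) (.node (.node (.leaf 29) (.leaf 1927)) (.node (.leaf 132) (.leaf 749)))) (.node (.node (.node (.leaf 676) (.leaf 1809)) (.node (.leaf 1405) (.leaf 2003))) (.node (.node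 (.leaf 1250) (.leaf 285)) (.node (.leaf 1850) (.leaf 1318))))))) (.node (.node (.node (.node (.node (.node (.node (.leaf 115) (.leaf 998)) (.leaf 1664)) (.node (.leaf 918) (.leaf 681))) (.node (.node (.leaf 800) (.leaf 1860)) (.node (.leaf 1531) (.leaf 2146)))) (.node (.node (.node (.leaf 386) (.leaf 1918)) (.node (.leaf 802) (.leaf 354))) (.node (.node (.leaf 1130) (.leaf 509)) (.node (.leaf 1436) (.leaf 1214))))) (.node (.node (.node (.node (.node (.leaf 323) (.leaf 872)) (.leaf 121)) (.node (.leaf 1122) (.leaf 1985))) (.node (.node (.leaf 984) (.leaf 1663)) (.node (.leaf 1475) (.leaf 2032)))) (.node (.node (.node (.leaf 667) (.leaf 1928)) (.node (.leaf 988) (.leaf 1993))) (.node (.node (.leaf 1039) (.leaf 283)) (.node (.leaf 1772) (.leaf 1042)))))) (.node (.node (.node (.node (.node (.node (.leaf 220) (.leaf 1263)) (.leaf 1618)) (.node (.leaf 762) (.leaf 467))) (.node (.node (.leaf 827) (.leaf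 1852)) (.node (.leaf 1600) (.leaf 2088)))) (.node (.node (.node (.leaf 589) (.leaf 1831)) (.node (.leaf 903) (.leaf 735))) (.node (.node (.leaf 1177) (.leaf 2026)) (.node (.leaf 166) (.leaf 1277))))) (.node (.node (.node (.node (.node (.leaf 428) (.leaf 1411)) (.leaf 1788)) (.node (.leaf 1267) (.leaf 635))) (.node (.node (.leaf 1057) (.leaf 1942)) (.node (.leaf 1719) (.leaf 586)))) (.node (.node (.node (.leaf 717) (.leaf 1900)) (.node (.leaf 81) (.leaf 2036))) (.node (.node (.leaf 972) (.leaf 2100)) (.node (.leaf 1697) (.leaf 1394)))))))))))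

def threeNext5 : Janko.Tree (ℕ) :=
  (.node (.node (.node (.node (.node (.node (.node (.node (.node (.node (.node (.leaf 6) (.leaf 841)) (.leaf 1512)) (.node (.leaf 57) (.leaf 2018))) (.node (.node (.leaf 728) (.leaf 1598)) (.node (.leaf 1452) (.leaf 1978)))) (.node (.node (.node (.node (.leaf 437) (.leaf 1457)) (.leaf 1423)) (.node (.leaf 1065) (.leaf 2108))) (.node (.node (.leaf 831) (.leaf 1947)) (.node (.leaf 1430) (.leaf 2151))))) (.node (.node (.node (.node (.node (.leaf 227) (.leaf 988)) (.leaf 226)) (.node (.leaf 1344) (.leaf 531))) (.node (.node (.leaf 36) (.leaf 182)) (.node (.leaf 254) (.leaf 718)))) (.node (.node (.node (.leaf 596) (.leaf 142)) (.node (.leaf 1108) (.leaf 320))) (.node (.node (.leaf 1185) (.leaf 2031)) (.node (.leaf 251) (.leaf 1377)))))) (.node (.node (.node (.node (.node (.node (.leaf 124) (.leaf 1068)) (.leaf 1554)) (.node (.leaf 1305) (.leaf 2021))) (.node (.node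 (.leaf 22) (.leaf 236)) (.node (.leaf 1536) (.leaf 2113)))) (.node (.node (.node (.leaf 485) (.leaf 1920)) (.node (.leaf 969) (.leaf 357))) (.node (.node (.leaf 1114) (.leaf 1990)) (.node (.leaf 1650) (.leaf 1058))))) (.node (.node (.node (.node (.node (.leaf 331) (.leaf 864)) (.leaf 1528)) (.node (.leaf 1274) (.leaf 460))) (.node (.node (.leaf 990) (.leaf 1621)) (.node (.leaf 1670) (.leaf 2162)))) (.node (.node (.node (.leaf 673) (.leaf 1522)) (.node (.leaf 878) (.leaf 2004))) (.node (.node (.leaf 1234) (.leaf 2058)) (.node (.leaf 1832) (.leaf 776))))))) (.node (.node (.node (.node (.node (.node (.node (.leaf 65) (.leaf 791)) (.leaf 111)) (.node (.leaf 75) (.leaf 290))) (.node (.node (.leaf 755) (.leaf 1843)) (.node (.leaf 1493) (.leaf 2170)))) (.node (.node (.node (.leaf 478) (.leaf 1797)) (.node (.leaf 1269) (.leaf 333))) (.node (.node (.leaf 927) (.leaf 1972)) (.node (.leaf 1633) (.leaf 597)))))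 (.node (.node (.node (.node (.node (.leaf 278) (.leaf 1047)) (.leaf 119)) (.node (.leaf 833) (.leaf 2039))) (.node (.node (.leaf 949) (.leaf 1756)) (.node (.leaf 204) (.leaf 2078)))) (.node (.node (.node (.leaf 340) (.leaf 1614)) (.node (.leaf 1331) (.leaf 601))) (.node (.node (.leaf 1209) (.leaf 584)) (.node (.leaf 1443) (.leaf 1049)))))) (.node (.node (.node (.node (.node (.node (.leaf 175) (.leaf 1066)) (.leaf 1639)) (.node (.leaf 1322) (.leaf 721))) (.node (.node (.leaf 763) (.leaf 191)) (.node (.leaf 1569) (.leaf 2112)))) (.node (.node (.node (.leaf 566) (.leaf 267)) (.node (.leaf 1183) (.leaf 2102))) (.node (.node (.leaf 34) (.leaf 2007)) (.node (.leaf 1593) (.leaf 873))))) (.node (.node (.node (.node (.node (.leaf 382) (.leaf 940)) (.leaf 123)) (.node (.leaf 1373) (.leaf 536))) (.node (.node (.leaf 773) (.leaf 1446)) (.node (.leaf 1691) (.leaf 417)))) (.node (.node (.node (.leaf 389) (.leaf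 1533)) (.node (.leaf 79) (.leaf 2101))) (.node (.node (.leaf 847) (.leaf 2080)) (.node (.leaf 1462) (.leaf 1022)))))))) (.node (.node (.node (.node (.node (.node (.node (.node (.leaf 37) (.leaf 1273)) (.leaf 176)) (.node (.leaf 1043) (.leaf 385))) (.node (.node (.leaf 20) (.leaf 1753)) (.node (.leaf 241) (.leaf 2129)))) (.node (.node (.node (.node (.leaf 455) (.leaf 1453)) (.leaf 1759)) (.node (.leaf 829) (.leaf 524))) (.node (.node (.leaf 893) (.leaf 534)) (.node (.leaf 1734) (.leaf 661))))) (.node (.node (.node (.node (.node (.leaf 253) (.leaf 1397)) (.leaf 1870)) (.node (.leaf 1143) (.leaf 297))) (.node (.node (.leaf 928) (.leaf 1750)) (.node (.leaf 1492) (.leaf 521)))) (.node (.node (.node (.leaf 477) (.leaf 1763)) (.node (.leaf 1394) (.leaf 2011))) (.node (.node (.leaf 1072) (.leaf 2016)) (.node (.leaf 225) (.leaf 1169)))))) (.node (.node (.node (.node (.node (.node (.leaf 147) (.leaf 797))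 (.leaf 1887)) (.node (.leaf 48) (.leaf 1987))) (.node (.node (.leaf 834) (.leaf 1922)) (.node (.leaf 1546) (.leaf 747)))) (.node (.node (.node (.leaf 542) (.leaf 135)) (.node (.leaf 1297) (.leaf 2148))) (.node (.node (.leaf 1146) (.leaf 689)) (.node (.leaf 1704) (.leaf 1378))))) (.node (.node (.node (.node (.node (.leaf 358) (.leaf 886)) (.leaf 1727)) (.node (.leaf 1272) (.leaf 557))) (.node (.node (.leaf 1012) (.leaf 1460)) (.node (.leaf 1568) (.leaf 2119)))) (.node (.node (.node (.leaf 547) (.leaf 1928)) (.node (.leaf 1396) (.leaf 580))) (.node (.node (.leaf 802) (.leaf 2070)) (.node (.leaf 1581) (.leaf 839))))))) (.node (.node (.node (.node (.node (.node (.node (.leaf 1) (.leaf 974)) (.leaf 1450)) (.node (.leaf 1298) (.leaf 619))) (.node (.node (.leaf 782) (.leaf 170)) (.node (.leaf 193) (.leaf 643)))) (.node (.node (.node (.leaf 501) (.leaf 255)) (.node (.leaf 891) (.leaf 618))) (.node (.node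 (.leaf 1117) (.leaf 564)) (.node (.leaf 96) (.leaf 1140))))) (.node (.node (.node (.node (.node (.leaf 308) (.leaf 1069)) (.leaf 1424)) (.node (.leaf 1276) (.leaf 423))) (.node (.node (.leaf 27) (.leaf 1666)) (.node (.leaf 1656) (.leaf 399)))) (.node (.node (.node (.leaf 655) (.leaf 1537)) (.node (.leaf 1085) (.leaf 663))) (.node (.node (.leaf 1223) (.leaf 2010)) (.node (.leaf 1787) (.leaf 2183)))))) (.node (.node (.node (.node (.node (.node (.leaf 199) (.leaf 1307)) (.leaf 1473)) (.node (.leaf 772) (.leaf 572))) (.node (.node (.leaf 885) (.leaf 1932)) (.node (.leaf 1588) (.leaf 1999)))) (.node (.node (.node (.leaf 540) (.leaf 1440)) (.node (.leaf 1182) (.leaf 413))) (.node (.node (.leaf 881) (.leaf 400)) (.node (.leaf 250) (.leaf 1333))))) (.node (.node (.node (.node (.node (.leaf 411) (.leaf 936)) (.leaf 1908)) (.node (.leaf 1060) (.leaf 1948))) (.node (.node (.leaf 1045) (.leaf 1764)) (.node (.leaf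 1708) (.leaf 697)))) (.node (.node (.node (.leaf 587) (.leaf 1872)) (.node (.leaf 134) (.leaf 1991))) (.node (.node (.leaf 859) (.leaf 286)) (.node (.leaf 1866) (.leaf 1125))))))))) (.node (.node (.node (.node (.node (.node (.node (.node (.node (.leaf 21) (.leaf 1082)) (.leaf 228)) (.node (.leaf 1267) (.leaf 307))) (.node (.node (.leaf 444) (.leaf 162)) (.node (.leaf 1463) (.leaf 1993)))) (.node (.node (.node (.node (.leaf 448) (.leaf 1525)) (.leaf 1519)) (.node (.leaf 981) (.leaf 500))) (.node (.node (.leaf 777) (.leaf 273)) (.node (.leaf 1465) (.leaf 713))))) (.node (.node (.node (.node (.node (.leaf 4) (.leaf 877)) (.leaf 1709)) (.node (.leaf 924) (.leaf 377))) (.node (.node (.leaf 915) (.leaf 1769)) (.node (.leaf 1418) (.leaf 1963)))) (.node (.node (.node (.leaf 608) (.leaf 1630)) (.node (.leaf 71) (.leaf 526))) (.node (.node (.leaf 1193) (.leaf 391)) (.node (.leaf 1737) (.leaf 1138)))))) (.node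 (.node (.node (.node (.node (.node (.leaf 136) (.leaf 1325)) (.leaf 195)) (.node (.leaf 1211) (.leaf 1979))) (.node (.node (.leaf 819) (.leaf 1762)) (.node (.leaf 1540) (.leaf 2086)))) (.node (.node (.node (.leaf 12) (.leaf 1652)) (.node (.leaf 1388) (.leaf 726))) (.node (.node (.leaf 826) (.leaf 419)) (.node (.leaf 1768) (.leaf 1304))))) (.node (.node (.node (.node (.node (.leaf 345) (.leaf 1371)) (.leaf 1484)) (.node (.leaf 1205) (.leaf 463))) (.node (.node (.leaf 1003) (.leaf 1724)) (.node (.leaf 1676) (.leaf 457)))) (.node (.node (.node (.leaf 680) (.leaf 152)) (.node (.leaf 1201) (.leaf 330))) (.node (.node (.leaf 45) (.leaf 2063)) (.node (.leaf 104) (.leaf 817))))))) (.node (.node (.node (.node (.node (.node (.node (.leaf 80) (.leaf 1035)) (.leaf 1605)) (.node (.leaf 1084) (.leaf 2114))) (.node (.node (.leaf 768) (.leaf 1421)) (.node (.leaf 1504) (.leaf 720)))) (.node (.node (.node (.leaf 491)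 (.leaf 1826)) (.node (.leaf 1372) (.leaf 662))) (.node (.node (.leaf 1110) (.leaf 1977)) (.node (.leaf 1624) (.leaf 1386))))) (.node (.node (.node (.node (.node (.leaf 293) (.leaf 2175)) (.leaf 1891)) (.node (.leaf 1292) (.leaf 1985))) (.node (.node (.leaf 922) (.leaf 1931)) (.node (.leaf 1509) (.leaf 2085)))) (.node (.node (.node (.leaf 456) (.leaf 1587)) (.node (.leaf 1177) (.leaf 325))) (.node (.node (.leaf 865) (.leaf 2006)) (.node (.leaf 1820) (.leaf 2185)))))) (.node (.node (.node (.node (.node (.node (.leaf 188) (.leaf 980)) (.leaf 1477)) (.node (.leaf 1296) (.leaf 2126))) (.node (.node (.leaf 874) (.leaf 1429)) (.node (.leaf 1576) (.leaf 2088)))) (.node (.node (.node (.leaf 575) (.leaf 1930)) (.node (.leaf 1392) (.leaf 2160))) (.node (.node (.leaf 1165) (.leaf 569)) (.node (.leaf 1748) (.leaf 1032))))) (.node (.node (.node (.node (.node (.leaf 397) (.leaf 1008)) (.leaf 148)) (.node (.leaf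 1294) (.leaf 708))) (.node (.node (.leaf 1033) (.leaf 1916)) (.node (.leaf 1698) (.leaf 690)))) (.node (.node (.node (.leaf 709) (.leaf 1596)) (.node (.leaf 1420) (.leaf 620))) (.node (.node (.leaf 1164) (.leaf 2087)) (.node (.leaf 1470) (.leaf 2182)))))))) (.node (.node (.node (.node (.node (.node (.node (.node (.leaf 50) (.leaf 1244)) (.leaf 1781)) (.node (.leaf 1285) (.leaf 473))) (.node (.node (.leaf 748) (.leaf 229)) (.node (.leaf 218) (.leaf 1966)))) (.node (.node (.node (.leaf 271) (.leaf 129)) (.node (.leaf 964) (.leaf 674))) (.node (.node (.leaf 1092) (.leaf 1964)) (.node (.leaf 1732) (.leaf 650))))) (.node (.node (.node (.node (.node (.leaf 265) (.leaf 1279)) (.leaf 1792)) (.node (.leaf 1186) (.leaf 2133))) (.node (.node (.leaf 938) (.leaf 252)) (.node (.leaf 192) (.leaf 2036)))) (.node (.node (.node (.leaf 394) (.leaf 1561)) (.node (.leaf 1160) (.leaf 2064))) (.node (.node (.leaf 76) (.leaf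 533)) (.node (.leaf 1812) (.leaf 1404)))))) (.node (.node (.node (.node (.node (.node (.leaf 161) (.leaf 2184)) (.leaf 1725)) (.node (.leaf 1318) (.leaf 479))) (.node (.node (.leaf 848) (.leaf 1877)) (.node (.leaf 1558) (.leaf 2152)))) (.node (.node (.node (.leaf 553) (.leaf 137)) (.node (.leaf 947) (.leaf 2157))) (.node (.node (.leaf 1024) (.leaf 2005)) (.node (.leaf 1776) (.leaf 760))))) (.node (.node (.node (.node (.node (.leaf 7) (.leaf 1093)) (.leaf 1910)) (.node (.leaf 895) (.leaf 347))) (.node (.node (.leaf 977) (.leaf 1892)) (.node (.leaf 1565) (.leaf 546)))) (.node (.node (.node (.leaf 677) (.leaf 1482)) (.node (.leaf 931) (.leaf 348))) (.node (.node (.leaf 1248) (.leaf 2077)) (.node (.leaf 1849) (.leaf 1389))))))) (.node (.node (.node (.node (.node (.node (.node (.leaf 109) (.leaf 1263)) (.leaf 1705)) (.node (.leaf 1300) (.leaf 2117))) (.node (.node (.leaf 795) (.leaf 1767)) (.node (.leaf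 1527) (.leaf 2131)))) (.node (.node (.node (.leaf 512) (.leaf 133)) (.node (.leaf 1200) (.leaf 2150))) (.node (.node (.leaf 984) (.leaf 609)) (.node (.leaf 1658) (.leaf 1123))))) (.node (.node (.node (.node (.node (.leaf 318) (.leaf 1136)) (.leaf 1810)) (.node (.leaf 59) (.leaf 652))) (.node (.node (.leaf 979) (.leaf 1719)) (.node (.leaf 1661) (.leaf 420)))) (.node (.node (.node (.leaf 490) (.leaf 1696)) (.node (.leaf 1161) (.leaf 581))) (.node (.node (.leaf 1230) (.leaf 1954)) (.node (.leaf 1827) (.leaf 1000)))))) (.node (.node (.node (.node (.node (.node (.leaf 166) (.leaf 825)) (.leaf 1794)) (.node (.leaf 1339) (.leaf 541))) (.node (.node (.leaf 892) (.leaf 1857)) (.node (.leaf 215) (.leaf 554)))) (.node (.node (.node (.leaf 336) (.leaf 1531)) (.node (.leaf 1361) (.leaf 2137))) (.node (.node (.leaf 35) (.leaf 734)) (.node (.leaf 1451) (.leaf 774))))) (.node (.node (.node (.node (.node (.leaf 326)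 (.leaf 1610)) (.leaf 1897)) (.node (.leaf 60) (.leaf 439))) (.node (.node (.leaf 914) (.leaf 1939)) (.node (.leaf 1636) (.leaf 446)))) (.node (.node (.node (.leaf 19) (.leaf 1683)) (.node (.leaf 1442) (.leaf 2132))) (.node (.node (.leaf 806) (.leaf 646)) (.node (.leaf 198) (.leaf 1132)))))))))) (.node (.node (.node (.node (.node (.node (.node (.node (.node (.node (.leaf 14) (.leaf 904)) (.leaf 1846)) (.node (.leaf 1171) (.leaf 706))) (.node (.node (.leaf 424) (.leaf 1539)) (.node (.leaf 81) (.leaf 2096)))) (.node (.node (.node (.node (.leaf 442) (.leaf 1567)) (.leaf 1858)) (.node (.leaf 978) (.leaf 2144))) (.node (.node (.leaf 1067) (.leaf 635)) (.node (.leaf 1723) (.leaf 2104))))) (.node (.node (.node (.node (.node (.leaf 235) (.leaf 2180)) (.leaf 1435)) (.node (.leaf 1083) (.leaf 392))) (.node (.node (.leaf 909) (.leaf 1583)) (.node (.leaf 1612) (.leaf 684)))) (.node (.node (.node (.leaf 602) (.leaf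 256)) (.node (.leaf 876) (.leaf 2051))) (.node (.node (.leaf 1189) (.leaf 606)) (.node (.leaf 1805) (.leaf 1070)))))) (.node (.node (.node (.node (.node (.node (.leaf 132) (.leaf 912)) (.leaf 232)) (.node (.leaf 1204) (.leaf 2022))) (.node (.node (.leaf 813) (.leaf 174)) (.node (.leaf 171) (.leaf 2040)))) (.node (.node (.node (.leaf 529) (.leaf 1669)) (.node (.leaf 1089) (.leaf 2146))) (.node (.node (.leaf 766) (.leaf 365)) (.node (.leaf 1543) (.leaf 2179))))) (.node (.node (.node (.node (.node (.leaf 338) (.leaf 1399)) (.leaf 1592)) (.node (.leaf 1367) (.leaf 2047))) (.node (.node (.leaf 997) (.leaf 1564)) (.node (.leaf 1530) (.leaf 1944)))) (.node (.node (.node (.leaf 17) (.leaf 1566)) (.node (.leaf 1400) (.leaf 474))) (.node (.node (.leaf 1046) (.leaf 283)) (.node (.leaf 190) (.leaf 1079))))))) (.node (.node (.node (.node (.node (.node (.node (.leaf 73) (.leaf 1245)) (.leaf 1865)) (.node (.leaf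 970) (.leaf 2026))) (.node (.node (.leaf 761) (.leaf 224)) (.node (.leaf 1499) (.leaf 2097)))) (.node (.node (.node (.leaf 484) (.leaf 203)) (.node (.leaf 1383) (.leaf 648))) (.node (.node (.leaf 1105) (.leaf 1973)) (.node (.leaf 1749) (.leaf 1135))))) (.node (.node (.node (.node (.node (.leaf 285) (.leaf 1207)) (.leaf 1867)) (.node (.leaf 910) (.leaf 454))) (.node (.node (.leaf 954) (.leaf 1505)) (.node (.leaf 1645) (.leaf 426)))) (.node (.node (.node (.leaf 640) (.leaf 1894)) (.node (.leaf 1111) (.leaf 381))) (.node (.node (.leaf 1214) (.leaf 2048)) (.node (.leaf 102) (.leaf 769)))))) (.node (.node (.node (.node (.node (.node (.leaf 181) (.leaf 1252)) (.leaf 1716)) (.node (.leaf 1327) (.leaf 623))) (.node (.node (.leaf 866) (.leaf 1585)) (.node (.leaf 85) (.leaf 681)))) (.node (.node (.node (.leaf 570) (.leaf 1575)) (.node (.leaf 784) (.leaf 1945))) (.node (.node (.leaf 1162) (.leaf 422)) (.node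 (.leaf 1590) (.leaf 1113))))) (.node (.node (.node (.node (.node (.leaf 390) (.leaf 1050)) (.leaf 1885)) (.node (.leaf 916) (.leaf 745))) (.node (.node (.leaf 1027) (.leaf 247)) (.node (.leaf 1693) (.leaf 471)))) (.node (.node (.node (.leaf 705) (.leaf 159)) (.node (.leaf 1413) (.leaf 2135))) (.node (.node (.leaf 1255) (.leaf 335)) (.node (.leaf 1859) (.leaf 779)))))))) (.node (.node (.node (.node (.node (.node (.node (.node (.leaf 43) (.leaf 1250)) (.leaf 1743)) (.node (.leaf 828) (.leaf 396))) (.node (.node (.leaf 741) (.leaf 1642)) (.node (.leaf 1479) (.leaf 1946)))) (.node (.node (.node (.leaf 462) (.leaf 1833)) (.node (.leaf 814) (.leaf 2081))) (.node (.node (.leaf 1086) (.leaf 1959)) (.node (.leaf 1738) (.leaf 1988))))) (.node (.node (.node (.node (.node (.leaf 163) (.leaf 1202)) (.leaf 1548)) (.node (.leaf 72) (.leaf 2019))) (.node (.node (.leaf 887) (.leaf 1824)) (.node (.leaf 1629) (.leaf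 480)))) (.node (.node (.node (.leaf 515) (.leaf 1850)) (.node (.leaf 937) (.leaf 2140))) (.node (.node (.leaf 38) (.leaf 310)) (.node (.leaf 1637) (.leaf 1179)))))) (.node (.node (.node (.node (.node (.node (.leaf 154) (.leaf 1340)) (.leaf 1799)) (.node (.leaf 1313) (.leaf 2123))) (.node (.node (.leaf 840) (.leaf 1491)) (.node (.leaf 1553) (.leaf 687)))) (.node (.node (.node (.leaf 482) (.leaf 1657)) (.node (.leaf 900) (.leaf 2156))) (.node (.node (.leaf 1151) (.leaf 410)) (.node (.leaf 1459) (.leaf 1014))))) (.node (.node (.node (.node (.node (.leaf 364) (.leaf 1103)) (.leaf 122)) (.node (.leaf 1229) (.leaf 746))) (.node (.node (.leaf 70) (.leaf 1586)) (.node (.leaf 1684) (.leaf 617)))) (.node (.node (.node (.leaf 694) (.leaf 1934)) (.node (.leaf 1163) (.leaf 2061))) (.node (.node (.leaf 856) (.leaf 2072)) (.node (.leaf 1697) (.leaf 1166))))))) (.node (.node (.node (.node (.node (.node (.node (.leaf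 101) (.leaf 1360)) (.leaf 1736)) (.node (.leaf 1256) (.leaf 2024))) (.node (.node (.leaf 790) (.leaf 1790)) (.node (.leaf 83) (.leaf 438)))) (.node (.node (.node (.leaf 507) (.leaf 1834)) (.node (.leaf 1235) (.leaf 441))) (.node (.node (.leaf 959) (.leaf 1984)) (.node (.leaf 1419) (.leaf 754))))) (.node (.node (.node (.node (.node (.leaf 274) (.leaf 1375)) (.leaf 1619)) (.node (.leaf 1364) (.leaf 532))) (.node (.node (.leaf 851) (.leaf 1914)) (.node (.leaf 1456) (.leaf 1974)))) (.node (.node (.node (.leaf 603) (.leaf 1686)) (.node (.leaf 1099) (.leaf 2115))) (.node (.node (.leaf 1227) (.leaf 2055)) (.node (.leaf 1735) (.leaf 965)))))) (.node (.node (.node (.node (.node (.node (.leaf 206) (.leaf 869)) (.leaf 1782)) (.node (.leaf 1337) (.leaf 628))) (.node (.node (.leaf 890) (.leaf 180)) (.node (.leaf 1591) (.leaf 359)))) (.node (.node (.node (.leaf 567) (.leaf 1895)) (.node (.leaf 1145) (.leaf 319)))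 (.node (.node (.leaf 1172) (.leaf 292)) (.node (.leaf 1795) (.leaf 1044))))) (.node (.node (.node (.node (.node (.leaf 418) (.leaf 1620)) (.leaf 1646)) (.node (.leaf 1376) (.leaf 671))) (.node (.node (.leaf 950) (.leaf 269)) (.node (.leaf 1632) (.leaf 616)))) (.node (.node (.node (.leaf 719) (.leaf 222)) (.node (.leaf 183) (.leaf 626))) (.node (.node (.leaf 1006) (.leaf 2094)) (.node (.leaf 107) (.leaf 846))))))))) (.node (.node (.node (.node (.node (.node (.node (.node (.node (.leaf 29) (.leaf 787)) (.leaf 1685)) (.node (.leaf 1281) (.leaf 749))) (.node (.node (.leaf 735) (.leaf 1933)) (.node (.leaf 1468) (.leaf 387)))) (.node (.node (.node (.node (.leaf 453) (.leaf 1458)) (.leaf 1874)) (.node (.leaf 968) (.leaf 723))) (.node (.node (.leaf 1077) (.leaf 311)) (.node (.leaf 1729) (.leaf 669))))) (.node (.node (.node (.node (.node (.leaf 245) (.leaf 1149)) (.leaf 164)) (.node (.leaf 1268) (.leaf 527)))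 (.node (.node (.leaf 921) (.leaf 1497)) (.node (.leaf 1618) (.leaf 518)))) (.node (.node (.node (.leaf 513) (.leaf 1549)) (.node (.leaf 1358) (.leaf 352))) (.node (.node (.leaf 1197) (.leaf 2035)) (.node (.leaf 1808) (.leaf 1020)))))) (.node (.node (.node (.node (.node (.node (.leaf 141) (.leaf 2181)) (.leaf 1502)) (.node (.leaf 1308) (.leaf 458))) (.node (.node (.leaf 827) (.leaf 1552)) (.node (.leaf 1542) (.leaf 2116)))) (.node (.node (.node (.leaf 414) (.leaf 1903)) (.node (.leaf 897) (.leaf 494))) (.node (.node (.leaf 1142) (.leaf 1998)) (.node (.leaf 1770) (.leaf 923))))) (.node (.node (.node (.node (.node (.leaf 353) (.leaf 1247)) (.leaf 1647)) (.node (.leaf 1271) (.leaf 510))) (.node (.node (.leaf 1007) (.leaf 1926)) (.node (.leaf 1547) (.leaf 549)))) (.node (.node (.node (.leaf 522) (.leaf 1936)) (.node (.leaf 794) (.leaf 736))) (.node (.node (.leaf 1240) (.leaf 2068)) (.node (.leaf 1841)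 (.leaf 1355))))))) (.node (.node (.node (.node (.node (.node (.node (.leaf 88) (.leaf 2171)) (.leaf 1801)) (.node (.leaf 1021) (.leaf 294))) (.node (.node (.leaf 775) (.leaf 1599)) (.node (.leaf 1510) (.leaf 2073)))) (.node (.node (.node (.leaf 450) (.leaf 1860)) (.node (.leaf 1289) (.leaf 724))) (.node (.node (.leaf 32) (.leaf 1980)) (.node (.leaf 186) (.leaf 752))))) (.node (.node (.node (.node (.node (.leaf 300) (.leaf 943)) (.leaf 1671)) (.node (.leaf 55) (.leaf 1950))) (.node (.node (.leaf 966) (.leaf 260)) (.node (.leaf 1654) (.leaf 562)))) (.node (.node (.node (.leaf 649) (.leaf 1655)) (.node (.leaf 770) (.leaf 654))) (.node (.node (.leaf 1222) (.leaf 2050)) (.node (.leaf 1823) (.leaf 2177)))))) (.node (.node (.node (.node (.node (.node (.leaf 194) (.leaf 1233)) (.leaf 1611)) (.node (.leaf 1330) (.leaf 295))) (.node (.node (.leaf 879) (.leaf 1842)) (.node (.leaf 1559) (.leaf 367)))) (.node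 (.node (.node (.leaf 305) (.leaf 1821)) (.node (.leaf 973) (.leaf 625))) (.node (.node (.leaf 861) (.leaf 369)) (.node (.leaf 99) (.leaf 1246))))) (.node (.node (.node (.node (.node (.leaf 403) (.leaf 941)) (.leaf 1800)) (.node (.leaf 1158) (.leaf 2111))) (.node (.node (.leaf 1039) (.leaf 1888)) (.node (.leaf 97) (.leaf 2158)))) (.node (.node (.node (.leaf 714) (.leaf 200)) (.node (.leaf 1422) (.leaf 653))) (.node (.node (.leaf 1257) (.leaf 2089)) (.node (.leaf 1862) (.leaf 1236)))))))) (.node (.node (.node (.node (.node (.node (.node (.node (.leaf 58) (.leaf 853)) (.leaf 1578)) (.node (.leaf 1266) (.leaf 2042))) (.node (.node (.leaf 39) (.leaf 1649)) (.node (.leaf 86) (.leaf 552)))) (.node (.node (.node (.leaf 472) (.leaf 1819)) (.node (.leaf 62) (.leaf 740))) (.node (.node (.leaf 1040) (.leaf 428)) (.node (.leaf 1742) (.leaf 738))))) (.node (.node (.node (.node (.node (.leaf 272) (.leaf 1104))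 (.leaf 1838)) (.node (.leaf 822) (.leaf 2122))) (.node (.node (.leaf 944) (.leaf 208)) (.node (.leaf 1474) (.leaf 1940)))) (.node (.node (.node (.leaf 630) (.leaf 157)) (.node (.leaf 961) (.leaf 2069))) (.node (.node (.leaf 971) (.leaf 647)) (.node (.leaf 1816) (.leaf 1005)))))) (.node (.node (.node (.node (.node (.node (.leaf 169) (.leaf 799)) (.leaf 1876)) (.node (.leaf 1320) (.leaf 2044))) (.node (.node (.leaf 855) (.leaf 1780)) (.node (.leaf 1489) (.leaf 2008)))) (.node (.node (.node (.leaf 560) (.leaf 1640)) (.node (.leaf 994) (.leaf 672))) (.node (.node (.leaf 1156) (.leaf 727)) (.node (.leaf 1779) (.leaf 759))))) (.node (.node (.node (.node (.node (.leaf 376) (.leaf 1096)) (.leaf 1405)) (.node (.leaf 1237) (.leaf 2142))) (.node (.node (.leaf 1004) (.leaf 1653)) (.node (.leaf 1415) (.leaf 452)))) (.node (.node (.node (.leaf 329) (.leaf 1517)) (.node (.leaf 95) (.leaf 561))) (.node (.node (.leaf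 1126) (.leaf 2046)) (.node (.leaf 1851) (.leaf 1081))))))) (.node (.node (.node (.node (.node (.node (.node (.leaf 116) (.leaf 808)) (.leaf 263)) (.node (.leaf 1260) (.leaf 1955))) (.node (.node (.leaf 801) (.leaf 1761)) (.node (.leaf 1532) (.leaf 2134)))) (.node (.node (.node (.leaf 517) (.leaf 1449)) (.node (.leaf 860) (.leaf 1951))) (.node (.node (.leaf 1131) (.leaf 280)) (.node (.leaf 118) (.leaf 884))))) (.node (.node (.node (.node (.node (.leaf 324) (.leaf 929)) (.leaf 213)) (.node (.leaf 1056) (.leaf 2138))) (.node (.node (.leaf 919) (.leaf 1796)) (.node (.leaf 1665) (.leaf 641)))) (.node (.node (.node (.leaf 668) (.leaf 1921)) (.node (.leaf 1055) (.leaf 733))) (.node (.node (.leaf 1001) (.leaf 1961)) (.node (.leaf 1829) (.leaf 1016)))))) (.node (.node (.node (.node (.node (.node (.leaf 221) (.leaf 1239)) (.leaf 1804)) (.node (.leaf 51) (.leaf 544))) (.node (.node (.leaf 899) (.leaf 1935))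 (.node (.leaf 1545) (.leaf 2106)))) (.node (.node (.node (.leaf 590) (.leaf 143)) (.node (.leaf 1198) (.leaf 710))) (.node (.node (.leaf 1178) (.leaf 2017)) (.node (.leaf 121) (.leaf 1097))))) (.node (.node (.node (.node (.node (.leaf 429) (.leaf 1613)) (.leaf 1912)) (.node (.leaf 1009) (.leaf 306))) (.node (.node (.leaf 952) (.leaf 1943)) (.node (.leaf 1720) (.leaf 559)))) (.node (.node (.node (.leaf 725) (.leaf 1906)) (.node (.leaf 1447) (.leaf 483))) (.node (.node (.leaf 837) (.leaf 487)) (.node (.leaf 108) (.leaf 1326)))))))))))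

def threeNext6 : Janko.Tree (ℕ) :=
  (.node (.node (.node (.node (.node (.node (.node (.node (.node (.node (.node (.leaf 7) (.leaf 1265)) (.leaf 1851)) (.node (.leaf 1151) (.leaf 2102))) (.node (.node (.leaf 300) (.leaf 167)) (.node (.leaf 1453) (.leaf 2120)))) (.node (.node (.node (.node (.leaf 8) (.leaf 1879)) (.leaf 206)) (.node (.leaf 60) (.leaf 2019))) (.node (.node (.leaf 1062) (.leaf 604)) (.node (.leaf 1470) (.leaf 507))))) (.node (.node (.node (.node (.node (.leaf 228) (.leaf 1157)) (.leaf 1856)) (.node (.leaf 909) (.leaf 296))) (.node (.node (.leaf 771) (.leaf 1763)) (.node (.leaf 1606) (.leaf 2037)))) (.node (.node (.node (.leaf 597) (.leaf 210)) (.node (.leaf 844) (.leaf 2011))) (.node (.node (.leaf 35) (.leaf 673)) (.node (.leaf 1801) (.leaf 763)))))) (.node (.node (.node (.node (.node (.node (.leaf 125) (.leaf 1045)) (.leaf 1888)) (.node (.leaf 890) (.leaf 367))) (.node (.node (.leaf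 808) (.leaf 1920)) (.node (.leaf 1537) (.leaf 2130)))) (.node (.node (.node (.leaf 523) (.leaf 1891)) (.node (.leaf 1341) (.leaf 1980))) (.node (.node (.leaf 797) (.leaf 705)) (.node (.leaf 1762) (.leaf 913))))) (.node (.node (.node (.node (.node (.leaf 332) (.leaf 1180)) (.leaf 1614)) (.node (.leaf 56) (.leaf 627))) (.node (.node (.leaf 961) (.leaf 209)) (.node (.leaf 1605) (.leaf 662)))) (.node (.node (.node (.leaf 674) (.leaf 1861)) (.node (.leaf 1181) (.leaf 503))) (.node (.node (.leaf 1235) (.leaf 2059)) (.node (.leaf 1833) (.leaf 1388))))))) (.node (.node (.node (.node (.node (.node (.node (.leaf 66) (.leaf 875)) (.leaf 256)) (.node (.leaf 1277) (.leaf 2113))) (.node (.node (.leaf 756) (.leaf 1520)) (.node (.leaf 1494) (.leaf 500)))) (.node (.node (.node (.leaf 10) (.leaf 1507)) (.node (.leaf 846) (.leaf 2074))) (.node (.node (.leaf 1066) (.leaf 513)) (.node (.leaf 1746) (.leaf 1972))))) (.node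 (.node (.node (.node (.node (.leaf 279) (.leaf 1218)) (.leaf 1527)) (.node (.leaf 855) (.leaf 1971))) (.node (.node (.leaf 864) (.leaf 1521)) (.node (.leaf 87) (.leaf 497)))) (.node (.node (.node (.leaf 636) (.leaf 1420)) (.node (.leaf 1051) (.leaf 2164))) (.node (.node (.leaf 838) (.leaf 2041)) (.node (.leaf 1714) (.leaf 2184)))))) (.node (.node (.node (.node (.node (.node (.leaf 176) (.leaf 1212)) (.leaf 1894)) (.node (.leaf 1323) (.leaf 294))) (.node (.node (.leaf 860) (.leaf 1727)) (.node (.leaf 1570) (.leaf 2086)))) (.node (.node (.node (.leaf 373) (.leaf 1823)) (.node (.leaf 1231) (.leaf 428))) (.node (.node (.leaf 1039) (.leaf 2003)) (.node (.leaf 1719) (.leaf 759))))) (.node (.node (.node (.node (.node (.leaf 383) (.leaf 1362)) (.leaf 1757)) (.node (.leaf 1206) (.leaf 603))) (.node (.node (.leaf 821) (.leaf 1500)) (.node (.leaf 1418) (.leaf 509)))) (.node (.node (.node (.leaf 622) (.leaf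 1631)) (.node (.leaf 144) (.leaf 2157))) (.node (.node (.leaf 1028) (.leaf 596)) (.node (.leaf 1855) (.leaf 969)))))))) (.node (.node (.node (.node (.node (.node (.node (.node (.leaf 29) (.leaf 1401)) (.leaf 1878)) (.node (.leaf 964) (.leaf 2106))) (.node (.node (.leaf 511) (.leaf 1623)) (.node (.leaf 159) (.leaf 353)))) (.node (.node (.node (.node (.leaf 456) (.leaf 1540)) (.leaf 1645)) (.node (.leaf 1364) (.leaf 2103))) (.node (.node (.leaf 1077) (.leaf 273)) (.node (.leaf 107) (.leaf 723))))) (.node (.node (.node (.node (.node (.leaf 254) (.leaf 1227)) (.leaf 1440)) (.node (.leaf 851) (.leaf 458))) (.node (.node (.leaf 929) (.leaf 1725)) (.node (.leaf 1625) (.leaf 2129)))) (.node (.node (.node (.leaf 615) (.leaf 1838)) (.node (.leaf 767) (.leaf 2025))) (.node (.node (.leaf 1201) (.leaf 2040)) (.node (.leaf 1548) (.leaf 1211)))))) (.node (.node (.node (.node (.node (.node (.leaf 148) (.leaf 833))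 (.leaf 1670)) (.node (.leaf 876) (.leaf 2122))) (.node (.node (.leaf 835) (.leaf 1771)) (.node (.leaf 1547) (.leaf 703)))) (.node (.node (.node (.leaf 543) (.leaf 230)) (.node (.leaf 1390) (.leaf 2135))) (.node (.node (.leaf 966) (.leaf 589)) (.node (.leaf 1552) (.leaf 927))))) (.node (.node (.node (.node (.node (.leaf 359) (.leaf 1392)) (.leaf 1886)) (.node (.leaf 1175) (.leaf 2128))) (.node (.node (.leaf 883) (.leaf 1655)) (.node (.leaf 1409) (.leaf 2083)))) (.node (.node (.node (.leaf 688) (.leaf 1566)) (.node (.leaf 879) (.leaf 2109))) (.node (.node (.leaf 41) (.leaf 293)) (.node (.leaf 1845) (.leaf 989))))))) (.node (.node (.node (.node (.node (.node (.node (.leaf 95) (.leaf 792)) (.leaf 1532)) (.node (.leaf 932) (.leaf 658))) (.node (.node (.leaf 783) (.leaf 1413)) (.node (.leaf 1517) (.leaf 1986)))) (.node (.node (.node (.leaf 498) (.leaf 1641)) (.node (.leaf 63) (.leaf 712))) (.node (.node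 (.leaf 978) (.leaf 531)) (.node (.leaf 1675) (.leaf 861))))) (.node (.node (.node (.node (.node (.leaf 309) (.leaf 1144)) (.leaf 163)) (.node (.leaf 1067) (.leaf 299))) (.node (.node (.leaf 72) (.leaf 1903)) (.node (.leaf 1476) (.leaf 461)))) (.node (.node (.node (.leaf 656) (.leaf 1733)) (.node (.leaf 1375) (.leaf 708))) (.node (.node (.leaf 991) (.leaf 344)) (.node (.leaf 1647) (.leaf 1307)))))) (.node (.node (.node (.node (.node (.node (.leaf 200) (.leaf 1402)) (.leaf 261)) (.node (.leaf 988) (.leaf 533))) (.node (.node (.leaf 886) (.leaf 1928)) (.node (.leaf 1589) (.leaf 2169)))) (.node (.node (.node (.leaf 468) (.leaf 1679)) (.node (.leaf 67) (.leaf 2117))) (.node (.node (.leaf 829) (.leaf 2020)) (.node (.leaf 138) (.leaf 1057))))) (.node (.node (.node (.node (.node (.leaf 412) (.leaf 1023)) (.leaf 1817)) (.node (.leaf 76) (.leaf 556))) (.node (.node (.leaf 1046) (.leaf 1776)) (.node (.leaf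 91) (.leaf 2162)))) (.node (.node (.node (.leaf 607) (.leaf 1914)) (.node (.leaf 1429) (.leaf 2024))) (.node (.node (.leaf 1260) (.leaf 2093)) (.node (.leaf 1596) (.leaf 1200))))))))) (.node (.node (.node (.node (.node (.node (.node (.node (.node (.leaf 22) (.leaf 1384)) (.leaf 1578)) (.node (.leaf 857) (.leaf 479))) (.node (.node (.leaf 392) (.leaf 1437)) (.node (.leaf 1464) (.leaf 352)))) (.node (.node (.node (.node (.leaf 449) (.leaf 1428)) (.leaf 1553)) (.node (.leaf 1317) (.leaf 337))) (.node (.node (.leaf 1073) (.leaf 670)) (.node (.leaf 1660) (.leaf 2080))))) (.node (.node (.node (.node (.node (.leaf 241) (.leaf 1117)) (.leaf 1474)) (.node (.leaf 1083) (.leaf 1946))) (.node (.node (.leaf 25) (.leaf 1806)) (.node (.leaf 1587) (.leaf 558)))) (.node (.node (.node (.leaf 609) (.leaf 1875)) (.node (.leaf 1303) (.leaf 488))) (.node (.node (.leaf 939) (.leaf 2032)) (.node (.leaf 1797) (.leaf 1248))))))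 (.node (.node (.node (.node (.node (.node (.leaf 98) (.leaf 805)) (.leaf 1656)) (.node (.leaf 1011) (.leaf 1942))) (.node (.node (.leaf 820) (.leaf 1900)) (.node (.leaf 1524) (.leaf 588)))) (.node (.node (.node (.leaf 307) (.leaf 1922)) (.node (.leaf 1299) (.leaf 2060))) (.node (.node (.leaf 1059) (.leaf 580)) (.node (.leaf 1693) (.leaf 1136))))) (.node (.node (.node (.node (.node (.leaf 346) (.leaf 915)) (.leaf 1908)) (.node (.leaf 1314) (.leaf 1943))) (.node (.node (.leaf 810) (.leaf 1927)) (.node (.leaf 1530) (.leaf 547)))) (.node (.node (.node (.leaf 541) (.leaf 1761)) (.node (.leaf 1207) (.leaf 1976))) (.node (.node (.leaf 1123) (.leaf 724)) (.node (.leaf 1431) (.leaf 930))))))) (.node (.node (.node (.node (.node (.node (.node (.leaf 81) (.leaf 1327)) (.leaf 1805)) (.node (.leaf 979) (.leaf 415))) (.node (.node (.leaf 769) (.leaf 1701)) (.node (.leaf 1482) (.leaf 382)))) (.node (.node (.node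 (.leaf 492) (.leaf 1468)) (.node (.leaf 1155) (.leaf 626))) (.node (.node (.leaf 1111) (.leaf 316)) (.node (.leaf 1462) (.leaf 1273))))) (.node (.node (.node (.node (.node (.leaf 5) (.leaf 1082)) (.leaf 1685)) (.node (.leaf 794) (.leaf 308))) (.node (.node (.leaf 960) (.leaf 196)) (.node (.leaf 1651) (.leaf 451)))) (.node (.node (.node (.leaf 640) (.leaf 1648)) (.node (.leaf 1302) (.leaf 735))) (.node (.node (.leaf 1219) (.leaf 2018)) (.node (.leaf 1821) (.leaf 1189)))))) (.node (.node (.node (.node (.node (.node (.leaf 181) (.leaf 1058)) (.leaf 1755)) (.node (.leaf 1329) (.leaf 643))) (.node (.node (.leaf 23) (.leaf 1825)) (.node (.leaf 223) (.leaf 2107)))) (.node (.node (.node (.leaf 446) (.leaf 1514)) (.node (.leaf 788) (.leaf 535))) (.node (.node (.leaf 65) (.leaf 2014)) (.node (.leaf 1788) (.leaf 2181))))) (.node (.node (.node (.node (.node (.leaf 398) (.leaf 911)) (.leaf 1555)) (.node (.leaf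 902) (.leaf 741))) (.node (.node (.leaf 1034) (.leaf 1708)) (.node (.leaf 1699) (.leaf 2063)))) (.node (.node (.node (.leaf 529) (.leaf 1926)) (.node (.leaf 1421) (.leaf 2154))) (.node (.node (.leaf 1251) (.leaf 285)) (.node (.leaf 135) (.leaf 1194)))))))) (.node (.node (.node (.node (.node (.node (.node (.node (.leaf 51) (.leaf 795)) (.leaf 1837)) (.node (.leaf 1286) (.leaf 2110))) (.node (.node (.leaf 20) (.leaf 267)) (.node (.leaf 169) (.leaf 2081)))) (.node (.node (.node (.leaf 334) (.leaf 1622)) (.node (.leaf 1198) (.leaf 2146))) (.node (.node (.leaf 1093) (.leaf 730)) (.node (.leaf 1620) (.leaf 690))))) (.node (.node (.node (.node (.node (.leaf 215) (.leaf 1021)) (.leaf 1712)) (.node (.leaf 974) (.leaf 310))) (.node (.node (.leaf 935) (.leaf 1518)) (.node (.leaf 257) (.leaf 364)))) (.node (.node (.node (.leaf 625) (.leaf 1720)) (.node (.leaf 1185) (.leaf 2104))) (.node (.node (.leaf 1086) (.leaf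 587)) (.node (.leaf 1798) (.leaf 775)))))) (.node (.node (.node (.node (.node (.node (.leaf 162) (.leaf 807)) (.leaf 1832)) (.node (.leaf 48) (.leaf 2123))) (.node (.node (.leaf 849) (.leaf 270)) (.node (.leaf 1559) (.leaf 374)))) (.node (.node (.node (.leaf 524) (.leaf 168)) (.node (.leaf 68) (.leaf 722))) (.node (.node (.leaf 1044) (.leaf 277)) (.node (.leaf 141) (.leaf 1054))))) (.node (.node (.node (.node (.node (.leaf 371) (.leaf 942)) (.leaf 1898)) (.node (.leaf 1350) (.leaf 555))) (.node (.node (.leaf 905) (.leaf 1769)) (.node (.leaf 1613) (.leaf 709)))) (.node (.node (.node (.leaf 360) (.leaf 1864)) (.node (.leaf 1326) (.leaf 1978))) (.node (.node (.leaf 949) (.leaf 284)) (.node (.leaf 1828) (.leaf 1393))))))) (.node (.node (.node (.node (.node (.node (.node (.leaf 110) (.leaf 1183)) (.leaf 112)) (.node (.leaf 1094) (.leaf 419))) (.node (.node (.leaf 796) (.leaf 1523)) (.node (.leaf 195)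 (.leaf 470)))) (.node (.node (.node (.leaf 427) (.leaf 1759)) (.node (.leaf 1349) (.leaf 331))) (.node (.node (.leaf 1125) (.leaf 682)) (.node (.leaf 1758) (.leaf 754))))) (.node (.node (.node (.node (.node (.leaf 319) (.leaf 850)) (.leaf 1721)) (.node (.leaf 1365) (.leaf 336))) (.node (.node (.leaf 980) (.leaf 1633)) (.node (.leaf 1618) (.leaf 581)))) (.node (.node (.node (.leaf 629) (.leaf 149)) (.node (.leaf 842) (.leaf 1984))) (.node (.node (.leaf 1205) (.leaf 648)) (.node (.leaf 1737) (.leaf 1366)))))) (.node (.node (.node (.node (.node (.node (.leaf 214) (.leaf 1389)) (.leaf 1893)) (.node (.leaf 1165) (.leaf 388))) (.node (.node (.leaf 893) (.leaf 1473)) (.node (.leaf 1598) (.leaf 727)))) (.node (.node (.node (.leaf 384) (.leaf 153)) (.node (.leaf 1188) (.leaf 719))) (.node (.node (.leaf 948) (.leaf 1997)) (.node (.leaf 217) (.leaf 2179))))) (.node (.node (.node (.node (.node (.leaf 423) (.leaf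 1459)) (.leaf 1749)) (.node (.leaf 962) (.leaf 2044))) (.node (.node (.leaf 1052) (.leaf 595)) (.node (.leaf 1716) (.leaf 698)))) (.node (.node (.node (.leaf 602) (.leaf 245)) (.node (.leaf 1443) (.leaf 2095))) (.node (.node (.leaf 1267) (.leaf 2096)) (.node (.leaf 1683) (.leaf 2182)))))))))) (.node (.node (.node (.node (.node (.node (.node (.node (.node (.node (.leaf 15) (.leaf 1184)) (.leaf 1872)) (.node (.leaf 1247) (.leaf 414))) (.node (.node (.leaf 732) (.leaf 1486)) (.node (.leaf 1458) (.leaf 433)))) (.node (.node (.node (.node (.leaf 400) (.leaf 1643)) (.leaf 219)) (.node (.leaf 825) (.leaf 330))) (.node (.node (.leaf 1068) (.leaf 1951)) (.node (.leaf 1609) (.leaf 2144))))) (.node (.node (.node (.node (.node (.leaf 236) (.leaf 813)) (.leaf 226)) (.node (.leaf 1346) (.leaf 2114))) (.node (.node (.leaf 910) (.leaf 1729)) (.node (.leaf 86) (.leaf 2016)))) (.node (.node (.node (.leaf 417) (.leaf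 142)) (.node (.leaf 1294) (.leaf 2068))) (.node (.node (.leaf 1032) (.leaf 527)) (.node (.leaf 100) (.leaf 1131)))))) (.node (.node (.node (.node (.node (.node (.leaf 133) (.leaf 1308)) (.leaf 124)) (.node (.leaf 1085) (.leaf 738))) (.node (.node (.leaf 814) (.leaf 258)) (.node (.leaf 1539) (.leaf 2051)))) (.node (.node (.node (.leaf 530) (.leaf 1703)) (.node (.leaf 773) (.leaf 442))) (.node (.node (.leaf 815) (.leaf 276)) (.node (.leaf 1667) (.leaf 997))))) (.node (.node (.node (.node (.node (.leaf 6) (.leaf 1191)) (.leaf 147)) (.node (.leaf 856) (.leaf 2140))) (.node (.node (.leaf 998) (.leaf 1735)) (.node (.leaf 165) (.leaf 717)))) (.node (.node (.node (.leaf 487) (.leaf 1935)) (.node (.leaf 768) (.leaf 2022))) (.node (.node (.leaf 1119) (.leaf 439)) (.node (.leaf 1766) (.leaf 2175))))))) (.node (.node (.node (.node (.node (.node (.node (.leaf 74) (.leaf 1383)) (.leaf 1750)) (.node (.leaf 1024)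 (.leaf 630))) (.node (.node (.leaf 762) (.leaf 1782)) (.node (.leaf 82) (.leaf 2137)))) (.node (.node (.node (.leaf 485) (.leaf 1916)) (.node (.leaf 75) (.leaf 2125))) (.node (.node (.leaf 806) (.leaf 554)) (.node (.leaf 1688) (.leaf 2171))))) (.node (.node (.node (.node (.node (.leaf 286) (.leaf 2176)) (.leaf 1822)) (.node (.leaf 1360) (.leaf 298))) (.node (.node (.leaf 955) (.leaf 1674)) (.node (.leaf 186) (.leaf 663)))) (.node (.node (.node (.leaf 641) (.leaf 146)) (.node (.leaf 1396) (.leaf 2145))) (.node (.node (.leaf 1167) (.leaf 495)) (.node (.leaf 1593) (.leaf 1244)))))) (.node (.node (.node (.node (.node (.node (.leaf 182) (.leaf 1289)) (.leaf 1734)) (.node (.leaf 49) (.leaf 311))) (.node (.node (.leaf 867) (.leaf 1562)) (.node (.leaf 1572) (.leaf 750)))) (.node (.node (.node (.leaf 571) (.leaf 1430)) (.node (.leaf 992) (.leaf 431))) (.node (.node (.leaf 1163) (.leaf 2010)) (.node (.leaf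 1629) (.leaf 1358))))) (.node (.node (.node (.node (.node (.leaf 391) (.leaf 1126)) (.leaf 1546)) (.node (.leaf 1373) (.leaf 302))) (.node (.node (.leaf 39) (.leaf 1697)) (.node (.leaf 108) (.leaf 1940)))) (.node (.node (.node (.leaf 18) (.leaf 1905)) (.node (.leaf 1414) (.leaf 2170))) (.node (.node (.leaf 42) (.leaf 551)) (.node (.leaf 1564) (.leaf 920)))))))) (.node (.node (.node (.node (.node (.node (.node (.node (.leaf 44) (.leaf 1006)) (.leaf 1809)) (.node (.leaf 1282) (.leaf 418))) (.node (.node (.leaf 742) (.leaf 1717)) (.node (.leaf 1480) (.leaf 637)))) (.node (.node (.node (.leaf 463) (.leaf 1408)) (.node (.leaf 1196) (.leaf 614))) (.node (.node (.leaf 1087) (.leaf 401)) (.node (.leaf 1498) (.leaf 2006))))) (.node (.node (.node (.node (.node (.leaf 260) (.leaf 1116)) (.leaf 1577)) (.node (.leaf 916) (.leaf 409))) (.node (.node (.leaf 933) (.leaf 1919)) (.node (.leaf 1492) (.leaf 2101))))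 (.node (.node (.node (.leaf 559) (.leaf 1574)) (.node (.leaf 774) (.leaf 2012))) (.node (.node (.leaf 1107) (.leaf 2027)) (.node (.leaf 101) (.leaf 766)))))) (.node (.node (.node (.node (.node (.node (.leaf 155) (.leaf 956)) (.leaf 1658)) (.node (.leaf 1161) (.leaf 1956))) (.node (.node (.leaf 841) (.leaf 175)) (.node (.leaf 1554) (.leaf 550)))) (.node (.node (.node (.leaf 548) (.leaf 244)) (.node (.leaf 1193) (.leaf 681))) (.node (.node (.leaf 1152) (.leaf 591)) (.node (.leaf 1499) (.leaf 770))))) (.node (.node (.node (.node (.node (.leaf 365) (.leaf 1255)) (.leaf 1436)) (.node (.leaf 1192) (.leaf 1981))) (.node (.node (.leaf 1016) (.leaf 1661)) (.node (.leaf 1586) (.leaf 2150)))) (.node (.node (.node (.leaf 695) (.leaf 1824)) (.node (.leaf 1310) (.leaf 1975))) (.node (.node (.leaf 1017) (.leaf 2073)) (.node (.leaf 1839) (.leaf 862))))))) (.node (.node (.node (.node (.node (.node (.node (.leaf 102)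 (.leaf 887)) (.leaf 1438)) (.node (.leaf 1268) (.leaf 291))) (.node (.node (.leaf 791) (.leaf 1918)) (.node (.leaf 1522) (.leaf 1959)))) (.node (.node (.node (.leaf 272) (.leaf 1810)) (.node (.leaf 73) (.leaf 744))) (.node (.node (.leaf 1122) (.leaf 1985)) (.node (.leaf 1638) (.leaf 785))))) (.node (.node (.node (.node (.node (.leaf 314) (.leaf 1252)) (.leaf 1859)) (.node (.leaf 852) (.leaf 2091))) (.node (.node (.leaf 973) (.leaf 1744)) (.node (.leaf 1526) (.leaf 506)))) (.node (.node (.node (.leaf 661) (.leaf 1728)) (.node (.leaf 1063) (.leaf 393))) (.node (.node (.leaf 753) (.leaf 453)) (.node (.leaf 1731) (.leaf 1347)))))) (.node (.node (.node (.node (.node (.node (.leaf 207) (.leaf 1001)) (.leaf 1885)) (.node (.leaf 50) (.leaf 295))) (.node (.node (.leaf 869) (.leaf 216)) (.node (.leaf 1592) (.leaf 2062)))) (.node (.node (.node (.leaf 381) (.leaf 1444)) (.node (.leaf 1178) (.leaf 385))) (.node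 (.node (.leaf 1173) (.leaf 714)) (.node (.leaf 160) (.leaf 1203))))) (.node (.node (.node (.node (.node (.leaf 411) (.leaf 1772)) (.leaf 1767)) (.node (.leaf 1080) (.leaf 407))) (.node (.node (.leaf 1050) (.leaf 1909)) (.node (.leaf 255) (.leaf 2156)))) (.node (.node (.node (.leaf 653) (.leaf 1506)) (.node (.leaf 1435) (.leaf 445))) (.node (.node (.leaf 1264) (.leaf 472)) (.node (.leaf 1793) (.leaf 884))))))))) (.node (.node (.node (.node (.node (.node (.node (.node (.node (.leaf 30) (.leaf 896)) (.leaf 1800)) (.node (.leaf 1110) (.leaf 537))) (.node (.node (.leaf 736) (.leaf 1711)) (.node (.leaf 1469) (.leaf 341)))) (.node (.node (.node (.node (.leaf 432) (.leaf 1664)) (.leaf 1573)) (.node (.leaf 61) (.leaf 748))) (.node (.node (.leaf 1078) (.leaf 649)) (.node (.leaf 1560) (.leaf 696))))) (.node (.node (.node (.node (.node (.leaf 246) (.leaf 1386)) (.leaf 249)) (.node (.leaf 1352) (.leaf 1948)))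 (.node (.node (.leaf 922) (.leaf 1575)) (.node (.leaf 1619) (.leaf 363)))) (.node (.node (.node (.leaf 613) (.leaf 1932)) (.node (.leaf 1269) (.leaf 2098))) (.node (.node (.leaf 1041) (.leaf 2036)) (.node (.leaf 1630) (.leaf 1216)))))) (.node (.node (.node (.node (.node (.node (.leaf 109) (.leaf 2177)) (.leaf 1626)) (.node (.leaf 1309) (.leaf 2100))) (.node (.node (.leaf 828) (.leaf 1844)) (.node (.leaf 1529) (.leaf 379)))) (.node (.node (.node (.leaf 536) (.leaf 1790)) (.node (.leaf 1064) (.leaf 2076))) (.node (.node (.leaf 33) (.leaf 512)) (.node (.leaf 1730) (.leaf 1162))))) (.node (.node (.node (.node (.node (.leaf 354) (.leaf 1259)) (.leaf 1812)) (.node (.leaf 804) (.leaf 303))) (.node (.node (.leaf 1008) (.leaf 1599)) (.node (.leaf 1621) (.leaf 740)))) (.node (.node (.node (.leaf 685) (.leaf 1706)) (.node (.leaf 1230) (.leaf 2167))) (.node (.node (.leaf 1142) (.leaf 283)) (.node (.leaf 1842)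 (.leaf 1397))))))) (.node (.node (.node (.node (.node (.node (.node (.leaf 89) (.leaf 1254)) (.leaf 1503)) (.node (.leaf 1291) (.leaf 2115))) (.node (.node (.leaf 21) (.leaf 1901)) (.node (.leaf 1511) (.leaf 1974)))) (.node (.node (.node (.leaf 496) (.leaf 1732)) (.node (.leaf 1221) (.leaf 405))) (.node (.node (.leaf 924) (.leaf 1955)) (.node (.leaf 1754) (.leaf 847))))) (.node (.node (.node (.node (.node (.leaf 301) (.leaf 1138)) (.leaf 1687)) (.node (.leaf 1363) (.leaf 2099))) (.node (.node (.leaf 967) (.leaf 1634)) (.node (.leaf 192) (.leaf 2087)))) (.node (.node (.node (.leaf 650) (.leaf 1765)) (.node (.leaf 1324) (.leaf 700))) (.node (.node (.leaf 950) (.leaf 657)) (.node (.leaf 1796) (.leaf 1049)))))) (.node (.node (.node (.node (.node (.node (.leaf 79) (.leaf 1208)) (.leaf 1445)) (.node (.leaf 1033) (.leaf 525))) (.node (.node (.leaf 837) (.leaf 188)) (.node (.leaf 1582) (.leaf 2008)))) (.node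 (.node (.node (.leaf 579) (.leaf 1653)) (.node (.leaf 1040) (.leaf 480))) (.node (.node (.leaf 1169) (.leaf 2017)) (.node (.leaf 263) (.leaf 1321))))) (.node (.node (.node (.node (.node (.leaf 404) (.leaf 1147)) (.leaf 264)) (.node (.leaf 59) (.leaf 1938))) (.node (.node (.leaf 854) (.leaf 1432)) (.node (.leaf 1516) (.leaf 2148)))) (.node (.node (.node (.leaf 715) (.leaf 1447)) (.node (.leaf 1423) (.leaf 678))) (.node (.node (.leaf 1253) (.leaf 728)) (.node (.leaf 1774) (.leaf 1106)))))))) (.node (.node (.node (.node (.node (.node (.node (.node (.leaf 0) (.leaf 1403)) (.leaf 1795)) (.node (.leaf 1290) (.leaf 357))) (.node (.node (.leaf 751) (.leaf 1933)) (.node (.leaf 1488) (.leaf 521)))) (.node (.node (.node (.leaf 473) (.leaf 140)) (.node (.leaf 895) (.leaf 2052))) (.node (.node (.leaf 1098) (.leaf 1969)) (.node (.leaf 1740) (.leaf 501))))) (.node (.node (.node (.node (.node (.leaf 14) (.leaf 826))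 (.leaf 1531)) (.node (.leaf 1356) (.leaf 718))) (.node (.node (.leaf 37) (.leaf 1906)) (.node (.leaf 1637) (.leaf 2048)))) (.node (.node (.node (.leaf 631) (.leaf 1930)) (.node (.leaf 1353) (.leaf 1989))) (.node (.node (.leaf 38) (.leaf 542)) (.node (.leaf 1608) (.leaf 1344)))))) (.node (.node (.node (.node (.node (.node (.leaf 170) (.leaf 1246)) (.leaf 126)) (.node (.leaf 58) (.leaf 465))) (.node (.node (.leaf 848) (.leaf 1700)) (.node (.leaf 1565) (.leaf 2047)))) (.node (.node (.node (.leaf 561) (.leaf 137)) (.node (.leaf 1378) (.leaf 2090))) (.node (.node (.leaf 1090) (.leaf 2001)) (.node (.leaf 1780) (.leaf 827))))) (.node (.node (.node (.node (.node (.leaf 377) (.leaf 1148)) (.leaf 1899)) (.node (.leaf 1372) (.leaf 351))) (.node (.node (.leaf 818) (.leaf 233)) (.node (.leaf 268) (.leaf 692)))) (.node (.node (.node (.leaf 378) (.leaf 1883)) (.node (.leaf 1406) (.leaf 2158))) (.node (.node (.leaf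 1026) (.leaf 2079)) (.node (.leaf 1852) (.leaf 784))))))) (.node (.node (.node (.node (.node (.node (.node (.leaf 117) (.leaf 1210)) (.leaf 1813)) (.node (.leaf 781) (.leaf 2064))) (.node (.node (.leaf 802) (.leaf 178)) (.node (.leaf 83) (.leaf 457)))) (.node (.node (.node (.leaf 518) (.leaf 1836)) (.node (.leaf 64) (.leaf 1957))) (.node (.node (.leaf 1132) (.leaf 686)) (.node (.leaf 1760) (.leaf 1306))))) (.node (.node (.node (.node (.node (.leaf 325) (.leaf 983)) (.leaf 1802)) (.node (.leaf 1095) (.leaf 2049))) (.node (.node (.leaf 985) (.leaf 1538)) (.node (.leaf 1588) (.leaf 582)))) (.node (.node (.node (.leaf 369) (.leaf 158)) (.node (.leaf 1149) (.leaf 737))) (.node (.node (.leaf 968) (.leaf 574)) (.node (.leaf 143) (.leaf 1114)))))) (.node (.node (.node (.node (.node (.node (.leaf 222) (.leaf 1004)) (.leaf 132)) (.node (.leaf 1343) (.leaf 2067))) (.node (.node (.leaf 900) (.leaf 190)) (.node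 (.leaf 1601) (.leaf 422)))) (.node (.node (.node (.leaf 274) (.leaf 1571)) (.node (.leaf 993) (.leaf 565))) (.node (.node (.leaf 1179) (.leaf 420)) (.node (.leaf 1471) (.leaf 903))))) (.node (.node (.node (.node (.node (.leaf 430) (.leaf 1665)) (.leaf 1425)) (.node (.leaf 970) (.leaf 2053))) (.node (.node (.leaf 996) (.leaf 502)) (.node (.leaf 1416) (.leaf 590)))) (.node (.node (.node (.leaf 726) (.leaf 1910)) (.node (.leaf 1448) (.leaf 539))) (.node (.node (.leaf 1270) (.leaf 646)) (.node (.leaf 1849) (.leaf 1003)))))))))))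

def threeNext7 : Janko.Tree (ℕ) :=
  (.node (.node (.node (.node (.node (.node (.node (.node (.node (.node (.node (.leaf 8) (.leaf 1313)) (.leaf 115)) (.node (.leaf 1039) (.leaf 2103))) (.node (.node (.leaf 548) (.leaf 1879)) (.node (.leaf 1417) (.leaf 2020)))) (.node (.node (.node (.node (.leaf 438) (.leaf 1676)) (.leaf 1910)) (.node (.leaf 1378) (.leaf 1939))) (.node (.node (.leaf 1063) (.leaf 1948)) (.node (.leaf 1721) (.leaf 2107))))) (.node (.node (.node (.node (.node (.leaf 229) (.leaf 1346)) (.leaf 261)) (.node (.leaf 1328) (.leaf 352))) (.node (.node (.leaf 32) (.leaf 1752)) (.node (.leaf 1607) (.leaf 2000)))) (.node (.node (.node (.leaf 583) (.leaf 235)) (.node (.leaf 1306) (.leaf 2163))) (.node (.node (.leaf 1186) (.leaf 279)) (.node (.leaf 1514) (.leaf 1211)))))) (.node (.node (.node (.node (.node (.node (.leaf 126) (.leaf 1214)) (.leaf 1610)) (.node (.leaf 1243) (.leaf 406))) (.node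 (.node (.leaf 809) (.leaf 1764)) (.node (.leaf 1501) (.leaf 2032)))) (.node (.node (.node (.leaf 524) (.leaf 1749)) (.node (.leaf 1360) (.leaf 389))) (.node (.node (.leaf 1136) (.leaf 536)) (.node (.leaf 1763) (.leaf 1375))))) (.node (.node (.node (.node (.node (.leaf 305) (.leaf 2180)) (.leaf 1690)) (.node (.leaf 881) (.leaf 2091))) (.node (.node (.leaf 991) (.leaf 1644)) (.node (.leaf 1628) (.leaf 2086)))) (.node (.node (.node (.leaf 316) (.leaf 217)) (.node (.leaf 1271) (.leaf 345))) (.node (.node (.leaf 1236) (.leaf 647)) (.node (.leaf 1447) (.leaf 839))))))) (.node (.node (.node (.node (.node (.node (.node (.leaf 67) (.leaf 1404)) (.leaf 1685)) (.node (.leaf 770) (.leaf 1991))) (.node (.node (.leaf 757) (.leaf 1412)) (.node (.leaf 1495) (.leaf 344)))) (.node (.node (.node (.leaf 479) (.leaf 1768)) (.node (.leaf 1249) (.leaf 308))) (.node (.node (.leaf 888) (.leaf 456)) (.node (.leaf 259) (.leaf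 641))))) (.node (.node (.node (.node (.node (.leaf 280) (.leaf 999)) (.leaf 1420)) (.node (.leaf 1359) (.leaf 475))) (.node (.node (.leaf 814) (.leaf 1719)) (.node (.leaf 1641) (.leaf 2142)))) (.node (.node (.node (.leaf 447) (.leaf 145)) (.node (.leaf 1349) (.leaf 663))) (.node (.node (.leaf 1210) (.leaf 370)) (.node (.leaf 1511) (.leaf 1061)))))) (.node (.node (.node (.node (.node (.node (.leaf 89) (.leaf 1334)) (.leaf 1614)) (.node (.leaf 1075) (.leaf 718))) (.node (.node (.leaf 861) (.leaf 1608)) (.node (.leaf 1422) (.leaf 2101)))) (.node (.node (.node (.leaf 296) (.leaf 1928)) (.node (.leaf 66) (.leaf 553))) (.node (.node (.leaf 1160) (.leaf 604)) (.node (.leaf 1783) (.leaf 1403))))) (.node (.node (.node (.node (.node (.leaf 384) (.leaf 1159)) (.leaf 1615)) (.node (.leaf 1146) (.leaf 715))) (.node (.node (.leaf 965) (.leaf 1888)) (.node (.leaf 1692) (.leaf 414)))) (.node (.node (.node (.leaf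 649) (.leaf 1884)) (.node (.leaf 119) (.leaf 644))) (.node (.node (.leaf 1252) (.leaf 2081)) (.node (.leaf 1565) (.leaf 933)))))))) (.node (.node (.node (.node (.node (.node (.node (.node (.leaf 38) (.leaf 1095)) (.leaf 1659)) (.node (.leaf 1257) (.leaf 2034))) (.node (.node (.leaf 714) (.leaf 1841)) (.node (.leaf 1475) (.leaf 371)))) (.node (.node (.node (.node (.leaf 457) (.leaf 1720)) (.leaf 1523)) (.node (.leaf 1380) (.leaf 1975))) (.node (.node (.leaf 1082) (.leaf 1957)) (.node (.leaf 1735) (.leaf 2111))))) (.node (.node (.node (.node (.node (.leaf 255) (.leaf 1153)) (.leaf 1849)) (.node (.leaf 793) (.leaf 2066))) (.node (.node (.leaf 25) (.leaf 193)) (.node (.leaf 1538) (.leaf 2119)))) (.node (.node (.node (.leaf 386) (.leaf 1535)) (.node (.leaf 1104) (.leaf 500))) (.node (.node (.leaf 37) (.leaf 1940)) (.node (.leaf 1809) (.leaf 811)))))) (.node (.node (.node (.node (.node (.node (.leaf 149)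 (.leaf 1303)) (.leaf 262)) (.node (.leaf 1298) (.leaf 293))) (.node (.node (.leaf 836) (.leaf 214)) (.node (.leaf 1548) (.leaf 2167)))) (.node (.node (.node (.leaf 544) (.leaf 1738)) (.node (.leaf 65) (.leaf 319))) (.node (.node (.leaf 1147) (.leaf 582)) (.node (.leaf 1423) (.leaf 1345))))) (.node (.node (.node (.node (.node (.leaf 360) (.leaf 910)) (.leaf 1905)) (.node (.leaf 1044) (.leaf 2003))) (.node (.node (.leaf 1013) (.leaf 1555)) (.node (.leaf 1642) (.leaf 421)))) (.node (.node (.node (.leaf 689) (.leaf 160)) (.node (.leaf 1329) (.leaf 331))) (.node (.node (.leaf 1242) (.leaf 393)) (.node (.leaf 1539) (.leaf 775))))))) (.node (.node (.node (.node (.node (.node (.node (.leaf 96) (.leaf 854)) (.leaf 1581)) (.node (.leaf 46) (.leaf 634))) (.node (.node (.leaf 784) (.leaf 269)) (.node (.leaf 1518) (.leaf 368)))) (.node (.node (.node (.leaf 502) (.leaf 1916)) (.node (.leaf 1000) (.leaf 2088)))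 (.node (.node (.leaf 1118) (.leaf 1983)) (.node (.leaf 132) (.leaf 1172))))) (.node (.node (.node (.node (.node (.leaf 310) (.leaf 1337)) (.leaf 1569)) (.node (.leaf 1101) (.leaf 747))) (.node (.node (.leaf 928) (.leaf 1624)) (.node (.leaf 1657) (.leaf 568)))) (.node (.node (.node (.leaf 657) (.leaf 1901)) (.node (.leaf 1027) (.leaf 506))) (.node (.node (.leaf 1219) (.leaf 2052)) (.node (.leaf 1744) (.leaf 860)))))) (.node (.node (.node (.node (.node (.node (.leaf 117) (.leaf 1377)) (.leaf 1775)) (.node (.leaf 871) (.leaf 633))) (.node (.node (.leaf 887) (.leaf 1629)) (.node (.leaf 85) (.leaf 636)))) (.node (.node (.node (.leaf 440) (.leaf 1693)) (.node (.leaf 1262) (.leaf 323))) (.node (.node (.leaf 1171) (.leaf 278)) (.node (.leaf 1792) (.leaf 874))))) (.node (.node (.node (.node (.node (.leaf 413) (.leaf 1203)) (.leaf 1554)) (.node (.leaf 1354) (.leaf 2085))) (.node (.node (.leaf 1047) (.leaf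 1658)) (.node (.leaf 1600) (.leaf 575)))) (.node (.node (.node (.leaf 717) (.leaf 1805)) (.node (.leaf 1430) (.leaf 2114))) (.node (.node (.leaf 1261) (.leaf 1949)) (.node (.leaf 1847) (.leaf 950))))))))) (.node (.node (.node (.node (.node (.node (.node (.node (.node (.leaf 23) (.leaf 1222)) (.leaf 1875)) (.node (.leaf 1277) (.leaf 2050))) (.node (.node (.leaf 734) (.leaf 1898)) (.node (.leaf 1465) (.leaf 494)))) (.node (.node (.node (.node (.leaf 450) (.leaf 1710)) (.leaf 127)) (.node (.leaf 996) (.leaf 422))) (.node (.node (.leaf 884) (.leaf 635)) (.node (.leaf 1705) (.leaf 455))))) (.node (.node (.node (.node (.node (.leaf 173) (.leaf 1035)) (.leaf 1807)) (.node (.leaf 1156) (.leaf 742))) (.node (.node (.leaf 916) (.leaf 1826)) (.node (.leaf 1428) (.leaf 526)))) (.node (.node (.node (.leaf 610) (.leaf 1932)) (.node (.leaf 1312) (.leaf 1962))) (.node (.node (.leaf 1194) (.leaf 2033)) (.node (.leaf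 108) (.leaf 764)))))) (.node (.node (.node (.node (.node (.node (.leaf 137) (.leaf 857)) (.leaf 1686)) (.node (.leaf 1307) (.leaf 2068))) (.node (.node (.leaf 821) (.leaf 181)) (.node (.leaf 1541) (.leaf 625)))) (.node (.node (.node (.leaf 491) (.leaf 1434)) (.node (.leaf 1209) (.leaf 1973))) (.node (.node (.leaf 1086) (.leaf 1994)) (.node (.leaf 1477) (.leaf 769))))) (.node (.node (.node (.node (.node (.leaf 347) (.leaf 1206)) (.leaf 1432)) (.node (.leaf 1368) (.leaf 733))) (.node (.node (.leaf 61) (.leaf 1903)) (.node (.leaf 1616) (.leaf 713)))) (.node (.node (.node (.leaf 681) (.leaf 232)) (.node (.leaf 1401) (.leaf 592))) (.node (.node (.leaf 837) (.leaf 2064)) (.node (.leaf 161) (.leaf 968))))))) (.node (.node (.node (.node (.node (.node (.node (.leaf 82) (.leaf 977)) (.leaf 1798)) (.node (.leaf 1293) (.leaf 290))) (.node (.node (.leaf 70) (.leaf 1919)) (.node (.leaf 1505) (.leaf 487)))) (.node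 (.node (.node (.leaf 10) (.leaf 230)) (.node (.leaf 1264) (.leaf 503))) (.node (.node (.leaf 753) (.leaf 1978)) (.node (.leaf 1665) (.leaf 971))))) (.node (.node (.node (.node (.node (.leaf 294) (.leaf 1050)) (.leaf 1880)) (.node (.leaf 840) (.leaf 2126))) (.node (.node (.leaf 961) (.leaf 245)) (.node (.leaf 1652) (.leaf 1947)))) (.node (.node (.node (.leaf 645) (.leaf 1524)) (.node (.leaf 1398) (.leaf 685))) (.node (.node (.leaf 1220) (.leaf 725)) (.node (.leaf 178) (.leaf 1278)))))) (.node (.node (.node (.node (.node (.node (.leaf 189) (.leaf 1289)) (.leaf 1797)) (.node (.leaf 785) (.leaf 362))) (.node (.node (.leaf 875) (.leaf 1497)) (.node (.leaf 1577) (.leaf 2160)))) (.node (.node (.node (.leaf 576) (.leaf 138)) (.node (.leaf 1344) (.leaf 618))) (.node (.node (.leaf 985) (.leaf 365)) (.node (.leaf 1682) (.leaf 1108))))) (.node (.node (.node (.node (.node (.leaf 399) (.leaf 1193)) (.leaf 1695))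 (.node (.leaf 818) (.leaf 2073))) (.node (.node (.leaf 1020) (.leaf 253)) (.node (.leaf 1700) (.leaf 2144)))) (.node (.node (.node (.leaf 710) (.leaf 1543)) (.node (.leaf 79) (.leaf 700))) (.node (.node (.leaf 1256) (.leaf 630)) (.node (.leaf 1834) (.leaf 1272)))))))) (.node (.node (.node (.node (.node (.node (.node (.node (.leaf 52) (.leaf 855)) (.leaf 1803)) (.node (.leaf 1287) (.leaf 350))) (.node (.node (.leaf 749) (.leaf 1935)) (.node (.leaf 1486) (.leaf 2159)))) (.node (.node (.node (.leaf 17) (.leaf 1762)) (.node (.leaf 1382) (.leaf 2147))) (.node (.node (.leaf 1094) (.leaf 1965)) (.node (.leaf 1585) (.leaf 1976))))) (.node (.node (.node (.node (.node (.leaf 266) (.leaf 2185)) (.leaf 1902)) (.node (.leaf 947) (.leaf 2075))) (.node (.node (.leaf 939) (.leaf 1832)) (.node (.leaf 221) (.leaf 2122)))) (.node (.node (.node (.leaf 626) (.leaf 1933)) (.node (.leaf 792) (.leaf 404))) (.node (.node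 (.leaf 1205) (.leaf 737)) (.node (.leaf 1813) (.leaf 1299)))))) (.node (.node (.node (.node (.node (.node (.leaf 163) (.leaf 844)) (.leaf 1843)) (.node (.leaf 1319) (.leaf 530))) (.node (.node (.leaf 850) (.leaf 218)) (.node (.leaf 1560) (.leaf 522)))) (.node (.node (.node (.leaf 554) (.leaf 1627)) (.node (.leaf 1185) (.leaf 445))) (.node (.node (.leaf 1154) (.leaf 1967)) (.node (.leaf 211) (.leaf 848))))) (.node (.node (.node (.node (.node (.leaf 372) (.leaf 1391)) (.leaf 1704)) (.node (.leaf 1208) (.leaf 2004))) (.node (.node (.leaf 877) (.leaf 1469)) (.node (.leaf 1461) (.leaf 599)))) (.node (.node (.node (.leaf 699) (.leaf 154)) (.node (.leaf 1305) (.leaf 2045))) (.node (.node (.leaf 1074) (.leaf 483)) (.node (.leaf 1785) (.leaf 1327))))))) (.node (.node (.node (.node (.node (.node (.node (.leaf 111) (.leaf 955)) (.leaf 1463)) (.node (.leaf 1002) (.leaf 359))) (.node (.node (.leaf 797) (.leaf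 1675)) (.node (.leaf 1528) (.leaf 2156)))) (.node (.node (.node (.leaf 377) (.leaf 1837)) (.node (.leaf 1034) (.leaf 677))) (.node (.node (.leaf 1126) (.leaf 665)) (.node (.leaf 236) (.leaf 1396))))) (.node (.node (.node (.node (.node (.leaf 320) (.leaf 1400)) (.leaf 1825)) (.node (.leaf 1237) (.leaf 2137))) (.node (.node (.leaf 981) (.leaf 1419)) (.node (.leaf 97) (.leaf 2133)))) (.node (.node (.node (.leaf 451) (.leaf 1466)) (.node (.leaf 1230) (.leaf 696))) (.node (.node (.leaf 1030) (.leaf 314)) (.node (.leaf 1828) (.leaf 890)))))) (.node (.node (.node (.node (.node (.node (.leaf 215) (.leaf 914)) (.leaf 1838)) (.node (.leaf 1340) (.leaf 616))) (.node (.node (.leaf 894) (.leaf 1907)) (.node (.leaf 1542) (.leaf 2102)))) (.node (.node (.node (.leaf 528) (.leaf 1622)) (.node (.leaf 68) (.leaf 383))) (.node (.node (.leaf 1151) (.leaf 2024)) (.node (.leaf 268) (.leaf 822))))) (.node (.node (.node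 (.node (.node (.leaf 424) (.leaf 1908)) (.leaf 210)) (.node (.leaf 993) (.leaf 471))) (.node (.node (.leaf 823) (.leaf 408)) (.node (.leaf 1661) (.leaf 2157)))) (.node (.node (.node (.leaf 723) (.leaf 1839)) (.node (.leaf 1444) (.leaf 525))) (.node (.node (.leaf 1080) (.leaf 2097)) (.node (.leaf 1741) (.leaf 938)))))))))) (.node (.node (.node (.node (.node (.node (.node (.node (.node (.node (.leaf 16) (.leaf 1402)) (.leaf 1640)) (.node (.leaf 1274) (.leaf 356))) (.node (.node (.leaf 324) (.leaf 1450)) (.node (.leaf 1459) (.leaf 550)))) (.node (.node (.node (.node (.leaf 443) (.leaf 1733)) (.leaf 1426)) (.node (.leaf 1053) (.leaf 667))) (.node (.node (.leaf 1069) (.leaf 272)) (.node (.leaf 1446) (.leaf 622))))) (.node (.node (.node (.node (.node (.leaf 141) (.leaf 862)) (.leaf 1699)) (.node (.leaf 1347) (.leaf 2130))) (.node (.node (.leaf 897) (.leaf 1851)) (.node (.leaf 1613) (.leaf 495)))) (.node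 (.node (.node (.leaf 603) (.leaf 1920)) (.node (.leaf 908) (.leaf 567))) (.node (.node (.leaf 845) (.leaf 2007)) (.node (.leaf 1647) (.leaf 1007)))))) (.node (.node (.node (.node (.node (.node (.leaf 1) (.leaf 980)) (.leaf 1821)) (.node (.leaf 751) (.leaf 607))) (.node (.node (.leaf 815) (.leaf 1921)) (.node (.leaf 83) (.leaf 2145)))) (.node (.node (.node (.leaf 11) (.leaf 1757)) (.node (.leaf 1387) (.leaf 2079))) (.node (.node (.leaf 1138) (.leaf 1992)) (.node (.leaf 1594) (.leaf 755))))) (.node (.node (.node (.node (.node (.leaf 339) (.leaf 870)) (.leaf 1683)) (.node (.leaf 796) (.leaf 300))) (.node (.node (.leaf 866) (.leaf 1516)) (.node (.leaf 1651) (.leaf 571)))) (.node (.node (.node (.leaf 678) (.leaf 1578)) (.node (.leaf 1114) (.leaf 462))) (.node (.node (.leaf 1102) (.leaf 2048)) (.node (.leaf 1492) (.leaf 1026))))))) (.node (.node (.node (.node (.node (.node (.node (.leaf 75) (.leaf 798))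 (.leaf 1883)) (.node (.leaf 1174) (.leaf 664))) (.node (.node (.leaf 763) (.leaf 1830)) (.node (.leaf 1500) (.leaf 1941)))) (.node (.node (.node (.leaf 486) (.leaf 1606)) (.node (.leaf 1325) (.leaf 590))) (.node (.node (.leaf 1106) (.leaf 1969)) (.node (.leaf 256) (.leaf 917))))) (.node (.node (.node (.node (.node (.leaf 287) (.leaf 1386)) (.leaf 1865)) (.node (.leaf 787) (.leaf 563))) (.node (.node (.leaf 956) (.leaf 1863)) (.node (.leaf 1646) (.leaf 1998)))) (.node (.node (.node (.leaf 642) (.leaf 1728)) (.node (.leaf 1397) (.leaf 683))) (.node (.node (.leaf 1215) (.leaf 281)) (.node (.leaf 1818) (.leaf 849)))))) (.node (.node (.node (.node (.node (.node (.leaf 129) (.leaf 1309)) (.leaf 1684)) (.node (.leaf 920) (.leaf 2104))) (.node (.node (.leaf 868) (.leaf 1731)) (.node (.leaf 1573) (.leaf 387)))) (.node (.node (.node (.leaf 572) (.leaf 1892)) (.node (.leaf 1254) (.leaf 2158))) (.node (.node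 (.leaf 1164) (.leaf 2011)) (.node (.leaf 1786) (.leaf 2181))))) (.node (.node (.node (.node (.node (.leaf 392) (.leaf 1216)) (.leaf 131)) (.node (.leaf 967) (.leaf 2012))) (.node (.node (.leaf 1028) (.leaf 1931)) (.node (.leaf 1438) (.leaf 679)))) (.node (.node (.node (.leaf 706) (.leaf 222)) (.node (.leaf 1415) (.leaf 430))) (.node (.node (.leaf 1217) (.leaf 434)) (.node (.leaf 105) (.leaf 1381)))))))) (.node (.node (.node (.node (.node (.node (.node (.node (.leaf 45) (.leaf 1158)) (.leaf 1782)) (.node (.leaf 1283) (.leaf 2109))) (.node (.node (.leaf 743) (.leaf 1467)) (.node (.leaf 1481) (.leaf 708)))) (.node (.node (.node (.leaf 464) (.leaf 199)) (.node (.leaf 1179) (.leaf 2099))) (.node (.node (.leaf 794) (.leaf 1960)) (.node (.leaf 94) (.leaf 2060))))) (.node (.node (.node (.node (.node (.leaf 104) (.leaf 902)) (.leaf 150)) (.node (.leaf 1300) (.leaf 1999))) (.node (.node (.leaf 934) (.leaf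 1894)) (.node (.leaf 1630) (.leaf 555)))) (.node (.node (.node (.leaf 621) (.leaf 257)) (.node (.leaf 859) (.leaf 2089))) (.node (.node (.leaf 1072) (.leaf 333)) (.node (.leaf 1811) (.leaf 949)))))) (.node (.node (.node (.node (.node (.node (.leaf 156) (.leaf 1390)) (.leaf 1891)) (.node (.leaf 1314) (.leaf 709))) (.node (.node (.leaf 842) (.leaf 237)) (.node (.leaf 1499) (.leaf 382)))) (.node (.node (.node (.leaf 367) (.leaf 1689)) (.node (.leaf 1170) (.leaf 342))) (.node (.node (.leaf 33) (.leaf 2002)) (.node (.leaf 1483) (.leaf 1105))))) (.node (.node (.node (.node (.node (.leaf 366) (.leaf 1276)) (.leaf 1814)) (.node (.leaf 1318) (.leaf 301))) (.node (.node (.leaf 1017) (.leaf 1854)) (.node (.leaf 106) (.leaf 396)))) (.node (.node (.node (.leaf 499) (.leaf 243)) (.node (.leaf 1223) (.leaf 1988))) (.node (.node (.leaf 1244) (.leaf 638)) (.node (.leaf 148) (.leaf 1322))))))) (.node (.node (.node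 (.node (.node (.node (.node (.leaf 103) (.leaf 835)) (.leaf 1680)) (.node (.leaf 1162) (.leaf 444))) (.node (.node (.leaf 21) (.leaf 1612)) (.node (.leaf 169) (.leaf 2083)))) (.node (.node (.node (.leaf 508) (.leaf 1468)) (.node (.leaf 1376) (.leaf 2021))) (.node (.node (.leaf 904) (.leaf 1986)) (.node (.leaf 1756) (.leaf 1110))))) (.node (.node (.node (.node (.node (.leaf 315) (.leaf 952)) (.leaf 1860)) (.node (.leaf 55) (.leaf 2110))) (.node (.node (.leaf 974) (.leaf 1670)) (.node (.leaf 1649) (.leaf 376)))) (.node (.node (.node (.leaf 292) (.leaf 194)) (.node (.leaf 940) (.leaf 691))) (.node (.node (.leaf 1228) (.leaf 1993)) (.node (.leaf 1772) (.leaf 771)))))) (.node (.node (.node (.node (.node (.node (.leaf 208) (.leaf 1315)) (.leaf 1604)) (.node (.leaf 1067) (.leaf 2128))) (.node (.node (.leaf 891) (.leaf 1820)) (.node (.leaf 246) (.leaf 579)))) (.node (.node (.node (.leaf 282) (.leaf 1862))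 (.node (.leaf 1323) (.leaf 740))) (.node (.node (.leaf 1139) (.leaf 602)) (.node (.leaf 1796) (.leaf 2182))))) (.node (.node (.node (.node (.node (.leaf 419) (.leaf 1793)) (.leaf 1882)) (.node (.leaf 799) (.leaf 2056))) (.node (.node (.leaf 1051) (.leaf 1427)) (.node (.leaf 91) (.leaf 539)))) (.node (.node (.node (.leaf 720) (.leaf 158)) (.node (.leaf 1436) (.leaf 2155))) (.node (.node (.leaf 802) (.leaf 2078)) (.node (.leaf 1859) (.leaf 2184))))))))) (.node (.node (.node (.node (.node (.node (.node (.node (.node (.leaf 31) (.leaf 886)) (.leaf 109)) (.node (.leaf 44) (.leaf 510))) (.node (.node (.leaf 702) (.leaf 1789)) (.node (.leaf 1470) (.leaf 680)))) (.node (.node (.node (.node (.leaf 454) (.leaf 1609)) (.leaf 1718)) (.node (.leaf 789) (.leaf 355))) (.node (.node (.leaf 1079) (.leaf 1955)) (.node (.leaf 1730) (.leaf 577))))) (.node (.node (.node (.node (.node (.leaf 247) (.leaf 1107)) (.leaf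 1503)) (.node (.leaf 1353) (.leaf 2132))) (.node (.node (.leaf 923) (.leaf 1806)) (.node (.leaf 1620) (.leaf 672)))) (.node (.node (.node (.leaf 614) (.leaf 1625)) (.node (.leaf 1189) (.leaf 380))) (.node (.node (.leaf 1198) (.leaf 2037)) (.node (.leaf 1566) (.leaf 1384)))))) (.node (.node (.node (.node (.node (.node (.leaf 142) (.leaf 1112)) (.leaf 1748)) (.node (.leaf 1084) (.leaf 1958))) (.node (.node (.leaf 829) (.leaf 1494)) (.node (.leaf 166) (.leaf 2100)))) (.node (.node (.node (.leaf 537) (.leaf 1488)) (.node (.leaf 1341) (.leaf 2055))) (.node (.node (.leaf 1143) (.leaf 637)) (.node (.leaf 1443) (.leaf 1176))))) (.node (.node (.node (.node (.node (.leaf 6) (.leaf 1141)) (.leaf 1872)) (.node (.leaf 843) (.leaf 748))) (.node (.node (.leaf 1009) (.leaf 1567)) (.node (.leaf 1678) (.leaf 2170)))) (.node (.node (.node (.leaf 467) (.leaf 1795)) (.node (.leaf 826) (.leaf 573))) (.node (.node (.leaf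 973) (.leaf 2069)) (.node (.leaf 1751) (.leaf 1288))))))) (.node (.node (.node (.node (.node (.node (.node (.leaf 90) (.leaf 831)) (.leaf 157)) (.node (.leaf 807) (.leaf 1987))) (.node (.node (.leaf 776) (.leaf 1739)) (.node (.leaf 1512) (.leaf 1946)))) (.node (.node (.node (.leaf 497) (.leaf 1563)) (.node (.leaf 912) (.leaf 1980))) (.node (.node (.leaf 1115) (.leaf 593)) (.node (.leaf 95) (.leaf 1221))))) (.node (.node (.node (.node (.node (.leaf 302) (.leaf 1038)) (.leaf 1540)) (.node (.leaf 1241) (.leaf 597))) (.node (.node (.leaf 26) (.leaf 1552)) (.node (.leaf 1506) (.leaf 608)))) (.node (.node (.node (.leaf 357) (.leaf 147)) (.node (.leaf 73) (.leaf 2129))) (.node (.node (.leaf 893) (.leaf 565)) (.node (.leaf 1549) (.leaf 777)))))) (.node (.node (.node (.node (.node (.node (.leaf 195) (.leaf 810)) (.leaf 1458)) (.node (.leaf 1331) (.leaf 556))) (.node (.node (.leaf 880) (.leaf 240)) (.node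 (.leaf 1583) (.leaf 363)))) (.node (.node (.node (.leaf 580) (.leaf 152)) (.node (.leaf 1152) (.leaf 2162))) (.node (.node (.leaf 761) (.leaf 643)) (.node (.leaf 1605) (.leaf 1018))))) (.node (.node (.node (.node (.node (.leaf 405) (.leaf 1092)) (.leaf 1776)) (.node (.leaf 1155) (.leaf 303))) (.node (.node (.leaf 1040) (.leaf 1723)) (.node (.leaf 1636) (.leaf 2106)))) (.node (.node (.node (.leaf 18) (.leaf 1485)) (.node (.leaf 1424) (.leaf 335))) (.node (.node (.leaf 1041) (.leaf 2090)) (.node (.leaf 1582) (.leaf 1324)))))))) (.node (.node (.node (.node (.node (.node (.node (.node (.leaf 59) (.leaf 1247)) (.leaf 1808)) (.node (.leaf 1190) (.leaf 403))) (.node (.node (.leaf 752) (.leaf 1455)) (.node (.leaf 1489) (.leaf 620)))) (.node (.node (.node (.leaf 460) (.leaf 1515)) (.node (.leaf 1316) (.leaf 2148))) (.node (.node (.leaf 57) (.leaf 1970)) (.node (.leaf 1439) (.leaf 533))))) (.node (.node (.node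 (.node (.node (.leaf 273) (.leaf 1127)) (.leaf 1784)) (.node (.leaf 1284) (.leaf 2014))) (.node (.node (.leaf 945) (.leaf 1431)) (.node (.leaf 1638) (.leaf 639)))) (.node (.node (.node (.leaf 632) (.leaf 205)) (.node (.leaf 1225) (.leaf 1979))) (.node (.node (.leaf 1207) (.leaf 2043)) (.node (.leaf 174) (.leaf 834)))))) (.node (.node (.node (.node (.node (.node (.leaf 171) (.leaf 1235)) (.leaf 1571)) (.node (.leaf 830) (.leaf 381))) (.node (.node (.leaf 856) (.leaf 1472)) (.node (.leaf 84) (.leaf 517)))) (.node (.node (.node (.leaf 429) (.leaf 1913)) (.node (.leaf 1253) (.leaf 2013))) (.node (.node (.leaf 1157) (.leaf 2006)) (.node (.leaf 1435) (.leaf 852))))) (.node (.node (.node (.node (.node (.leaf 378) (.leaf 1273)) (.leaf 1442)) (.node (.leaf 58) (.leaf 2094))) (.node (.node (.leaf 47) (.leaf 1917)) (.node (.leaf 1532) (.leaf 2035)))) (.node (.node (.node (.leaf 701) (.leaf 1407)) (.node (.leaf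 184) (.leaf 2010))) (.node (.node (.leaf 1019) (.leaf 348)) (.node (.leaf 1559) (.leaf 1362))))))) (.node (.node (.node (.node (.node (.node (.node (.leaf 118) (.leaf 1091)) (.leaf 1887)) (.node (.leaf 1302) (.leaf 2118))) (.node (.node (.leaf 803) (.leaf 238)) (.node (.leaf 1413) (.leaf 596)))) (.node (.node (.node (.leaf 519) (.leaf 1474)) (.node (.leaf 1184) (.leaf 2151))) (.node (.node (.leaf 936) (.leaf 400)) (.node (.leaf 1520) (.leaf 2177))))) (.node (.node (.node (.node (.node (.leaf 326) (.leaf 1371)) (.leaf 133)) (.node (.leaf 1071) (.leaf 1959))) (.node (.node (.leaf 804) (.leaf 1936)) (.node (.leaf 1666) (.leaf 1950)))) (.node (.node (.node (.leaf 669) (.leaf 1816)) (.node (.leaf 1338) (.leaf 498))) (.node (.node (.leaf 1233) (.leaf 2057)) (.node (.leaf 124) (.leaf 1367)))))) (.node (.node (.node (.node (.node (.node (.leaf 3) (.leaf 1202)) (.leaf 1406)) (.node (.leaf 1199) (.leaf 559)))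 (.node (.node (.leaf 901) (.leaf 227)) (.node (.leaf 1602) (.leaf 1945)))) (.node (.node (.node (.leaf 591) (.leaf 231)) (.node (.leaf 1335) (.leaf 2123))) (.node (.node (.leaf 1180) (.leaf 2027)) (.node (.leaf 1698) (.leaf 762))))) (.node (.node (.node (.node (.node (.leaf 431) (.leaf 1790)) (.leaf 1709)) (.node (.leaf 1070) (.leaf 2062))) (.node (.node (.leaf 1058) (.leaf 1944)) (.node (.leaf 1648) (.leaf 542)))) (.node (.node (.node (.leaf 727) (.leaf 1844)) (.node (.leaf 252) (.leaf 2139))) (.node (.node (.leaf 43) (.leaf 719)) (.node (.leaf 248) (.leaf 895)))))))))))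

def threeNext : Janko.Tree (ℕ) := (.node (.node (.node threeNext0 threeNext4) (.node threeNext2 threeNext6)) (.node (.node threeNext1 threeNext5) (.node threeNext3 threeNext7)))

def threeWord0 : Janko.Tree (ℕ) :=
  (.node (.node (.node (.node (.node (.node (.node (.node (.node (.leaf 1) (.leaf 4296217393)) (.leaf 16912403)) (.node (.leaf 1122817) (.leaf 268567313))) (.node (.node (.leaf 78368) (.leaf 17965872)) (.node (.leaf 16781825) (.leaf 269623603)))) (.node (.node (.node (.node (.leaf 66337) (.leaf 68736332545)) (.leaf 16978738)) (.node (.leaf 1191969) (.leaf 268636947))) (.node (.node (.leaf 1057299) (.leaf 268501043)) (.node (.leaf 16843537) (.leaf 271786513))))) (.node (.node (.node (.node (.node (.leaf 4864) (.leaf 4297138432)) (.leaf 16921088)) (.node (.leaf 1180179) (.leaf 268579104))) (.node (.node (.leaf 1052723) (.leaf 18883073)) (.node (.leaf 16786195) (.leaf 270537489)))) (.node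 (.node (.node (.leaf 74003) (.leaf 17892112)) (.node (.leaf 1249792) (.leaf 269497104))) (.node (.node (.leaf 1061665) (.leaf 268509746)) (.node (.leaf 16851730) (.leaf 4296090401)))))) (.node (.node (.node (.node (.node (.node (.leaf 4144) (.leaf 4297068801)) (.leaf 16916755)) (.node (.leaf 1126931) (.leaf 268574739))) (.node (.node (.leaf 1049104) (.leaf 18034993)) (.node (.leaf 16785456) (.leaf 269692931)))) (.node (.node (.node (.leaf 70192) (.leaf 16986656)) (.node (.leaf 1245232) (.leaf 268644866))) (.node (.node (.leaf 1060914) (.leaf 268505875)) (.node (.leaf 16847665) (.leaf 4296028416))))) (.node (.node (.node (.node (.node (.leaf 65811) (.leaf 4298191617)) (.leaf 16974338)) (.node (.leaf 1184545) (.leaf 268632339))) (.node (.node (.leaf 1053488) (.leaf 19018529)) (.node (.leaf 16789811) (.leaf 270668290)))) (.node (.node (.node (.leaf 77826) (.leaf 17956881)) (.node (.leaf 1257522) (.leaf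 269562418))) (.node (.node (.leaf 1118768) (.leaf 268514049)) (.node (.leaf 16855840) (.leaf 4296151603))))))) (.node (.node (.node (.node (.node (.node (.node (.leaf 291) (.leaf 4296225283)) (.leaf 16912947)) (.node (.leaf 1123120) (.leaf 268571152))) (.node (.node (.leaf 1048833) (.leaf 18027299)) (.node (.leaf 16782099) (.leaf 269628193)))) (.node (.node (.node (.leaf 69921) (.leaf 16982784)) (.node (.leaf 1192466) (.leaf 268640562))) (.node (.node (.leaf 1057584) (.leaf 268505139)) (.node (.leaf 16847378) (.leaf 287318545))))) (.node (.node (.node (.node (.node (.leaf 65553) (.leaf 4297261603)) (.leaf 16973840)) (.node (.leaf 1184049) (.leaf 268579600))) (.node (.node (.leaf 1053203) (.leaf 18948098)) (.node (.leaf 16789537) (.leaf 270602770)))) (.node (.node (.node (.leaf 74291) (.leaf 17900049)) (.node (.leaf 1253427) (.leaf 269558049))) (.node (.node (.leaf 1114915) (.leaf 268513570)) (.node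 (.leaf 16855553) (.leaf 4296147200)))))) (.node (.node (.node (.node (.node (.node (.leaf 4403) (.leaf 4297076770)) (.leaf 16917298)) (.node (.leaf 1179665) (.leaf 268575521))) (.node (.node (.leaf 1049361) (.leaf 18874930)) (.node (.leaf 16785921) (.leaf 270532898)))) (.node (.node (.node (.leaf 73730) (.leaf 17830704)) (.node (.leaf 1245746) (.leaf 269484848))) (.node (.node (.leaf 1061392) (.leaf 268509443)) (.node (.leaf 16851233) (.leaf 4296082195))))) (.node (.node (.node (.node (.node (.leaf 66080) (.leaf 4311823105)) (.leaf 16977923)) (.node (.leaf 1188608) (.leaf 268632849))) (.node (.node (.leaf 1057025) (.leaf 19935489)) (.node (.leaf 16790275) (.leaf 271585299)))) (.node (.node (.node (.leaf 78096) (.leaf 17961490)) (.node (.leaf 16781315) (.leaf 269619489))) (.node (.node (.leaf 1122322) (.leaf 268566785)) (.node (.leaf 16908578) (.leaf 4296159522)))))))) (.node (.node (.node (.node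 (.node (.node (.node (.node (.leaf 259) (.leaf 4296221233)) (.leaf 16912896)) (.node (.leaf 1123072) (.leaf 268570913))) (.node (.node (.leaf 78608) (.leaf 17969697)) (.node (.leaf 16781859) (.leaf 269627683)))) (.node (.node (.node (.node (.leaf 69649) (.leaf 68738355730)) (.leaf 16982291)) (.node (.leaf 1192227) (.leaf 268640304))) (.node (.node (.leaf 1057539) (.leaf 268501793)) (.node (.leaf 16843570) (.leaf 285291299))))) (.node (.node (.node (.node (.node (.leaf 4896) (.leaf 4297199907)) (.leaf 16921123)) (.node (.leaf 1180464) (.leaf 268579344))) (.node (.node (.leaf 1052978) (.leaf 18886946)) (.node (.leaf 16789505) (.leaf 270544931)))) (.node (.node (.node (.leaf 74242) (.leaf 17899776)) (.node (.leaf 1250083) (.leaf 269550370))) (.node (.node (.leaf 1114418) (.leaf 268509986)) (.node (.leaf 16855296) (.leaf 4296094243)))))) (.node (.node (.node (.node (.node (.node (.leaf 4370) (.leaf 4297069106))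 (.leaf 16917264)) (.node (.leaf 1127184) (.leaf 268575025))) (.node (.node (.leaf 1049137) (.leaf 18874625)) (.node (.leaf 16785682) (.leaf 269693457)))) (.node (.node (.node (.leaf 70432) (.leaf 17826576)) (.node (.leaf 1245489) (.leaf 268644912))) (.node (.node (.leaf 1061155) (.leaf 268509186)) (.node (.leaf 16850978) (.leaf 4296028931))))) (.node (.node (.node (.node (.node (.leaf 66048) (.leaf 4298317872)) (.leaf 16974593)) (.node (.leaf 1187874) (.leaf 268632608))) (.node (.node (.leaf 1056787) (.leaf 19079936)) (.node (.leaf 16790035) (.leaf 270730016)))) (.node (.node (.node (.leaf 77858) (.leaf 17960979)) (.node (.leaf 1258001) (.leaf 269615393))) (.node (.node (.leaf 1119009) (.leaf 268514083)) (.node (.leaf 16908322) (.leaf 4296155427))))))) (.node (.node (.node (.node (.node (.node (.node (.leaf 4112) (.leaf 4297064737)) (.leaf 16913202)) (.node (.leaf 1126706) (.leaf 268571411))) (.node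 (.node (.leaf 1048867) (.leaf 18030898)) (.node (.leaf 16785409) (.leaf 269688833)))) (.node (.node (.node (.leaf 70146) (.leaf 16986417)) (.node (.leaf 1192737) (.leaf 268644355))) (.node (.node (.leaf 1060882) (.leaf 268505633)) (.node (.leaf 16847632) (.leaf 4296016659))))) (.node (.node (.node (.node (.node (.leaf 65585) (.leaf 4297273904)) (.leaf 16974081)) (.node (.leaf 1184274) (.leaf 268632096))) (.node (.node (.leaf 1053456) (.leaf 19005731)) (.node (.leaf 16789763) (.leaf 270606610)))) (.node (.node (.node (.leaf 74528) (.leaf 17904129)) (.node (.leaf 1253905) (.leaf 269558562))) (.node (.node (.leaf 1118721) (.leaf 268513809)) (.node (.leaf 16855600) (.leaf 4296151328)))))) (.node (.node (.node (.node (.node (.node (.leaf 4627) (.leaf 4297134608)) (.leaf 16920624)) (.node (.leaf 1179922) (.leaf 268578834))) (.node (.node (.leaf 1049393) (.leaf 18879008)) (.node (.leaf 16785970) (.leaf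 270536963)))) (.node (.node (.node (.leaf 73777) (.leaf 17838848)) (.node (.leaf 1245984) (.leaf 269496577))) (.node (.node (.leaf 1061426) (.leaf 268509490)) (.node (.leaf 16851474) (.leaf 4296089888))))) (.node (.node (.node (.node (.node (.leaf 66305) (.leaf 4313846290)) (.leaf 16978481)) (.node (.leaf 1188643) (.leaf 268636417))) (.node (.node (.leaf 1057073) (.leaf 20124433)) (.node (.leaf 16842784) (.leaf 271659793)))) (.node (.node (.node (.leaf 78336) (.leaf 17965312)) (.node (.leaf 16781600) (.leaf 269619986))) (.node (.node (.leaf 1122578) (.leaf 268566835)) (.node (.leaf 16909058) (.leaf 4296159794)))))))))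

def threeWord1 : Janko.Tree (ℕ) :=
  (.node (.node (.node (.node (.node (.node (.node (.node (.node (.leaf 16) (.leaf 4296220673)) (.leaf 16912641)) (.node (.leaf 1122832) (.leaf 268567314))) (.node (.node (.leaf 78369) (.leaf 17965873)) (.node (.leaf 16781826) (.leaf 269624080)))) (.node (.node (.node (.node (.leaf 66338) (.leaf 68736332579)) (.leaf 16982017)) (.node (.leaf 1191970) (.leaf 268636961))) (.node (.node (.leaf 1057328) (.leaf 268501297)) (.node (.leaf 16843538) (.leaf 271786752))))) (.node (.node (.node (.node (.node (.leaf 4865) (.leaf 4297138450)) (.leaf 16921090)) (.node (.leaf 1180192) (.leaf 268579106))) (.node (.node (.leaf 1052929) (.leaf 18883089)) (.node (.leaf 16786208) (.leaf 270537491)))) (.node (.node (.node (.leaf 74016) (.leaf 17892113)) (.node (.leaf 1249825) (.leaf 269497105))) (.node (.node (.leaf 1061666) (.leaf 268509747)) (.node (.leaf 16851731) (.leaf 4296090402))))))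 (.node (.node (.node (.node (.node (.node (.leaf 4145) (.leaf 4297068803)) (.leaf 16916768)) (.node (.leaf 1126945) (.leaf 268574753))) (.node (.node (.leaf 1049105) (.leaf 18035201)) (.node (.leaf 16785457) (.leaf 269692977)))) (.node (.node (.node (.leaf 70193) (.leaf 16986657)) (.node (.leaf 1245233) (.leaf 268644867))) (.node (.node (.leaf 1061120) (.leaf 268505888)) (.node (.leaf 16847666) (.leaf 4296028417))))) (.node (.node (.node (.node (.node (.leaf 65824) (.leaf 4298191633)) (.leaf 16974339)) (.node (.leaf 1184546) (.leaf 268632352))) (.node (.node (.leaf 1053489) (.leaf 19071010)) (.node (.leaf 16790016) (.leaf 270668594)))) (.node (.node (.node (.leaf 77827) (.leaf 17956896)) (.node (.leaf 1257729) (.leaf 269562643))) (.node (.node (.leaf 1118770) (.leaf 268514051)) (.node (.leaf 16855841) (.leaf 4296151826))))))) (.node (.node (.node (.node (.node (.node (.node (.leaf 304) (.leaf 4296225297))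 (.leaf 16913169)) (.node (.leaf 1123121) (.leaf 268571153))) (.node (.node (.leaf 1048835) (.leaf 18027312)) (.node (.leaf 16782112) (.leaf 269684787)))) (.node (.node (.node (.leaf 69922) (.leaf 16982786)) (.node (.leaf 1192467) (.leaf 268640563))) (.node (.node (.leaf 1057585) (.leaf 268505600)) (.node (.leaf 16847379) (.leaf 287383570))))) (.node (.node (.node (.node (.node (.leaf 65554) (.leaf 4297261856)) (.leaf 16973841)) (.node (.leaf 1184050) (.leaf 268579616))) (.node (.node (.leaf 1053216) (.leaf 18948114)) (.node (.leaf 16789538) (.leaf 270602802)))) (.node (.node (.node (.leaf 74496) (.leaf 17900083)) (.node (.leaf 1253632) (.leaf 269558051))) (.node (.node (.leaf 1114928) (.leaf 268513571)) (.node (.leaf 16855554) (.leaf 4296147233)))))) (.node (.node (.node (.node (.node (.node (.leaf 4608) (.leaf 4297076771)) (.leaf 16920578)) (.node (.leaf 1179666) (.leaf 268575522))) (.node (.node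 (.leaf 1049362) (.leaf 18878466)) (.node (.leaf 16785922) (.leaf 270533121)))) (.node (.node (.node (.leaf 73744) (.leaf 17830706)) (.node (.leaf 1245747) (.leaf 269488912))) (.node (.node (.leaf 1061393) (.leaf 268509456)) (.node (.leaf 16851235) (.leaf 4296082210))))) (.node (.node (.node (.node (.node (.leaf 66081) (.leaf 4311823139)) (.leaf 16977937)) (.node (.leaf 1188610) (.leaf 268632850))) (.node (.node (.leaf 1057027) (.leaf 19935745)) (.node (.leaf 16790288) (.leaf 271585537)))) (.node (.node (.node (.leaf 78098) (.leaf 17961520)) (.node (.leaf 16781329) (.leaf 269619506))) (.node (.node (.leaf 1122323) (.leaf 268566800)) (.node (.leaf 16908579) (.leaf 4296159523)))))))) (.node (.node (.node (.node (.node (.node (.node (.node (.leaf 272) (.leaf 4296224771)) (.leaf 16912897)) (.node (.leaf 1123075) (.leaf 268570915))) (.node (.node (.leaf 78609) (.leaf 17969712)) (.node (.leaf 16781872)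 (.leaf 269627698)))) (.node (.node (.node (.node (.leaf 69651) (.leaf 68738359825)) (.leaf 16982307)) (.node (.leaf 1192241) (.leaf 268640305))) (.node (.node (.leaf 1057552) (.leaf 268501794)) (.node (.leaf 16846897) (.leaf 285413379))))) (.node (.node (.node (.node (.node (.leaf 4897) (.leaf 4297200130)) (.leaf 16921136)) (.node (.leaf 1180466) (.leaf 268579345))) (.node (.node (.leaf 1052979) (.leaf 18886947)) (.node (.leaf 16789506) (.leaf 270544944)))) (.node (.node (.node (.leaf 74256) (.leaf 17899777)) (.node (.leaf 1250096) (.leaf 269550371))) (.node (.node (.leaf 1114419) (.leaf 268509987)) (.node (.leaf 16855299) (.leaf 4296094258)))))) (.node (.node (.node (.node (.node (.node (.leaf 4371) (.leaf 4297069329)) (.leaf 16917266)) (.node (.leaf 1127185) (.leaf 268575027))) (.node (.node (.leaf 1049138) (.leaf 18874656)) (.node (.leaf 16785683) (.leaf 269693458)))) (.node (.node (.node (.leaf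 70433) (.leaf 17826577)) (.node (.leaf 1245491) (.leaf 269484544))) (.node (.node (.leaf 1061169) (.leaf 268509200)) (.node (.leaf 16851200) (.leaf 4296028944))))) (.node (.node (.node (.node (.node (.leaf 66049) (.leaf 4298318353)) (.leaf 16974595)) (.node (.leaf 1188096) (.leaf 268632611))) (.node (.node (.leaf 1056801) (.leaf 19083795)) (.node (.leaf 16790048) (.leaf 270734099)))) (.node (.node (.node (.leaf 77859) (.leaf 17961217)) (.node (.leaf 1258002) (.leaf 269615411))) (.node (.node (.leaf 1119010) (.leaf 268566544)) (.node (.leaf 16908323) (.leaf 4296155443))))))) (.node (.node (.node (.node (.node (.node (.node (.leaf 4113) (.leaf 4297064738)) (.leaf 16916496)) (.node (.leaf 1126707) (.leaf 268571424))) (.node (.node (.leaf 1048881) (.leaf 18031121)) (.node (.leaf 16785410) (.leaf 269688881)))) (.node (.node (.node (.leaf 70160) (.leaf 16986624)) (.node (.leaf 1192738) (.leaf 268644401)))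 (.node (.node (.leaf 1060883) (.leaf 268505635)) (.node (.leaf 16847633) (.leaf 4296016688))))) (.node (.node (.node (.node (.node (.leaf 65586) (.leaf 4298117139)) (.leaf 16974083)) (.node (.leaf 1184304) (.leaf 268632098))) (.node (.node (.leaf 1053457) (.leaf 19005984)) (.node (.leaf 16789776) (.leaf 270607153)))) (.node (.node (.node (.leaf 74529) (.leaf 17904146)) (.node (.leaf 1253936) (.leaf 269558563))) (.node (.node (.leaf 1118722) (.leaf 268513810)) (.node (.leaf 16855602) (.leaf 4296151329)))))) (.node (.node (.node (.node (.node (.node (.leaf 4640) (.leaf 4297134610)) (.leaf 16920626)) (.node (.leaf 1179936) (.leaf 268578848))) (.node (.node (.leaf 1049394) (.leaf 18879009)) (.node (.leaf 16785971) (.leaf 270536993)))) (.node (.node (.node (.leaf 73778) (.leaf 17838849)) (.node (.leaf 1245986) (.leaf 269496611))) (.node (.node (.leaf 1061632) (.leaf 268509491)) (.node (.leaf 16851475)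 (.leaf 4296089889))))) (.node (.node (.node (.node (.node (.leaf 66306) (.leaf 4313850385)) (.leaf 16978704)) (.node (.leaf 1188656) (.leaf 268636419))) (.node (.node (.leaf 1057074) (.leaf 20127763)) (.node (.leaf 16842786) (.leaf 271716658)))) (.node (.node (.node (.leaf 78337) (.leaf 17965344)) (.node (.leaf 16781601) (.leaf 269620000))) (.node (.node (.leaf 1122579) (.leaf 268567057)) (.node (.leaf 16909059) (.leaf 4296160033)))))))))

def threeWord2 : Janko.Tree (ℕ) :=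
  (.node (.node (.node (.node (.node (.node (.node (.node (.node (.leaf 17) (.leaf 4296220721)) (.leaf 16912672)) (.node (.leaf 1122833) (.leaf 268567344))) (.node (.node (.leaf 78371) (.leaf 17969442)) (.node (.leaf 16781840) (.leaf 269624083)))) (.node (.node (.node (.node (.leaf 66339) (.leaf 68736454659)) (.leaf 16982035)) (.node (.leaf 1191971) (.leaf 268636963))) (.node (.node (.leaf 1057329) (.leaf 268501298)) (.node (.leaf 16843539) (.leaf 285220882))))) (.node (.node (.node (.node (.node (.leaf 4866) (.leaf 4297138993)) (.leaf 16921091)) (.node (.leaf 1180193) (.leaf 268579107))) (.node (.node (.leaf 1052931) (.leaf 18886690)) (.node (.leaf 16786209) (.leaf 270537520)))) (.node (.node (.node (.leaf 74017) (.leaf 17892115)) (.node (.leaf 1249827) (.leaf 269497107))) (.node (.node (.leaf 1061667) (.leaf 268509952)) (.node (.leaf 16851745) (.leaf 4296090403)))))) (.node (.node (.node (.node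 (.node (.node (.leaf 4146) (.leaf 4297068833)) (.leaf 16916771)) (.node (.leaf 1126947) (.leaf 268574754))) (.node (.node (.leaf 1049106) (.leaf 18035203)) (.node (.leaf 16785458) (.leaf 269692978)))) (.node (.node (.node (.leaf 70194) (.leaf 16986659)) (.node (.leaf 1245234) (.leaf 268644881))) (.node (.node (.leaf 1061121) (.leaf 268505889)) (.node (.leaf 16850945) (.leaf 4296028451))))) (.node (.node (.node (.node (.node (.leaf 65825) (.leaf 4298248498)) (.leaf 16974354)) (.node (.leaf 1184547) (.leaf 268632369))) (.node (.node (.leaf 1053490) (.leaf 19071523)) (.node (.leaf 16790017) (.leaf 270676001)))) (.node (.node (.node (.leaf 77840) (.leaf 17957120)) (.node (.leaf 1257731) (.leaf 269562658))) (.node (.node (.leaf 1118771) (.leaf 268514064)) (.node (.leaf 16855842) (.leaf 4296151840))))))) (.node (.node (.node (.node (.node (.node (.node (.leaf 305) (.leaf 4296225298)) (.leaf 16913170))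 (.node (.leaf 1123122) (.leaf 268571154))) (.node (.node (.leaf 1048848) (.leaf 18027313)) (.node (.leaf 16782113) (.leaf 269684995)))) (.node (.node (.node (.leaf 69923) (.leaf 16982816)) (.node (.leaf 1192481) (.leaf 268640785))) (.node (.node (.leaf 1057586) (.leaf 268505601)) (.node (.leaf 16847392) (.leaf 4296016384))))) (.node (.node (.node (.node (.node (.leaf 65555) (.leaf 4297265939)) (.leaf 16973843)) (.node (.leaf 1184051) (.leaf 268579617))) (.node (.node (.leaf 1053217) (.leaf 18948352)) (.node (.leaf 16789539) (.leaf 270603024)))) (.node (.node (.node (.leaf 74497) (.leaf 17900321)) (.node (.leaf 1253633) (.leaf 269558066))) (.node (.node (.leaf 1114929) (.leaf 268513586)) (.node (.leaf 16855555) (.leaf 4296147251)))))) (.node (.node (.node (.node (.node (.node (.leaf 4609) (.leaf 4297076784)) (.leaf 16920593)) (.node (.leaf 1179680) (.leaf 268575523))) (.node (.node (.leaf 1049363)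 (.leaf 18878721)) (.node (.leaf 16785936) (.leaf 270533122)))) (.node (.node (.node (.leaf 73745) (.leaf 17838336)) (.node (.leaf 1245952) (.leaf 269488913))) (.node (.node (.leaf 1061394) (.leaf 268509458)) (.node (.leaf 16851249) (.leaf 4296082211))))) (.node (.node (.node (.node (.node (.leaf 66083) (.leaf 4311945219)) (.leaf 16977971)) (.node (.leaf 1188611) (.leaf 268632864))) (.node (.node (.leaf 1057040) (.leaf 20001537)) (.node (.leaf 16790289) (.leaf 271586064)))) (.node (.node (.node (.leaf 78112) (.leaf 17961523)) (.node (.leaf 16781331) (.leaf 269619507))) (.node (.node (.leaf 1122337) (.leaf 268566802)) (.node (.leaf 16908593) (.leaf 4296159538)))))))) (.node (.node (.node (.node (.node (.node (.node (.node (.leaf 273) (.leaf 4296224817)) (.leaf 16912898)) (.node (.leaf 1123088) (.leaf 268570929))) (.node (.node (.leaf 78611) (.leaf 17969714)) (.node (.leaf 16781873) (.leaf 269627921))))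 (.node (.node (.node (.node (.leaf 69681) (.leaf 68738424850)) (.leaf 16982321)) (.node (.leaf 1192242) (.leaf 268640307))) (.node (.node (.leaf 1057554) (.leaf 268501795)) (.node (.leaf 16846898) (.leaf 285414193))))) (.node (.node (.node (.node (.node (.leaf 4898) (.leaf 4297200434)) (.leaf 16921138)) (.node (.leaf 1183761) (.leaf 268579346))) (.node (.node (.leaf 1053184) (.leaf 18944528)) (.node (.leaf 16789507) (.leaf 270544945)))) (.node (.node (.node (.leaf 74257) (.leaf 17899808)) (.node (.leaf 1250097) (.leaf 269550385))) (.node (.node (.leaf 1114896) (.leaf 268510000)) (.node (.leaf 16855312) (.leaf 4296094483)))))) (.node (.node (.node (.node (.node (.node (.leaf 4384) (.leaf 4297069331)) (.leaf 16917267)) (.node (.leaf 1127187) (.leaf 268575488))) (.node (.node (.leaf 1049139) (.leaf 18874657)) (.node (.leaf 16785696) (.leaf 269693472)))) (.node (.node (.node (.leaf 70434) (.leaf 17826579))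 (.node (.leaf 1245696) (.leaf 269484545))) (.node (.node (.leaf 1061170) (.leaf 268509202)) (.node (.leaf 16851201) (.leaf 4296028945))))) (.node (.node (.node (.node (.node (.leaf 66050) (.leaf 4298318592)) (.leaf 16974608)) (.node (.leaf 1188114) (.leaf 268632626))) (.node (.node (.leaf 1056802) (.leaf 19083824)) (.node (.leaf 16790049) (.leaf 270737456)))) (.node (.node (.node (.leaf 77872) (.leaf 17961248)) (.node (.leaf 1258003) (.leaf 269615633))) (.node (.node (.leaf 1119011) (.leaf 268566545)) (.node (.leaf 16908544) (.leaf 4296155920))))))) (.node (.node (.node (.node (.node (.node (.node (.leaf 4114) (.leaf 4297064961)) (.leaf 16916498)) (.node (.leaf 1126912) (.leaf 268571425))) (.node (.node (.leaf 1048882) (.leaf 18031153)) (.node (.leaf 16785424) (.leaf 269689107)))) (.node (.node (.node (.leaf 70161) (.leaf 16986625)) (.node (.leaf 1192739) (.leaf 268644402))) (.node (.node (.leaf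 1060896) (.leaf 268505648)) (.node (.leaf 16847634) (.leaf 4296020752))))) (.node (.node (.node (.node (.node (.leaf 65587) (.leaf 4298117377)) (.leaf 16974096)) (.node (.leaf 1184305) (.leaf 268632112))) (.node (.node (.leaf 1053458) (.leaf 19009827)) (.node (.leaf 16789778) (.leaf 270610722)))) (.node (.node (.node (.leaf 74530) (.leaf 17904163)) (.node (.leaf 1253937) (.leaf 269558578))) (.node (.node (.leaf 1118736) (.leaf 268513811)) (.node (.leaf 16855808) (.leaf 4296151346)))))) (.node (.node (.node (.node (.node (.node (.leaf 4641) (.leaf 4297134642)) (.leaf 16920835)) (.node (.leaf 1179937) (.leaf 268578849))) (.node (.node (.leaf 1052674) (.leaf 18879026)) (.node (.leaf 16786176) (.leaf 270537232)))) (.node (.node (.node (.leaf 73779) (.leaf 17838851)) (.node (.leaf 1245987) (.leaf 269496627))) (.node (.node (.leaf 1061633) (.leaf 268509697)) (.node (.leaf 16851505) (.leaf 4296089891)))))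 (.node (.node (.node (.node (.node (.leaf 66307) (.leaf 4313915410)) (.leaf 16978705)) (.node (.leaf 1188657) (.leaf 268636672))) (.node (.node (.leaf 1057075) (.leaf 20127792)) (.node (.leaf 16842801) (.leaf 271716659)))) (.node (.node (.node (.leaf 78338) (.leaf 17965347)) (.node (.leaf 16781602) (.leaf 269620003))) (.node (.node (.leaf 1122592) (.leaf 268567059)) (.node (.leaf 16909072) (.leaf 4296216627)))))))))

def threeWord3 : Janko.Tree (ℕ) :=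
  (.node (.node (.node (.node (.node (.node (.node (.node (.node (.leaf 18) (.leaf 4296220947)) (.leaf 16912673)) (.node (.leaf 1122834) (.leaf 268567346))) (.node (.node (.leaf 78384) (.leaf 17969443)) (.node (.leaf 16781841) (.leaf 269624097)))) (.node (.node (.node (.node (.leaf 66352) (.leaf 68736455473)) (.leaf 16982064)) (.node (.leaf 1191984) (.leaf 268636976))) (.node (.node (.leaf 1057330) (.leaf 268501299)) (.node (.leaf 16843553) (.leaf 285221377))))) (.node (.node (.node (.node (.node (.leaf 4867) (.leaf 4297142562)) (.leaf 16921104)) (.node (.leaf 1180418) (.leaf 268579121))) (.node (.node (.leaf 1052960) (.leaf 18886691)) (.node (.leaf 16786210) (.leaf 270537521)))) (.node (.node (.node (.leaf 74019) (.leaf 17892130)) (.node (.leaf 1249841) (.leaf 269497121))) (.node (.node (.leaf 1114144) (.leaf 268509955)) (.node (.leaf 16851746) (.leaf 4296090418)))))) (.node (.node (.node (.node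 (.node (.node (.leaf 4147) (.leaf 4297069072)) (.leaf 16916785)) (.node (.leaf 1126960) (.leaf 268574976))) (.node (.node (.leaf 1049107) (.leaf 18035217)) (.node (.leaf 16785459) (.leaf 269693185)))) (.node (.node (.node (.leaf 70195) (.leaf 16986672)) (.node (.leaf 1245441) (.leaf 268644882))) (.node (.node (.leaf 1061123) (.leaf 268505890)) (.node (.leaf 16850946) (.leaf 4296028467))))) (.node (.node (.node (.node (.node (.leaf 65826) (.leaf 4298248499)) (.leaf 16974368)) (.node (.leaf 1184562) (.leaf 268632371))) (.node (.node (.leaf 1056769) (.leaf 19071776)) (.node (.leaf 16790018) (.leaf 270676499)))) (.node (.node (.node (.leaf 77841) (.leaf 17957153)) (.node (.leaf 1257777) (.leaf 269562659))) (.node (.node (.leaf 1118992) (.leaf 268514065)) (.node (.leaf 16855843) (.leaf 4296151843))))))) (.node (.node (.node (.node (.node (.node (.node (.leaf 306) (.leaf 4296225312)) (.leaf 16913171))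 (.node (.leaf 1126656) (.leaf 268571184))) (.node (.node (.leaf 1048850) (.leaf 18030593)) (.node (.leaf 16782114) (.leaf 269685283)))) (.node (.node (.node (.leaf 69937) (.leaf 16986115)) (.node (.leaf 1192483) (.leaf 268640816))) (.node (.node (.leaf 1060865) (.leaf 268505602)) (.node (.leaf 16847393) (.leaf 4296016385))))) (.node (.node (.node (.node (.node (.leaf 65568) (.leaf 4297269296)) (.leaf 16973856)) (.node (.leaf 1184256) (.leaf 268579618))) (.node (.node (.leaf 1053219) (.leaf 18948370)) (.node (.leaf 16789552) (.leaf 270603027)))) (.node (.node (.node (.leaf 74498) (.leaf 17900322)) (.node (.leaf 1253651) (.leaf 269558273))) (.node (.node (.leaf 1114930) (.leaf 268513587)) (.node (.leaf 16855569) (.leaf 4296147473)))))) (.node (.node (.node (.node (.node (.node (.leaf 4610) (.leaf 4297076785)) (.leaf 16920594)) (.node (.leaf 1179682) (.leaf 268575536))) (.node (.node (.leaf 1049376)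 (.leaf 18878723)) (.node (.leaf 16785937) (.leaf 270533152)))) (.node (.node (.node (.leaf 73746) (.leaf 17838337)) (.node (.leaf 1245953) (.leaf 269488915))) (.node (.node (.leaf 1061395) (.leaf 268509459)) (.node (.leaf 16851250) (.leaf 4296082225))))) (.node (.node (.node (.node (.node (.leaf 66096) (.leaf 4311946033)) (.leaf 16978177)) (.node (.leaf 1188624) (.leaf 268632866))) (.node (.node (.leaf 1057042) (.leaf 20001553)) (.node (.leaf 16790291) (.leaf 271586098)))) (.node (.node (.node (.leaf 78114) (.leaf 17961746)) (.node (.leaf 16781361) (.leaf 269619713))) (.node (.node (.leaf 1122338) (.leaf 268566816)) (.node (.leaf 16908595) (.leaf 4296159761)))))))) (.node (.node (.node (.node (.node (.node (.node (.node (.leaf 274) (.leaf 4296224818)) (.leaf 16912912)) (.node (.leaf 1123090) (.leaf 268570930))) (.node (.node (.leaf 78624) (.leaf 17969953)) (.node (.leaf 16781874) (.leaf 269627922))))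 (.node (.node (.node (.leaf 69682) (.leaf 16982322)) (.node (.leaf 1192448) (.leaf 268640512))) (.node (.node (.leaf 1057555) (.leaf 268501808)) (.node (.leaf 16846899) (.leaf 286273792))))) (.node (.node (.node (.node (.node (.leaf 4899) (.leaf 4297207841)) (.leaf 16921360)) (.node (.leaf 1183763) (.leaf 268579347))) (.node (.node (.leaf 1053185) (.leaf 18944530)) (.node (.leaf 16789520) (.leaf 270545152)))) (.node (.node (.node (.leaf 74258) (.leaf 17899809)) (.node (.leaf 1250098) (.leaf 269557761))) (.node (.node (.leaf 1114897) (.leaf 268510001)) (.node (.leaf 16855330) (.leaf 4296094498)))))) (.node (.node (.node (.node (.node (.node (.leaf 4385) (.leaf 4297069360)) (.leaf 16917281)) (.node (.leaf 1127200) (.leaf 268575490))) (.node (.node (.leaf 1049344) (.leaf 18874658)) (.node (.leaf 16785697) (.leaf 269693473)))) (.node (.node (.node (.leaf 70435) (.leaf 17826608)) (.node (.leaf 1245698)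 (.leaf 269484576))) (.node (.node (.leaf 1061171) (.leaf 268509203)) (.node (.leaf 16851203) (.leaf 4296028947))))) (.node (.node (.node (.node (.node (.leaf 66051) (.leaf 4311752722)) (.leaf 16974609)) (.node (.leaf 1188115) (.leaf 268632627))) (.node (.node (.leaf 1056816) (.leaf 19927059)) (.node (.leaf 16790051) (.leaf 270737459)))) (.node (.node (.node (.leaf 77873) (.leaf 17961249)) (.node (.leaf 1258016) (.leaf 269615648))) (.node (.node (.leaf 1119025) (.leaf 268566546)) (.node (.leaf 16908545) (.leaf 4296155923))))))) (.node (.node (.node (.node (.node (.node (.node (.leaf 4115) (.leaf 4297064962)) (.leaf 16916499)) (.node (.leaf 1126913) (.leaf 268571426))) (.node (.node (.leaf 1048883) (.leaf 18034691)) (.node (.leaf 16785425) (.leaf 269689123)))) (.node (.node (.node (.leaf 70162) (.leaf 16986626)) (.node (.leaf 1245200) (.leaf 268644609))) (.node (.node (.leaf 1060897) (.leaf 268505650))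 (.node (.leaf 16847635) (.leaf 4296020753))))) (.node (.node (.node (.node (.node (.leaf 65792) (.leaf 4298117904)) (.leaf 16974099)) (.node (.leaf 1184307) (.leaf 268632113))) (.node (.node (.leaf 1053459) (.leaf 19010050)) (.node (.leaf 16789792) (.leaf 270610739)))) (.node (.node (.node (.leaf 74531) (.leaf 17904178)) (.node (.leaf 1254144) (.leaf 269562128))) (.node (.node (.leaf 1118738) (.leaf 268513825)) (.node (.leaf 16855809) (.leaf 4296151347)))))) (.node (.node (.node (.node (.node (.node (.leaf 4643) (.leaf 4297134864)) (.leaf 16920864)) (.node (.leaf 1179938) (.leaf 268578850))) (.node (.node (.leaf 1052675) (.leaf 18879249)) (.node (.leaf 16786177) (.leaf 270537233)))) (.node (.node (.node (.leaf 73984) (.leaf 17838864)) (.node (.leaf 1249283) (.leaf 269496849))) (.node (.node (.leaf 1061635) (.leaf 268509712)) (.node (.leaf 16851506) (.leaf 4296089906))))) (.node (.node (.node (.node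 (.node (.leaf 66320) (.leaf 68736262162)) (.leaf 16978707)) (.node (.leaf 1188658) (.leaf 268636705))) (.node (.node (.leaf 1057281) (.leaf 20128273)) (.node (.leaf 16842803) (.leaf 271717139)))) (.node (.node (.node (.leaf 78339) (.leaf 17965363)) (.node (.leaf 16781603) (.leaf 269620018))) (.node (.node (.leaf 1122593) (.leaf 268567072)) (.node (.leaf 16909073) (.leaf 4296216835)))))))))

def threeWord4 : Janko.Tree (ℕ) :=
  (.node (.node (.node (.node (.node (.node (.node (.node (.node (.leaf 19) (.leaf 4296220963)) (.leaf 16912675)) (.node (.leaf 1122835) (.leaf 268570641))) (.node (.node (.leaf 78386) (.leaf 17969458)) (.node (.leaf 16781842) (.leaf 269624099)))) (.node (.node (.node (.node (.leaf 66353) (.leaf 68737315072)) (.leaf 16982065)) (.node (.leaf 1191986) (.leaf 268636977))) (.node (.node (.leaf 1057331) (.leaf 268501776)) (.node (.leaf 16843554) (.leaf 285225217))))) (.node (.node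 (.node (.node (.node (.leaf 4880) (.leaf 4297142579)) (.leaf 16921105)) (.node (.leaf 1180419) (.leaf 268579122))) (.node (.node (.leaf 1052961) (.leaf 18886704)) (.node (.leaf 16786211) (.leaf 270541074)))) (.node (.node (.node (.leaf 74033) (.leaf 17892131)) (.node (.leaf 1250064) (.leaf 269497123))) (.node (.node (.leaf 1114146) (.leaf 268509968)) (.node (.leaf 16851747) (.leaf 4296093968)))))) (.node (.node (.node (.node (.node (.node (.leaf 4352) (.leaf 4297069073)) (.leaf 16916787)) (.node (.leaf 1126962) (.leaf 268574994))) (.node (.node (.leaf 1049120) (.leaf 18035218)) (.node (.leaf 16785664) (.leaf 269693187)))) (.node (.node (.node (.leaf 70416) (.leaf 17826304)) (.node (.leaf 1245443) (.leaf 268644883))) (.node (.node (.leaf 1061136) (.leaf 268505891)) (.node (.leaf 16850960) (.leaf 4296028689))))) (.node (.node (.node (.node (.node (.leaf 65827) (.leaf 4298248979)) (.leaf 16974371))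 (.node (.leaf 1187856) (.leaf 268632576))) (.node (.node (.leaf 1056770) (.leaf 19075859)) (.node (.leaf 16790019) (.leaf 270676768)))) (.node (.node (.node (.leaf 77842) (.leaf 17957171)) (.node (.leaf 1257984) (.leaf 269615120))) (.node (.node (.leaf 1118993) (.leaf 268514067)) (.node (.leaf 16908304) (.leaf 4296151858))))))) (.node (.node (.node (.node (.node (.node (.node (.leaf 307) (.leaf 4296225313)) (.leaf 16913184)) (.node (.leaf 1126659) (.leaf 268571185))) (.node (.node (.leaf 1048851) (.leaf 18030641)) (.node (.leaf 16782115) (.leaf 269685537)))) (.node (.node (.node (.leaf 69938) (.leaf 16986161)) (.node (.leaf 1192496) (.leaf 268640817))) (.node (.node (.leaf 1060866) (.leaf 268505616)) (.node (.leaf 16847395) (.leaf 4296016416))))) (.node (.node (.node (.node (.node (.leaf 65569) (.leaf 4297269299)) (.leaf 16973858)) (.node (.leaf 1184257) (.leaf 268579619))) (.node (.node (.leaf 1053232)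 (.leaf 18948913)) (.node (.leaf 16789553) (.leaf 270603043)))) (.node (.node (.node (.leaf 74499) (.leaf 17900323)) (.node (.leaf 1253667) (.leaf 269558288))) (.node (.node (.leaf 1118257) (.leaf 268513792)) (.node (.leaf 16855570) (.leaf 4296147488)))))) (.node (.node (.node (.node (.node (.node (.leaf 4611) (.leaf 4297076992)) (.leaf 16920608)) (.node (.leaf 1179683) (.leaf 268575537))) (.node (.node (.leaf 1049377) (.leaf 18878753)) (.node (.leaf 16785938) (.leaf 270533153)))) (.node (.node (.node (.leaf 73747) (.leaf 17838371)) (.node (.leaf 1245955) (.leaf 269488930))) (.node (.node (.leaf 1061408) (.leaf 268509472)) (.node (.leaf 16851251) (.leaf 4296089601))))) (.node (.node (.node (.node (.node (.leaf 66097) (.leaf 4312805632)) (.leaf 16978179)) (.node (.leaf 1188626) (.leaf 268632867))) (.node (.node (.leaf 1057043) (.leaf 20058418)) (.node (.leaf 16790304) (.leaf 271590178)))) (.node (.node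 (.node (.leaf 78115) (.leaf 17961760)) (.node (.leaf 16781362) (.leaf 269619714))) (.node (.node (.leaf 1122560) (.leaf 268566817)) (.node (.leaf 16908817) (.leaf 4296159762)))))))) (.node (.node (.node (.node (.node (.node (.node (.node (.leaf 275) (.leaf 4296225025)) (.leaf 16912913)) (.node (.leaf 1123091) (.leaf 268570931))) (.node (.node (.leaf 78625) (.leaf 18026547)) (.node (.leaf 16781875) (.leaf 269627923)))) (.node (.node (.node (.leaf 69683) (.leaf 16982323)) (.node (.leaf 1192450) (.leaf 268640513))) (.node (.node (.leaf 1057568) (.leaf 268501809)) (.node (.leaf 16847360) (.leaf 286274323))))) (.node (.node (.node (.node (.node (.leaf 4912) (.leaf 4297208339)) (.leaf 16921376)) (.node (.leaf 1184001) (.leaf 268579361))) (.node (.node (.leaf 1053186) (.leaf 18944562)) (.node (.leaf 16789521) (.leaf 270545184)))) (.node (.node (.node (.leaf 74259) (.leaf 17899811)) (.node (.leaf 1253377)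 (.leaf 269557793))) (.node (.node (.leaf 1114898) (.leaf 268510002)) (.node (.leaf 16855331) (.leaf 4296094499)))))) (.node (.node (.node (.node (.node (.node (.leaf 4386) (.leaf 4297069361)) (.leaf 16917282)) (.node (.leaf 1127201) (.leaf 268575491))) (.node (.node (.leaf 1049345) (.leaf 18874881)) (.node (.leaf 16785699) (.leaf 269693475)))) (.node (.node (.node (.leaf 70448) (.leaf 17830672)) (.node (.leaf 1245699) (.leaf 269484577))) (.node (.node (.leaf 1061376) (.leaf 268509217)) (.node (.leaf 16851216) (.leaf 4296028961))))) (.node (.node (.node (.node (.node (.leaf 66064) (.leaf 4311753217)) (.leaf 16974610)) (.node (.leaf 1188128) (.leaf 268632832))) (.node (.node (.leaf 1056817) (.leaf 19927297)) (.node (.leaf 16790064) (.leaf 270737969)))) (.node (.node (.node (.leaf 77874) (.leaf 17961266)) (.node (.leaf 1258017) (.leaf 269615649))) (.node (.node (.leaf 1119026) (.leaf 268566560)) (.node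 (.leaf 16908560) (.leaf 4296155937))))))) (.node (.node (.node (.node (.node (.node (.node (.leaf 4128) (.leaf 4297064992)) (.leaf 16916513)) (.node (.leaf 1126914) (.leaf 268571427))) (.node (.node (.leaf 1049088) (.leaf 18034737)) (.node (.leaf 16785426) (.leaf 269689137)))) (.node (.node (.node (.leaf 70163) (.leaf 16986627)) (.node (.leaf 1245201) (.leaf 268644611))) (.node (.node (.leaf 1060898) (.leaf 268505651)) (.node (.leaf 16847648) (.leaf 4296020755))))) (.node (.node (.node (.node (.node (.leaf 65793) (.leaf 4298117938)) (.leaf 16974112)) (.node (.leaf 1184529) (.leaf 268632114))) (.node (.node (.leaf 1053472) (.leaf 19010354)) (.node (.leaf 16789794) (.leaf 270611233)))) (.node (.node (.node (.leaf 74544) (.leaf 17904403)) (.node (.leaf 1254146) (.leaf 269562163))) (.node (.node (.leaf 1118739) (.leaf 268513827)) (.node (.leaf 16855811) (.leaf 4296151553)))))) (.node (.node (.node (.node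 (.node (.node (.leaf 4656) (.leaf 4297134867)) (.leaf 16920866)) (.node (.leaf 1179939) (.leaf 268578851))) (.node (.node (.leaf 1052689) (.leaf 18879251)) (.node (.leaf 16786178) (.leaf 270537234)))) (.node (.node (.node (.leaf 73985) (.leaf 17838865)) (.node (.leaf 1249297) (.leaf 269496867))) (.node (.node (.leaf 1061648) (.leaf 268509713)) (.node (.leaf 16851507) (.leaf 4296090113))))) (.node (.node (.node (.node (.node (.leaf 66321) (.leaf 68736262657)) (.leaf 16978721)) (.node (.leaf 1191938) (.leaf 268636707))) (.node (.node (.leaf 1057282) (.leaf 20128512)) (.node (.leaf 16843057) (.leaf 271777842)))) (.node (.node (.node (.leaf 78352) (.leaf 17965840)) (.node (.leaf 16781617) (.leaf 269623314))) (.node (.node (.leaf 1122595) (.leaf 268567073)) (.node (.leaf 16909074) (.leaf 4296217123)))))))))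

def threeWord5 : Janko.Tree (ℕ) :=
  (.node (.node (.node (.node (.node (.node (.node (.node (.node (.leaf 256) (.leaf 4296220977)) (.leaf 16912689)) (.node (.leaf 1122865) (.leaf 268570643))) (.node (.node (.leaf 78592) (.leaf 17969681)) (.node (.leaf 16781843) (.leaf 269624112)))) (.node (.node (.node (.node (.leaf 66354) (.leaf 68737315603)) (.leaf 16982067)) (.node (.leaf 1192195) (.leaf 268636978))) (.node (.node (.leaf 1057536) (.leaf 268501777)) (.node (.leaf 16843555) (.leaf 285290803))))) (.node (.node (.node (.node (.node (.leaf 4881) (.leaf 4297143073)) (.leaf 16921106)) (.node (.leaf 1180432) (.leaf 268579328))) (.node (.node (.leaf 1052962) (.leaf 18886705)) (.node (.leaf 16786224) (.leaf 270541313)))) (.node (.node (.node (.leaf 74034) (.leaf 17892145)) (.node (.leaf 1250065) (.leaf 269550352))) (.node (.node (.leaf 1114161) (.leaf 268509970)) (.node (.leaf 16851760) (.leaf 4296094003))))))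 (.node (.node (.node (.node (.node (.node (.leaf 4353) (.leaf 4297069074)) (.leaf 16917248)) (.node (.leaf 1127168) (.leaf 268574995))) (.node (.node (.leaf 1049121) (.leaf 18035232)) (.node (.leaf 16785665) (.leaf 269693233)))) (.node (.node (.node (.leaf 70417) (.leaf 17826305)) (.node (.leaf 1245456) (.leaf 268644896))) (.node (.node (.leaf 1061138) (.leaf 268505905)) (.node (.leaf 16850962) (.leaf 4296028707))))) (.node (.node (.node (.node (.node (.leaf 65841) (.leaf 4298309682)) (.leaf 16974386)) (.node (.leaf 1187858) (.leaf 268632578))) (.node (.node (.leaf 1056784) (.leaf 19079216)) (.node (.leaf 16790032) (.leaf 270676769)))) (.node (.node (.node (.leaf 77843) (.leaf 17957393)) (.node (.leaf 1257985) (.leaf 269615121))) (.node (.node (.leaf 1118994) (.leaf 268514080)) (.node (.leaf 16908305) (.leaf 4296155154))))))) (.node (.node (.node (.node (.node (.node (.node (.leaf 4097) (.leaf 4296225315))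 (.leaf 16913185)) (.node (.leaf 1126672) (.leaf 268571187))) (.node (.node (.leaf 1048864) (.leaf 18030867)) (.node (.leaf 16782128) (.leaf 269685539)))) (.node (.node (.node (.leaf 69939) (.leaf 16986162)) (.node (.leaf 1192498) (.leaf 268641024))) (.node (.node (.leaf 1060867) (.leaf 268505618)) (.node (.leaf 16847408) (.leaf 4296016417))))) (.node (.node (.node (.node (.node (.leaf 65570) (.leaf 4297269809)) (.leaf 16973872)) (.node (.leaf 1184258) (.leaf 268632080))) (.node (.node (.leaf 1053233) (.leaf 18952482)) (.node (.leaf 16789554) (.leaf 270606338)))) (.node (.node (.node (.leaf 74512) (.leaf 17900338)) (.node (.leaf 1253681) (.leaf 269558289))) (.node (.node (.leaf 1118258) (.leaf 268513793)) (.node (.leaf 16855571) (.leaf 4296147489)))))) (.node (.node (.node (.node (.node (.node (.leaf 4624) (.leaf 4297077024)) (.leaf 16920609)) (.node (.leaf 1179904) (.leaf 268575538))) (.node (.node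 (.leaf 1049378) (.leaf 18878992)) (.node (.leaf 16785939) (.leaf 270533170)))) (.node (.node (.node (.leaf 73761) (.leaf 17838387)) (.node (.leaf 1245968) (.leaf 269488944))) (.node (.node (.leaf 1061409) (.leaf 268509473)) (.node (.leaf 16851457) (.leaf 4296089633))))) (.node (.node (.node (.node (.node (.leaf 66098) (.leaf 4312806163)) (.leaf 16978432)) (.node (.leaf 1188627) (.leaf 268636163))) (.node (.node (.leaf 1057056) (.leaf 20058419)) (.node (.leaf 16790305) (.leaf 271593729)))) (.node (.node (.node (.leaf 78129) (.leaf 17961763)) (.node (.leaf 16781363) (.leaf 269619730))) (.node (.node (.leaf 1122561) (.leaf 268566818)) (.node (.leaf 16908819) (.leaf 4296159763)))))))) (.node (.node (.node (.node (.node (.node (.node (.node (.leaf 288) (.leaf 4296225027)) (.leaf 16912914)) (.node (.leaf 1123105) (.leaf 268571136))) (.node (.node (.leaf 78626) (.leaf 18026755)) (.node (.leaf 16782096)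 (.leaf 269627937)))) (.node (.node (.node (.leaf 69889) (.leaf 16982545)) (.node (.leaf 1192451) (.leaf 268640531))) (.node (.node (.leaf 1057569) (.leaf 268501810)) (.node (.leaf 16847361) (.leaf 286397219))))) (.node (.node (.node (.node (.node (.leaf 4913) (.leaf 4297208608)) (.leaf 16921377)) (.node (.leaf 1184032) (.leaf 268579363))) (.node (.node (.leaf 1053200) (.leaf 18944784)) (.node (.leaf 16789522) (.leaf 270545186)))) (.node (.node (.node (.leaf 74288) (.leaf 17899826)) (.node (.leaf 1253395) (.leaf 269558016))) (.node (.node (.leaf 1114899) (.leaf 268513536)) (.node (.leaf 16855346) (.leaf 4296146960)))))) (.node (.node (.node (.node (.node (.node (.leaf 4387) (.leaf 4297072914)) (.leaf 16917283)) (.node (.leaf 1127202) (.leaf 268575504))) (.node (.node (.leaf 1049346) (.leaf 18874882)) (.node (.leaf 16785713) (.leaf 270532865)))) (.node (.node (.node (.leaf 70449) (.leaf 17830673))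 (.node (.leaf 1245714) (.leaf 269484816))) (.node (.node (.leaf 1061377) (.leaf 268509218)) (.node (.leaf 16851218) (.leaf 4296028963))))) (.node (.node (.node (.node (.node (.leaf 66065) (.leaf 4311757057)) (.leaf 16974624)) (.node (.leaf 1188131) (.leaf 268632833))) (.node (.node (.leaf 1056818) (.leaf 19927824)) (.node (.leaf 16790066) (.leaf 270738176)))) (.node (.node (.node (.leaf 78080) (.leaf 17961267)) (.node (.leaf 1258019) (.leaf 269619219))) (.node (.node (.leaf 1122305) (.leaf 268566562)) (.node (.leaf 16908562) (.leaf 4296155939))))))) (.node (.node (.node (.node (.node (.node (.node (.leaf 4129) (.leaf 4297064993)) (.leaf 16916514)) (.node (.leaf 1126915) (.leaf 268571442))) (.node (.node (.leaf 1049089) (.leaf 18034738)) (.node (.leaf 16785427) (.leaf 269689138)))) (.node (.node (.node (.leaf 70176) (.leaf 16986641)) (.node (.leaf 1245203) (.leaf 268644657))) (.node (.node (.leaf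 1060899) (.leaf 268505872)) (.node (.leaf 16847649) (.leaf 4296020770))))) (.node (.node (.node (.node (.node (.leaf 65795) (.leaf 4298122018)) (.leaf 16974129)) (.node (.leaf 1184530) (.leaf 268632321))) (.node (.node (.leaf 1053473) (.leaf 19017761)) (.node (.leaf 16789795) (.leaf 270663971)))) (.node (.node (.node (.leaf 74545) (.leaf 17904418)) (.node (.leaf 1254176) (.leaf 269562369))) (.node (.node (.leaf 1118752) (.leaf 268513840)) (.node (.leaf 16855824) (.leaf 4296151554)))))) (.node (.node (.node (.node (.node (.node (.leaf 4657) (.leaf 4297134883)) (.leaf 16920867)) (.node (.leaf 1179953) (.leaf 268578864))) (.node (.node (.leaf 1052691) (.leaf 18879280)) (.node (.leaf 16786179) (.leaf 270537248)))) (.node (.node (.node (.leaf 73987) (.leaf 17838867)) (.node (.leaf 1249331) (.leaf 269497088))) (.node (.node (.leaf 1061649) (.leaf 268509714)) (.node (.leaf 16851712) (.leaf 4296090128)))))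 (.node (.node (.node (.node (.node (.leaf 66322) (.leaf 68736266497)) (.leaf 16978723)) (.node (.leaf 1191953) (.leaf 268636721))) (.node (.node (.leaf 1057296) (.leaf 268501024)) (.node (.leaf 16843058) (.leaf 271782673)))) (.node (.node (.node (.leaf 78353) (.leaf 17965843)) (.node (.leaf 16781618) (.leaf 269623552))) (.node (.node (.leaf 1122609) (.leaf 268567298)) (.node (.leaf 16909104) (.leaf 4296217377)))))))))

def threeWord6 : Janko.Tree (ℕ) :=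
  (.node (.node (.node (.node (.node (.node (.node (.node (.node (.leaf 257) (.leaf 4296220978)) (.leaf 16912690)) (.node (.leaf 1122866) (.leaf 268570881))) (.node (.node (.leaf 78593) (.leaf 17969682)) (.node (.leaf 16781856) (.leaf 269624113)))) (.node (.node (.node (.node (.leaf 69634) (.leaf 68737438499)) (.leaf 16982272)) (.node (.leaf 1192224) (.leaf 268640257))) (.node (.node (.leaf 1057537) (.leaf 268501778)) (.node (.leaf 16843568) (.leaf 285291264))))) (.node (.node (.node (.node (.node (.leaf 4882) (.leaf 4297195811)) (.leaf 16921107)) (.node (.leaf 1180433) (.leaf 268579330))) (.node (.node (.leaf 1052963) (.leaf 18886912)) (.node (.leaf 16786225) (.leaf 270541329)))) (.node (.node (.node (.leaf 74035) (.leaf 17899521)) (.node (.leaf 1250067) (.leaf 269550353))) (.node (.node (.leaf 1114163) (.leaf 268509971)) (.node (.leaf 16851761) (.leaf 4296094209)))))) (.node (.node (.node (.node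 (.node (.node (.leaf 4355) (.leaf 4297069088)) (.leaf 16917250)) (.node (.leaf 1127169) (.leaf 268575008))) (.node (.node (.leaf 1049123) (.leaf 18035233)) (.node (.leaf 16785667) (.leaf 269693441)))) (.node (.node (.node (.leaf 70418) (.leaf 17826336)) (.node (.leaf 1245459) (.leaf 268644897))) (.node (.node (.leaf 1061152) (.leaf 268505906)) (.node (.leaf 16850963) (.leaf 4296028928))))) (.node (.node (.node (.node (.node (.leaf 65842) (.leaf 4298314513)) (.leaf 16974387)) (.node (.leaf 1187859) (.leaf 268632579))) (.node (.node (.leaf 1056785) (.leaf 19079219)) (.node (.leaf 16790033) (.leaf 270729250)))) (.node (.node (.node (.leaf 77856) (.leaf 17957408)) (.node (.leaf 1257986) (.leaf 269615136))) (.node (.node (.leaf 1118995) (.leaf 268514081)) (.node (.leaf 16908306) (.leaf 4296155392))))))) (.node (.node (.node (.node (.node (.node (.node (.leaf 4098) (.leaf 4297064705)) (.leaf 16913186))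 (.node (.leaf 1126690) (.leaf 268571409))) (.node (.node (.leaf 1048865) (.leaf 18030883)) (.node (.leaf 16782129) (.leaf 269685552)))) (.node (.node (.node (.leaf 70144) (.leaf 16986369)) (.node (.leaf 1192720) (.leaf 268641026))) (.node (.node (.leaf 1060880) (.leaf 268505619)) (.node (.leaf 16847410) (.leaf 4296016656))))) (.node (.node (.node (.node (.node (.leaf 65571) (.leaf 4297270016)) (.leaf 16973873)) (.node (.leaf 1184272) (.leaf 268632081))) (.node (.node (.leaf 1053234) (.leaf 18952499)) (.node (.leaf 16789760) (.leaf 270606354)))) (.node (.node (.node (.leaf 74514) (.leaf 17903888)) (.node (.leaf 1253682) (.leaf 269558323))) (.node (.node (.leaf 1118259) (.leaf 268513794)) (.node (.leaf 16855585) (.leaf 4296151059)))))) (.node (.node (.node (.node (.node (.node (.leaf 4625) (.leaf 4297077026)) (.leaf 16920610)) (.node (.leaf 1179905) (.leaf 268578818))) (.node (.node (.leaf 1049379)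 (.leaf 18878993)) (.node (.leaf 16785968) (.leaf 270536706)))) (.node (.node (.node (.leaf 73762) (.leaf 17838609)) (.node (.leaf 1245969) (.leaf 269488946))) (.node (.node (.leaf 1061411) (.leaf 268509475)) (.node (.leaf 16851472) (.leaf 4296089856))))) (.node (.node (.node (.node (.node (.leaf 66099) (.leaf 4312929059)) (.leaf 16978465)) (.node (.leaf 1188641) (.leaf 268636177))) (.node (.node (.leaf 1057057) (.leaf 20058899)) (.node (.leaf 16790306) (.leaf 271593985)))) (.node (.node (.node (.leaf 78130) (.leaf 17961778)) (.node (.leaf 16781569) (.leaf 269619760))) (.node (.node (.leaf 1122563) (.leaf 268566819)) (.node (.leaf 16908832) (.leaf 4296159777)))))))) (.node (.node (.node (.node (.node (.node (.node (.node (.leaf 289) (.leaf 4296225073)) (.leaf 16912944)) (.node (.leaf 1123106) (.leaf 268571137))) (.node (.node (.leaf 78627) (.leaf 18027043)) (.node (.leaf 16782097) (.leaf 269627952))))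 (.node (.node (.node (.leaf 69891) (.leaf 16982576)) (.node (.leaf 1192464) (.leaf 268640547))) (.node (.node (.leaf 1057570) (.leaf 268505137)) (.node (.leaf 16847362) (.leaf 287313922))))) (.node (.node (.node (.node (.node (.leaf 4914) (.leaf 4297208609)) (.leaf 16921378)) (.node (.leaf 1184033) (.leaf 268579376))) (.node (.node (.leaf 1053201) (.leaf 18944787)) (.node (.leaf 16789523) (.leaf 270545187)))) (.node (.node (.node (.leaf 74289) (.leaf 17900033)) (.node (.leaf 1253424) (.leaf 269558017))) (.node (.node (.leaf 1114913) (.leaf 268513539)) (.node (.leaf 16855347) (.leaf 4296146961)))))) (.node (.node (.node (.node (.node (.node (.leaf 4401) (.leaf 4297073153)) (.leaf 16917296)) (.node (.leaf 1127203) (.leaf 268575506))) (.node (.node (.leaf 1049347) (.leaf 18874912)) (.node (.leaf 16785714) (.leaf 270532896)))) (.node (.node (.node (.leaf 70450) (.leaf 17830675)) (.node (.leaf 1245728)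 (.leaf 269484817))) (.node (.node (.leaf 1061378) (.leaf 268509440)) (.node (.leaf 16851219) (.leaf 4296082192))))) (.node (.node (.node (.node (.node (.leaf 66066) (.leaf 4311822643)) (.leaf 16974626)) (.node (.leaf 1188145) (.leaf 268632835))) (.node (.node (.leaf 1056819) (.leaf 19927858)) (.node (.leaf 16790272) (.leaf 270742035)))) (.node (.node (.node (.leaf 78081) (.leaf 17961473)) (.node (.leaf 1258032) (.leaf 269619457))) (.node (.node (.leaf 1122306) (.leaf 268566563)) (.node (.leaf 16908576) (.leaf 4296155952))))))) (.node (.node (.node (.node (.node (.node (.node (.leaf 4130) (.leaf 4297065010)) (.leaf 16916736)) (.node (.leaf 1126929) (.leaf 268574736))) (.node (.node (.leaf 1049090) (.leaf 18034945)) (.node (.leaf 16785441) (.leaf 269689361)))) (.node (.node (.node (.leaf 70177) (.leaf 16986642)) (.node (.leaf 1245216) (.leaf 268644864))) (.node (.node (.leaf 1060912) (.leaf 268505873))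 (.node (.leaf 16847650) (.leaf 4296020784))))) (.node (.node (.node (.node (.node (.leaf 65808) (.leaf 4298125569)) (.leaf 16974131)) (.node (.leaf 1184531) (.leaf 268632323))) (.node (.node (.leaf 1053474) (.leaf 19018259)) (.node (.leaf 16789809) (.leaf 270664224)))) (.node (.node (.node (.leaf 74546) (.leaf 17904419)) (.node (.leaf 1257475) (.leaf 269562386))) (.node (.node (.leaf 1118753) (.leaf 268513842)) (.node (.leaf 16855825) (.leaf 4296151570)))))) (.node (.node (.node (.node (.node (.node (.leaf 4658) (.leaf 4297138178)) (.leaf 16920881)) (.node (.leaf 1179955) (.leaf 268578866))) (.node (.node (.leaf 1052721) (.leaf 18879281)) (.node (.leaf 16786192) (.leaf 270537249)))) (.node (.node (.node (.leaf 74000) (.leaf 17838881)) (.node (.leaf 1249537) (.leaf 269497089))) (.node (.node (.leaf 1061651) (.leaf 268509715)) (.node (.leaf 16851715) (.leaf 4296090129))))) (.node (.node (.node (.node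 (.node (.leaf 66323) (.leaf 68736332083)) (.leaf 16978736)) (.node (.leaf 1191954) (.leaf 268636944))) (.node (.node (.leaf 1057297) (.leaf 268501026)) (.node (.leaf 16843059) (.leaf 271786003)))) (.node (.node (.node (.leaf 78354) (.leaf 17965857)) (.node (.leaf 16781619) (.leaf 269623584))) (.node (.node (.leaf 1122610) (.leaf 268567299)) (.node (.leaf 16909106) (.leaf 4296217379)))))))))

def threeWord7 : Janko.Tree (ℕ) :=
  (.node (.node (.node (.node (.node (.node (.node (.node (.node (.leaf 258) (.leaf 4296221201)) (.leaf 16912691)) (.node (.leaf 1122867) (.leaf 268570912))) (.node (.node (.leaf 78595) (.leaf 17969683)) (.node (.leaf 16781857) (.leaf 269627682)))) (.node (.node (.node (.node (.leaf 69635) (.leaf 68738355202)) (.leaf 16982273)) (.node (.leaf 1192226) (.leaf 268640275))) (.node (.node (.leaf 1057538) (.leaf 268501779)) (.node (.leaf 16843569) (.leaf 285291265))))) (.node (.node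 (.node (.node (.node (.leaf 4883) (.leaf 4297196064)) (.leaf 16921121)) (.node (.leaf 1180434) (.leaf 268579331))) (.node (.node (.leaf 1052977) (.leaf 18886944)) (.node (.leaf 16786226) (.leaf 270544930)))) (.node (.node (.node (.leaf 74241) (.leaf 17899553)) (.node (.leaf 1250081) (.leaf 269550355))) (.node (.node (.leaf 1114417) (.leaf 268509985)) (.node (.leaf 16851762) (.leaf 4296094226)))))) (.node (.node (.node (.node (.node (.node (.leaf 4368) (.leaf 4297069089)) (.leaf 16917251)) (.node (.leaf 1127171) (.leaf 268575011))) (.node (.node (.leaf 1049136) (.leaf 18035235)) (.node (.leaf 16785680) (.leaf 269693443)))) (.node (.node (.node (.leaf 70419) (.leaf 17826337)) (.node (.leaf 1245472) (.leaf 268644899))) (.node (.node (.leaf 1061154) (.leaf 268509185)) (.node (.leaf 16850977) (.leaf 4296028929))))) (.node (.node (.node (.node (.node (.leaf 65843) (.leaf 4298317843)) (.leaf 16974592))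 (.node (.leaf 1187873) (.leaf 268632594))) (.node (.node (.leaf 1056786) (.leaf 19079729)) (.node (.leaf 16790034) (.leaf 270729763)))) (.node (.node (.node (.leaf 77857) (.leaf 17957409)) (.node (.leaf 1257987) (.leaf 269615360))) (.node (.node (.leaf 1119008) (.leaf 268514082)) (.node (.leaf 16908320) (.leaf 4296155424))))))) (.node (.node (.node (.node (.node (.node (.node (.leaf 4099) (.leaf 4297064736)) (.leaf 16913187)) (.node (.leaf 1126691) (.leaf 268571410))) (.node (.node (.leaf 1048866) (.leaf 18030897)) (.node (.leaf 16782130) (.leaf 269685553)))) (.node (.node (.node (.leaf 70145) (.leaf 16986371)) (.node (.leaf 1192736) (.leaf 268641056))) (.node (.node (.leaf 1060881) (.leaf 268505632)) (.node (.leaf 16847411) (.leaf 4296016657))))) (.node (.node (.node (.node (.node (.leaf 65584) (.leaf 4297273875)) (.leaf 16973874)) (.node (.leaf 1184273) (.leaf 268632083))) (.node (.node (.leaf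 1053235) (.leaf 18952993)) (.node (.leaf 16789761) (.leaf 270606592)))) (.node (.node (.node (.leaf 74515) (.leaf 17903923)) (.node (.leaf 1253683) (.leaf 269558561))) (.node (.node (.leaf 1118720) (.leaf 268513795)) (.node (.leaf 16855587) (.leaf 4296151297)))))) (.node (.node (.node (.node (.node (.node (.leaf 4626) (.leaf 4297077027)) (.leaf 16920611)) (.node (.leaf 1179920) (.leaf 268578833))) (.node (.node (.leaf 1049392) (.leaf 18878994)) (.node (.leaf 16785969) (.leaf 270536961)))) (.node (.node (.node (.leaf 73776) (.leaf 17838627)) (.node (.leaf 1245970) (.leaf 269496576))) (.node (.node (.leaf 1061424) (.leaf 268509489)) (.node (.leaf 16851473) (.leaf 4296089857))))) (.node (.node (.node (.node (.node (.leaf 66304) (.leaf 4313845762)) (.leaf 16978467)) (.node (.leaf 1188642) (.leaf 268636211))) (.node (.node (.leaf 1057059) (.leaf 20119602)) (.node (.leaf 16790307) (.leaf 271659777))))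 (.node (.node (.node (.leaf 78131) (.leaf 17965074)) (.node (.leaf 16781571) (.leaf 269619763))) (.node (.node (.leaf 1122576) (.leaf 268566833)) (.node (.leaf 16908833) (.leaf 4296159792)))))))) (.node (.node (.node (.node (.node (.node (.node (.node (.leaf 290) (.leaf 4296225281)) (.leaf 16912945)) (.node (.leaf 1123107) (.leaf 268571138))) (.node (.node (.leaf 1048832) (.leaf 18027297)) (.node (.leaf 16782098) (.leaf 269627954)))) (.node (.node (.node (.leaf 69920) (.leaf 16982577)) (.node (.leaf 1192465) (.leaf 268640561))) (.node (.node (.leaf 1057571) (.leaf 268505138)) (.node (.leaf 16847376) (.leaf 287314450))))) (.node (.node (.node (.node (.node (.leaf 65552) (.leaf 4297261090)) (.leaf 16921379)) (.node (.leaf 1184035) (.leaf 268579378))) (.node (.node (.leaf 1053202) (.leaf 18944803)) (.node (.leaf 16789536) (.leaf 270602768)))) (.node (.node (.node (.leaf 74290) (.leaf 17900048)) (.node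 (.leaf 1253425) (.leaf 269558048))) (.node (.node (.leaf 1114914) (.leaf 268513552)) (.node (.leaf 16855552) (.leaf 4296146976)))))) (.node (.node (.node (.node (.node (.node (.leaf 4402) (.leaf 4297073169)) (.leaf 16917297)) (.node (.leaf 1179664) (.leaf 268575507))) (.node (.node (.leaf 1049360) (.leaf 18874913)) (.node (.leaf 16785715) (.leaf 270532897)))) (.node (.node (.node (.leaf 73729) (.leaf 17830690)) (.node (.leaf 1245731) (.leaf 269484819))) (.node (.node (.leaf 1061379) (.leaf 268509441)) (.node (.leaf 16851232) (.leaf 4296082193))))) (.node (.node (.node (.node (.node (.leaf 66067) (.leaf 4311823104)) (.leaf 16974627)) (.node (.leaf 1188147) (.leaf 268632848))) (.node (.node (.leaf 1057024) (.leaf 19931938)) (.node (.leaf 16790273) (.leaf 270742064)))) (.node (.node (.node (.leaf 78083) (.leaf 17961474)) (.node (.leaf 16781314) (.leaf 269619488))) (.node (.node (.leaf 1122320) (.leaf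 268566784)) (.node (.leaf 16908577) (.leaf 4296155953))))))) (.node (.node (.node (.node (.node (.node (.node (.leaf 4131) (.leaf 4297068546)) (.leaf 16916754)) (.node (.leaf 1126930) (.leaf 268574738))) (.node (.node (.leaf 1049091) (.leaf 18034947)) (.node (.leaf 16785442) (.leaf 269689393)))) (.node (.node (.node (.leaf 70179) (.leaf 16986643)) (.node (.leaf 1245218) (.leaf 268644865))) (.node (.node (.leaf 1060913) (.leaf 268505874)) (.node (.leaf 16847651) (.leaf 4296020786))))) (.node (.node (.node (.node (.node (.leaf 65810) (.leaf 4298125825)) (.leaf 16974336)) (.node (.leaf 1184544) (.leaf 268632336))) (.node (.node (.leaf 1053475) (.leaf 19018528)) (.node (.leaf 16789810) (.leaf 270668067)))) (.node (.node (.node (.leaf 77825) (.leaf 17956880)) (.node (.leaf 1257521) (.leaf 269562403))) (.node (.node (.leaf 1118755) (.leaf 268514048)) (.node (.leaf 16855827) (.leaf 4296151600)))))) (.node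 (.node (.node (.node (.node (.node (.leaf 4659) (.leaf 4297138194)) (.leaf 16920882)) (.node (.leaf 1180177) (.leaf 268579075))) (.node (.node (.leaf 1052722) (.leaf 18882834)) (.node (.leaf 16786194) (.leaf 270537266)))) (.node (.node (.node (.leaf 74002) (.leaf 17838883)) (.node (.leaf 1249539) (.leaf 269497091))) (.node (.node (.leaf 1061664) (.leaf 268509745)) (.node (.leaf 16851728) (.leaf 4296090163))))) (.node (.node (.node (.node (.node (.leaf 66336) (.leaf 68736332544)) (.leaf 16978737)) (.node (.leaf 1191968) (.leaf 268636945))) (.node (.node (.leaf 1057298) (.leaf 268501041)) (.node (.leaf 16843536) (.leaf 271786032)))) (.node (.node (.node (.leaf 78355) (.leaf 17965859)) (.node (.leaf 16781824) (.leaf 269623587))) (.node (.node (.leaf 1122611) (.leaf 268567312)) (.node (.leaf 16912401) (.leaf 4296217392)))))))))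

def threeWord : Janko.Tree (ℕ) := (.node (.node (.node threeWord0 threeWord4) (.node threeWord2 threeWord6)) (.node (.node threeWord1 threeWord5) (.node threeWord3 threeWord7)))

def threePar0 : Janko.Tree (ℕ) :=
  (.node (.node (.node (.node (.node (.node (.node (.node (.node (.leaf 0) (.leaf 23857)) (.leaf 5891)) (.node (.leaf 2513) (.leaf 12817))) (.node (.node (.leaf 1184) (.leaf 8304)) (.node (.leaf 4433) (.leaf 15251)))) (.node (.node (.node (.node (.leaf 545) (.leaf 31201)) (.leaf 6834)) (.node (.leaf 3377) (.leaf 13795))) (.node (.node (.leaf 1811) (.leaf 12035)) (.node (.leaf 5089) (.leaf 18961))))) (.node (.node (.node (.node (.node (.leaf 272) (.leaf 24832)) (.leaf 6336)) (.node (.leaf 2899) (.leaf 13296))) (.node (.node (.leaf 1491) (.leaf 9233)) (.node (.leaf 4739) (.leaf 16161)))) (.node (.node (.node (.leaf 867) (.leaf 7488)) (.node (.leaf 3872) (.leaf 14448))) (.node (.node (.leaf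 2129) (.leaf 12418)) (.node (.leaf 5458) (.leaf 22961)))))) (.node (.node (.node (.node (.node (.node (.leaf 128) (.leaf 24337)) (.leaf 6115)) (.node (.leaf 2707) (.leaf 13059))) (.node (.node (.leaf 1344) (.leaf 8865)) (.node (.leaf 4592) (.leaf 15779)))) (.node (.node (.node (.leaf 720) (.leaf 7184)) (.node (.leaf 3600) (.leaf 14146))) (.node (.node (.leaf 1954) (.leaf 12227)) (.node (.leaf 5265) (.leaf 22592))))) (.node (.node (.node (.node (.node (.leaf 403) (.leaf 26673)) (.leaf 6562)) (.node (.leaf 3153) (.leaf 13507))) (.node (.node (.leaf 1648) (.leaf 10161)) (.node (.leaf 4899) (.leaf 16914)))) (.node (.node (.node (.leaf 1026) (.leaf 7889)) (.node (.leaf 4210) (.leaf 14834))) (.node (.node (.leaf 2336) (.leaf 12625)) (.node (.leaf 5664) (.leaf 23395))))))) (.node (.node (.node (.node (.node (.node (.node (.leaf 51) (.leaf 24147)) (.leaf 6003)) (.node (.leaf 2608) (.leaf 12976))) (.node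 (.node (.leaf 1265) (.leaf 8579)) (.node (.leaf 4499) (.leaf 15473)))) (.node (.node (.node (.leaf 641) (.leaf 7024)) (.node (.leaf 3474) (.leaf 13954))) (.node (.node (.leaf 1888) (.leaf 12147)) (.node (.leaf 5186) (.leaf 20081))))) (.node (.node (.node (.node (.node (.leaf 337) (.leaf 25523)) (.leaf 6448)) (.node (.leaf 3073) (.leaf 13408))) (.node (.node (.leaf 1571) (.leaf 9522)) (.node (.leaf 4817) (.leaf 16434)))) (.node (.node (.node (.leaf 947) (.leaf 7649)) (.node (.leaf 4019) (.leaf 14593))) (.node (.node (.leaf 2227) (.leaf 12530)) (.node (.leaf 5569) (.leaf 23184)))))) (.node (.node (.node (.node (.node (.node (.leaf 195) (.leaf 24530)) (.leaf 6210)) (.node (.leaf 2801) (.leaf 13185))) (.node (.node (.leaf 1409) (.leaf 9026)) (.node (.leaf 4673) (.leaf 15970)))) (.node (.node (.node (.leaf 786) (.leaf 7312)) (.node (.leaf 3730) (.leaf 14256))) (.node (.node (.leaf 2048) (.leaf 12323))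 (.node (.leaf 5361) (.leaf 22755))))) (.node (.node (.node (.node (.node (.leaf 480) (.leaf 27473)) (.leaf 6675)) (.node (.leaf 3280) (.leaf 13633))) (.node (.node (.leaf 1729) (.leaf 11089)) (.node (.leaf 4979) (.leaf 17795)))) (.node (.node (.node (.leaf 1104) (.leaf 8114)) (.node (.leaf 4339) (.leaf 15057))) (.node (.node (.leaf 2418) (.leaf 12705)) (.node (.leaf 5746) (.leaf 23634)))))))) (.node (.node (.node (.node (.node (.node (.node (.node (.leaf 19) (.leaf 24001)) (.leaf 5968)) (.node (.leaf 2560) (.leaf 12929))) (.node (.node (.leaf 1232) (.leaf 8417)) (.node (.leaf 4467) (.leaf 15363)))) (.node (.node (.node (.node (.leaf 593) (.leaf 32018)) (.leaf 6931)) (.node (.leaf 3427) (.leaf 13888))) (.node (.node (.leaf 1843) (.leaf 12097)) (.node (.leaf 5122) (.leaf 19219))))) (.node (.node (.node (.node (.node (.leaf 304) (.leaf 25155)) (.leaf 6371)) (.node (.leaf 2976) (.leaf 13344))) (.node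 (.node (.leaf 1538) (.leaf 9330)) (.node (.leaf 4785) (.leaf 16259)))) (.node (.node (.node (.leaf 914) (.leaf 7584)) (.node (.leaf 3939) (.leaf 14498))) (.node (.node (.leaf 2194) (.leaf 12466)) (.node (.leaf 5504) (.leaf 23091)))))) (.node (.node (.node (.node (.node (.node (.leaf 162) (.leaf 24418)) (.leaf 6176)) (.node (.leaf 2768) (.leaf 13137))) (.node (.node (.leaf 1377) (.leaf 8945)) (.node (.leaf 4626) (.leaf 15889)))) (.node (.node (.node (.leaf 752) (.leaf 7248)) (.node (.leaf 3665) (.leaf 14192))) (.node (.node (.leaf 2003) (.leaf 12274)) (.node (.leaf 5314) (.leaf 22707))))) (.node (.node (.node (.node (.node (.leaf 448) (.leaf 27152)) (.leaf 6625)) (.node (.leaf 3202) (.leaf 13584))) (.node (.node (.leaf 1683) (.leaf 10560)) (.node (.leaf 4931) (.leaf 17296)))) (.node (.node (.node (.leaf 1058) (.leaf 8019)) (.node (.leaf 4289) (.leaf 14929))) (.node (.node (.leaf 2369) (.leaf 12659))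 (.node (.leaf 5698) (.leaf 23507))))))) (.node (.node (.node (.node (.node (.node (.node (.leaf 96) (.leaf 24241)) (.leaf 6050)) (.node (.leaf 2674) (.leaf 13011))) (.node (.node (.leaf 1299) (.leaf 8706)) (.node (.leaf 4545) (.leaf 15601)))) (.node (.node (.node (.leaf 674) (.leaf 7137)) (.node (.leaf 3553) (.leaf 14051))) (.node (.node (.leaf 1922) (.leaf 12193)) (.node (.leaf 5232) (.leaf 22515))))) (.node (.node (.node (.node (.node (.leaf 369) (.leaf 25920)) (.leaf 6497)) (.node (.leaf 3106) (.leaf 13456))) (.node (.node (.leaf 1616) (.leaf 9811)) (.node (.leaf 4851) (.leaf 16578)))) (.node (.node (.node (.leaf 992) (.leaf 7793)) (.node (.leaf 4113) (.leaf 14690))) (.node (.node (.leaf 2289) (.leaf 12577)) (.node (.leaf 5616) (.leaf 23328)))))) (.node (.node (.node (.node (.node (.node (.leaf 227) (.leaf 24704)) (.leaf 6272)) (.node (.leaf 2850) (.leaf 13234))) (.node (.node (.leaf 1441) (.leaf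 9136)) (.node (.leaf 4706) (.leaf 16067)))) (.node (.node (.node (.leaf 833) (.leaf 7440)) (.node (.leaf 3776) (.leaf 14321))) (.node (.node (.leaf 2082) (.leaf 12370)) (.node (.leaf 5410) (.leaf 22864))))) (.node (.node (.node (.node (.node (.leaf 513) (.leaf 28290)) (.leaf 6785)) (.node (.leaf 3315) (.leaf 13713))) (.node (.node (.leaf 1777) (.leaf 11825)) (.node (.leaf 5024) (.leaf 18417)))) (.node (.node (.node (.leaf 1152) (.leaf 8208)) (.node (.leaf 4400) (.leaf 15138))) (.node (.node (.leaf 2466) (.leaf 12755)) (.node (.leaf 5810) (.leaf 23698)))))))))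

def threePar1 : Janko.Tree (ℕ) :=
  (.node (.node (.node (.node (.node (.node (.node (.node (.node (.leaf 0) (.leaf 23873)) (.leaf 5921)) (.node (.leaf 2528) (.leaf 12818))) (.node (.node (.leaf 1185) (.leaf 8305)) (.node (.leaf 4434) (.leaf 15264)))) (.node (.node (.node (.node (.leaf 546) (.leaf 31219)) (.leaf 6849)) (.node (.leaf 3378) (.leaf 13809))) (.node (.node (.leaf 1824) (.leaf 12065)) (.node (.leaf 5090) (.leaf 18992))))) (.node (.node (.node (.node (.node (.leaf 273) (.leaf 24850)) (.leaf 6338)) (.node (.leaf 2912) (.leaf 13298))) (.node (.node (.leaf 1505) (.leaf 9249)) (.node (.leaf 4752) (.leaf 16163)))) (.node (.node (.node (.leaf 880) (.leaf 7489)) (.node (.leaf 3889) (.leaf 14449))) (.node (.node (.leaf 2130) (.leaf 12419)) (.node (.leaf 5459) (.leaf 22962)))))) (.node (.node (.node (.node (.node (.node (.leaf 129) (.leaf 24339)) (.leaf 6128)) (.node (.leaf 2721) (.leaf 13073)))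 (.node (.node (.leaf 1345) (.leaf 8881)) (.node (.leaf 4593) (.leaf 15809)))) (.node (.node (.node (.leaf 721) (.leaf 7185)) (.node (.leaf 3601) (.leaf 14147))) (.node (.node (.leaf 1968) (.leaf 12240)) (.node (.leaf 5266) (.leaf 22593))))) (.node (.node (.node (.node (.node (.leaf 416) (.leaf 26689)) (.leaf 6563)) (.node (.leaf 3154) (.leaf 13520))) (.node (.node (.leaf 1649) (.leaf 10178)) (.node (.leaf 4912) (.leaf 16962)))) (.node (.node (.node (.leaf 1027) (.leaf 7904)) (.node (.leaf 4225) (.leaf 14851))) (.node (.node (.leaf 2338) (.leaf 12627)) (.node (.leaf 5665) (.leaf 23410))))))) (.node (.node (.node (.node (.node (.node (.node (.leaf 64) (.leaf 24161)) (.leaf 6017)) (.node (.leaf 2609) (.leaf 12977))) (.node (.node (.leaf 1267) (.leaf 8592)) (.node (.leaf 4512) (.leaf 15507)))) (.node (.node (.node (.leaf 642) (.leaf 7026)) (.node (.leaf 3475) (.leaf 13955))) (.node (.node (.leaf 1889)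 (.leaf 12160)) (.node (.leaf 5187) (.leaf 20194))))) (.node (.node (.node (.node (.node (.leaf 338) (.leaf 25568)) (.leaf 6449)) (.node (.leaf 3074) (.leaf 13424))) (.node (.node (.leaf 1584) (.leaf 9538)) (.node (.leaf 4818) (.leaf 16450)))) (.node (.node (.node (.leaf 960) (.leaf 7667)) (.node (.leaf 4032) (.leaf 14595))) (.node (.node (.leaf 2240) (.leaf 12531)) (.node (.leaf 5570) (.leaf 23201)))))) (.node (.node (.node (.node (.node (.node (.leaf 208) (.leaf 24531)) (.leaf 6226)) (.node (.leaf 2802) (.leaf 13186))) (.node (.node (.leaf 1410) (.leaf 9042)) (.node (.leaf 4674) (.leaf 15985)))) (.node (.node (.node (.leaf 800) (.leaf 7314)) (.node (.leaf 3731) (.leaf 14272))) (.node (.node (.leaf 2049) (.leaf 12336)) (.node (.leaf 5363) (.leaf 22770))))) (.node (.node (.node (.node (.node (.leaf 481) (.leaf 27491)) (.leaf 6689)) (.node (.leaf 3282) (.leaf 13634))) (.node (.node (.leaf 1731) (.leaf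 11137)) (.node (.leaf 4992) (.leaf 17825)))) (.node (.node (.node (.leaf 1106) (.leaf 8128)) (.node (.leaf 4353) (.leaf 15074))) (.node (.node (.leaf 2419) (.leaf 12720)) (.node (.leaf 5747) (.leaf 23635)))))))) (.node (.node (.node (.node (.node (.node (.node (.node (.leaf 32) (.leaf 24051)) (.leaf 5969)) (.node (.leaf 2563) (.leaf 12931))) (.node (.node (.leaf 1233) (.leaf 8432)) (.node (.leaf 4480) (.leaf 15378)))) (.node (.node (.node (.node (.leaf 595) (.leaf 32081)) (.leaf 6947)) (.node (.leaf 3441) (.leaf 13889))) (.node (.node (.leaf 1856) (.leaf 12098)) (.node (.leaf 5153) (.leaf 19235))))) (.node (.node (.node (.node (.node (.leaf 305) (.leaf 25186)) (.leaf 6384)) (.node (.leaf 2978) (.leaf 13345))) (.node (.node (.leaf 1539) (.leaf 9331)) (.node (.leaf 4786) (.leaf 16272)))) (.node (.node (.node (.leaf 928) (.leaf 7585)) (.node (.leaf 3952) (.leaf 14499))) (.node (.node (.leaf 2195) (.leaf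 12467)) (.node (.leaf 5507) (.leaf 23106)))))) (.node (.node (.node (.node (.node (.node (.leaf 163) (.leaf 24433)) (.leaf 6178)) (.node (.leaf 2769) (.leaf 13139))) (.node (.node (.leaf 1378) (.leaf 8976)) (.node (.leaf 4627) (.leaf 15890)))) (.node (.node (.node (.leaf 753) (.leaf 7249)) (.node (.leaf 3667) (.leaf 14208))) (.node (.node (.leaf 2017) (.leaf 12288)) (.node (.leaf 5328) (.leaf 22720))))) (.node (.node (.node (.node (.node (.leaf 449) (.leaf 27233)) (.leaf 6627)) (.node (.leaf 3216) (.leaf 13587))) (.node (.node (.leaf 1697) (.leaf 10627)) (.node (.leaf 4944) (.leaf 17379)))) (.node (.node (.node (.leaf 1059) (.leaf 8049)) (.node (.leaf 4290) (.leaf 14947))) (.node (.node (.leaf 2370) (.leaf 12672)) (.node (.leaf 5699) (.leaf 23523))))))) (.node (.node (.node (.node (.node (.node (.node (.leaf 97) (.leaf 24242)) (.leaf 6064)) (.node (.leaf 2675) (.leaf 13024))) (.node (.node (.leaf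 1313) (.leaf 8721)) (.node (.leaf 4546) (.leaf 15649)))) (.node (.node (.node (.leaf 688) (.leaf 7152)) (.node (.leaf 3554) (.leaf 14081))) (.node (.node (.leaf 1923) (.leaf 12195)) (.node (.leaf 5233) (.leaf 22528))))) (.node (.node (.node (.node (.node (.leaf 370) (.leaf 26067)) (.leaf 6499)) (.node (.leaf 3120) (.leaf 13458))) (.node (.node (.leaf 1617) (.leaf 9856)) (.node (.leaf 4864) (.leaf 16641)))) (.node (.node (.node (.leaf 993) (.leaf 7810)) (.node (.leaf 4128) (.leaf 14691))) (.node (.node (.leaf 2290) (.leaf 12578)) (.node (.leaf 5618) (.leaf 23329)))))) (.node (.node (.node (.node (.node (.node (.leaf 240) (.leaf 24706)) (.leaf 6274)) (.node (.leaf 2864) (.leaf 13248))) (.node (.node (.leaf 1442) (.leaf 9137)) (.node (.leaf 4707) (.leaf 16081)))) (.node (.node (.node (.leaf 834) (.leaf 7441)) (.node (.leaf 3778) (.leaf 14355))) (.node (.node (.leaf 2096) (.leaf 12371)) (.node (.leaf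 5411) (.leaf 22865))))) (.node (.node (.node (.node (.node (.leaf 514) (.leaf 28353)) (.leaf 6800)) (.node (.leaf 3328) (.leaf 13715))) (.node (.node (.leaf 1778) (.leaf 11859)) (.node (.leaf 5026) (.leaf 18562)))) (.node (.node (.node (.leaf 1153) (.leaf 8240)) (.node (.leaf 4401) (.leaf 15152))) (.node (.node (.leaf 2467) (.leaf 12769)) (.node (.leaf 5811) (.leaf 23745)))))))))

def threePar2 : Janko.Tree (ℕ) :=
  (.node (.node (.node (.node (.node (.node (.node (.node (.node (.leaf 1) (.leaf 23921)) (.leaf 5936)) (.node (.leaf 2529) (.leaf 12848))) (.node (.node (.leaf 1187) (.leaf 8370)) (.node (.leaf 4448) (.leaf 15267)))) (.node (.node (.node (.node (.leaf 547) (.leaf 31235)) (.leaf 6867)) (.node (.leaf 3379) (.leaf 13811))) (.node (.node (.leaf 1825) (.leaf 12066)) (.node (.leaf 5091) (.leaf 19026))))) (.node (.node (.node (.node (.node (.leaf 274) (.leaf 24913)) (.leaf 6339)) (.node (.leaf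 2913) (.leaf 13299))) (.node (.node (.leaf 1507) (.leaf 9266)) (.node (.leaf 4753) (.leaf 16176)))) (.node (.node (.node (.leaf 881) (.leaf 7491)) (.node (.leaf 3891) (.leaf 14451))) (.node (.node (.leaf 2131) (.leaf 12432)) (.node (.leaf 5473) (.leaf 22963)))))) (.node (.node (.node (.node (.node (.node (.leaf 130) (.leaf 24353)) (.leaf 6131)) (.node (.leaf 2723) (.leaf 13074))) (.node (.node (.leaf 1346) (.leaf 8883)) (.node (.leaf 4594) (.leaf 15810)))) (.node (.node (.node (.leaf 722) (.leaf 7187)) (.node (.leaf 3602) (.leaf 14161))) (.node (.node (.leaf 1969) (.leaf 12241)) (.node (.leaf 5281) (.leaf 22627))))) (.node (.node (.node (.node (.node (.leaf 417) (.leaf 26834)) (.leaf 6578)) (.node (.leaf 3155) (.leaf 13537))) (.node (.node (.leaf 1650) (.leaf 10259)) (.node (.leaf 4913) (.leaf 16993)))) (.node (.node (.node (.leaf 1040) (.leaf 7920)) (.node (.leaf 4227) (.leaf 14866))) (.node (.node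 (.leaf 2339) (.leaf 12640)) (.node (.leaf 5666) (.leaf 23424))))))) (.node (.node (.node (.node (.node (.node (.node (.leaf 65) (.leaf 24162)) (.leaf 6018)) (.node (.leaf 2610) (.leaf 12978))) (.node (.node (.leaf 1280) (.leaf 8593)) (.node (.leaf 4513) (.leaf 15523)))) (.node (.node (.node (.leaf 643) (.leaf 7040)) (.node (.leaf 3489) (.leaf 13985))) (.node (.node (.leaf 1890) (.leaf 12161)) (.node (.leaf 5200) (.leaf 22480))))) (.node (.node (.node (.node (.node (.leaf 339) (.leaf 25651)) (.leaf 6451)) (.node (.leaf 3075) (.leaf 13425))) (.node (.node (.leaf 1585) (.leaf 9568)) (.node (.leaf 4819) (.leaf 16464)))) (.node (.node (.node (.leaf 961) (.leaf 7697)) (.node (.leaf 4033) (.leaf 14610))) (.node (.node (.leaf 2241) (.leaf 12546)) (.node (.leaf 5571) (.leaf 23219)))))) (.node (.node (.node (.node (.node (.node (.leaf 209) (.leaf 24544)) (.leaf 6241)) (.node (.leaf 2816) (.leaf 13187))) (.node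 (.node (.leaf 1411) (.leaf 9073)) (.node (.leaf 4688) (.leaf 15986)))) (.node (.node (.node (.leaf 801) (.leaf 7328)) (.node (.leaf 3744) (.leaf 14273))) (.node (.node (.leaf 2050) (.leaf 12338)) (.node (.leaf 5377) (.leaf 22771))))) (.node (.node (.node (.node (.node (.leaf 483) (.leaf 27507)) (.leaf 6707)) (.node (.leaf 3283) (.leaf 13648))) (.node (.node (.leaf 1744) (.leaf 11409)) (.node (.leaf 4993) (.leaf 17872)))) (.node (.node (.node (.leaf 1120) (.leaf 8131)) (.node (.leaf 4355) (.leaf 15075))) (.node (.node (.leaf 2433) (.leaf 12722)) (.node (.leaf 5761) (.leaf 23650)))))))) (.node (.node (.node (.node (.node (.node (.node (.node (.leaf 33) (.leaf 24081)) (.leaf 5970)) (.node (.leaf 2576) (.leaf 12945))) (.node (.node (.leaf 1235) (.leaf 8434)) (.node (.leaf 4481) (.leaf 15393)))) (.node (.node (.node (.node (.leaf 609) (.leaf 32194)) (.leaf 6961)) (.node (.leaf 3442) (.leaf 13891))) (.node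 (.node (.leaf 1858) (.leaf 12099)) (.node (.leaf 5154) (.leaf 19281))))) (.node (.node (.node (.node (.node (.leaf 306) (.leaf 25234)) (.leaf 6386)) (.node (.leaf 3009) (.leaf 13346))) (.node (.node (.leaf 1552) (.leaf 9440)) (.node (.leaf 4787) (.leaf 16273)))) (.node (.node (.node (.leaf 929) (.leaf 7600)) (.node (.leaf 3953) (.leaf 14513))) (.node (.node (.leaf 2208) (.leaf 12480)) (.node (.leaf 5520) (.leaf 23123)))))) (.node (.node (.node (.node (.node (.node (.leaf 176) (.leaf 24435)) (.leaf 6179)) (.node (.leaf 2771) (.leaf 13152))) (.node (.node (.leaf 1379) (.leaf 8977)) (.node (.leaf 4640) (.leaf 15904)))) (.node (.node (.node (.leaf 754) (.leaf 7251)) (.node (.leaf 3680) (.leaf 14209))) (.node (.node (.leaf 2018) (.leaf 12290)) (.node (.leaf 5329) (.leaf 22721))))) (.node (.node (.node (.node (.node (.leaf 450) (.leaf 27264)) (.leaf 6640)) (.node (.leaf 3234) (.leaf 13602))) (.node (.node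 (.leaf 1698) (.leaf 10656)) (.node (.leaf 4945) (.leaf 17440)))) (.node (.node (.node (.leaf 1072) (.leaf 8064)) (.node (.leaf 4291) (.leaf 14961))) (.node (.node (.leaf 2371) (.leaf 12673)) (.node (.leaf 5712) (.leaf 23536))))))) (.node (.node (.node (.node (.node (.node (.node (.leaf 98) (.leaf 24257)) (.leaf 6066)) (.node (.leaf 2688) (.leaf 13025))) (.node (.node (.leaf 1314) (.leaf 8737)) (.node (.leaf 4560) (.leaf 15667)))) (.node (.node (.node (.leaf 689) (.leaf 7153)) (.node (.leaf 3555) (.leaf 14082))) (.node (.node (.leaf 1936) (.leaf 12208)) (.node (.leaf 5234) (.leaf 22544))))) (.node (.node (.node (.node (.node (.leaf 371) (.leaf 26097)) (.leaf 6512)) (.node (.leaf 3121) (.leaf 13472))) (.node (.node (.leaf 1618) (.leaf 9891)) (.node (.leaf 4866) (.leaf 16674)))) (.node (.node (.node (.leaf 994) (.leaf 7827)) (.node (.leaf 4129) (.leaf 14706))) (.node (.node (.leaf 2304) (.leaf 12579))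 (.node (.leaf 5632) (.leaf 23346)))))) (.node (.node (.node (.node (.node (.node (.leaf 241) (.leaf 24722)) (.leaf 6291)) (.node (.leaf 2865) (.leaf 13249))) (.node (.node (.leaf 1458) (.leaf 9154)) (.node (.leaf 4720) (.leaf 16112)))) (.node (.node (.node (.leaf 835) (.leaf 7443)) (.node (.leaf 3779) (.leaf 14371))) (.node (.node (.leaf 2097) (.leaf 12385)) (.node (.leaf 5425) (.leaf 22867))))) (.node (.node (.node (.node (.node (.leaf 515) (.leaf 28466)) (.leaf 6801)) (.node (.leaf 3329) (.leaf 13744))) (.node (.node (.leaf 1779) (.leaf 11888)) (.node (.leaf 5041) (.leaf 18563)))) (.node (.node (.node (.leaf 1154) (.leaf 8243)) (.node (.leaf 4402) (.leaf 15155))) (.node (.node (.leaf 2480) (.leaf 12771)) (.node (.leaf 5824) (.leaf 23779)))))))))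

def threePar3 : Janko.Tree (ℕ) :=
  (.node (.node (.node (.node (.node (.node (.node (.node (.node (.leaf 2) (.leaf 23939)) (.leaf 5937)) (.node (.leaf 2530) (.leaf 12850))) (.node (.node (.leaf 1200) (.leaf 8371)) (.node (.leaf 4449) (.leaf 15281)))) (.node (.node (.node (.node (.leaf 560) (.leaf 31281)) (.leaf 6896)) (.node (.leaf 3392) (.leaf 13824))) (.node (.node (.leaf 1826) (.leaf 12067)) (.node (.leaf 5105) (.leaf 19041))))) (.node (.node (.node (.node (.node (.leaf 275) (.leaf 24946)) (.leaf 6352)) (.node (.leaf 2930) (.leaf 13313))) (.node (.node (.leaf 1520) (.leaf 9267)) (.node (.leaf 4754) (.leaf 16177)))) (.node (.node (.node (.leaf 883) (.leaf 7506)) (.node (.leaf 3905) (.leaf 14465))) (.node (.node (.leaf 2144) (.leaf 12435)) (.node (.leaf 5474) (.leaf 22978)))))) (.node (.node (.node (.node (.node (.node (.leaf 131) (.leaf 24384)) (.leaf 6145)) (.node (.leaf 2736) (.leaf 13088)))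 (.node (.node (.leaf 1347) (.leaf 8897)) (.node (.leaf 4595) (.leaf 15825)))) (.node (.node (.node (.leaf 723) (.leaf 7200)) (.node (.leaf 3617) (.leaf 14162))) (.node (.node (.leaf 1971) (.leaf 12242)) (.node (.leaf 5282) (.leaf 22643))))) (.node (.node (.node (.node (.node (.leaf 418) (.leaf 26835)) (.leaf 6592)) (.node (.leaf 3170) (.leaf 13539))) (.node (.node (.leaf 1665) (.leaf 10304)) (.node (.leaf 4914) (.leaf 17075)))) (.node (.node (.node (.leaf 1041) (.leaf 7937)) (.node (.leaf 4257) (.leaf 14867))) (.node (.node (.leaf 2352) (.leaf 12641)) (.node (.leaf 5667) (.leaf 23427))))))) (.node (.node (.node (.node (.node (.node (.node (.leaf 66) (.leaf 24176)) (.leaf 6019)) (.node (.leaf 2624) (.leaf 12992))) (.node (.node (.leaf 1282) (.leaf 8609)) (.node (.leaf 4514) (.leaf 15539)))) (.node (.node (.node (.leaf 657) (.leaf 7059)) (.node (.leaf 3491) (.leaf 14000))) (.node (.node (.leaf 1905)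 (.leaf 12162)) (.node (.leaf 5201) (.leaf 22481))))) (.node (.node (.node (.node (.node (.leaf 352) (.leaf 25712)) (.leaf 6464)) (.node (.leaf 3088) (.leaf 13426))) (.node (.node (.leaf 1587) (.leaf 9586)) (.node (.leaf 4832) (.leaf 16467)))) (.node (.node (.node (.leaf 962) (.leaf 7698)) (.node (.leaf 4051) (.leaf 14625))) (.node (.node (.leaf 2242) (.leaf 12547)) (.node (.leaf 5585) (.leaf 23233)))))) (.node (.node (.node (.node (.node (.node (.leaf 210) (.leaf 24545)) (.leaf 6242)) (.node (.leaf 2818) (.leaf 13200))) (.node (.node (.leaf 1424) (.leaf 9075)) (.node (.leaf 4689) (.leaf 16000)))) (.node (.node (.node (.leaf 802) (.leaf 7329)) (.node (.leaf 3745) (.leaf 14275))) (.node (.node (.leaf 2051) (.leaf 12339)) (.node (.leaf 5378) (.leaf 22785))))) (.node (.node (.node (.node (.node (.leaf 496) (.leaf 27553)) (.leaf 6721)) (.node (.leaf 3296) (.leaf 13650))) (.node (.node (.leaf 1746) (.leaf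 11425)) (.node (.leaf 4995) (.leaf 17890)))) (.node (.node (.node (.leaf 1122) (.leaf 8146)) (.node (.leaf 4369) (.leaf 15089))) (.node (.node (.leaf 2434) (.leaf 12736)) (.node (.leaf 5763) (.leaf 23665)))))))) (.node (.node (.node (.node (.node (.node (.node (.node (.leaf 34) (.leaf 24082)) (.leaf 5984)) (.node (.leaf 2578) (.leaf 12946))) (.node (.node (.leaf 1248) (.leaf 8481)) (.node (.leaf 4482) (.leaf 15394)))) (.node (.node (.node (.leaf 610) (.leaf 6962)) (.node (.leaf 3456) (.leaf 13904))) (.node (.node (.leaf 1859) (.leaf 12112)) (.node (.leaf 5155) (.leaf 19456))))) (.node (.node (.node (.node (.node (.leaf 307) (.leaf 25265)) (.leaf 6416)) (.node (.leaf 3011) (.leaf 13347))) (.node (.node (.leaf 1553) (.leaf 9442)) (.node (.leaf 4800) (.leaf 16288)))) (.node (.node (.node (.leaf 930) (.leaf 7601)) (.node (.leaf 3954) (.leaf 14529))) (.node (.node (.leaf 2209) (.leaf 12481)) (.node (.leaf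 5538) (.leaf 23138)))))) (.node (.node (.node (.node (.node (.node (.leaf 177) (.leaf 24448)) (.leaf 6193)) (.node (.leaf 2784) (.leaf 13154))) (.node (.node (.leaf 1392) (.leaf 8978)) (.node (.leaf 4641) (.leaf 15905)))) (.node (.node (.node (.leaf 755) (.leaf 7264)) (.node (.leaf 3682) (.leaf 14224))) (.node (.node (.leaf 2019) (.leaf 12291)) (.node (.leaf 5331) (.leaf 22723))))) (.node (.node (.node (.node (.node (.leaf 451) (.leaf 27298)) (.leaf 6641)) (.node (.leaf 3235) (.leaf 13603))) (.node (.node (.leaf 1712) (.leaf 10803)) (.node (.leaf 4947) (.leaf 17443)))) (.node (.node (.node (.leaf 1073) (.leaf 8065)) (.node (.leaf 4304) (.leaf 14976))) (.node (.node (.leaf 2385) (.leaf 12674)) (.node (.leaf 5713) (.leaf 23539))))))) (.node (.node (.node (.node (.node (.node (.node (.leaf 99) (.leaf 24258)) (.leaf 6067)) (.node (.leaf 2689) (.leaf 13026))) (.node (.node (.leaf 1315) (.leaf 8787)) (.node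 (.leaf 4561) (.leaf 15683)))) (.node (.node (.node (.leaf 690) (.leaf 7154)) (.node (.leaf 3568) (.leaf 14097))) (.node (.node (.leaf 1937) (.leaf 12210)) (.node (.leaf 5235) (.leaf 22545))))) (.node (.node (.node (.node (.node (.leaf 384) (.leaf 26144)) (.leaf 6515)) (.node (.leaf 3123) (.leaf 13473))) (.node (.node (.leaf 1619) (.leaf 9922)) (.node (.leaf 4880) (.leaf 16691)))) (.node (.node (.node (.leaf 995) (.leaf 7842)) (.node (.leaf 4144) (.leaf 14736))) (.node (.node (.leaf 2306) (.leaf 12593)) (.node (.leaf 5633) (.leaf 23347)))))) (.node (.node (.node (.node (.node (.node (.leaf 243) (.leaf 24736)) (.leaf 6304)) (.node (.leaf 2866) (.leaf 13250))) (.node (.node (.leaf 1459) (.leaf 9169)) (.node (.leaf 4721) (.leaf 16113)))) (.node (.node (.node (.leaf 848) (.leaf 7456)) (.node (.leaf 3795) (.leaf 14385))) (.node (.node (.leaf 2099) (.leaf 12400)) (.node (.leaf 5426) (.leaf 22882))))) (.node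 (.node (.node (.node (.node (.leaf 528) (.leaf 31026)) (.leaf 6803)) (.node (.leaf 3330) (.leaf 13761))) (.node (.node (.leaf 1793) (.leaf 11969)) (.node (.leaf 5043) (.leaf 18595)))) (.node (.node (.node (.leaf 1155) (.leaf 8259)) (.node (.leaf 4403) (.leaf 15170))) (.node (.node (.leaf 2481) (.leaf 12784)) (.node (.leaf 5825) (.leaf 23795)))))))))

def threePar4 : Janko.Tree (ℕ) :=
  (.node (.node (.node (.node (.node (.node (.node (.node (.node (.leaf 3) (.leaf 23955)) (.leaf 5939)) (.node (.leaf 2531) (.leaf 12881))) (.node (.node (.leaf 1202) (.leaf 8386)) (.node (.leaf 4450) (.leaf 15283)))) (.node (.node (.node (.node (.leaf 561) (.leaf 31456)) (.leaf 6897)) (.node (.leaf 3394) (.leaf 13825))) (.node (.node (.leaf 1827) (.leaf 12080)) (.node (.leaf 5106) (.leaf 19073))))) (.node (.node (.node (.node (.node (.leaf 288) (.leaf 24963)) (.leaf 6353)) (.node (.leaf 2931) (.leaf 13314))) (.node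 (.node (.leaf 1521) (.leaf 9280)) (.node (.leaf 4755) (.leaf 16194)))) (.node (.node (.node (.leaf 897) (.leaf 7507)) (.node (.leaf 3920) (.leaf 14467))) (.node (.node (.leaf 2146) (.leaf 12448)) (.node (.leaf 5475) (.leaf 23008)))))) (.node (.node (.node (.node (.node (.node (.leaf 144) (.leaf 24385)) (.leaf 6147)) (.node (.leaf 2738) (.leaf 13106))) (.node (.node (.leaf 1360) (.leaf 8898)) (.node (.leaf 4608) (.leaf 15827)))) (.node (.node (.node (.leaf 736) (.leaf 7216)) (.node (.leaf 3619) (.leaf 14163))) (.node (.node (.leaf 1984) (.leaf 12243)) (.node (.leaf 5296) (.leaf 22657))))) (.node (.node (.node (.node (.node (.leaf 419) (.leaf 26867)) (.leaf 6595)) (.node (.leaf 3184) (.leaf 13552))) (.node (.node (.leaf 1666) (.leaf 10387)) (.node (.leaf 4915) (.leaf 17152)))) (.node (.node (.node (.leaf 1042) (.leaf 7955)) (.node (.leaf 4272) (.leaf 14880))) (.node (.node (.leaf 2353) (.leaf 12643))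 (.node (.leaf 5680) (.leaf 23442))))))) (.node (.node (.node (.node (.node (.node (.node (.leaf 67) (.leaf 24177)) (.leaf 6032)) (.node (.leaf 2627) (.leaf 12993))) (.node (.node (.leaf 1283) (.leaf 8657)) (.node (.leaf 4515) (.leaf 15569)))) (.node (.node (.node (.leaf 658) (.leaf 7089)) (.node (.leaf 3504) (.leaf 14001))) (.node (.node (.leaf 1906) (.leaf 12176)) (.node (.leaf 5203) (.leaf 22496))))) (.node (.node (.node (.node (.node (.leaf 353) (.leaf 25715)) (.leaf 6466)) (.node (.leaf 3089) (.leaf 13427))) (.node (.node (.leaf 1600) (.leaf 9649)) (.node (.leaf 4833) (.leaf 16483)))) (.node (.node (.node (.leaf 963) (.leaf 7699)) (.node (.leaf 4067) (.leaf 14640))) (.node (.node (.leaf 2273) (.leaf 12560)) (.node (.leaf 5586) (.leaf 23248)))))) (.node (.node (.node (.node (.node (.node (.leaf 211) (.leaf 24560)) (.leaf 6256)) (.node (.leaf 2819) (.leaf 13201))) (.node (.node (.leaf 1425) (.leaf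 9089)) (.node (.leaf 4690) (.leaf 16001)))) (.node (.node (.node (.leaf 803) (.leaf 7363)) (.node (.leaf 3747) (.leaf 14290))) (.node (.node (.leaf 2064) (.leaf 12352)) (.node (.leaf 5379) (.leaf 22801))))) (.node (.node (.node (.node (.node (.leaf 497) (.leaf 27728)) (.leaf 6723)) (.node (.leaf 3298) (.leaf 13651))) (.node (.node (.leaf 1747) (.leaf 11570)) (.node (.leaf 5008) (.leaf 18002)))) (.node (.node (.node (.leaf 1123) (.leaf 8160)) (.node (.leaf 4370) (.leaf 15090))) (.node (.node (.leaf 2448) (.leaf 12737)) (.node (.leaf 5777) (.leaf 23666)))))))) (.node (.node (.node (.node (.node (.node (.node (.node (.leaf 35) (.leaf 24097)) (.leaf 5985)) (.node (.leaf 2579) (.leaf 12947))) (.node (.node (.leaf 1249) (.leaf 8515)) (.node (.leaf 4483) (.leaf 15395)))) (.node (.node (.node (.leaf 611) (.leaf 6963)) (.node (.leaf 3458) (.leaf 13905))) (.node (.node (.leaf 1872) (.leaf 12113)) (.node (.leaf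 5168) (.leaf 19539))))) (.node (.node (.node (.node (.node (.leaf 320) (.leaf 25347)) (.leaf 6432)) (.node (.leaf 3041) (.leaf 13361))) (.node (.node (.leaf 1554) (.leaf 9458)) (.node (.leaf 4801) (.leaf 16320)))) (.node (.node (.node (.leaf 931) (.leaf 7603)) (.node (.leaf 3969) (.leaf 14561))) (.node (.node (.leaf 2210) (.leaf 12482)) (.node (.leaf 5539) (.leaf 23139)))))) (.node (.node (.node (.node (.node (.node (.leaf 178) (.leaf 24449)) (.leaf 6194)) (.node (.leaf 2785) (.leaf 13155))) (.node (.node (.leaf 1393) (.leaf 8993)) (.node (.leaf 4643) (.leaf 15907)))) (.node (.node (.node (.leaf 768) (.leaf 7280)) (.node (.leaf 3683) (.leaf 14225))) (.node (.node (.leaf 2032) (.leaf 12305)) (.node (.leaf 5344) (.leaf 22737))))) (.node (.node (.node (.node (.node (.leaf 464) (.leaf 27313)) (.leaf 6642)) (.node (.leaf 3248) (.leaf 13616))) (.node (.node (.leaf 1713) (.leaf 10833)) (.node (.leaf 4960)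 (.leaf 17537)))) (.node (.node (.node (.leaf 1074) (.leaf 8082)) (.node (.leaf 4305) (.leaf 14977))) (.node (.node (.leaf 2386) (.leaf 12688)) (.node (.leaf 5728) (.leaf 23553))))))) (.node (.node (.node (.node (.node (.node (.node (.leaf 112) (.leaf 24272)) (.leaf 6081)) (.node (.leaf 2690) (.leaf 13027))) (.node (.node (.leaf 1328) (.leaf 8817)) (.node (.leaf 4562) (.leaf 15697)))) (.node (.node (.node (.leaf 691) (.leaf 7155)) (.node (.leaf 3569) (.leaf 14099))) (.node (.node (.leaf 1938) (.leaf 12211)) (.node (.leaf 5248) (.leaf 22547))))) (.node (.node (.node (.node (.node (.leaf 385) (.leaf 26162)) (.leaf 6528)) (.node (.leaf 3137) (.leaf 13474))) (.node (.node (.leaf 1632) (.leaf 9970)) (.node (.leaf 4882) (.leaf 16769)))) (.node (.node (.node (.leaf 1008) (.leaf 7859)) (.node (.leaf 4146) (.leaf 14771))) (.node (.node (.leaf 2307) (.leaf 12595)) (.node (.leaf 5635) (.leaf 23361)))))) (.node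 (.node (.node (.node (.node (.node (.leaf 256) (.leaf 24739)) (.leaf 6306)) (.node (.leaf 2867) (.leaf 13251))) (.node (.node (.leaf 1473) (.leaf 9171)) (.node (.leaf 4722) (.leaf 16114)))) (.node (.node (.node (.leaf 849) (.leaf 7457)) (.node (.leaf 3809) (.leaf 14403))) (.node (.node (.leaf 2112) (.leaf 12401)) (.node (.leaf 5427) (.leaf 22897))))) (.node (.node (.node (.node (.node (.leaf 529) (.leaf 31041)) (.leaf 6817)) (.node (.leaf 3346) (.leaf 13763))) (.node (.node (.leaf 1794) (.leaf 12000)) (.node (.leaf 5073) (.leaf 18738)))) (.node (.node (.node (.leaf 1168) (.leaf 8272)) (.node (.leaf 4417) (.leaf 15186))) (.node (.node (.leaf 2483) (.leaf 12785)) (.node (.leaf 5826) (.leaf 23811)))))))))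

def threePar5 : Janko.Tree (ℕ) :=
  (.node (.node (.node (.node (.node (.node (.node (.node (.node (.leaf 16) (.leaf 23969)) (.leaf 5953)) (.node (.leaf 2545) (.leaf 12883))) (.node (.node (.leaf 1216) (.leaf 8401)) (.node (.leaf 4451) (.leaf 15296)))) (.node (.node (.node (.node (.leaf 562) (.leaf 31539)) (.leaf 6899)) (.node (.leaf 3411) (.leaf 13826))) (.node (.node (.leaf 1840) (.leaf 12081)) (.node (.leaf 5107) (.leaf 19171))))) (.node (.node (.node (.node (.node (.leaf 289) (.leaf 25041)) (.leaf 6354)) (.node (.leaf 2944) (.leaf 13328))) (.node (.node (.leaf 1522) (.leaf 9281)) (.node (.leaf 4768) (.leaf 16225)))) (.node (.node (.node (.leaf 898) (.leaf 7521)) (.node (.leaf 3921) (.leaf 14480))) (.node (.node (.leaf 2161) (.leaf 12450)) (.node (.leaf 5488) (.leaf 23043)))))) (.node (.node (.node (.node (.node (.node (.leaf 145) (.leaf 24386)) (.leaf 6160)) (.node (.leaf 2752) (.leaf 13107)))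 (.node (.node (.leaf 1361) (.leaf 8912)) (.node (.leaf 4609) (.leaf 15857)))) (.node (.node (.node (.leaf 737) (.leaf 7217)) (.node (.leaf 3632) (.leaf 14176))) (.node (.node (.leaf 1986) (.leaf 12257)) (.node (.leaf 5298) (.leaf 22675))))) (.node (.node (.node (.node (.node (.leaf 433) (.leaf 27010)) (.leaf 6610)) (.node (.leaf 3186) (.leaf 13554))) (.node (.node (.leaf 1680) (.leaf 10448)) (.node (.leaf 4928) (.leaf 17153)))) (.node (.node (.node (.leaf 1043) (.leaf 7969)) (.node (.leaf 4273) (.leaf 14881))) (.node (.node (.leaf 2354) (.leaf 12656)) (.node (.leaf 5681) (.leaf 23458))))))) (.node (.node (.node (.node (.node (.node (.node (.leaf 81) (.leaf 24179)) (.leaf 6033)) (.node (.leaf 2640) (.leaf 12995))) (.node (.node (.leaf 1296) (.leaf 8675)) (.node (.leaf 4528) (.leaf 15571)))) (.node (.node (.node (.leaf 659) (.leaf 7090)) (.node (.leaf 3506) (.leaf 14016))) (.node (.node (.leaf 1907)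 (.leaf 12178)) (.node (.leaf 5216) (.leaf 22497))))) (.node (.node (.node (.node (.node (.leaf 354) (.leaf 25809)) (.leaf 6480)) (.node (.leaf 3090) (.leaf 13440))) (.node (.node (.leaf 1601) (.leaf 9682)) (.node (.leaf 4834) (.leaf 16514)))) (.node (.node (.node (.leaf 976) (.leaf 7714)) (.node (.leaf 4081) (.leaf 14641))) (.node (.node (.leaf 2274) (.leaf 12561)) (.node (.leaf 5587) (.leaf 23249)))))) (.node (.node (.node (.node (.node (.node (.leaf 224) (.leaf 24592)) (.leaf 6257)) (.node (.leaf 2832) (.leaf 13202))) (.node (.node (.leaf 1426) (.leaf 9120)) (.node (.leaf 4691) (.leaf 16018)))) (.node (.node (.node (.leaf 817) (.leaf 7379)) (.node (.leaf 3760) (.leaf 14304))) (.node (.node (.leaf 2065) (.leaf 12353)) (.node (.leaf 5393) (.leaf 22833))))) (.node (.node (.node (.node (.node (.leaf 498) (.leaf 27811)) (.leaf 6752)) (.node (.leaf 3299) (.leaf 13667))) (.node (.node (.leaf 1760) (.leaf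 11571)) (.node (.leaf 5009) (.leaf 18081)))) (.node (.node (.node (.leaf 1137) (.leaf 8163)) (.node (.leaf 4371) (.leaf 15106))) (.node (.node (.leaf 2449) (.leaf 12738)) (.node (.leaf 5779) (.leaf 23667)))))))) (.node (.node (.node (.node (.node (.node (.node (.node (.leaf 48) (.leaf 24099)) (.leaf 5986)) (.node (.leaf 2593) (.leaf 12960))) (.node (.node (.leaf 1250) (.leaf 8531)) (.node (.leaf 4496) (.leaf 15409)))) (.node (.node (.node (.leaf 625) (.leaf 6993)) (.node (.leaf 3459) (.leaf 13923))) (.node (.node (.leaf 1873) (.leaf 12114)) (.node (.leaf 5169) (.leaf 19667))))) (.node (.node (.node (.node (.node (.leaf 321) (.leaf 25424)) (.leaf 6433)) (.node (.leaf 3056) (.leaf 13363))) (.node (.node (.leaf 1568) (.leaf 9472)) (.node (.leaf 4802) (.leaf 16322)))) (.node (.node (.node (.leaf 944) (.leaf 7618)) (.node (.leaf 3987) (.leaf 14576))) (.node (.node (.leaf 2211) (.leaf 12496)) (.node (.leaf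 5554) (.leaf 23152)))))) (.node (.node (.node (.node (.node (.node (.leaf 179) (.leaf 24466)) (.leaf 6195)) (.node (.leaf 2786) (.leaf 13168))) (.node (.node (.leaf 1394) (.leaf 8994)) (.node (.leaf 4657) (.leaf 15937)))) (.node (.node (.node (.leaf 769) (.leaf 7281)) (.node (.leaf 3698) (.leaf 14240))) (.node (.node (.leaf 2033) (.leaf 12306)) (.node (.leaf 5346) (.leaf 22739))))) (.node (.node (.node (.node (.node (.leaf 465) (.leaf 27345)) (.leaf 6656)) (.node (.leaf 3251) (.leaf 13617))) (.node (.node (.leaf 1714) (.leaf 10880)) (.node (.leaf 4962) (.leaf 17552)))) (.node (.node (.node (.leaf 1088) (.leaf 8083)) (.node (.leaf 4307) (.leaf 15011))) (.node (.node (.leaf 2401) (.leaf 12690)) (.node (.leaf 5730) (.leaf 23555))))))) (.node (.node (.node (.node (.node (.node (.node (.leaf 113) (.leaf 24273)) (.leaf 6082)) (.node (.leaf 2691) (.leaf 13042))) (.node (.node (.leaf 1329) (.leaf 8818))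 (.node (.leaf 4563) (.leaf 15698)))) (.node (.node (.node (.leaf 704) (.leaf 7169)) (.node (.leaf 3571) (.leaf 14129))) (.node (.node (.leaf 1939) (.leaf 12224)) (.node (.leaf 5249) (.leaf 22562))))) (.node (.node (.node (.node (.node (.leaf 387) (.leaf 26274)) (.leaf 6545)) (.node (.leaf 3138) (.leaf 13489))) (.node (.node (.leaf 1633) (.leaf 10001)) (.node (.leaf 4883) (.leaf 16803)))) (.node (.node (.node (.leaf 1009) (.leaf 7874)) (.node (.leaf 4160) (.leaf 14785))) (.node (.node (.leaf 2320) (.leaf 12608)) (.node (.leaf 5648) (.leaf 23362)))))) (.node (.node (.node (.node (.node (.node (.leaf 257) (.leaf 24755)) (.leaf 6307)) (.node (.leaf 2881) (.leaf 13264))) (.node (.node (.leaf 1475) (.leaf 9184)) (.node (.leaf 4723) (.leaf 16128)))) (.node (.node (.node (.leaf 851) (.leaf 7459)) (.node (.leaf 3827) (.leaf 14432))) (.node (.node (.leaf 2113) (.leaf 12402)) (.node (.leaf 5440) (.leaf 22912)))))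 (.node (.node (.node (.node (.node (.leaf 530) (.leaf 31073)) (.leaf 6819)) (.node (.leaf 3361) (.leaf 13777))) (.node (.node (.leaf 1808) (.leaf 12016)) (.node (.leaf 5074) (.leaf 18817)))) (.node (.node (.node (.leaf 1169) (.leaf 8275)) (.node (.leaf 4418) (.leaf 15200))) (.node (.node (.leaf 2497) (.leaf 12802)) (.node (.leaf 5856) (.leaf 23841)))))))))

def threePar6 : Janko.Tree (ℕ) :=
  (.node (.node (.node (.node (.node (.node (.node (.node (.node (.leaf 17) (.leaf 23970)) (.leaf 5954)) (.node (.leaf 2546) (.leaf 12913))) (.node (.node (.leaf 1217) (.leaf 8402)) (.node (.leaf 4464) (.leaf 15297)))) (.node (.node (.node (.node (.leaf 578) (.leaf 31667)) (.leaf 6912)) (.node (.leaf 3424) (.leaf 13841))) (.node (.node (.leaf 1841) (.leaf 12082)) (.node (.leaf 5120) (.leaf 19200))))) (.node (.node (.node (.node (.node (.leaf 290) (.leaf 25075)) (.leaf 6355)) (.node (.leaf 2945) (.leaf 13330)))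 (.node (.node (.leaf 1523) (.leaf 9296)) (.node (.leaf 4769) (.leaf 16241)))) (.node (.node (.node (.leaf 899) (.leaf 7537)) (.node (.leaf 3923) (.leaf 14481))) (.node (.node (.leaf 2163) (.leaf 12451)) (.node (.leaf 5489) (.leaf 23057)))))) (.node (.node (.node (.node (.node (.node (.leaf 147) (.leaf 24400)) (.leaf 6162)) (.node (.leaf 2753) (.leaf 13120))) (.node (.node (.leaf 1363) (.leaf 8913)) (.node (.leaf 4611) (.leaf 15873)))) (.node (.node (.node (.leaf 738) (.leaf 7232)) (.node (.leaf 3635) (.leaf 14177))) (.node (.node (.leaf 2000) (.leaf 12258)) (.node (.leaf 5299) (.leaf 22704))))) (.node (.node (.node (.node (.node (.leaf 434) (.leaf 27089)) (.leaf 6611)) (.node (.leaf 3187) (.leaf 13555))) (.node (.node (.leaf 1681) (.leaf 10451)) (.node (.leaf 4929) (.leaf 17170)))) (.node (.node (.node (.leaf 1056) (.leaf 7984)) (.node (.leaf 4274) (.leaf 14896))) (.node (.node (.leaf 2355) (.leaf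 12657)) (.node (.leaf 5682) (.leaf 23472))))))) (.node (.node (.node (.node (.node (.node (.node (.leaf 82) (.leaf 24209)) (.leaf 6034)) (.node (.leaf 2658) (.leaf 13009))) (.node (.node (.leaf 1297) (.leaf 8691)) (.node (.leaf 4529) (.leaf 15584)))) (.node (.node (.node (.leaf 672) (.leaf 7105)) (.node (.leaf 3536) (.leaf 14018))) (.node (.node (.leaf 1920) (.leaf 12179)) (.node (.leaf 5218) (.leaf 22512))))) (.node (.node (.node (.node (.node (.leaf 355) (.leaf 25824)) (.leaf 6481)) (.node (.leaf 3104) (.leaf 13441))) (.node (.node (.leaf 1602) (.leaf 9699)) (.node (.leaf 4848) (.leaf 16530)))) (.node (.node (.node (.leaf 978) (.leaf 7744)) (.node (.leaf 4082) (.leaf 14659))) (.node (.node (.leaf 2275) (.leaf 12562)) (.node (.leaf 5601) (.leaf 23283)))))) (.node (.node (.node (.node (.node (.node (.leaf 225) (.leaf 24594)) (.leaf 6258)) (.node (.leaf 2833) (.leaf 13218))) (.node (.node (.leaf 1427)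 (.leaf 9121)) (.node (.leaf 4704) (.leaf 16034)))) (.node (.node (.node (.leaf 818) (.leaf 7393)) (.node (.leaf 3761) (.leaf 14306))) (.node (.node (.leaf 2067) (.leaf 12355)) (.node (.leaf 5408) (.leaf 22848))))) (.node (.node (.node (.node (.node (.leaf 499) (.leaf 27939)) (.leaf 6769)) (.node (.leaf 3313) (.leaf 13681))) (.node (.node (.leaf 1761) (.leaf 11603)) (.node (.leaf 5010) (.leaf 18129)))) (.node (.node (.node (.leaf 1138) (.leaf 8178)) (.node (.leaf 4385) (.leaf 15120))) (.node (.node (.leaf 2451) (.leaf 12739)) (.node (.leaf 5792) (.leaf 23681)))))))) (.node (.node (.node (.node (.node (.node (.node (.node (.leaf 49) (.leaf 24129)) (.leaf 6000)) (.node (.leaf 2594) (.leaf 12961))) (.node (.node (.leaf 1251) (.leaf 8547)) (.node (.leaf 4497) (.leaf 15424)))) (.node (.node (.node (.leaf 627) (.leaf 7008)) (.node (.leaf 3472) (.leaf 13939))) (.node (.node (.leaf 1874) (.leaf 12145)) (.node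 (.leaf 5170) (.leaf 20002))))) (.node (.node (.node (.node (.node (.leaf 322) (.leaf 25425)) (.leaf 6434)) (.node (.leaf 3057) (.leaf 13376))) (.node (.node (.leaf 1569) (.leaf 9475)) (.node (.leaf 4803) (.leaf 16323)))) (.node (.node (.node (.leaf 945) (.leaf 7633)) (.node (.leaf 4016) (.leaf 14577))) (.node (.node (.leaf 2225) (.leaf 12499)) (.node (.leaf 5555) (.leaf 23153)))))) (.node (.node (.node (.node (.node (.node (.leaf 193) (.leaf 24497)) (.leaf 6208)) (.node (.leaf 2787) (.leaf 13170))) (.node (.node (.leaf 1395) (.leaf 9008)) (.node (.leaf 4658) (.leaf 15968)))) (.node (.node (.node (.leaf 770) (.leaf 7283)) (.node (.leaf 3712) (.leaf 14241))) (.node (.node (.leaf 2034) (.leaf 12320)) (.node (.leaf 5347) (.leaf 22752))))) (.node (.node (.node (.node (.node (.leaf 466) (.leaf 27443)) (.leaf 6658)) (.node (.leaf 3265) (.leaf 13619))) (.node (.node (.leaf 1715) (.leaf 10898)) (.node (.leaf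 4976) (.leaf 17619)))) (.node (.node (.node (.leaf 1089) (.leaf 8097)) (.node (.leaf 4320) (.leaf 15041))) (.node (.node (.leaf 2402) (.leaf 12691)) (.node (.leaf 5744) (.leaf 23568))))))) (.node (.node (.node (.node (.node (.node (.node (.leaf 114) (.leaf 24290)) (.leaf 6096)) (.node (.leaf 2705) (.leaf 13056))) (.node (.node (.leaf 1330) (.leaf 8833)) (.node (.leaf 4577) (.leaf 15713)))) (.node (.node (.node (.leaf 705) (.leaf 7170)) (.node (.leaf 3584) (.leaf 14144))) (.node (.node (.leaf 1952) (.leaf 12225)) (.node (.leaf 5250) (.leaf 22576))))) (.node (.node (.node (.node (.node (.leaf 400) (.leaf 26353)) (.leaf 6547)) (.node (.leaf 3139) (.leaf 13491))) (.node (.node (.leaf 1634) (.leaf 10083)) (.node (.leaf 4897) (.leaf 16848)))) (.node (.node (.node (.leaf 1010) (.leaf 7875)) (.node (.leaf 4179) (.leaf 14802))) (.node (.node (.leaf 2321) (.leaf 12610)) (.node (.leaf 5649) (.leaf 23378))))))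 (.node (.node (.node (.node (.node (.node (.leaf 258) (.leaf 24786)) (.leaf 6321)) (.node (.leaf 2883) (.leaf 13266))) (.node (.node (.leaf 1489) (.leaf 9185)) (.node (.leaf 4736) (.leaf 16129)))) (.node (.node (.node (.leaf 864) (.leaf 7473)) (.node (.leaf 3841) (.leaf 14433))) (.node (.node (.leaf 2115) (.leaf 12403)) (.node (.leaf 5443) (.leaf 22913))))) (.node (.node (.node (.node (.node (.leaf 531) (.leaf 31171)) (.leaf 6832)) (.node (.leaf 3362) (.leaf 13792))) (.node (.node (.leaf 1809) (.leaf 12018)) (.node (.leaf 5075) (.leaf 18851)))) (.node (.node (.node (.leaf 1170) (.leaf 8289)) (.node (.leaf 4419) (.leaf 15232))) (.node (.node (.leaf 2498) (.leaf 12803)) (.node (.leaf 5858) (.leaf 23843)))))))))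

def threePar7 : Janko.Tree (ℕ) :=
  (.node (.node (.node (.node (.node (.node (.node (.node (.node (.leaf 18) (.leaf 23985)) (.leaf 5955)) (.node (.leaf 2547) (.leaf 12928))) (.node (.node (.leaf 1219) (.leaf 8403)) (.node (.leaf 4465) (.leaf 15362)))) (.node (.node (.node (.node (.leaf 579) (.leaf 32002)) (.leaf 6913)) (.node (.leaf 3426) (.leaf 13859))) (.node (.node (.leaf 1842) (.leaf 12083)) (.node (.leaf 5121) (.leaf 19201))))) (.node (.node (.node (.node (.node (.leaf 291) (.leaf 25120)) (.leaf 6369)) (.node (.leaf 2946) (.leaf 13331))) (.node (.node (.leaf 1537) (.leaf 9328)) (.node (.leaf 4770) (.leaf 16258)))) (.node (.node (.node (.leaf 913) (.leaf 7569)) (.node (.leaf 3937) (.leaf 14483))) (.node (.node (.leaf 2193) (.leaf 12465)) (.node (.leaf 5490) (.leaf 23074)))))) (.node (.node (.node (.node (.node (.node (.leaf 160) (.leaf 24401)) (.leaf 6163)) (.node (.leaf 2755) (.leaf 13123)))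 (.node (.node (.leaf 1376) (.leaf 8915)) (.node (.leaf 4624) (.leaf 15875)))) (.node (.node (.node (.leaf 739) (.leaf 7233)) (.node (.leaf 3648) (.leaf 14179))) (.node (.node (.leaf 2002) (.leaf 12273)) (.node (.leaf 5313) (.leaf 22705))))) (.node (.node (.node (.node (.node (.leaf 435) (.leaf 27123)) (.leaf 6624)) (.node (.leaf 3201) (.leaf 13570))) (.node (.node (.leaf 1682) (.leaf 10545)) (.node (.leaf 4930) (.leaf 17251)))) (.node (.node (.node (.leaf 1057) (.leaf 7985)) (.node (.leaf 4275) (.leaf 14912))) (.node (.node (.leaf 2368) (.leaf 12658)) (.node (.leaf 5696) (.leaf 23504))))))) (.node (.node (.node (.node (.node (.node (.node (.leaf 83) (.leaf 24240)) (.leaf 6035)) (.node (.leaf 2659) (.leaf 13010))) (.node (.node (.leaf 1298) (.leaf 8705)) (.node (.leaf 4530) (.leaf 15585)))) (.node (.node (.node (.leaf 673) (.leaf 7107)) (.node (.leaf 3552) (.leaf 14032))) (.node (.node (.leaf 1921)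 (.leaf 12192)) (.node (.leaf 5219) (.leaf 22513))))) (.node (.node (.node (.node (.node (.leaf 368) (.leaf 25891)) (.leaf 6482)) (.node (.leaf 3105) (.leaf 13443))) (.node (.node (.leaf 1603) (.leaf 9777)) (.node (.leaf 4849) (.leaf 16560)))) (.node (.node (.node (.leaf 979) (.leaf 7779)) (.node (.leaf 4083) (.leaf 14689))) (.node (.node (.leaf 2288) (.leaf 12563)) (.node (.leaf 5603) (.leaf 23313)))))) (.node (.node (.node (.node (.node (.node (.leaf 226) (.leaf 24595)) (.leaf 6259)) (.node (.leaf 2848) (.leaf 13233))) (.node (.node (.leaf 1440) (.leaf 9122)) (.node (.leaf 4705) (.leaf 16065)))) (.node (.node (.node (.leaf 832) (.leaf 7411)) (.node (.leaf 3762) (.leaf 14320))) (.node (.node (.leaf 2080) (.leaf 12369)) (.node (.leaf 5409) (.leaf 22849))))) (.node (.node (.node (.node (.node (.leaf 512) (.leaf 28274)) (.leaf 6771)) (.node (.leaf 3314) (.leaf 13699))) (.node (.node (.leaf 1763) (.leaf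 11746)) (.node (.leaf 5011) (.leaf 18401)))) (.node (.node (.node (.leaf 1139) (.leaf 8194)) (.node (.leaf 4387) (.leaf 15123))) (.node (.node (.leaf 2464) (.leaf 12753)) (.node (.leaf 5793) (.leaf 23696)))))))) (.node (.node (.node (.node (.node (.node (.node (.node (.leaf 50) (.leaf 24145)) (.leaf 6001)) (.node (.leaf 2595) (.leaf 12962))) (.node (.node (.leaf 1264) (.leaf 8577)) (.node (.leaf 4498) (.leaf 15426)))) (.node (.node (.node (.leaf 640) (.leaf 7009)) (.node (.leaf 3473) (.leaf 13953))) (.node (.node (.leaf 1875) (.leaf 12146)) (.node (.leaf 5184) (.leaf 20018))))) (.node (.node (.node (.node (.node (.leaf 336) (.leaf 25442)) (.leaf 6435)) (.node (.leaf 3059) (.leaf 13378))) (.node (.node (.leaf 1570) (.leaf 9491)) (.node (.leaf 4816) (.leaf 16432)))) (.node (.node (.node (.leaf 946) (.leaf 7648)) (.node (.leaf 4017) (.leaf 14592))) (.node (.node (.leaf 2226) (.leaf 12512)) (.node (.leaf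 5568) (.leaf 23168)))))) (.node (.node (.node (.node (.node (.node (.leaf 194) (.leaf 24513)) (.leaf 6209)) (.node (.leaf 2800) (.leaf 13171))) (.node (.node (.leaf 1408) (.leaf 9009)) (.node (.leaf 4659) (.leaf 15969)))) (.node (.node (.node (.leaf 785) (.leaf 7298)) (.node (.leaf 3715) (.leaf 14243))) (.node (.node (.leaf 2035) (.leaf 12321)) (.node (.leaf 5360) (.leaf 22753))))) (.node (.node (.node (.node (.node (.leaf 467) (.leaf 27472)) (.leaf 6659)) (.node (.leaf 3267) (.leaf 13632))) (.node (.node (.leaf 1728) (.leaf 11010)) (.node (.leaf 4977) (.leaf 17648)))) (.node (.node (.node (.leaf 1091) (.leaf 8098)) (.node (.leaf 4338) (.leaf 15056))) (.node (.node (.leaf 2416) (.leaf 12704)) (.node (.leaf 5745) (.leaf 23569))))))) (.node (.node (.node (.node (.node (.node (.node (.leaf 115) (.leaf 24306)) (.leaf 6114)) (.node (.leaf 2706) (.leaf 13058))) (.node (.node (.leaf 1331) (.leaf 8835))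 (.node (.leaf 4578) (.leaf 15729)))) (.node (.node (.node (.leaf 707) (.leaf 7171)) (.node (.leaf 3586) (.leaf 14145))) (.node (.node (.leaf 1953) (.leaf 12226)) (.node (.leaf 5251) (.leaf 22578))))) (.node (.node (.node (.node (.node (.leaf 402) (.leaf 26401)) (.leaf 6560)) (.node (.leaf 3152) (.leaf 13504))) (.node (.node (.leaf 1635) (.leaf 10160)) (.node (.leaf 4898) (.leaf 16883)))) (.node (.node (.node (.leaf 1025) (.leaf 7888)) (.node (.leaf 4209) (.leaf 14819))) (.node (.node (.leaf 2323) (.leaf 12624)) (.node (.leaf 5651) (.leaf 23392)))))) (.node (.node (.node (.node (.node (.node (.leaf 259) (.leaf 24802)) (.leaf 6322)) (.node (.leaf 2897) (.leaf 13283))) (.node (.node (.leaf 1490) (.leaf 9202)) (.node (.leaf 4738) (.leaf 16146)))) (.node (.node (.node (.leaf 866) (.leaf 7475)) (.node (.leaf 3843) (.leaf 14435))) (.node (.node (.leaf 2128) (.leaf 12417)) (.node (.leaf 5456) (.leaf 22931)))))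 (.node (.node (.node (.node (.node (.leaf 544) (.leaf 31200)) (.leaf 6833)) (.node (.leaf 3376) (.leaf 13793))) (.node (.node (.leaf 1810) (.leaf 12033)) (.node (.leaf 5088) (.leaf 18880)))) (.node (.node (.node (.leaf 1171) (.leaf 8291)) (.node (.leaf 4432) (.leaf 15235))) (.node (.node (.leaf 2499) (.leaf 12816)) (.node (.leaf 5889) (.leaf 23856)))))))))

def threePar : Janko.Tree (ℕ) := (.node (.node (.node threePar0 threePar4) (.node threePar2 threePar6)) (.node (.node threePar1 threePar5) (.node threePar3 threePar7)))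

def threeL0 : Janko.Tree (List ℤ) :=
  (.node (.node (.node (.node (.node (.node (.node (.node (.node (.node (.node (.leaf []) (.leaf [1, 1, 0, 2, 0, 0, 0, 0, 2, 0, 1, 0, 1])) (.leaf [0, 1, 0, 2, 0, 0, 1, 0, 1])) (.node (.leaf [0, 0, 2, 0, 0, 2, 1, 2]) (.leaf [0, 1, 1, 1, 2, 1, 1, 1, 2, 2, 0, 2, 0, 2]))) (.node (.node (.leaf [1, 0, 1, 0, 0, 2]) (.leaf [1, 1, 0, 2, 1, 0, 0, 1, 0, 0, 1, 2, 1])) (.node (.leaf []) (.leaf [0, 1, 1, 0, 0, 2, 0, 0, 2, 2, 0, 0, 1, 1])))) (.node (.node (.node (.node (.leaf []) (.leaf [1, 0, 0, 2, 2, 0, 0, 0, 1])) (.leaf [2, 1, 1, 1, 1, 1, 1, 2, 1, 2, 0, 1, 2, 2])) (.node (.leaf [2, 0, 1, 0, 0, 0, 0, 2, 1, 0, 1, 0, 1]) (.leaf [2, 2, 0, 2, 0, 0, 0, 0, 0, 0, 1]))) (.node (.node (.leaf [2, 2, 0, 2, 0, 0, 0, 0, 1]) (.leaf [])) (.node (.leaf [0, 0, 1, 0, 0, 1, 0, 1, 1, 1, 2, 0, 1, 1]) (.leaf [2, 1, 0, 0, 1, 2, 0, 0, 1, 2, 1, 0, 0, 2]))))) (.node (.node (.node (.node (.node (.leaf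 [1]) (.leaf [1])) (.leaf [1])) (.node (.leaf [1, 2, 2, 2, 0, 1, 0, 0, 1]) (.leaf [1, 0, 1, 0, 0, 1, 0, 1, 0, 0, 1, 0, 2]))) (.node (.node (.leaf []) (.leaf [2, 1, 2, 0, 0, 2, 0, 0, 2, 1, 1, 1, 1])) (.node (.leaf [2, 0, 0, 2, 2, 1, 2, 2, 1, 2, 1, 1, 2]) (.leaf [1, 1, 1, 0, 2, 0, 1, 2, 1, 2, 0, 0, 2, 1])))) (.node (.node (.node (.leaf [2, 2, 0, 2, 0, 0, 0, 0, 1]) (.leaf [])) (.node (.leaf [1]) (.leaf [1, 0, 0, 1, 1, 0, 1, 0, 0, 0, 0, 0, 2]))) (.node (.node (.leaf [1, 1, 1, 1, 0, 1, 2, 2, 1, 0, 0, 0, 2, 2]) (.leaf [1, 1, 2, 2, 0, 2, 2, 1, 0, 2, 0, 2, 2, 1])) (.node (.leaf [0, 0, 2, 2, 0, 1, 0, 1, 0, 1, 1, 2, 1, 2]) (.leaf [0, 1, 1, 0, 2, 2, 1, 2, 0, 0, 1, 1, 1])))))) (.node (.node (.node (.node (.node (.node (.leaf []) (.leaf [2, 0, 0, 1, 1, 1, 1, 0, 2, 2])) (.leaf [1, 0, 0, 0, 1, 0, 0, 1, 1, 2])) (.node (.leaf [2, 1, 0, 0, 1, 2, 0, 0, 1, 0, 1, 2, 0, 2]) (.leaf [1, 2, 1, 2, 0, 2, 0, 0, 1]))) (.node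 (.node (.leaf []) (.leaf [0, 2, 0, 1, 0, 0, 0, 0, 1, 0, 2, 0, 2])) (.node (.leaf [2, 1, 1, 0, 0, 1, 0, 1, 2, 2, 0, 2, 1, 2]) (.leaf [1, 1, 0, 2, 1, 2, 1, 2, 1, 2, 0, 2])))) (.node (.node (.node (.leaf []) (.leaf [1, 0, 1, 1, 0, 0, 0, 0, 0, 0, 0, 2])) (.node (.leaf [2, 2, 0, 2, 2, 1, 2, 0, 0, 2, 0, 2]) (.leaf [0, 0, 2, 0, 0, 1, 0, 0, 0, 1, 0, 2]))) (.node (.node (.leaf []) (.leaf [1, 1, 0, 1, 0, 0, 0, 0, 2])) (.node (.leaf [0, 0, 0, 0, 1, 2, 1, 1, 1, 2, 1, 2, 2, 1]) (.leaf [1]))))) (.node (.node (.node (.node (.node (.leaf [2, 2, 0, 2, 0, 0, 0, 0, 1]) (.leaf [0, 1, 0, 1, 1, 0, 0, 0, 1, 0, 2, 0, 2])) (.leaf [0, 0, 2, 0, 0, 1])) (.node (.leaf [1, 1, 2, 2, 0, 0, 0, 1, 2, 1, 2, 2]) (.leaf [2, 2, 0, 2, 0, 0, 0, 0, 1]))) (.node (.node (.leaf []) (.leaf [1, 0, 2, 0, 1, 1, 0, 2, 1, 0, 0, 0, 0, 2])) (.node (.leaf []) (.leaf [2, 0, 0, 1, 1, 2, 1, 1, 0, 1])))) (.node (.node (.node (.leaf []) (.leaf [0, 0, 2,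 0, 0, 2, 2, 1, 1, 2, 0, 2])) (.node (.leaf [1, 1, 1, 0, 2, 1, 1, 2, 2, 1, 0, 1]) (.leaf [1, 0, 2, 0, 0, 0, 1, 0, 2, 0, 0, 1]))) (.node (.node (.leaf [0, 2, 0, 0, 2, 0, 2, 2, 0, 2, 1, 1, 1, 1]) (.leaf [0, 2, 1, 1, 2, 1, 0, 0, 0, 2, 0, 2, 1])) (.node (.leaf [2, 0, 0, 0, 1, 1, 0, 0, 0, 2, 2, 1, 2, 2]) (.leaf [0, 2, 1, 2, 1, 0, 2, 0, 1, 1, 1, 2, 0, 2]))))))) (.node (.node (.node (.node (.node (.node (.node (.leaf []) (.leaf [2, 2, 0, 1, 1, 0, 0, 2, 1, 1, 1, 2, 1])) (.leaf [0, 0, 0, 2, 2, 0, 0, 2, 2, 1, 0, 2, 1, 1])) (.node (.leaf [2, 1, 0, 2, 2, 0, 2, 0, 1, 1, 0, 2]) (.leaf []))) (.node (.node (.leaf [0, 2, 0, 0, 1]) (.leaf [0, 1, 2, 1, 1, 2, 0, 1, 2, 1, 1, 1, 2, 2])) (.node (.leaf [2, 1, 0, 1, 0, 0, 0, 0, 2]) (.leaf [1, 1, 1, 2, 1, 1, 2, 0, 2, 1, 0, 2, 1, 1])))) (.node (.node (.node (.node (.leaf []) (.leaf [0, 1, 0, 0, 0, 1])) (.leaf [1])) (.node (.leaf [1, 0, 1, 1, 2, 1, 0, 0, 1, 2, 0, 2]) (.leaf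 [0, 0, 1, 1, 1, 1, 0, 1, 0, 0, 2, 1, 0, 2]))) (.node (.node (.leaf [0, 0, 0, 0, 0, 0, 0, 0, 0, 1, 0, 2]) (.leaf [0, 0, 0, 2, 1, 0, 1, 0, 2, 0, 2])) (.node (.leaf []) (.leaf [2, 2, 2, 0, 1, 2, 0, 2, 2, 0, 1, 2, 1, 2]))))) (.node (.node (.node (.node (.node (.leaf []) (.leaf [2, 1, 0, 1, 2, 1, 0, 0, 1, 0, 2, 2])) (.leaf [0, 2, 1, 1, 0, 1, 2, 1, 0, 2, 1, 1, 2, 2])) (.node (.leaf []) (.leaf [2, 2, 2, 2, 0, 1, 2, 1, 0, 0, 1, 1, 1, 1]))) (.node (.node (.leaf [2, 2, 0, 2, 0, 0, 0, 0, 1]) (.leaf [2, 1, 2, 2, 1, 0, 1, 0, 1, 2, 2, 2])) (.node (.leaf [2, 0, 1, 1, 1, 2, 1, 1, 2, 2, 0, 1, 1, 2]) (.leaf [0, 2, 0, 0, 2, 0, 2])))) (.node (.node (.node (.leaf []) (.leaf [1, 1, 2, 0, 0, 0, 2, 1])) (.node (.leaf [2, 2, 0, 2, 1, 2, 1, 0, 1, 1]) (.leaf [0, 2, 0, 1, 1, 2, 2, 1, 2, 0, 1, 1, 1, 2]))) (.node (.node (.leaf [1, 2, 0, 1, 1, 0, 1, 0, 2, 2, 0, 1]) (.leaf [2, 2, 2, 0, 2, 0, 2, 1, 0, 1, 1, 2, 2])) (.node (.leaf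 [1, 1, 0, 0, 1, 0, 1, 1, 0, 1, 2, 2, 2, 2]) (.leaf [1])))))) (.node (.node (.node (.node (.node (.node (.leaf []) (.leaf [0, 0, 1, 2, 2, 0, 2, 0, 1, 1, 0, 2])) (.leaf [])) (.node (.leaf [1, 0, 0, 2, 1, 2, 0, 2, 2, 2, 1, 2, 1, 1]) (.leaf [1, 1, 2, 1, 0, 1, 0, 0, 1, 2, 0, 2, 1, 2]))) (.node (.node (.leaf []) (.leaf [2, 0, 0, 2, 1, 0, 2, 2, 2, 1, 1, 2, 2, 2])) (.node (.leaf []) (.leaf [2, 0, 0, 2, 2, 1, 0, 0, 1, 1, 2, 1, 2])))) (.node (.node (.node (.leaf []) (.leaf [])) (.node (.leaf [2, 0, 2, 2, 0, 0, 0, 0, 0, 0, 0, 1]) (.leaf [1, 0, 1, 1, 2, 1, 1, 0, 2, 0, 2, 0, 1]))) (.node (.node (.leaf []) (.leaf [0, 0, 2, 1, 1, 1, 0, 0, 2, 1, 2, 0, 1, 2])) (.node (.leaf [0, 1, 1, 0, 1, 0, 0, 0, 1, 1, 2, 1, 1]) (.leaf [1, 2, 0, 1, 0, 0, 2, 0, 2]))))) (.node (.node (.node (.node (.node (.leaf [1, 0, 1, 0, 0, 2]) (.leaf [1, 0, 0, 2, 2, 0, 0, 0, 1])) (.leaf [0, 1, 2, 2, 2, 0, 0, 2, 0, 1, 1, 1, 2, 2])) (.node (.leaf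 [1]) (.leaf [2, 2, 0, 1, 1, 0, 1, 0, 2]))) (.node (.node (.leaf [2, 2, 0, 0, 1]) (.leaf [1, 0, 0, 1, 2, 0, 2, 0, 2])) (.node (.leaf [1, 2, 0, 0, 2, 0, 2]) (.leaf [2, 1, 0, 0, 2, 0, 2, 0, 2, 0, 0, 0, 1])))) (.node (.node (.node (.leaf [1, 1, 0, 0, 2]) (.leaf [])) (.node (.leaf [0, 0, 0, 2, 1, 0, 1, 0, 1]) (.leaf [0, 1, 0, 1, 1, 0, 1, 2, 2, 2, 1, 2, 1]))) (.node (.node (.leaf [2, 0, 2, 0, 0, 1]) (.leaf [0, 2, 0, 0, 1])) (.node (.leaf []) (.leaf [2, 2, 2, 2, 1, 0, 1, 1, 1])))))))) (.node (.node (.node (.node (.node (.node (.node (.node (.leaf []) (.leaf [2, 2, 2, 0, 0, 2, 1, 0, 1, 2, 1, 0, 2])) (.leaf [1])) (.node (.leaf [1]) (.leaf []))) (.node (.node (.leaf [2, 2, 0, 1, 2, 0, 0, 0, 2]) (.leaf [0, 2, 1, 2, 1, 1, 2, 1, 2, 2, 2, 2, 0, 2])) (.node (.leaf [0, 1, 0, 2, 2, 0, 1, 0, 1, 2, 0, 0, 0, 1]) (.leaf [0, 2, 0, 2, 0, 1, 2, 0, 1, 2, 1])))) (.node (.node (.node (.node (.leaf [0, 2, 0, 0, 2, 0, 2]) (.leaf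 [0, 2, 2, 1, 0, 1, 0, 0, 2, 0, 1, 0, 2])) (.leaf [0, 1, 2, 0, 0, 0, 2, 2, 1, 1, 1, 0, 2, 1])) (.node (.leaf [2, 0, 0, 2, 1, 0, 0, 2, 2, 2, 0, 0, 1, 2]) (.leaf [0, 1, 2, 2, 0, 2, 1, 1, 0, 0, 2, 0, 1, 1]))) (.node (.node (.leaf []) (.leaf [1, 2, 0, 2, 1, 0, 0, 1, 2, 2, 2, 1, 1, 2])) (.node (.leaf [1, 2, 1, 2, 0, 2, 2, 0, 2, 1, 0, 0, 2, 2]) (.leaf [1, 1, 0, 0, 2, 2, 0, 1, 0, 1, 0, 2, 1]))))) (.node (.node (.node (.node (.node (.leaf []) (.leaf [1, 2, 2, 0, 1, 0, 2, 1, 2, 1, 2, 1, 2, 1])) (.leaf [2, 0, 0, 1, 0, 0, 2, 2, 0, 0, 1, 0, 2, 2])) (.node (.leaf [0, 2, 1, 1, 2, 2, 1, 2, 1, 2, 0, 2]) (.leaf [1, 1, 1, 2, 1, 0, 0, 0, 1, 2, 1, 1, 0, 2]))) (.node (.node (.leaf []) (.leaf [1, 2, 2, 1, 0, 0, 0, 0, 2, 1, 2, 0, 2, 1])) (.node (.leaf []) (.leaf [1, 0, 0, 0, 0, 0, 0, 0, 0, 2, 0, 1])))) (.node (.node (.node (.leaf [2, 0, 2, 0, 0, 1]) (.leaf [1])) (.node (.leaf [0, 0, 2, 1, 1, 2, 0, 1, 2, 1, 1, 1, 2, 2])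 (.leaf [1, 1, 2, 2, 2, 0, 0, 0, 1, 1, 0, 2, 2, 1]))) (.node (.node (.leaf [2, 0, 0, 0, 2, 0, 0, 2, 2, 0, 2, 2, 1, 2]) (.leaf [1, 1, 0, 0, 0, 2, 1, 2, 1, 2, 0, 2, 2, 2])) (.node (.leaf [1]) (.leaf [1, 0, 1, 0, 0, 1, 1, 0, 2, 0, 0, 1])))))) (.node (.node (.node (.node (.node (.node (.leaf []) (.leaf [0, 2, 2, 1, 1, 0, 2, 0, 0, 2, 1, 2])) (.leaf [0, 1, 0, 1, 2, 2, 1, 0, 0, 0, 2, 2, 2, 2])) (.node (.leaf [2, 2, 0, 1, 2, 0, 0, 0, 2]) (.leaf [1, 2, 2, 2, 0, 0, 0, 1, 0, 0, 1, 1, 0, 2]))) (.node (.node (.leaf []) (.leaf [0, 2, 0, 0, 1])) (.node (.leaf []) (.leaf [0, 2, 0, 2, 1, 2, 2, 0, 1, 0, 2, 2, 0, 2])))) (.node (.node (.node (.leaf []) (.leaf [2, 2, 2, 1, 2, 2, 0, 1, 1, 2, 1, 2, 0, 2])) (.node (.leaf []) (.leaf []))) (.node (.node (.leaf [1, 0, 0, 0, 0, 1, 1, 2, 2, 1, 0, 0, 1, 2]) (.leaf [])) (.node (.leaf []) (.leaf [0, 2, 0, 0, 1]))))) (.node (.node (.node (.node (.node (.leaf [1]) (.leaf [0, 0, 0,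 1, 1, 2, 2, 0, 2, 0, 0, 1])) (.leaf [2, 0, 0, 2, 0, 0, 2, 0, 1])) (.node (.leaf []) (.leaf [0, 1, 0, 1, 2, 0, 2, 0, 1, 1, 2, 0, 2, 2]))) (.node (.node (.leaf [1, 2, 2, 2, 1, 0, 2, 1, 0, 0, 0, 2, 1, 1]) (.leaf [1])) (.node (.leaf [2, 2, 2, 0, 0, 0, 1, 0, 0, 2, 1, 2, 1]) (.leaf [2, 0, 1, 0, 0, 2, 0, 0, 0, 2, 0, 1])))) (.node (.node (.node (.leaf []) (.leaf [2, 2, 1, 0, 1, 1, 1, 0, 0, 2, 0, 1, 2, 1])) (.node (.leaf [0, 1, 0, 2, 2, 1, 2, 0, 1, 2, 1, 1, 0, 2]) (.leaf [0, 2, 1, 0, 1, 1, 2, 1]))) (.node (.node (.leaf [0, 2, 2, 2, 0, 0, 2, 1, 2, 1, 0, 0, 2, 2]) (.leaf [2, 1, 2, 2, 2, 1, 2, 1, 0, 2])) (.node (.leaf []) (.leaf [0, 0, 1, 0, 0, 0, 1, 1, 2, 0, 2, 0, 1, 1]))))))) (.node (.node (.node (.node (.node (.node (.node (.leaf []) (.leaf [2, 2, 0, 1, 2, 2, 0, 2, 1, 1, 2, 1])) (.leaf [0, 1, 0, 1, 0, 2, 2, 2, 1, 2, 1, 0, 1])) (.node (.leaf [2, 0, 1, 1, 0, 1, 1, 0, 2, 0, 0, 2, 2, 2]) (.leaf [2, 0, 2, 2, 1,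 2, 0, 0, 2, 1, 0, 1]))) (.node (.node (.leaf []) (.leaf [0, 1, 0, 1, 2, 0, 1, 0, 0, 1, 2, 2])) (.node (.leaf []) (.leaf [2, 2, 1, 0, 0, 1, 1, 2, 0, 1, 0, 2, 1, 2])))) (.node (.node (.node (.node (.leaf [2, 0, 2, 0, 0, 1]) (.leaf [0, 0, 2, 0, 0, 1, 0, 1, 2, 1, 1, 1, 1, 1])) (.leaf [0, 1, 2, 0, 0, 0, 2, 2, 0, 1, 0, 2, 0, 1])) (.node (.leaf [1, 0, 1, 1, 2, 1, 0, 2, 1, 0, 1, 1, 1, 1]) (.leaf [1, 1, 0, 0, 1, 0, 1]))) (.node (.node (.leaf []) (.leaf [])) (.node (.leaf [0, 0, 2, 2, 1, 0, 0, 2, 1, 2, 0, 0, 2, 2]) (.leaf [2, 2, 0, 1, 1, 0, 1, 0, 2]))))) (.node (.node (.node (.node (.node (.leaf []) (.leaf [1, 2, 2, 0, 1, 0, 2, 0, 1, 1, 2, 0, 2])) (.leaf [0, 2, 0, 0, 1])) (.node (.leaf [0, 1, 1, 0, 2, 0, 1, 2]) (.leaf [1, 1, 0, 2, 0, 0, 2, 2, 0, 1, 1, 2, 2, 1]))) (.node (.node (.leaf []) (.leaf [1, 1, 2, 2, 0, 2, 1, 2, 0, 1, 2, 2, 1, 1])) (.node (.leaf [2, 1, 0, 2, 2, 0, 2, 0, 1]) (.leaf [0, 1, 0, 0, 1, 0,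 1])))) (.node (.node (.node (.leaf []) (.leaf [0, 2, 0, 1, 2, 1, 2, 0, 1, 1, 1, 2, 1, 2])) (.node (.leaf [2, 2, 1, 1, 2, 1, 0, 0, 0, 1, 1, 2, 0, 1]) (.leaf [0, 2, 2, 2, 1, 1, 1, 2, 0, 0, 0, 0, 2, 2]))) (.node (.node (.leaf [1, 1, 2, 2, 2, 1, 0, 2, 1, 0, 2, 0, 1]) (.leaf [0, 2, 0, 0, 0, 1, 0, 2, 0, 1, 1, 1, 2, 1])) (.node (.leaf [1, 1, 0, 2, 2, 1, 2, 1, 2, 1, 2, 2, 2, 1]) (.leaf [0, 2, 2, 0, 1, 2, 1, 2])))))) (.node (.node (.node (.node (.node (.node (.leaf [2, 2, 0, 2, 0, 0, 0, 0, 1]) (.leaf [2, 1, 1, 0, 1, 2, 1])) (.leaf [0, 1, 0, 0, 1, 0, 1, 0, 0, 1, 0, 2])) (.node (.leaf [2, 0, 2, 0, 0, 1]) (.leaf [0, 0, 1, 0, 0, 0, 1, 1, 0, 1, 2, 1, 0, 2]))) (.node (.node (.leaf []) (.leaf [0, 1, 0, 0, 0, 1, 0, 0, 0, 1, 0, 1, 1])) (.node (.leaf [0, 1, 0, 2, 1, 2, 2, 1, 2, 0, 2, 0, 2, 1]) (.leaf [2, 0, 0, 2, 0, 0, 2, 0, 1])))) (.node (.node (.node (.leaf []) (.leaf [1])) (.node (.leaf [0, 2, 2, 0, 1, 0, 1, 1,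 1, 0, 1, 1, 1, 2]) (.leaf [1, 1, 0, 1, 2, 0, 1, 0, 2]))) (.node (.node (.leaf []) (.leaf [])) (.node (.leaf []) (.leaf [1, 1, 0, 0, 2, 2, 2, 1]))))) (.node (.node (.node (.node (.node (.leaf []) (.leaf [1, 0, 1, 2, 2, 2, 2, 0, 0, 0, 0, 0, 1])) (.leaf [0, 2, 0, 0, 0, 2, 2, 0, 1, 1, 1])) (.node (.leaf [0, 0, 2, 0, 1, 1, 2, 1, 0, 1, 0, 1, 0, 1]) (.leaf [0, 1, 0, 0, 1, 0, 1]))) (.node (.node (.leaf [1, 1, 1, 2, 1, 1, 1, 1, 2, 0, 2, 2, 0, 1]) (.leaf [0, 2, 0, 1, 0, 0, 0, 0, 1, 0, 2, 0, 2])) (.node (.leaf []) (.leaf [0, 1, 0, 2, 0, 0, 0, 0, 2, 0, 1, 0, 1])))) (.node (.node (.node (.leaf [1]) (.leaf [1])) (.node (.leaf []) (.leaf [0, 1, 1, 2, 0, 0, 0, 0, 2, 2, 1, 1, 2, 2]))) (.node (.node (.leaf []) (.leaf [])) (.node (.leaf [0, 0, 0, 1, 1, 0, 2, 1, 2, 0, 0, 2, 1]) (.leaf [2, 2, 0, 2, 2, 0, 1, 0, 1, 2, 1, 2, 1]))))))))) (.node (.node (.node (.node (.node (.node (.node (.node (.node (.leaf []) (.leaf [2,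 0, 1, 2, 2, 2, 2, 0, 2, 0, 0, 1, 2, 2])) (.leaf [0, 2, 1, 1, 1, 0, 0, 1, 0, 1, 1, 2, 0, 1])) (.node (.leaf [2, 2, 2, 1, 0, 1, 2, 1, 0, 1, 1, 2, 2, 2]) (.leaf [2, 0, 0, 2, 2, 1, 1, 0, 1, 0, 0, 2]))) (.node (.node (.leaf []) (.leaf [2, 1, 0, 1, 1, 0, 1, 0, 1, 2, 1, 0, 0, 1])) (.node (.leaf []) (.leaf [0, 2, 2, 2, 0, 0, 1, 2, 1, 0, 1, 0, 0, 2])))) (.node (.node (.node (.node (.leaf []) (.leaf [1])) (.leaf [0, 1, 1, 0, 1, 1, 2, 2, 2, 2, 0, 0, 2])) (.node (.leaf []) (.leaf [2, 2, 0, 1, 1, 1, 0, 1, 2, 1, 1, 0, 0, 2]))) (.node (.node (.leaf []) (.leaf [])) (.node (.leaf [0, 1, 2, 2, 2, 2, 2, 1, 1, 1, 0, 2, 2, 1]) (.leaf [0, 2, 0, 1, 0, 0, 2, 0, 2]))))) (.node (.node (.node (.node (.node (.leaf []) (.leaf [1, 0, 0, 2, 2, 0, 0, 2, 0, 0, 0, 2, 0, 2])) (.leaf [0, 1, 1, 2, 2, 2, 1, 1, 1, 0, 0, 1, 1, 1])) (.node (.leaf []) (.leaf [1, 1, 2, 2, 2, 0, 1, 2, 2, 0, 0, 1, 0, 1]))) (.node (.node (.leaf []) (.leaf [2,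 2, 1, 2, 1, 0, 0, 1, 1, 1, 1, 0, 1])) (.node (.leaf []) (.leaf [1, 1, 2, 0, 0, 1, 2, 2, 1, 2, 2, 2, 2])))) (.node (.node (.node (.leaf [2, 0, 2, 1, 2, 0, 2, 1, 1, 0, 0, 2, 1, 1]) (.leaf [0, 2, 1, 1, 1, 0, 2, 2, 2, 2, 0, 1])) (.node (.leaf [2, 2, 0, 2, 0, 0, 0, 0, 0, 0, 1]) (.leaf [0, 2, 2, 0, 0, 1, 2, 0, 1, 0, 0, 0, 2]))) (.node (.node (.leaf []) (.leaf [0, 2, 0, 1, 1, 1, 2, 2, 1, 1, 1, 2])) (.node (.leaf []) (.leaf [2, 1, 0, 2, 0, 1, 0, 0, 2, 2, 0, 0, 1, 2])))))) (.node (.node (.node (.node (.node (.node (.leaf [1]) (.leaf [0, 1, 2, 0, 1, 1, 1])) (.leaf [0, 1, 0, 2, 0, 0, 0, 2, 2, 2, 0, 0, 1, 2])) (.node (.leaf [1, 1, 1, 2, 1, 1, 2, 2, 1, 0, 1, 1, 0, 1]) (.leaf [1, 1, 2, 1, 2, 2, 1, 2, 1, 2, 2, 2]))) (.node (.node (.leaf [2, 0, 1, 0, 0, 2]) (.leaf [1, 2, 0, 1, 2, 2, 1, 0, 1, 1, 1, 2, 2, 1])) (.node (.leaf [1]) (.leaf [1, 0, 0, 2, 2, 1, 0, 2, 1, 0, 1, 1, 1, 1])))) (.node (.node (.node (.leaf [])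 (.leaf [1])) (.node (.leaf [0, 2, 0, 1, 0, 0, 1, 1, 2, 0, 2, 0, 0, 1]) (.leaf [2, 1, 0, 1, 1, 0, 1, 0, 1, 0, 0, 0, 1]))) (.node (.node (.leaf [1, 1, 0, 0, 2]) (.leaf [0, 0, 0, 1, 0, 0, 1, 0, 2, 2, 0, 1])) (.node (.leaf []) (.leaf [0, 1, 1, 1, 0, 2, 0, 0, 1, 1, 0, 0, 1, 2]))))) (.node (.node (.node (.node (.node (.leaf []) (.leaf [0, 2, 2, 1, 0, 1, 1, 2, 1, 0, 2, 2, 1, 2])) (.leaf [2, 0, 1, 2, 0, 1, 0, 0, 0, 0, 0, 1])) (.node (.leaf [0, 2, 1, 0, 0, 0, 1, 2]) (.leaf [1]))) (.node (.node (.leaf []) (.leaf [0, 0, 0, 1, 0, 1, 1, 2, 1, 0, 2])) (.node (.leaf []) (.leaf [1, 2, 1, 1, 1, 0, 0, 2, 1, 1, 0, 1, 0, 2])))) (.node (.node (.node (.leaf []) (.leaf [2, 2, 1, 1, 2, 1, 1, 1, 0, 2, 2, 0, 0, 1])) (.node (.leaf [1]) (.leaf [2, 1, 2, 2, 2, 2, 1, 2, 1, 2, 2, 1]))) (.node (.node (.leaf []) (.leaf [0, 0, 0, 2, 0, 2, 1, 1, 1, 0, 2, 1, 0, 1])) (.node (.leaf [2, 2, 1, 1, 1, 2, 1, 2, 0, 1]) (.leaf [1, 1, 2, 2,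 0, 2, 0, 0, 1, 2, 1]))))))) (.node (.node (.node (.node (.node (.node (.node (.leaf []) (.leaf [1, 1, 1, 1, 2, 1, 2, 0, 1, 1, 1, 2, 2, 1])) (.leaf [0, 0, 2, 2, 0, 1, 1, 1, 0, 1, 1, 0, 1, 1])) (.node (.leaf [1, 0, 0, 1, 2, 0, 2, 0, 2]) (.leaf [0, 1, 0, 2, 0, 2, 0, 1, 0, 1, 1, 2]))) (.node (.node (.leaf [2, 2, 0, 2, 0, 0, 0, 0, 1]) (.leaf [1, 0, 1, 1, 2, 1, 0, 0, 0, 2, 0, 0, 1, 2])) (.node (.leaf []) (.leaf [1, 1, 2, 0, 2, 1, 2, 2, 1, 0, 0, 1, 1])))) (.node (.node (.node (.node (.leaf []) (.leaf [2, 1, 0, 0, 2, 0, 1, 1])) (.leaf [1, 2, 0, 0, 0, 0, 1])) (.node (.leaf []) (.leaf [1, 1, 0, 2, 1, 2, 2, 2, 2, 0, 0, 1, 0, 1]))) (.node (.node (.leaf []) (.leaf [])) (.node (.leaf [2, 2, 1, 0, 0, 2, 1, 1, 1, 0, 0, 1, 0, 1]) (.leaf [2, 0, 1, 0, 0, 2]))))) (.node (.node (.node (.node (.node (.leaf []) (.leaf [0, 0, 0, 2, 1, 0, 1, 2, 1, 1])) (.leaf [0, 0, 0, 0, 0, 2, 2, 0, 0, 1, 0, 0, 2])) (.node (.leaf [0, 1,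 1, 0, 0, 2, 2]) (.leaf []))) (.node (.node (.leaf []) (.leaf [2, 1, 1, 2, 1, 2, 2, 0, 2, 0, 0, 1, 2, 2])) (.node (.leaf []) (.leaf [2, 1, 2, 2, 1, 0, 1, 0, 2, 2, 0, 0, 1, 2])))) (.node (.node (.node (.leaf []) (.leaf [0, 1, 2, 2, 1, 1, 0, 0, 0, 2, 2, 0, 2, 1])) (.node (.leaf [1, 2, 2, 2, 1, 0, 0, 2, 1, 1, 1, 2, 0, 2]) (.leaf [1, 0, 0, 1, 2, 0, 2, 1, 2, 2]))) (.node (.node (.leaf []) (.leaf [1])) (.node (.leaf [1, 2, 0, 2, 0, 2, 0, 1, 0, 0, 1, 1, 0, 2]) (.leaf [1, 2, 0, 0, 0, 2, 0, 0, 2, 2, 1, 2, 2])))))) (.node (.node (.node (.node (.node (.node (.leaf []) (.leaf [1])) (.leaf [1, 1, 0, 2, 1, 0, 0, 0, 2, 2, 1, 0, 1, 1])) (.node (.leaf [2, 0, 2, 2, 0, 0, 0, 0, 0, 0, 0, 1]) (.leaf [1, 2, 1, 2, 1, 1, 2, 2, 2, 2]))) (.node (.node (.leaf []) (.leaf [2, 2, 2, 0, 2, 1, 2])) (.node (.leaf []) (.leaf [0, 1, 0, 1, 1, 0, 0, 1, 0, 2, 0, 0, 1, 1])))) (.node (.node (.node (.leaf [2, 0, 1, 2, 0, 2, 0, 1, 0, 1, 0,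 0, 2, 1]) (.leaf [0, 2, 2, 2, 0, 0, 1, 2, 2, 2, 0, 1, 0, 2])) (.node (.leaf []) (.leaf [0, 2, 1, 0, 1, 1, 0, 2, 1, 2]))) (.node (.node (.leaf [1, 0, 1, 0, 0, 2]) (.leaf [1, 0, 2, 0, 0, 2, 1, 2])) (.node (.leaf [0, 1, 0, 2, 1, 2, 2, 0, 1, 2, 1, 1, 1, 1]) (.leaf [0, 0, 1, 1, 0, 1, 0, 2, 2, 1, 0, 1]))))) (.node (.node (.node (.node (.node (.leaf []) (.leaf [1])) (.leaf [0, 0, 0, 2, 2, 0, 2, 0, 0, 0, 0, 0, 1])) (.node (.leaf [2, 2, 2, 2, 2, 0, 1, 0, 0, 1, 1, 1, 2, 2]) (.leaf [1, 2, 2, 1, 2, 1, 2, 1, 1, 2]))) (.node (.node (.leaf [2, 2, 0, 2, 0, 0, 0, 0, 1]) (.leaf [1, 2, 2, 2, 0, 1, 2, 0, 1, 0, 1, 1, 2, 2])) (.node (.leaf []) (.leaf [1, 2, 0, 1, 1, 0, 2, 2, 2, 0, 2, 0, 2, 2])))) (.node (.node (.node (.leaf [1, 2, 0, 2, 1, 1, 2, 2, 2, 1, 0, 0, 2, 2]) (.leaf [2, 0, 0, 0, 0, 2, 2, 2, 2, 2, 0, 1, 2, 2])) (.node (.leaf [2, 2, 2, 0, 1, 1, 2, 2, 0, 0, 0, 0, 2, 1]) (.leaf [1, 2, 1, 2, 1, 2, 0, 0, 1, 1, 1, 2,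 0, 1]))) (.node (.node (.leaf [1]) (.leaf [])) (.node (.leaf [1, 1, 0, 0, 0, 1, 0, 2]) (.leaf [1, 2, 1, 1, 1, 0, 1, 1, 1, 2, 0, 2])))))))) (.node (.node (.node (.node (.node (.node (.node (.node (.leaf [2, 2, 0, 2, 0, 0, 0, 0, 1]) (.leaf [1, 0, 0, 2, 2, 0, 2, 2, 2, 0, 1, 1, 1, 2])) (.leaf [2, 0, 2, 0, 1, 0, 1, 1])) (.node (.leaf [1, 1, 2, 1, 0, 2, 2, 0, 1, 2, 1, 1, 1, 2]) (.leaf [1, 1, 2, 1, 0, 2, 0, 2, 2, 0, 0, 2, 0, 1]))) (.node (.node (.leaf [0, 2, 2, 0, 2, 2, 2, 2, 1, 2, 0, 2, 2, 2]) (.leaf [2, 2, 0, 1, 0, 2, 0, 2, 2, 0, 2, 2, 1, 2])) (.node (.leaf []) (.leaf [0, 1, 0, 0, 2, 2, 0, 0, 2, 1, 0, 2, 0, 1])))) (.node (.node (.node (.node (.leaf []) (.leaf [0, 0, 0, 0, 1, 0, 0, 0, 0, 0, 0, 0, 0, 0])) (.leaf [0, 2, 2, 2, 2, 1, 2, 1, 0, 1, 0, 0, 2, 1])) (.node (.leaf [2, 0, 2, 0, 0, 1]) (.leaf [1, 1, 0, 1, 2, 0, 0, 2, 1, 1, 1, 2, 2, 1]))) (.node (.node (.leaf []) (.leaf [])) (.node (.leaf [1]) (.leaf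 [1, 1, 1, 1, 0, 1, 1, 1, 0, 0, 0, 1, 1, 1]))))) (.node (.node (.node (.node (.node (.leaf []) (.leaf [1, 2, 1, 1, 0, 1, 0, 1, 0, 0, 0, 0, 1, 1])) (.leaf [2, 1, 2, 2, 2, 2, 2, 0, 0, 2, 0, 0, 2])) (.node (.leaf [0, 1, 0, 0, 1, 0, 1]) (.leaf [1, 2, 1, 0, 1, 2, 1, 0, 0, 0, 1, 0, 2]))) (.node (.node (.leaf [2, 0, 2, 0, 0, 1]) (.leaf [1, 1, 0, 0, 1, 1, 1, 2, 1, 0, 0, 0, 1, 1])) (.node (.leaf []) (.leaf [1, 1, 1, 0, 0, 2, 1, 0, 0, 1, 2, 2, 1])))) (.node (.node (.node (.leaf [2, 2, 0, 2, 0, 0, 0, 0, 1]) (.leaf [0, 2, 1, 1, 0, 1, 1, 2, 0, 1, 1, 1, 2])) (.node (.leaf [1, 1, 1, 0, 0, 0, 2, 2, 0, 0, 2, 0, 1]) (.leaf [1, 2, 0, 0, 1, 1, 1, 2]))) (.node (.node (.leaf [0, 0, 0, 2, 0, 2, 1, 2, 0, 0, 1, 2, 1]) (.leaf [2, 2, 1, 1, 2, 0, 0, 2, 0, 2, 2, 0, 0, 1])) (.node (.leaf [2, 2, 1, 1, 0, 0, 1, 0, 1, 2, 1, 1, 1, 2]) (.leaf [1, 0, 0, 2, 1, 1, 1, 2, 0, 2, 0, 1, 1])))))) (.node (.node (.node (.node (.node (.node (.leaf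 []) (.leaf [2, 0, 0, 0, 2, 2, 0, 0, 0, 2, 2, 0, 0, 2])) (.leaf [0, 1, 2, 0, 0, 0, 1, 2, 2, 2, 2, 2, 2, 2])) (.node (.leaf [2, 2, 0, 1, 2, 0, 1, 0, 1, 1, 1, 0, 0, 2]) (.leaf [1, 2, 2, 2, 1, 2, 2, 0, 0, 0, 0, 2, 2]))) (.node (.node (.leaf []) (.leaf [1, 0, 0, 1, 0, 2, 0, 1, 2, 0, 1, 0, 2])) (.node (.leaf []) (.leaf [0, 0, 0, 0, 1, 1, 1, 1, 0, 1])))) (.node (.node (.node (.leaf []) (.leaf [0, 0, 2, 2, 1, 2, 0, 2, 2, 0, 0, 0, 0, 2])) (.node (.leaf [0, 2, 0, 0, 2, 0, 2, 0, 0, 2, 0, 1]) (.leaf [1, 2, 2, 0, 0, 2, 2, 1, 1, 2, 2, 2, 2]))) (.node (.node (.leaf [1]) (.leaf [1, 2, 2, 0, 0, 1, 1])) (.node (.leaf [1, 0, 2, 1, 0, 1, 1, 1, 2, 2]) (.leaf [0, 0, 1, 0, 2, 1, 2, 1, 1, 2, 1, 1, 1]))))) (.node (.node (.node (.node (.node (.leaf []) (.leaf [0, 1, 2, 0, 1, 2, 2, 2])) (.leaf [0, 0, 2, 0, 1, 1, 0, 1, 0, 2, 2, 2, 2, 1])) (.node (.leaf [0, 2, 0, 1, 2, 1, 2, 1, 2, 1, 0, 1]) (.leaf [1]))) (.node (.node (.leaf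 []) (.leaf [1, 2, 2, 1, 0, 0, 0, 0, 2, 2, 0, 1])) (.node (.leaf []) (.leaf [1, 0, 0, 1, 1, 0, 1, 2, 0, 0, 0, 0, 0, 2])))) (.node (.node (.node (.leaf []) (.leaf [2, 1, 1, 1, 1, 1, 2, 1, 2])) (.node (.leaf [1, 1, 1, 2, 2, 0, 0, 2, 1, 2, 1, 0, 2, 1]) (.leaf [1, 1, 1, 1, 1, 0, 1, 0, 2, 1, 1, 1]))) (.node (.node (.leaf [2, 1, 2, 0, 1, 1, 1, 0, 1, 1, 1, 0, 1, 2]) (.leaf [1, 0, 1, 1, 1, 1, 2, 0, 0, 2, 0, 2, 1])) (.node (.leaf [1, 1, 0, 0, 2]) (.leaf [0, 1, 2, 2, 2, 2, 0, 1, 0, 2, 0, 2, 2, 1]))))))) (.node (.node (.node (.node (.node (.node (.node (.leaf []) (.leaf [2, 0, 1, 0, 0, 2])) (.leaf [1, 2, 1, 0, 0, 1, 0, 1])) (.node (.leaf [0, 1, 2, 1, 0, 1, 0, 0, 2]) (.leaf [0, 0, 2, 1, 0, 2, 1, 2, 1, 2, 1, 0, 0, 1]))) (.node (.node (.leaf [1]) (.leaf [1, 0, 1, 0, 1, 1, 2, 1, 2, 1, 0, 1])) (.node (.leaf []) (.leaf [0, 2, 2, 2, 2, 1, 1, 1, 1, 1, 1, 0, 0, 1])))) (.node (.node (.node (.leaf [2, 2, 0, 2, 0, 0, 0,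 0, 1]) (.leaf [])) (.node (.leaf [0, 1, 0, 1, 2, 0, 1, 2, 0, 2, 0, 2, 2, 2]) (.leaf [1, 2, 0, 1, 0, 0, 2, 0, 2]))) (.node (.node (.leaf []) (.leaf [1, 1, 1, 1, 2, 1, 1, 0, 2, 0, 0, 2, 2, 2])) (.node (.leaf [1, 0, 1, 0, 1, 0, 1, 2, 2, 2, 0, 0, 1, 1]) (.leaf [0, 0, 0, 1, 0, 0, 1, 0, 2]))))) (.node (.node (.node (.node (.node (.leaf [0, 2, 0, 0, 1]) (.leaf [2, 0, 0, 0, 1, 0, 0, 0, 2, 2, 2, 1, 2])) (.leaf [1, 1, 0, 0, 1, 1, 0, 1, 0, 2, 1, 2, 1])) (.node (.leaf [1, 1, 1, 1, 0, 1, 2, 2, 0, 2, 1, 1, 2, 2]) (.leaf [0, 2, 2, 0, 0, 1, 1, 2, 1, 1, 0, 0, 1]))) (.node (.node (.leaf []) (.leaf [0, 2, 2, 1, 2, 0, 1, 2, 1, 2, 1, 2, 1, 1])) (.node (.leaf [2, 0, 2, 0, 0, 1, 0, 1, 1, 0, 2, 2, 1]) (.leaf [2, 2, 0, 0, 0, 1, 2, 0, 2, 1, 0, 2, 2, 2])))) (.node (.node (.node (.leaf [0, 0, 0, 0, 0, 0, 0, 0, 0, 1, 0, 2]) (.leaf [0, 2, 0, 1, 0, 0, 0, 0, 1, 0, 2, 0, 2])) (.node (.leaf [2, 1, 0, 0, 2, 1, 1, 0, 2, 2, 1, 0, 1])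 (.leaf [0, 1, 0, 2, 0, 0, 0, 0, 2, 0, 1, 0, 1]))) (.node (.node (.leaf [1, 0, 0, 0, 2, 2, 0, 2, 1, 1, 0, 0, 1]) (.leaf [0, 1, 1, 0, 2, 2, 2, 2, 2, 0, 0, 1])) (.node (.leaf [0, 2, 0, 0, 2, 0, 2]) (.leaf [0, 2, 2, 0, 1, 2, 1, 2])))))) (.node (.node (.node (.node (.node (.node (.leaf []) (.leaf [1, 1, 0, 1, 1, 1, 1, 2, 2, 2, 2, 2, 1, 2])) (.leaf [2, 2, 1, 0, 2, 0, 1, 0, 2, 1, 2, 1])) (.node (.leaf [1, 0, 2, 2, 1, 1, 1, 0, 1]) (.leaf [0, 2, 1, 0, 1, 1, 2, 0, 2, 0, 1, 1, 2]))) (.node (.node (.leaf [0, 2, 0, 0, 2, 0, 2]) (.leaf [2, 1, 0, 0, 2, 1, 1, 0, 0, 1, 1, 0, 0, 1])) (.node (.leaf []) (.leaf [2, 0, 2, 2, 0, 0, 0, 2, 0, 1, 1, 0, 2, 2])))) (.node (.node (.node (.leaf [2, 2, 0, 0, 1]) (.leaf [0, 2, 2, 1, 0, 2, 0, 2, 0, 0, 2, 0, 1, 2])) (.node (.leaf [2, 1, 0, 0, 0, 0, 2, 0, 1, 0, 0, 2]) (.leaf [2, 2, 1, 2, 1, 2, 0, 0, 1, 1, 1, 2, 2]))) (.node (.node (.leaf [2, 2, 0, 1, 2, 0, 0, 0, 2]) (.leaf [1, 0, 2,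 0, 0, 0, 2, 1])) (.node (.leaf []) (.leaf [1, 1, 0, 0, 2, 2, 2, 1]))))) (.node (.node (.node (.node (.node (.leaf []) (.leaf [1, 1, 2, 0, 1, 2, 2, 2])) (.leaf [2, 0, 1, 2, 1, 1, 2, 0, 2, 1, 0, 1, 1, 2])) (.node (.leaf [0, 0, 2, 0, 1, 1, 2, 0, 2, 1, 1, 0, 0, 2]) (.leaf [0, 1, 0, 2, 2, 0, 1, 2, 2, 2, 0, 0, 1, 2]))) (.node (.node (.leaf [2, 0, 2, 0, 0, 1]) (.leaf [1])) (.node (.leaf []) (.leaf [1, 1, 0, 1, 1, 1, 1, 0, 0, 0, 0, 2])))) (.node (.node (.node (.leaf []) (.leaf [2, 1, 0, 0, 2, 1, 1, 2, 0, 1, 2, 0, 1, 2])) (.node (.leaf []) (.leaf [0, 2, 2, 0, 0, 1, 1, 2, 2, 0, 1, 1, 0, 1]))) (.node (.node (.leaf []) (.leaf [0, 0, 1, 0, 1, 2, 2, 2, 0, 2, 1, 1, 2, 2])) (.node (.leaf []) (.leaf [2, 0, 0, 1, 2, 0, 1, 0, 2, 2, 0, 0, 0, 1])))))))))) (.node (.node (.node (.node (.node (.node (.node (.node (.node (.node (.leaf []) (.leaf [0, 1, 1, 0, 1, 0, 0, 0, 1, 1, 2, 2, 1, 2])) (.leaf [0, 1, 1, 0, 0, 2, 2]))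 (.node (.leaf [1, 0, 2, 0, 0, 0, 2, 1]) (.leaf [0, 2, 1, 1, 2, 2, 1, 2, 1, 2, 0, 2]))) (.node (.node (.leaf []) (.leaf [1, 0, 0, 2, 0, 0, 2, 1, 2, 1, 2, 1, 1])) (.node (.leaf []) (.leaf [2, 0, 2, 0, 2, 2, 2, 0, 2, 1, 0, 2, 2, 2])))) (.node (.node (.node (.node (.leaf []) (.leaf [2, 1, 0, 1, 0, 0, 0, 0, 2])) (.leaf [0, 2, 2, 1, 1, 1, 1, 1, 2, 1, 1, 0, 0, 1])) (.node (.leaf [1, 2, 1, 2, 1, 2, 1, 0, 1, 1, 2, 2, 1]) (.leaf [2, 1, 2, 1, 0, 0, 1, 1, 1, 2, 2, 2, 0, 2]))) (.node (.node (.leaf []) (.leaf [1, 0, 0, 1, 2, 2, 1, 2, 0, 2, 1, 1, 2, 2])) (.node (.leaf [1, 0, 0, 1, 2, 0, 2, 0, 2]) (.leaf [0, 2, 2, 0, 0, 1, 1]))))) (.node (.node (.node (.node (.node (.leaf []) (.leaf [1, 1, 1, 0, 1, 1, 0, 0, 0, 2, 2, 0, 0, 2])) (.leaf [])) (.node (.leaf [1, 2, 0, 2, 2, 0, 0, 2, 1, 2, 0, 1, 0, 2]) (.leaf [1, 1, 2, 2, 0, 2, 1, 2, 2, 0, 0, 1, 2, 2]))) (.node (.node (.leaf [2, 0, 0, 2, 0, 0, 2, 0, 1]) (.leaf [2, 0, 1,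 2, 2, 0, 2, 0, 1, 1, 0, 2])) (.node (.leaf []) (.leaf [2, 1, 1, 0, 0, 1, 2, 2, 2, 2, 1, 1, 1, 2])))) (.node (.node (.node (.leaf []) (.leaf [0, 2, 0, 1, 0, 0, 2, 0, 2])) (.node (.leaf [0, 0, 2, 0, 0, 2, 1, 2, 2, 0, 0, 1, 1, 2]) (.leaf [0, 1, 0, 1, 1, 0, 0, 0, 1, 0, 2, 0, 2]))) (.node (.node (.leaf []) (.leaf [1])) (.node (.leaf [2, 1, 0, 2, 0, 2, 1, 1, 2, 0, 2, 1, 0, 2]) (.leaf [1, 1, 2, 2, 1, 1, 0, 0, 0, 2, 2, 0, 2, 1])))))) (.node (.node (.node (.node (.node (.node (.leaf []) (.leaf [0, 2, 2, 0, 2, 1, 2])) (.leaf [2, 0, 0, 2, 1, 0, 1, 0, 1])) (.node (.leaf [2, 1, 1, 0, 2, 2, 2, 2, 2, 0, 0, 1]) (.leaf []))) (.node (.node (.leaf []) (.leaf [0, 2, 1, 2, 1, 1, 1, 2, 1, 0, 1, 1, 2])) (.node (.leaf [1, 1, 1, 2, 2, 2, 1, 0, 1, 1, 2, 2, 1]) (.leaf [1, 0, 0, 0, 0, 1, 0, 0, 2, 1, 0, 1])))) (.node (.node (.node (.leaf [1, 1, 1, 2, 0, 2, 0, 0, 2, 2, 2, 0, 0, 1]) (.leaf [1, 0, 2, 2, 0, 2, 2, 0, 1, 2, 2, 0,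 2])) (.node (.leaf [2, 1, 0, 0, 1, 2, 0, 2, 1, 0, 0, 2]) (.leaf [2, 2, 2, 2, 1, 0, 0, 0, 1, 0, 1, 2, 1, 2]))) (.node (.node (.leaf [2, 2, 0, 0, 1]) (.leaf [0, 1, 1, 1, 1, 1, 0, 1, 0, 1, 2, 0, 0, 2])) (.node (.leaf []) (.leaf [0, 0, 1, 0, 2, 1, 0, 2, 0, 2, 2, 1, 2, 2]))))) (.node (.node (.node (.node (.node (.leaf []) (.leaf [2, 2, 2, 2, 0, 1, 2, 0, 1, 0, 1, 1, 2, 2])) (.leaf [1, 2, 2, 2, 1, 2, 2, 2, 1, 0, 1, 1, 2, 2])) (.node (.leaf [2, 1, 2, 2, 2, 2, 0, 2, 1, 2, 1, 0, 2, 1]) (.leaf []))) (.node (.node (.leaf []) (.leaf [1, 2, 2, 0, 1, 1, 0, 0, 0, 2, 0, 1])) (.node (.leaf [2, 1, 2, 1, 0, 2, 2, 2, 1, 0, 1, 1, 0, 2]) (.leaf [1, 1, 0, 0, 1, 1, 0, 0, 0, 1, 1, 1])))) (.node (.node (.node (.leaf [2, 0, 0, 2, 2, 2, 0, 2, 1, 1, 2, 1, 0, 2]) (.leaf [1])) (.node (.leaf [0, 2, 0, 1, 0, 0, 2, 0, 2]) (.leaf [2, 0, 0, 0, 0, 2, 1, 0, 2, 0, 0, 1]))) (.node (.node (.leaf [0, 2, 0, 0, 1, 1, 1, 0, 1, 2, 1, 1, 2, 2])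 (.leaf [2, 2, 0, 1, 2, 0, 0, 0, 2])) (.node (.leaf []) (.leaf [1, 1, 2, 0, 2, 1, 0, 2, 2, 0, 0, 2, 0, 2]))))))) (.node (.node (.node (.node (.node (.node (.node (.leaf []) (.leaf [0, 2, 2, 0, 2, 1, 0, 0, 1, 2, 1, 0, 1, 1])) (.leaf [1, 2, 1, 0, 0, 1, 2, 1, 2, 0, 2, 1, 2, 2])) (.node (.leaf [0, 1, 0, 0, 0, 1, 1, 2, 1, 2, 1, 0, 1, 1]) (.leaf [1, 1, 1, 0, 2, 0, 1, 2]))) (.node (.node (.leaf [2, 1, 0, 0, 2]) (.leaf [0, 1, 0, 2, 0, 0, 0, 0, 2, 0, 1, 0, 1])) (.node (.leaf [0, 1, 1, 1, 1, 1, 1, 1, 2, 1, 2, 0, 1, 2]) (.leaf [0, 2, 0, 2, 0, 0, 2, 0, 0, 0, 0, 0, 1])))) (.node (.node (.node (.node (.leaf []) (.leaf [0, 0, 1, 1, 1, 1, 0, 0, 1, 2, 2, 2, 1, 1])) (.leaf [2, 0, 2, 1, 0, 2, 0, 0, 0, 0, 0, 2])) (.node (.leaf [0, 0, 0, 2, 0, 2, 1, 0, 2, 2, 2, 2, 2]) (.leaf [2, 0, 0, 0, 1, 1, 0, 0, 2, 0, 2, 1, 0, 1]))) (.node (.node (.leaf []) (.leaf [0, 1, 2, 0, 2, 0, 1, 2, 2, 2, 1, 2, 2])) (.node (.leaf [0, 2, 0, 0,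 0, 2, 0, 1]) (.leaf [1]))))) (.node (.node (.node (.node (.node (.leaf [0, 2, 0, 2, 0, 0, 0, 0, 1]) (.leaf [2, 0, 0, 2, 0, 0, 2, 2, 2, 2, 1, 2, 1])) (.leaf [0, 2, 0, 2, 0, 0, 0, 0, 1])) (.node (.leaf [0, 0, 0, 1, 1, 0, 2, 2, 2, 2, 0, 1, 2, 1]) (.leaf [0, 0, 0, 0, 2, 0, 2, 2, 1, 1, 1, 2, 0, 1]))) (.node (.node (.leaf []) (.leaf [1])) (.node (.leaf [1, 0, 0, 0, 0, 0, 0, 0, 0, 2, 0, 1]) (.leaf [2, 2, 0, 0, 0, 0, 2, 1, 0, 0, 2, 1, 2, 1])))) (.node (.node (.node (.leaf [2, 1, 1, 2, 1, 2, 0, 0, 0, 1, 1, 2]) (.leaf [0, 1, 2, 0, 2, 1, 1, 2, 2, 0, 2, 1, 1])) (.node (.leaf [0, 1, 0, 1, 2, 0, 0, 2, 1, 1, 1, 2, 2, 1]) (.leaf [1, 0, 0, 2, 0, 0, 1, 2, 2, 1, 2, 2, 2, 1]))) (.node (.node (.leaf []) (.leaf [0, 1, 2, 1, 2, 1, 2, 0, 0, 1, 2, 0, 0, 2])) (.node (.leaf [1, 2, 0, 1, 1, 0, 2, 0, 2, 1, 0, 0, 0, 2]) (.leaf [1, 1, 1, 1, 0, 0, 0, 1, 1, 1, 1, 2, 2, 1])))))) (.node (.node (.node (.node (.node (.node (.leaf [])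 (.leaf [1, 0, 2, 0, 0, 2, 2, 1, 0, 1, 2])) (.leaf [2, 0, 2, 1, 1, 0, 1, 0, 1, 1, 1, 2, 2, 1])) (.node (.leaf [0, 1, 0, 0, 0, 1, 2, 0, 2, 1, 1, 1, 1]) (.leaf [0, 2, 1, 0, 2, 1, 1, 1, 2, 0, 1, 0, 2, 1]))) (.node (.node (.leaf [2, 2, 0, 2, 0, 0, 0, 0, 1]) (.leaf [1, 0, 0, 1, 1, 1, 1, 0, 2, 2])) (.node (.leaf []) (.leaf [0, 0, 2, 0, 0, 1])))) (.node (.node (.node (.leaf []) (.leaf [1])) (.node (.leaf [1]) (.leaf [0, 2, 2, 1, 2, 2, 0, 1, 2, 2, 2, 2, 1, 2]))) (.node (.node (.leaf [0, 0, 2, 1, 2, 1, 1, 0, 0, 2, 1, 1, 1]) (.leaf [])) (.node (.leaf [0, 0, 1, 0, 2, 2, 1, 1, 1, 1, 0, 0, 0, 1]) (.leaf [1, 2, 1, 1, 1, 0, 2, 2, 2, 2, 0, 1]))))) (.node (.node (.node (.node (.node (.leaf []) (.leaf [1, 1, 0, 1, 0, 0, 0, 0, 2])) (.leaf [1, 1, 2, 2, 2, 1, 2, 1, 1, 0, 0, 2, 0, 2])) (.node (.leaf [1, 0, 0, 0, 0, 1, 1, 0, 2, 0, 1, 2, 1]) (.leaf [1, 2, 2, 1, 1, 2, 2, 1, 2, 2, 0, 0, 2, 2]))) (.node (.node (.leaf [1, 1,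 0, 0, 2]) (.leaf [2, 1, 0, 1, 1, 0, 0, 0, 1, 0, 2, 0, 2])) (.node (.leaf [2, 1, 0, 1, 0, 0, 0, 0, 2]) (.leaf [2, 0, 0, 1, 2, 0, 2, 0, 1, 0, 1])))) (.node (.node (.node (.leaf []) (.leaf [2, 2, 2, 1, 1, 0, 1, 0, 2, 2, 0, 0, 2, 2])) (.node (.leaf [1, 1, 0, 2, 0, 0, 1, 0, 1]) (.leaf [1, 1, 2, 2, 1, 1, 2, 1, 2, 1, 0, 1]))) (.node (.node (.leaf [0, 2, 2, 0, 0, 1, 1]) (.leaf [2, 0, 2, 0, 0, 1])) (.node (.leaf [1, 1, 2, 2, 1, 2, 2, 1, 1, 2, 2, 1, 0, 1]) (.leaf [2, 1, 2, 1, 1, 1, 1, 0, 2, 2, 0, 0, 0, 1])))))))) (.node (.node (.node (.node (.node (.node (.node (.node (.leaf []) (.leaf [2, 0, 1, 0, 1, 1, 2, 1, 2, 1, 0, 1])) (.leaf [2, 1, 0, 1, 1, 0, 0, 2, 1, 2, 2, 2, 1])) (.node (.leaf [0, 1, 0, 1, 2, 0, 1, 2, 2, 0, 0, 1, 2]) (.leaf []))) (.node (.node (.leaf [0, 2, 2, 2, 1, 2, 0, 1, 0, 2, 0, 0, 2, 1]) (.leaf [0, 2, 0, 1, 2, 1, 0, 0, 0, 0, 2])) (.node (.leaf []) (.leaf [2, 2, 0, 0, 1, 0, 0, 2, 0, 1, 1, 2,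 1, 1])))) (.node (.node (.node (.node (.leaf []) (.leaf [0, 1, 0, 1, 0, 1, 2, 1, 2, 0, 1, 1, 2, 1])) (.leaf [0, 1, 1, 0, 1, 1, 1, 1, 0, 2, 0, 2, 0, 2])) (.node (.leaf [0, 1, 2, 2, 2, 0, 1, 2, 2, 0, 0, 1, 0, 1]) (.leaf [0, 2, 0, 2, 1, 2, 1, 0, 1, 1]))) (.node (.node (.leaf []) (.leaf [2, 2, 0, 1, 1, 0, 1, 0, 2, 2, 0, 1])) (.node (.leaf [0, 2, 1, 2, 2, 0, 1, 0, 2, 2, 2, 2, 1, 1]) (.leaf [2, 2, 2, 2, 1, 1, 1, 2, 2, 1, 1, 0, 2, 2]))))) (.node (.node (.node (.node (.node (.leaf []) (.leaf [0, 0, 1, 2, 1, 1, 0, 2, 2, 2, 0, 2, 0, 1])) (.leaf [2, 1, 0, 1, 1, 2, 1, 0, 0, 1, 0, 1])) (.node (.leaf [1, 0, 0, 2, 2, 1, 1, 0, 1, 0, 0, 2]) (.leaf [1, 0, 1, 0, 2, 2, 2, 0, 0, 0, 1, 0, 2]))) (.node (.node (.leaf [1]) (.leaf [1, 1, 1, 0, 1, 2, 1])) (.node (.leaf []) (.leaf [0, 2, 1, 2, 0, 1, 0, 1, 1, 2, 2, 0, 1, 1])))) (.node (.node (.node (.leaf [1, 0, 2, 0, 0, 0, 2, 1]) (.leaf [0, 1, 0, 0, 2, 2, 2, 1])) (.node (.leaf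 [0, 1, 2, 2, 2, 0, 0, 1, 2, 2, 1, 1, 0, 2]) (.leaf [2, 0, 2, 0, 1, 0, 0, 1, 2, 2, 2, 2, 0, 1]))) (.node (.node (.leaf []) (.leaf [0, 1, 0, 2, 2, 0, 2, 0, 1, 1, 0, 2])) (.node (.leaf [0, 2, 2, 1, 0, 1, 0, 1, 1, 0, 1, 0, 2, 1]) (.leaf [1, 2, 0, 1, 0, 0, 0, 0, 1, 0, 2, 0, 2])))))) (.node (.node (.node (.node (.node (.node (.leaf []) (.leaf [2, 0, 2, 2, 0, 2, 2, 0, 1, 1, 0, 0, 1, 1])) (.leaf [2, 0, 2, 1, 0, 2, 2, 2, 2, 1, 0, 2])) (.node (.leaf [0, 1, 2, 1, 2, 2, 1, 1, 0, 2, 0, 0, 0, 1]) (.leaf [1]))) (.node (.node (.leaf []) (.leaf [2, 1, 2, 2, 0, 1, 0, 2, 1, 2, 2, 2])) (.node (.leaf []) (.leaf [2, 0, 0, 2, 0, 0, 1, 1, 1, 1, 0, 0, 1, 1])))) (.node (.node (.node (.leaf [1, 2, 1, 2, 0, 0, 0, 0, 0, 0, 1, 1, 1, 1]) (.leaf [1, 2, 0, 1, 1, 0, 1, 0, 2])) (.node (.leaf [1]) (.leaf [0, 0, 2, 1, 1, 2, 0, 2, 1, 2, 2, 0, 1, 1]))) (.node (.node (.leaf [1, 1, 2, 0, 0, 1, 1, 2, 0, 1, 1, 1, 1, 2]) (.leaf [0, 0, 2, 0,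 0, 1])) (.node (.leaf [2, 2, 0, 0, 1]) (.leaf [2, 0, 1, 1, 2, 1, 1, 2, 0, 1, 2, 1, 2, 2]))))) (.node (.node (.node (.node (.node (.leaf [0, 0, 2, 0, 0, 1]) (.leaf [1])) (.leaf [2, 0, 0, 1, 0, 0, 1, 0, 2])) (.node (.leaf [0, 1, 2, 1, 2, 2, 1, 2, 1, 2, 2, 2]) (.leaf [0, 0, 2, 2, 0, 0, 0, 0, 0, 0, 0, 1]))) (.node (.node (.leaf []) (.leaf [2, 1, 0, 0, 2, 1, 1, 0, 1, 0, 2, 2, 1])) (.node (.leaf [1, 1, 2, 1, 2, 0, 2, 0, 2, 0, 1, 2, 1, 2]) (.leaf [2, 0, 2, 0, 0, 1, 1, 1, 0, 1, 2, 1, 2])))) (.node (.node (.node (.leaf []) (.leaf [2, 2, 2, 0, 1, 2, 1, 2])) (.node (.leaf [1, 2, 1, 0, 0, 1, 1, 0, 1, 2, 0, 2, 1]) (.leaf [2, 1, 1, 0, 2, 1, 2, 1]))) (.node (.node (.leaf [2, 0, 0, 1, 0, 0, 1, 0, 2, 2, 0, 1]) (.leaf [1, 2, 0, 1, 2, 2, 1, 2, 2, 2, 1, 2, 2, 1])) (.node (.leaf [1]) (.leaf [0, 2, 2, 2, 1, 1, 1, 2, 2, 0, 0, 2, 1, 2]))))))) (.node (.node (.node (.node (.node (.node (.node (.leaf []) (.leaf [1, 0, 1, 2,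 0, 0, 1, 1, 2, 2, 1, 2])) (.leaf [1, 2, 1, 0, 0, 1, 2, 2, 0, 2, 2, 0, 0, 1])) (.node (.leaf [1]) (.leaf [2, 1, 0, 1, 0, 0, 2, 1, 0, 2, 1, 0, 2]))) (.node (.node (.leaf []) (.leaf [1, 0, 0, 0, 2, 2, 2, 0, 2, 0, 0, 1])) (.node (.leaf []) (.leaf [1, 2, 1, 1, 1, 0, 1, 2, 2, 0, 2, 2, 1, 1])))) (.node (.node (.node (.leaf []) (.leaf [1, 2, 1, 0, 0, 0, 2, 0, 0, 0, 1, 1, 0, 1])) (.node (.leaf []) (.leaf [2, 1, 1, 0, 2, 1, 1, 2, 2, 1, 0, 1]))) (.node (.node (.leaf []) (.leaf [0, 0, 1, 2, 1, 1, 2, 2, 0, 1, 1, 0, 1, 1])) (.node (.leaf [2, 0, 1, 1, 0, 1, 2, 2, 2, 0, 2, 2, 2]) (.leaf [0, 2, 2, 1, 2, 2, 1, 2, 2, 0, 0, 0, 1, 2]))))) (.node (.node (.node (.node (.node (.leaf []) (.leaf [2, 2, 2, 1, 0, 0, 0, 0, 2, 2, 0, 1])) (.leaf [1, 1, 2, 0, 2, 2, 1, 1, 1, 1, 2, 1, 0, 1])) (.node (.leaf [1, 2, 0, 2, 2, 0, 1, 1, 2, 2, 2, 0, 1]) (.leaf [0, 2, 0, 2, 2, 1, 2, 0, 0, 2, 0, 2]))) (.node (.node (.leaf [0, 1, 1, 0, 2,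 0, 2, 1, 2, 1, 2, 0, 1]) (.leaf [0, 0, 1, 2, 0, 0, 2, 1, 1, 0, 0, 0, 2, 1])) (.node (.leaf [2, 0, 2, 2, 1, 2, 0, 0, 2, 2, 2, 1, 1, 2]) (.leaf [1, 0, 2, 1, 0, 1, 1, 1, 2, 0, 2, 0, 2, 2])))) (.node (.node (.node (.leaf [0, 1, 2, 0, 0, 0, 1, 2, 2, 2, 2, 2, 2, 2]) (.leaf [0, 0, 1, 0, 0, 1, 1, 0, 2, 0, 0, 1])) (.node (.leaf [2, 1, 2, 2, 1, 0, 2, 2, 0, 0, 2, 1, 0, 1]) (.leaf [2, 2, 1, 2, 1, 0, 1, 0, 2, 2]))) (.node (.node (.leaf []) (.leaf [1, 1, 1, 0, 1, 1, 0, 0, 0, 0, 2, 2, 0, 2])) (.node (.leaf [1]) (.leaf [0, 1, 1, 1, 1, 1, 2, 1, 2])))))) (.node (.node (.node (.node (.node (.node (.leaf []) (.leaf [2, 1, 1, 2, 1, 1, 0, 2, 2, 1, 2, 1, 0, 1])) (.leaf [2, 0, 1, 0, 0, 0, 2, 1, 0, 2, 0, 0, 2, 2])) (.node (.leaf []) (.leaf [2, 0, 0, 0, 0, 1, 0, 2, 2, 0, 0, 0, 1]))) (.node (.node (.leaf []) (.leaf [2, 1, 1, 1, 2, 0, 1, 0, 2, 1, 2, 1, 2])) (.node (.leaf [1]) (.leaf [1, 2, 2, 0, 0, 1, 1])))) (.node (.node (.node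 (.leaf []) (.leaf [2, 2, 0, 0, 1])) (.node (.leaf [1, 2, 2, 1, 2, 1, 2, 1, 1, 2]) (.leaf [0, 0, 0, 2, 1, 0, 0, 0, 2, 0, 1, 0, 1]))) (.node (.node (.leaf [2, 1, 0, 2, 1, 0, 0, 0, 1]) (.leaf [1, 0, 2, 0, 0, 2, 1, 2])) (.node (.leaf []) (.leaf [1, 1, 1, 0, 1, 1, 2, 2, 0, 1, 1, 1]))))) (.node (.node (.node (.node (.node (.leaf []) (.leaf [0, 0, 1, 0, 1, 0, 0, 1, 1, 0, 2, 1, 0, 1])) (.leaf [0, 2, 0, 2, 1, 0, 1, 1, 0, 0, 2, 0, 1, 1])) (.node (.leaf [0, 2, 1, 2, 1, 1, 2, 2, 2, 2]) (.leaf [1]))) (.node (.node (.leaf [2, 0, 2, 2, 1, 2, 1, 2, 1, 1, 1, 0, 2, 2]) (.leaf [2, 0, 0, 1, 1, 2, 2, 0, 2, 0, 0, 1])) (.node (.leaf []) (.leaf [1, 1, 1, 0, 2, 1, 1, 2, 2, 1, 1, 0, 1, 1])))) (.node (.node (.node (.leaf [2, 0, 2, 0, 0, 1]) (.leaf [2, 2, 1, 2, 1, 0, 2, 1, 2, 0, 2, 0, 2, 1])) (.node (.leaf []) (.leaf [0, 2, 2, 0, 2, 2, 0, 0, 0, 1, 2, 2, 2, 2]))) (.node (.node (.leaf [0, 0, 2, 0, 0, 2, 1, 2]) (.leaf [2, 2, 2,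 2, 0, 1, 0, 0, 1])) (.node (.leaf []) (.leaf [2, 0, 1, 0, 2, 0, 0, 2, 2, 2, 2, 1, 1, 2]))))))))) (.node (.node (.node (.node (.node (.node (.node (.node (.node (.leaf []) (.leaf [0, 1, 2, 1, 2, 1, 1, 0, 1, 1, 1, 2])) (.leaf [1, 1, 0, 1, 0, 0, 1, 1, 1, 0, 0, 1, 2, 1])) (.node (.leaf [2, 1, 1, 1, 0, 1, 1, 1, 0, 0, 0, 0, 1, 1]) (.leaf [0, 1, 0, 0, 1, 0, 1]))) (.node (.node (.leaf [1, 1, 0, 2, 1, 0, 0, 0, 1]) (.leaf [2, 2, 2, 2, 1, 1, 2, 1, 1, 1, 0, 1, 1])) (.node (.leaf [0, 1, 2, 0, 0, 2, 0, 2]) (.leaf [1, 1, 2, 2, 1, 2, 2, 0, 2, 2])))) (.node (.node (.node (.node (.leaf []) (.leaf [1, 0, 2, 1, 0, 0, 0, 2, 0, 1, 1, 1, 2])) (.leaf [1])) (.node (.leaf [1, 0, 1, 1, 0, 0, 1, 1, 1, 2, 0, 2]) (.leaf [0, 1, 1, 1, 0, 2, 0, 2, 1, 2, 1, 2, 2]))) (.node (.node (.leaf [2, 2, 1, 0, 0, 2, 2, 0, 0, 1, 1, 2, 2]) (.leaf [2, 2, 0, 2, 1, 1, 0, 2, 1, 2, 0, 1])) (.node (.leaf []) (.leaf [1]))))) (.node (.node (.node (.node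 (.node (.leaf []) (.leaf [0, 0, 2, 0, 1, 0, 1, 2, 2, 2, 0, 0, 1, 1])) (.leaf [2, 0, 1, 2, 0, 2, 0, 2, 2, 0, 0, 1, 1])) (.node (.leaf [1, 2, 2, 2, 1, 0, 0, 1, 1, 2, 1, 2, 2, 2]) (.leaf [2, 0, 2, 0, 0, 1]))) (.node (.node (.leaf []) (.leaf [1])) (.node (.leaf []) (.leaf [0, 1, 2, 2, 0, 1, 2, 2, 0, 2, 0, 1, 1, 2])))) (.node (.node (.node (.leaf [1, 1, 1, 0, 0, 0, 0, 2, 2, 1, 0, 0, 1, 2]) (.leaf [2, 0, 1, 1, 0, 1, 0, 2, 2, 1, 0, 1])) (.node (.leaf [2, 2, 0, 2, 0, 0, 0, 0, 0, 0, 1]) (.leaf [1, 2, 2, 1, 2, 0, 1, 2, 0, 1, 1, 1, 0, 2]))) (.node (.node (.leaf []) (.leaf [0, 2, 2, 0, 2, 1, 2, 0, 2, 1, 0, 0, 1, 2])) (.node (.leaf [1, 2, 2, 1, 1, 2, 1, 0, 2, 1, 0, 0, 1, 1]) (.leaf [1, 2, 2, 2, 2, 1, 0, 0, 0, 0, 2, 1, 2, 2])))))) (.node (.node (.node (.node (.node (.node (.leaf [2, 1, 0, 2, 2, 0, 2, 0, 1]) (.leaf [1, 1, 2, 1, 0, 1, 1, 0, 2, 0, 1, 0, 2])) (.leaf [1, 0, 0, 0, 0, 1, 1, 2, 2, 2, 2, 0, 1, 2])) (.node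 (.leaf [0, 0, 0, 1, 1, 0, 1, 0, 0, 0, 0, 0, 2]) (.leaf [0, 2, 0, 1, 2, 1, 2, 1, 2, 1, 0, 1]))) (.node (.node (.leaf []) (.leaf [1, 0, 2, 0, 0, 0, 0, 0, 0, 1, 2, 2, 0, 1])) (.node (.leaf [2, 1, 1, 1, 1, 0, 1, 1, 2, 1, 2, 2, 0, 1]) (.leaf [2, 1, 2, 0, 1, 0, 2, 2, 2, 1, 2, 2, 0, 2])))) (.node (.node (.node (.leaf [2, 2, 0, 1, 1, 1, 1, 1, 0, 1, 1]) (.leaf [2, 0, 1, 0, 0, 2])) (.node (.leaf [0, 2, 1, 2, 0, 2, 0, 0, 0, 0, 1]) (.leaf [1, 2, 1, 2, 1, 1, 1, 2, 0, 0, 2, 1, 0, 1]))) (.node (.node (.leaf []) (.leaf [2, 0, 2, 1, 2, 2, 1, 0, 0, 2, 2, 1, 1, 2])) (.node (.leaf [0, 2, 1, 1, 1, 0, 1, 0, 1, 2, 2, 1, 0, 2]) (.leaf [1]))))) (.node (.node (.node (.node (.node (.leaf []) (.leaf [1, 2, 0, 1, 0, 0, 0, 0, 1, 0, 2, 0, 2])) (.leaf [0, 0, 1, 2, 0, 2, 2, 2, 1, 1])) (.node (.leaf [0, 2, 1, 2, 0, 2, 0, 0, 1]) (.leaf [1, 2, 0, 0, 2, 0, 2, 0, 0, 2, 0, 1]))) (.node (.node (.leaf []) (.leaf [2, 0, 0, 2, 1, 0, 1, 2,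 1, 1])) (.node (.leaf [0, 0, 1, 2, 1, 2, 2, 0, 1, 1, 0, 0, 0, 2]) (.leaf [0, 2, 1, 0, 0, 2, 1, 0, 2, 0, 0, 1])))) (.node (.node (.node (.leaf []) (.leaf [0, 0, 1, 0, 2, 2, 1])) (.node (.leaf [2, 0, 2, 0, 0, 1, 0, 0, 0, 1, 0, 2]) (.leaf [1, 1, 2, 2, 0, 0, 1, 1, 0, 0, 0, 0, 1]))) (.node (.node (.leaf [1, 1, 0, 1, 0, 0, 0, 0, 2]) (.leaf [2, 0, 1, 0, 1, 1, 1, 0, 1, 0, 1, 2, 0, 2])) (.node (.leaf []) (.leaf [1]))))))) (.node (.node (.node (.node (.node (.node (.node (.leaf []) (.leaf [0, 2, 0, 0, 1])) (.leaf [2, 1, 1, 2, 0, 0, 1, 1, 0, 0, 1, 0, 1, 2])) (.node (.leaf [2, 0, 0, 1, 1, 2, 1, 1, 2, 1, 2, 2, 1]) (.leaf [1, 0, 0, 0, 1, 2, 0, 2, 1, 2, 0, 1, 0, 2]))) (.node (.node (.leaf []) (.leaf [2, 2, 2, 1, 0, 1, 0, 0, 1, 0, 1, 1, 0, 2])) (.node (.leaf []) (.leaf [1, 2, 0, 2, 2, 0, 0, 0, 2, 0, 1, 0, 1])))) (.node (.node (.node (.node (.leaf [1]) (.leaf [0, 0, 0, 2, 0, 1, 2, 1, 1, 2, 2, 2, 0, 1])) (.leaf [1,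 2, 0, 1, 1, 0, 1, 0, 2])) (.node (.leaf [2, 0, 1, 2, 2, 0, 0, 1, 0, 1, 1, 2, 2, 1]) (.leaf [0, 0, 0, 2, 0, 1, 2, 0, 2, 2, 1, 0, 2]))) (.node (.node (.leaf [0, 2, 2, 0, 0, 1, 0, 2, 1, 2, 2, 2, 0, 2]) (.leaf [2, 0, 1, 2, 2, 2, 2, 2, 2, 2, 2, 1])) (.node (.leaf [2, 1, 1, 1, 2, 0, 0, 1, 2, 1, 2, 2, 0, 1]) (.leaf [1, 0, 0, 2, 1, 1, 2, 1, 0, 2, 2, 2, 2, 2]))))) (.node (.node (.node (.node (.node (.leaf []) (.leaf [1])) (.leaf [1, 1, 0, 1, 2, 1, 1, 0, 0, 0, 1, 0, 0, 1])) (.node (.leaf []) (.leaf [0, 0, 1, 2, 0, 0, 1, 2, 1, 0, 2, 0, 2, 2]))) (.node (.node (.leaf [1, 1, 2, 1, 0, 2, 2, 0, 0, 0, 1, 1, 2, 1]) (.leaf [2, 2, 2, 1, 0, 1, 1, 2, 1, 0, 2, 2, 1, 2])) (.node (.leaf [1]) (.leaf [2, 1, 2, 1, 0, 0, 0, 1, 2, 0, 1, 0, 2])))) (.node (.node (.node (.leaf []) (.leaf [0, 0, 1, 2, 1, 2, 2, 0, 2, 1, 0, 2, 0, 2])) (.node (.leaf [1, 2, 2, 0, 2, 0, 1, 1, 2, 0, 0, 1, 1, 2]) (.leaf [1, 1, 2, 1, 0, 2, 0, 0, 0, 0, 2,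 1, 1, 1]))) (.node (.node (.leaf [2, 0, 0, 2, 1, 0, 1, 0, 2, 0, 2]) (.leaf [1, 1, 2, 1, 0, 1, 0, 0, 2])) (.node (.leaf [1, 2, 2, 0, 1, 1, 0, 1, 1, 0, 0, 1, 0, 1]) (.leaf [0, 2, 2, 2, 1, 1, 0, 0, 1, 0, 2, 2, 1, 1])))))) (.node (.node (.node (.node (.node (.node (.leaf []) (.leaf [1, 2, 1, 1, 0, 1, 0, 0, 0, 1, 1, 0, 2, 1])) (.leaf [0, 0, 2, 2, 2, 1, 1, 1, 2, 0, 0, 2, 2, 1])) (.node (.leaf [0, 2, 0, 0, 1]) (.leaf [1, 1, 0, 1, 0, 0, 1, 0, 1, 1, 2, 0, 2, 2]))) (.node (.node (.leaf []) (.leaf [2, 1, 2, 0, 1, 1, 1])) (.node (.leaf []) (.leaf [2, 0, 1, 1, 2, 1, 2, 0, 0, 2, 0, 2, 1])))) (.node (.node (.node (.leaf []) (.leaf [1, 0, 0, 0, 1, 0, 1, 0, 2, 1, 2, 0, 2, 2])) (.node (.leaf [1, 2, 0, 1, 1, 0, 1, 0, 2]) (.leaf [2, 2, 1, 0, 1, 1, 2, 0, 0, 0, 2, 2, 0, 2]))) (.node (.node (.leaf []) (.leaf [])) (.node (.leaf []) (.leaf [1]))))) (.node (.node (.node (.node (.node (.leaf []) (.leaf [0, 0, 0, 2, 0, 1, 1,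 2, 0, 0, 1])) (.leaf [2, 0, 0, 0, 0, 2, 2, 2, 2, 0, 2, 1, 0, 1])) (.node (.leaf [1, 0, 2, 1, 1, 0, 2, 0, 2, 1, 2, 1, 0, 2]) (.leaf [0, 1, 0, 0, 0, 0, 2, 0, 1, 0, 0, 2]))) (.node (.node (.leaf []) (.leaf [1, 1, 1, 0, 1, 2, 2, 2, 2, 0, 1, 2, 2, 2])) (.node (.leaf []) (.leaf [1, 0, 0, 1, 1, 0, 1, 2, 1, 2, 1, 0, 2, 2])))) (.node (.node (.node (.leaf [1, 2, 0, 0, 2, 1, 2, 2, 1, 2, 0, 2, 2, 2]) (.leaf [1, 0, 2, 2, 1, 1, 2, 0, 2, 1, 0, 2, 2])) (.node (.leaf [1, 1, 0, 0, 1, 0, 1]) (.leaf [0, 1, 0, 2, 0, 2, 0, 2, 2, 1, 0, 0, 0, 1]))) (.node (.node (.leaf [1, 0, 0, 2, 1, 2, 1, 0, 2, 0, 2, 2, 2, 2]) (.leaf [2, 0, 2, 2, 1, 1, 1, 0, 1])) (.node (.leaf [1, 0, 1, 0, 0, 2]) (.leaf [1, 0, 0, 1, 0, 1, 2, 1, 1, 1, 0, 1, 0, 2])))))))) (.node (.node (.node (.node (.node (.node (.node (.node (.leaf []) (.leaf [1, 2, 0, 1, 0, 0, 0, 0, 1, 0, 2, 0, 2])) (.leaf [2, 0, 1, 1, 2, 2, 2, 0, 2])) (.node (.leaf [2, 2, 2, 0, 2, 1,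 2, 2, 1, 0, 0, 0, 0, 2]) (.leaf [1, 1, 1, 0, 0, 2, 2]))) (.node (.node (.leaf []) (.leaf [2, 0, 1, 1, 2, 2, 1, 0, 1, 2, 1, 0, 0, 1])) (.node (.leaf []) (.leaf [1, 2, 0, 1, 1, 2, 0, 1, 1, 1, 0, 0, 1, 2])))) (.node (.node (.node (.node (.leaf [1, 0, 0, 2, 0, 0, 2, 0, 1]) (.leaf [1, 1, 2, 0, 1, 0, 0, 2])) (.leaf [0, 0, 0, 1, 0, 1, 0, 0, 0, 0, 0, 2])) (.node (.leaf [2, 0, 0, 1, 2, 1, 1, 0, 2, 2, 0, 1, 1, 2]) (.leaf [0, 1, 1, 0, 2, 2, 0, 2, 1, 2, 1, 0, 0, 2]))) (.node (.node (.leaf [1, 1, 0, 0, 0, 2, 1, 2, 1, 2, 0, 2, 2, 2]) (.leaf [])) (.node (.leaf [1, 0, 1, 0, 0, 1, 2, 1]) (.leaf [0, 0, 2, 0, 2, 0, 0, 1]))))) (.node (.node (.node (.node (.node (.leaf []) (.leaf [2, 1, 1, 0, 0, 0, 1, 2, 1, 1, 0, 1, 1, 2])) (.leaf [2, 1, 1, 2, 2, 1, 2, 1, 1, 0, 1, 0, 1, 1])) (.node (.leaf []) (.leaf []))) (.node (.node (.leaf []) (.leaf [0, 1, 1, 2, 1, 2, 2, 2, 2, 1, 2, 1, 2, 2])) (.node (.leaf [2, 2, 0, 2, 0, 0, 0,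 0, 1]) (.leaf [1, 0, 0, 0, 2, 1, 0, 2, 0, 1, 2, 1, 1, 1])))) (.node (.node (.node (.leaf []) (.leaf [0, 1, 0, 0, 2, 2, 2, 1])) (.node (.leaf [1, 1, 0, 2, 0, 1, 1, 1, 2, 0, 0, 0, 1, 1]) (.leaf [0, 1, 0, 2, 0, 0, 1, 2, 2, 1, 0, 2, 0, 1]))) (.node (.node (.leaf [2, 2, 0, 1, 1, 1, 2, 1, 1, 0, 0, 2, 0, 2]) (.leaf [2, 0, 0, 1, 2, 0, 2, 0, 2])) (.node (.leaf []) (.leaf [1, 0, 2, 0, 0, 2, 2, 1, 1, 2, 0, 2])))))) (.node (.node (.node (.node (.node (.node (.leaf []) (.leaf [2, 1, 0, 1, 0, 0, 1, 0, 2, 0, 1, 0, 2])) (.leaf [0, 0, 0, 0, 0, 0, 0, 0, 0, 1, 0, 2])) (.node (.leaf [1, 1, 2, 2, 2, 1, 2, 1, 0, 2]) (.leaf [0, 0, 2, 0, 1, 0, 0, 0, 0, 1, 1, 1, 1, 2]))) (.node (.node (.leaf []) (.leaf [2, 0, 1, 0, 0, 2])) (.node (.leaf []) (.leaf [0, 0, 1, 1, 1, 1, 0, 0, 0, 2, 0, 2, 1])))) (.node (.node (.node (.leaf []) (.leaf [2, 0, 0, 1, 0, 0, 1, 0, 2])) (.node (.leaf [1, 2, 0, 0, 1, 2, 2, 0, 2, 0, 1, 2, 2, 2]) (.leaf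 [0, 1, 0, 2, 2, 1, 1, 1, 1, 0, 0, 2, 0, 1]))) (.node (.node (.leaf [2, 0, 2, 0, 0, 1]) (.leaf [1])) (.node (.leaf [2, 0, 2, 1, 2, 0, 0, 0, 0, 2, 1, 2]) (.leaf []))))) (.node (.node (.node (.node (.node (.leaf []) (.leaf [0, 0, 0, 2, 2, 0, 2, 0, 2, 0, 1, 0, 1])) (.leaf [1, 0, 0, 2, 0, 2, 0, 0, 0, 0, 0, 1])) (.node (.leaf [1, 2, 1, 1, 0, 2, 2, 1, 0, 1, 1, 2, 2, 2]) (.leaf [1]))) (.node (.node (.leaf []) (.leaf [1, 2, 1, 1, 2, 0, 0, 0, 0, 0, 1, 2, 2])) (.node (.leaf [1]) (.leaf [1, 0, 1, 1, 0, 0, 0, 1, 2, 2, 1, 1, 2, 1])))) (.node (.node (.node (.leaf [2, 2, 0, 0, 1]) (.leaf [2, 2, 2, 0, 1, 2, 1, 2])) (.node (.leaf []) (.leaf [0, 1, 0, 2, 0, 2, 1, 1, 0, 2, 0, 0, 0, 1]))) (.node (.node (.leaf []) (.leaf [2, 0, 1, 2, 0, 1, 0, 0, 1, 0, 2, 1])) (.node (.leaf [1, 0, 0, 0, 2, 2, 2, 2, 0, 2]) (.leaf [1, 0, 2, 1, 2, 1, 1, 1, 1, 0, 0, 2, 2]))))))) (.node (.node (.node (.node (.node (.node (.node (.leaf []) (.leaf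 [2, 0, 0, 2, 1, 0, 2, 2, 2, 1, 1, 2, 2, 2])) (.leaf [1])) (.node (.leaf [1, 1, 2, 1, 1, 0, 0, 2, 0, 2, 1, 2, 2, 1]) (.leaf [0, 2, 1, 0, 0, 0, 1, 2]))) (.node (.node (.leaf [0, 0, 2, 0, 0, 1]) (.leaf [2, 1, 0, 2, 1, 1, 0, 2, 1, 1, 2, 2, 2, 2])) (.node (.leaf [2, 2, 1, 0, 0, 1, 0, 1]) (.leaf [2, 0, 0, 1, 0, 2, 1, 0, 0, 1, 0, 2, 1, 1])))) (.node (.node (.node (.leaf []) (.leaf [1, 2, 0, 2, 2, 0, 0, 2, 0, 0, 2, 2, 1, 2])) (.node (.leaf [1, 1, 1, 2, 0, 2, 2, 2, 2, 1, 2, 2, 2, 1]) (.leaf [1]))) (.node (.node (.leaf []) (.leaf [])) (.node (.leaf [0, 2, 1, 0, 1, 2, 0, 1, 0, 0, 1, 1, 0, 1]) (.leaf []))))) (.node (.node (.node (.node (.node (.leaf [1, 1, 0, 0, 2]) (.leaf [2, 0, 0, 1, 2, 0, 2, 0, 2])) (.leaf [2, 1, 0, 0, 0, 0, 2])) (.node (.leaf [0, 2, 2, 2, 2, 1, 2, 0, 0, 0, 2, 0, 2]) (.leaf [0, 2, 2, 2, 0, 0, 2, 1, 1, 2, 0, 2, 1, 1]))) (.node (.node (.leaf [1, 2, 2, 1, 0, 0, 2, 0, 1, 1, 0, 2, 0, 1]) (.leaf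 [2, 2, 2, 2, 0, 2, 1, 1, 0, 2, 0, 2, 2, 1])) (.node (.leaf []) (.leaf [1, 2, 2, 1, 1, 1, 0, 1, 1, 0, 2, 0, 2])))) (.node (.node (.node (.leaf []) (.leaf [1, 1, 1, 0, 0, 0, 0, 2, 2, 2, 1, 1])) (.node (.leaf [0, 1, 0, 0, 1, 0, 1]) (.leaf [2, 2, 1, 1, 1, 2, 1, 2, 2, 2, 2, 0, 0, 2]))) (.node (.node (.leaf []) (.leaf [2, 1, 0, 0, 1, 1, 0, 2, 0, 2, 2, 0, 1, 1])) (.node (.leaf [1, 1, 0, 1, 0, 0, 0, 0, 2]) (.leaf [1])))))) (.node (.node (.node (.node (.node (.node (.leaf []) (.leaf [2, 2, 2, 2, 0, 1, 2, 0, 0, 0, 0, 0, 1])) (.leaf [2, 0, 2, 1, 1, 1, 0, 2, 0, 2, 2, 2, 2])) (.node (.leaf []) (.leaf []))) (.node (.node (.leaf []) (.leaf [2, 0, 0, 1, 2, 1, 1, 0, 1, 1, 1, 2, 1, 2])) (.node (.leaf [1, 0, 1, 2, 1, 2, 0, 2, 1, 0, 1, 2, 1, 2]) (.leaf [0, 0, 2, 2, 0, 1, 0, 1, 2, 1, 1, 0, 0, 2])))) (.node (.node (.node (.leaf [1, 1, 0, 0, 2]) (.leaf [1, 0, 2, 1, 2, 2, 0, 1, 1, 1, 1, 0, 2])) (.node (.leaf [0, 1, 0, 0,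 1, 0, 1]) (.leaf [2, 1, 0, 2, 1, 0, 0, 0, 1]))) (.node (.node (.leaf [0, 2, 0, 1, 1, 2, 2, 1, 1, 0, 2, 1, 1, 1]) (.leaf [1, 2, 0, 1, 0, 0, 2, 1, 2, 1, 2, 2, 2, 2])) (.node (.leaf [0, 2, 1, 2, 1, 0, 1, 2, 0, 2, 0, 0, 1, 1]) (.leaf [1, 1, 2, 0, 0, 0, 2, 1]))))) (.node (.node (.node (.node (.node (.leaf [2, 2, 0, 2, 0, 0, 0, 0, 1]) (.leaf [1, 0, 0, 2, 2, 0, 2, 0, 2, 0, 1, 0, 1])) (.leaf [0, 1, 2, 1, 0, 1, 1, 2, 1, 1, 2, 0, 0, 2])) (.node (.leaf [2, 0, 0, 1, 0, 0, 2, 1, 2, 0, 0, 0, 1, 2]) (.leaf [0, 2, 0, 2, 0, 0, 0, 0, 0, 0, 1]))) (.node (.node (.leaf [1, 0, 2, 0, 0, 0, 2, 1]) (.leaf [])) (.node (.leaf []) (.leaf [2, 2, 2, 1, 1, 2, 0, 2, 0, 0, 2, 1, 0, 2])))) (.node (.node (.node (.leaf [1, 2, 0, 0, 0, 0, 2, 0, 2, 2, 2, 1, 2]) (.leaf [1, 1, 0, 2, 2, 1, 0, 1, 2, 2, 1, 2, 2, 1])) (.node (.leaf [2, 1, 0, 1, 0, 0, 0, 0, 0, 0, 2]) (.leaf [1, 2, 2, 0, 1, 0, 2, 1]))) (.node (.node (.leaf []) (.leaf [])) (.node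 (.leaf [2, 1, 0, 0, 2, 1, 1, 0, 0, 2, 0, 0, 1]) (.leaf [0, 2, 0, 1, 0, 2, 1, 1, 0, 2, 0, 2, 0, 2])))))))))))

def threeL1 : Janko.Tree (List ℤ) :=
  (.node (.node (.node (.node (.node (.node (.node (.node (.node (.node (.node (.leaf []) (.leaf [1, 2, 2, 0, 2, 2, 1, 0, 0, 0, 0, 2, 0, 2])) (.leaf [2, 1, 0, 0, 0, 2, 2, 2, 2, 0, 0, 0, 2, 2])) (.node (.leaf [0, 0, 2, 0, 2, 0, 0, 1]) (.leaf [0, 1]))) (.node (.node (.leaf [1, 1, 0, 1, 1, 2, 1, 2, 2, 0, 2, 0, 2, 2]) (.leaf [2, 1, 0, 1, 0, 1, 0, 2, 2, 2, 0, 0, 0, 1])) (.node (.leaf [0, 1, 2, 1, 1, 2, 1, 1, 0, 1]) (.leaf [1, 0, 1, 1, 0, 2, 2, 0, 2, 1, 1, 1, 2, 1])))) (.node (.node (.node (.node (.leaf []) (.leaf [2, 2, 0, 0, 0, 0, 2, 0, 1, 0, 2])) (.leaf [1, 0, 0, 1, 0, 2, 0, 2, 2, 2, 1, 1, 1, 2])) (.node (.leaf [0, 2, 0, 2, 0, 1, 2, 2, 2, 1, 2, 0, 0, 2]) (.leaf [1, 0, 0, 0, 0, 0, 1, 0, 2, 0, 1]))) (.node (.node (.leaf []) (.leaf [0, 0, 0, 0, 2, 0, 0, 0, 2,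 0, 0, 0, 1])) (.node (.leaf [0, 1]) (.leaf [0, 1]))))) (.node (.node (.node (.node (.node (.leaf []) (.leaf [2, 1, 2, 2, 0, 0, 0, 1, 0, 0, 0, 0, 1])) (.leaf [2, 2, 0, 0, 0, 0, 1, 1, 0, 2, 2, 1, 2, 2])) (.node (.leaf [2, 2, 2, 2, 1, 1, 2, 0, 2, 1, 1, 0, 1, 2]) (.leaf [0, 2, 0, 1, 2, 1, 1, 2, 1, 1, 2, 1, 2, 1]))) (.node (.node (.leaf []) (.leaf [0, 2, 1, 1, 0, 1, 1, 2, 2, 1, 1, 0, 1, 2])) (.node (.leaf []) (.leaf [0, 1])))) (.node (.node (.node (.leaf []) (.leaf [2, 1, 2, 1, 0, 0, 2, 1, 1, 2, 0, 2, 2, 1])) (.node (.leaf [0, 1, 1, 0, 1, 1, 1, 0, 1, 1, 1, 2, 0, 1]) (.leaf [2, 1, 0, 1, 1, 0, 1, 2, 0, 0, 1, 1, 1, 2]))) (.node (.node (.leaf []) (.leaf [])) (.node (.leaf [2, 1, 0, 2, 1, 0, 1, 1, 0, 0, 2, 1, 0, 1]) (.leaf [0, 0, 0, 2, 2, 2, 2, 0, 2, 0, 0, 2, 1, 2])))))) (.node (.node (.node (.node (.node (.node (.leaf []) (.leaf [2, 2, 0, 0, 0, 0, 2])) (.leaf [1, 1, 1, 1, 1, 0, 2, 0, 0, 0, 0, 0, 0, 2])) (.node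 (.leaf []) (.leaf [0, 0, 0, 1, 0, 1, 1, 1, 0, 2, 0, 0, 1, 2]))) (.node (.node (.leaf []) (.leaf [1, 0, 1, 0, 0, 2, 2, 2, 1, 2, 2, 0, 1, 1])) (.node (.leaf [0, 1, 1, 2, 0, 0, 2, 2, 1, 1, 0, 2]) (.leaf [0, 1, 0, 2, 1, 2, 1, 2, 1, 2, 0, 2])))) (.node (.node (.node (.leaf [2, 0, 0, 2, 1, 0, 0, 0, 0, 0, 1, 2, 0, 1]) (.leaf [0, 0, 0, 1, 2, 2, 2, 1, 0, 0, 2, 1, 0, 2])) (.node (.leaf [0, 1, 0, 0, 1, 0, 1, 2, 1, 2, 0, 2, 2, 2]) (.leaf [1, 1, 0, 0, 1, 1, 1, 2, 1, 2, 2, 0, 0, 1]))) (.node (.node (.leaf [1, 0, 1, 2, 0, 1, 1, 0, 1, 1, 1, 2, 1, 1]) (.leaf [0, 1, 0, 2, 2, 0, 0, 0, 0, 0, 1])) (.node (.leaf [1, 2, 0, 1, 0, 0, 0, 0, 0, 0, 2]) (.leaf [1, 2, 2, 0, 0, 1, 0, 1, 0, 2, 1, 1, 1, 1]))))) (.node (.node (.node (.node (.node (.leaf []) (.leaf [0, 1, 0, 2, 0, 0, 0, 0, 2, 0, 1, 0, 1])) (.leaf [1, 0, 0, 1, 2, 0, 0, 0, 2, 1, 0, 0, 0, 2])) (.node (.leaf [1, 1, 2, 0, 1, 0, 1, 2, 2, 0, 2, 1, 0, 1]) (.leaf [1, 0, 0,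 1, 2, 2, 0, 2, 0, 1, 1, 1, 0, 2]))) (.node (.node (.leaf []) (.leaf [2, 2, 1, 2, 0, 1, 1, 2, 1, 2, 2, 2, 1, 2])) (.node (.leaf []) (.leaf [2, 2, 0, 0, 2, 2, 0, 1, 0, 1, 0, 1, 1, 2])))) (.node (.node (.node (.leaf [0, 2, 1, 2, 1, 1, 1, 1, 1, 1, 2, 0, 1, 2]) (.leaf [0, 1])) (.node (.leaf [2, 1, 1, 0, 1, 0, 2, 2]) (.leaf [2, 0, 2, 2, 0, 2, 0, 2, 2, 2, 2, 0, 0, 1]))) (.node (.node (.leaf [1, 0, 1, 0, 1, 1, 1, 1, 2, 2, 2, 2, 2, 2]) (.leaf [1, 1, 0, 1, 0, 0, 0, 0, 0, 0, 2])) (.node (.leaf []) (.leaf [2, 1, 2, 0, 1, 0, 2, 1, 2, 0, 0, 2, 1, 1]))))))) (.node (.node (.node (.node (.node (.node (.node (.leaf []) (.leaf [0, 0, 2, 0, 1, 0, 2, 2, 1, 1, 1, 0, 2, 1])) (.leaf [])) (.node (.leaf [2, 1, 1, 1, 0, 2, 2, 0, 0, 0, 2, 2, 0, 1]) (.leaf [2, 0, 1, 0, 0, 0, 1, 2]))) (.node (.node (.leaf []) (.leaf [0, 2, 0, 2, 2, 2, 0, 1, 0, 0, 2, 1, 2, 2])) (.node (.leaf [1, 0, 0, 0, 0, 0, 1, 0, 2, 0, 1]) (.leaf [0, 1, 2,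 2, 1, 0, 2, 1, 0, 2, 2, 2, 2, 2])))) (.node (.node (.node (.node (.leaf [2, 1, 2, 0, 2, 0, 0, 1]) (.leaf [2, 0, 2, 0, 0, 1, 0, 1])) (.leaf [1, 1, 0, 0, 2, 0, 2, 0, 1, 2, 1, 1, 1])) (.node (.leaf [1, 1, 2, 0, 0, 1, 1, 0, 1, 1, 1, 1, 0, 2]) (.leaf [1, 2, 2, 1, 2, 1, 2, 0, 0, 2, 0, 2, 2, 2]))) (.node (.node (.leaf [1, 1, 2, 2, 0, 0, 0, 0, 0, 2, 2, 1, 1, 1]) (.leaf [])) (.node (.leaf []) (.leaf [0, 1]))))) (.node (.node (.node (.node (.node (.leaf [0, 1]) (.leaf [1, 0, 2, 1, 2, 1, 1, 1, 2, 0, 1, 2, 2, 1])) (.leaf [1, 0, 0, 0, 0, 1, 1, 1, 0, 1, 0, 1, 0, 1])) (.node (.leaf [2, 0, 1, 0, 1, 2, 0, 1, 0, 0, 2, 0, 2, 2]) (.leaf [0, 2, 2, 0, 1, 2, 1, 2, 2, 1, 0, 0, 1, 2]))) (.node (.node (.leaf []) (.leaf [1, 2, 2, 0, 0, 2, 2, 2])) (.node (.leaf [2, 2, 1, 1, 2, 1, 1, 1, 1, 0, 2, 1, 2, 2]) (.leaf [2, 1, 2, 1, 2, 1, 0, 2, 2, 1, 0, 1])))) (.node (.node (.node (.leaf []) (.leaf [0, 1])) (.node (.leaf [0, 0, 0, 2,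 0, 2, 2, 0, 1, 1]) (.leaf [1, 2, 0, 0, 1, 2, 0, 1]))) (.node (.node (.leaf [1, 1, 2, 2, 1, 2, 2, 1, 2, 0, 1, 0, 0, 1]) (.leaf [1, 2, 2, 1, 2, 0, 1, 2, 1, 0, 0, 1, 2, 1])) (.node (.leaf [1, 1, 1, 0, 2, 1, 2, 1, 2, 1, 2, 1, 2, 1]) (.leaf [2, 2, 2, 0, 0, 2, 0, 1, 1, 2, 0, 2])))))) (.node (.node (.node (.node (.node (.node (.leaf []) (.leaf [1, 1, 2, 1, 0, 1, 0, 2, 1, 2, 0, 0, 0, 2])) (.leaf [])) (.node (.leaf [0, 1]) (.leaf [2, 1, 1, 1, 2, 0, 1, 0, 0, 0, 0, 0, 0, 2]))) (.node (.node (.leaf [0, 1]) (.leaf [1, 2, 0, 1, 0, 1, 2, 0, 0, 2, 0, 1, 0, 2])) (.node (.leaf [0, 0, 2, 0, 2, 0, 0, 1]) (.leaf [0, 2, 1, 0, 1, 1, 2, 0, 0, 0, 0, 1, 0, 1])))) (.node (.node (.node (.leaf [1, 2, 0, 1, 0, 1, 1, 2, 1, 0, 2, 0, 2]) (.leaf [])) (.node (.leaf [0, 1, 2, 1, 1, 0, 2, 2, 1, 2, 0, 2, 2, 1]) (.leaf [2, 1, 0, 0, 2, 0, 1, 0, 1, 0, 0, 0, 2]))) (.node (.node (.leaf []) (.leaf [1, 1, 2, 1, 1, 0, 0, 2, 0, 2, 0, 1, 0, 2]))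 (.node (.leaf [2, 1, 2, 0, 0, 2, 1, 2]) (.leaf [2, 0, 0, 2, 0, 0, 0, 0, 0, 0, 1]))))) (.node (.node (.node (.node (.node (.leaf []) (.leaf [2, 2, 0, 0, 0, 0, 2, 0, 1, 0, 2])) (.leaf [])) (.node (.leaf [2, 1, 0, 2, 2, 0, 1, 1, 2, 2, 0, 1, 0, 2]) (.leaf [0, 1]))) (.node (.node (.leaf []) (.leaf [0, 0, 0, 2, 2, 0, 1, 0, 1])) (.node (.leaf []) (.leaf [2, 1, 2, 0, 0, 1, 1, 2, 1, 2, 1, 2, 1, 2])))) (.node (.node (.node (.leaf []) (.leaf [1, 1, 1, 0, 0, 0, 1, 2])) (.node (.leaf []) (.leaf [2, 1, 2, 0, 2, 0, 0, 1]))) (.node (.node (.leaf []) (.leaf [2, 1, 0, 2, 0, 1, 2, 0, 1, 0, 0, 2])) (.node (.leaf []) (.leaf [1, 2, 2, 1, 2, 0, 0, 0, 0, 0, 0, 0, 1, 1])))))))) (.node (.node (.node (.node (.node (.node (.node (.node (.leaf []) (.leaf [1, 1, 1, 2, 1, 0, 1, 1, 1, 2, 1, 0, 1, 2])) (.leaf [0, 2, 1, 0, 1, 2])) (.node (.leaf [0, 1, 1, 0, 0, 2, 2, 2, 0, 0, 2, 2, 0, 2]) (.leaf [2, 1, 2, 0, 2, 0, 0, 1]))) (.node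 (.node (.leaf []) (.leaf [1, 1, 2, 0, 2, 2, 0, 2, 1, 1, 1, 1, 0, 2])) (.node (.leaf []) (.leaf [0, 0, 0, 0, 0, 2, 0, 0, 2, 0, 1, 1, 2])))) (.node (.node (.node (.node (.leaf [0, 1]) (.leaf [0, 2, 2, 0, 0, 0, 1, 2, 2, 1, 2, 0, 1, 2])) (.leaf [1, 1, 2, 2, 2, 1, 1, 2, 2, 1, 2, 1, 2, 2])) (.node (.leaf [0, 2, 2, 0, 1, 0, 1, 0, 1, 0, 2, 0, 2, 1]) (.leaf [0, 1, 1, 2, 1, 0, 0, 1, 2, 0, 2, 0, 2, 1]))) (.node (.node (.leaf [2, 2, 2, 2, 2, 0, 1, 2, 1, 2, 0, 1, 1, 2]) (.leaf [])) (.node (.leaf []) (.leaf [1, 2, 0, 1, 0, 0, 1, 1, 2, 2, 1, 0, 1]))))) (.node (.node (.node (.node (.node (.leaf []) (.leaf [2, 1, 1, 1, 2, 2, 0, 1, 2, 1, 0, 2, 1, 2])) (.leaf [])) (.node (.leaf [1, 0, 1, 1, 1, 2, 2, 1, 2, 0, 0, 1, 1, 1]) (.leaf [2, 2, 1, 2, 0, 0, 0, 0, 0, 0, 1, 1, 1, 1]))) (.node (.node (.leaf []) (.leaf [2, 0, 2, 1, 1, 1, 2, 0, 2, 1, 1, 0, 2, 2])) (.node (.leaf []) (.leaf [1, 1, 0, 2, 0, 0, 2, 2, 1, 2, 0, 0, 2, 2]))))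 (.node (.node (.node (.leaf []) (.leaf [2, 0, 1, 1, 0, 1, 2, 1, 0, 2, 1, 1])) (.node (.leaf [2, 1, 1, 1, 2, 0, 1, 0, 2, 0, 1, 0, 0, 2]) (.leaf [2, 1, 1, 1, 1, 0, 2, 0, 2, 2, 0, 1, 1, 2]))) (.node (.node (.leaf [1, 0, 2, 0, 0, 0, 1, 1, 0, 1, 0, 0, 0, 2]) (.leaf [])) (.node (.leaf [0, 1, 0, 2, 0, 0, 1, 0, 1]) (.leaf [1, 0, 1, 1, 1, 1, 1, 2, 0, 1, 1, 0, 2, 1])))))) (.node (.node (.node (.node (.node (.node (.leaf []) (.leaf [0, 1, 2, 1, 2, 1, 0, 0, 1, 1, 2, 0, 2, 2])) (.leaf [1, 0, 2, 0, 1, 2, 0, 0, 0, 0, 1, 1, 0, 1])) (.node (.leaf []) (.leaf [0, 1, 2, 1, 1, 2, 0, 1, 0, 0, 2, 0, 2, 1]))) (.node (.node (.leaf [0, 2, 0, 1, 1, 2, 2, 0, 2, 1, 1, 1, 1, 2]) (.leaf [1, 2, 0, 2, 1, 1, 0, 0, 1, 0, 0, 2])) (.node (.leaf []) (.leaf [0, 1])))) (.node (.node (.node (.leaf []) (.leaf [])) (.node (.leaf [0, 2, 0, 1, 0, 0, 0, 0, 2, 0, 1, 0, 2]) (.leaf [1, 2, 0, 2, 1, 0, 0, 0, 2, 0, 1, 2, 1, 1]))) (.node (.node (.leaf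 []) (.leaf [0, 2, 1, 2, 2, 2, 0, 0, 2, 0, 1, 0, 1])) (.node (.leaf []) (.leaf [1, 0, 0, 1, 1, 0, 0, 0, 0, 0, 2]))))) (.node (.node (.node (.node (.node (.leaf []) (.leaf [2, 2, 0, 1, 2, 2, 0, 0, 2, 0, 0, 1])) (.leaf [0, 1, 0, 0, 0, 0, 2, 0, 1, 0, 2])) (.node (.leaf [0, 2, 0, 1, 1, 2, 0, 2, 2, 0, 1, 0, 2]) (.leaf [2, 0, 2, 1, 0, 1, 0, 2, 2, 1, 2]))) (.node (.node (.leaf []) (.leaf [2, 1, 0, 1, 1, 0, 0, 2, 0, 2, 1, 1, 0, 1])) (.node (.leaf []) (.leaf [1, 2, 1, 1, 2, 2, 0, 0, 2, 1, 1, 1, 2, 1])))) (.node (.node (.node (.leaf [0, 1, 0, 1, 1, 1, 0, 2, 2, 2, 2, 2, 1, 2]) (.leaf [2, 0, 0, 2, 1, 2, 0, 2, 2, 0, 0, 0, 0, 2])) (.node (.leaf [0, 1]) (.leaf [0, 2, 2, 0, 2, 1]))) (.node (.node (.leaf [1, 1, 1, 1, 1, 0, 1, 0, 0, 2, 1, 1, 2, 2]) (.leaf [0, 0, 2, 2, 2, 1, 0, 1, 0, 2])) (.node (.leaf []) (.leaf [2, 2, 2, 2, 2, 2, 2, 1, 0, 1, 2, 1]))))))) (.node (.node (.node (.node (.node (.node (.node (.leaf [])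 (.leaf [1, 1, 1, 2, 0, 1, 2, 0, 0, 2, 0, 2])) (.leaf [])) (.node (.leaf []) (.leaf [0, 1, 2, 2, 2, 0, 1, 0, 1, 2, 2, 2]))) (.node (.node (.leaf []) (.leaf [0, 1, 1, 0, 2, 0, 2, 0, 2, 2, 1, 0, 1])) (.node (.leaf []) (.leaf [1, 1, 2, 1, 0, 1, 1, 2, 0, 1, 0, 2, 1, 1])))) (.node (.node (.node (.node (.leaf []) (.leaf [1, 0, 2, 0, 2, 0, 1, 2])) (.leaf [])) (.node (.leaf [0, 2, 1, 2, 2, 0, 2, 0, 1, 0, 2, 0, 2, 2]) (.leaf [0, 0, 0, 2, 2, 2, 1, 2, 1, 2, 0, 2]))) (.node (.node (.leaf [1, 0, 0, 2, 0, 0, 1, 2, 2, 0, 2, 0, 2, 1]) (.leaf [])) (.node (.leaf [2, 0, 0, 0, 2, 0, 0, 2, 0, 1, 1, 1, 2, 1]) (.leaf [0, 1, 0, 1, 1, 0, 0, 0, 1, 0, 1]))))) (.node (.node (.node (.node (.node (.leaf []) (.leaf [1, 0, 0, 1, 1, 0, 2, 1, 2, 2, 1, 0, 1])) (.leaf [2, 2, 0, 0, 1, 0, 0, 0, 1, 0, 0, 2])) (.node (.leaf []) (.leaf [1, 0, 0, 0, 0, 1, 2, 0, 1, 0, 0, 2]))) (.node (.node (.leaf [0, 1, 0, 1, 2, 0, 1, 1, 2, 0, 2, 0, 0, 1])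 (.leaf [0, 1, 0, 0, 2, 1, 1, 2, 2, 1, 0, 2, 0, 1])) (.node (.leaf [0, 2, 0, 2, 0, 0, 0, 0, 0, 0, 1]) (.leaf [1, 0, 0, 0, 1, 2, 1, 1, 1, 2, 0, 2])))) (.node (.node (.node (.leaf [0, 2, 1, 1, 2, 2, 2, 2, 1, 0, 0, 1]) (.leaf [0, 1, 2, 0, 2, 1, 2, 1, 0, 1, 0, 2, 1, 2])) (.node (.leaf [0, 1]) (.leaf [0, 0, 2, 0, 2, 0, 0, 2, 1, 2, 0, 1, 0, 2]))) (.node (.node (.leaf [2, 1, 2, 1, 1, 2, 1, 1, 0, 1]) (.leaf [0, 1])) (.node (.leaf [2, 1, 0, 2, 2, 0, 1, 1, 1, 2, 1, 1, 0, 2]) (.leaf [2, 2, 0, 1, 1, 0, 0, 0, 0, 0, 0, 0, 2])))))) (.node (.node (.node (.node (.node (.node (.leaf []) (.leaf [1, 1, 0, 0, 1, 0, 2])) (.leaf [0, 0, 1, 0, 0, 1, 0, 0, 0, 2, 2, 1, 0, 1])) (.node (.leaf []) (.leaf [0, 1, 2, 2, 0, 2, 1, 1, 2, 2, 2, 1, 2, 1]))) (.node (.node (.leaf []) (.leaf [0, 0, 2, 1, 1, 2, 1, 1, 1, 2, 2, 1, 2, 2])) (.node (.leaf []) (.leaf [0, 0, 1, 1, 1, 0, 2, 2, 0, 1, 0, 2, 0, 2])))) (.node (.node (.node (.leaf [])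 (.leaf [0, 1, 0, 2, 0, 0, 2, 0, 2, 0, 0, 0, 2])) (.node (.leaf []) (.leaf [0, 1, 0, 1, 2, 2, 1, 2, 1, 2, 0, 2]))) (.node (.node (.leaf [1, 2, 1, 0, 1, 0, 0, 0, 0, 2, 0, 2, 1, 1]) (.leaf [0, 1, 0, 0, 0, 0, 2, 2, 0, 0, 1, 2, 1, 2])) (.node (.leaf [1, 1, 0, 1, 2, 1, 1, 1, 2, 1, 0, 1]) (.leaf [2, 1, 0, 0, 1, 1, 2, 0, 0, 2]))))) (.node (.node (.node (.node (.node (.leaf []) (.leaf [1, 2, 2, 1, 0, 2, 2, 2, 0, 0, 1, 2, 2, 2])) (.leaf [2, 1, 2, 1, 0, 2, 0, 2, 2, 2, 2, 0, 1, 1])) (.node (.leaf [2, 1, 1, 1, 1, 1, 2, 1, 1, 0, 1, 0, 2, 1]) (.leaf [0, 2, 2, 0, 2, 2, 1, 1, 0, 1, 1, 0, 2, 2]))) (.node (.node (.leaf []) (.leaf [0, 1])) (.node (.leaf []) (.leaf [0, 1])))) (.node (.node (.node (.leaf []) (.leaf [2, 2, 2, 1, 1, 0, 0, 2, 2, 2])) (.node (.leaf []) (.leaf [2, 2, 2, 2, 2, 2, 1, 0, 2, 2, 1, 2, 2, 1]))) (.node (.node (.leaf []) (.leaf [])) (.node (.leaf [0, 0, 0, 0, 2, 1, 2, 2, 2, 0, 1]) (.leaf [2, 0, 1,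 1, 1, 2, 1, 0, 2, 2, 2, 2]))))))))) (.node (.node (.node (.node (.node (.node (.node (.node (.node (.leaf []) (.leaf [0, 2, 1, 1, 2, 1, 1, 0, 1, 2, 2, 2, 1])) (.leaf [0, 0, 2, 2, 0, 0, 1, 1, 2, 1, 0, 0, 2, 2])) (.node (.leaf [2, 1, 1, 1, 1, 1, 0, 1, 0, 0, 2, 1, 0, 2]) (.leaf [0, 1]))) (.node (.node (.leaf [1, 0, 0, 2, 0, 0, 0, 0, 2, 1, 1, 1, 1, 1]) (.leaf [2, 2, 1, 2, 0, 1, 2, 0, 0, 2, 0, 2])) (.node (.leaf []) (.leaf [2, 2, 1, 2, 1, 0, 0, 1, 1, 2, 2, 2, 2, 1])))) (.node (.node (.node (.node (.leaf []) (.leaf [0, 2, 0, 2, 0, 0, 0, 0, 1])) (.leaf [1, 2, 0, 2, 1, 1, 0, 2, 1, 2, 0, 1])) (.node (.leaf [1, 0, 1, 2, 1, 0, 1, 2, 2, 0, 2, 2, 0, 1]) (.leaf []))) (.node (.node (.leaf []) (.leaf [])) (.node (.leaf [1, 2, 2, 0, 2, 0, 1, 1, 1, 0, 2]) (.leaf [2, 0, 1, 0, 0, 2, 2, 0, 2, 2, 2, 2, 0, 1]))))) (.node (.node (.node (.node (.node (.leaf []) (.leaf [1, 2, 2, 0, 1, 0, 1, 0, 0, 0, 0, 2, 0, 2])) (.leaf [0,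 1])) (.node (.leaf []) (.leaf [1, 0, 0, 0, 0, 1, 0, 0, 2, 2, 1, 2, 1, 1]))) (.node (.node (.leaf [2, 1, 2, 0, 2, 0, 0, 1]) (.leaf [0, 0, 0, 2, 1, 1, 2, 0, 0, 0, 2, 1, 0, 1])) (.node (.leaf [2, 2, 0, 0, 0, 1, 1, 0, 0, 2, 0, 2, 1, 1]) (.leaf [1, 0, 1, 0, 2, 0, 2, 2])))) (.node (.node (.node (.leaf []) (.leaf [0, 2, 0, 1, 0, 0, 2, 2, 0, 0, 0, 0, 1, 1])) (.node (.leaf [2, 1, 0, 0, 2, 1, 0, 1, 1, 1, 0, 1, 2, 1]) (.leaf [1, 0, 1, 2, 2, 1, 2, 2, 0, 2]))) (.node (.node (.leaf []) (.leaf [2, 0, 1, 2, 0, 1, 0, 2, 2, 1, 1, 0, 2, 1])) (.node (.leaf [1, 0, 2, 1, 2, 2, 0, 0, 1, 2, 2, 2, 0, 1]) (.leaf [0, 2, 0, 2, 0, 0, 1, 0, 1, 2, 0, 2, 1, 1])))))) (.node (.node (.node (.node (.node (.node (.leaf [1, 2, 0, 0, 0, 0, 1]) (.leaf [0, 1])) (.leaf [0, 0, 0, 2, 2, 0, 1, 0, 0, 1, 0, 1, 1, 1])) (.node (.leaf [2, 1, 1, 0, 2, 2, 2, 0, 1, 1, 2, 1, 0, 1]) (.leaf [0, 2, 2, 0, 1, 2, 1, 2, 1, 2, 0, 2]))) (.node (.node (.leaf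 []) (.leaf [2, 0, 2, 2, 1, 2, 1, 2, 2, 1, 2, 0, 0, 2])) (.node (.leaf [1, 2, 0, 0, 0, 0, 1]) (.leaf [1, 2, 0, 0, 0, 0, 0, 0, 1, 0, 1, 0, 1])))) (.node (.node (.node (.leaf [2, 2, 0, 1, 1, 1, 2, 1, 1, 1, 0, 1, 1, 1]) (.leaf [1, 0, 0, 1, 1, 1, 1, 1, 1, 0, 2, 1])) (.node (.leaf [1, 2, 0, 1, 1, 0, 1, 0, 1, 0, 1]) (.leaf [0, 2, 0, 0, 2, 2, 1, 0, 2, 2, 1, 1, 0, 1]))) (.node (.node (.leaf []) (.leaf [1, 0, 1, 1, 0, 2, 2, 0, 0, 1, 0, 1, 2, 1])) (.node (.leaf [0, 2, 2, 1, 1, 1, 1, 1, 2, 2]) (.leaf [0, 1]))))) (.node (.node (.node (.node (.node (.leaf []) (.leaf [2, 0, 2, 0, 0, 0, 2, 0, 2, 2, 1, 1, 1])) (.leaf [2, 1, 0, 0, 2, 1, 1, 2, 0, 1, 1, 1, 2, 1])) (.node (.leaf [0, 2, 1, 0, 1, 2]) (.leaf [2, 1, 2, 2, 2, 1, 0, 0, 0, 2, 2, 1, 2]))) (.node (.node (.leaf [1, 2, 1, 0, 0, 1, 0, 2, 2, 1, 1, 1, 1]) (.leaf [0, 2, 2, 2, 1, 2, 2, 0, 1, 2, 2, 2, 1])) (.node (.leaf []) (.leaf [1, 0, 0, 1, 0, 2, 2, 1, 2, 1, 0, 1,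 0, 1])))) (.node (.node (.node (.leaf [0, 2, 0, 0, 1, 1, 1, 2, 1, 1, 0, 1, 2, 1]) (.leaf [2, 0, 2, 0, 2, 2, 1, 2, 1, 2, 1, 0, 1, 1])) (.node (.leaf [0, 2, 1, 0, 2, 1, 0, 2, 2, 1, 2, 2, 0, 2]) (.leaf [1, 0, 2, 1, 2, 2, 1, 1, 0, 1]))) (.node (.node (.leaf [0, 1]) (.leaf [])) (.node (.leaf []) (.leaf [1, 0, 1, 0, 0, 1, 1, 1, 0, 0, 2, 2, 1, 1]))))))) (.node (.node (.node (.node (.node (.node (.node (.leaf []) (.leaf [0, 2, 1, 0, 2, 0, 1, 1, 0, 1, 2, 1, 0, 2])) (.leaf [1, 1, 1, 1, 1, 0, 0, 0, 2, 1, 2, 2, 2, 2])) (.node (.leaf [2, 1, 0, 1, 1, 0, 0, 0, 1, 0, 1]) (.leaf [1, 0, 1, 0, 1, 0, 1, 2, 2, 2, 2, 0, 2, 1]))) (.node (.node (.leaf []) (.leaf [0, 1, 2, 1, 0, 1, 1, 0, 1, 0, 0, 1, 1, 2])) (.node (.leaf [1, 2, 1, 1, 0, 2, 2, 0, 0, 1, 0, 1, 2, 1]) (.leaf [2, 0, 1, 0, 1, 1, 1, 1, 2, 0, 0, 0, 1])))) (.node (.node (.node (.node (.leaf []) (.leaf [2, 0, 2, 2, 1, 1, 2, 1, 2, 2, 1, 2, 2, 2])) (.leaf [0, 2, 1,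 0, 2, 1, 2, 1, 2, 1, 0, 1])) (.node (.leaf [0, 2, 1, 0, 1, 2, 0, 1, 0, 2, 2, 1, 2, 2]) (.leaf [2, 1, 0, 2, 2, 0, 1, 0, 2, 0, 1, 0, 1]))) (.node (.node (.leaf [1, 2, 1, 0, 1, 0, 2, 1, 2, 0, 1, 2, 2, 2]) (.leaf [])) (.node (.leaf [0, 0, 1, 0, 0, 1, 1, 0, 0, 0, 0, 2, 2, 2]) (.leaf []))))) (.node (.node (.node (.node (.node (.leaf []) (.leaf [0, 0, 2, 2, 0, 0, 2, 0, 1, 1])) (.leaf [0, 2, 2, 2, 2, 0, 1, 1, 0, 0, 2, 0, 2])) (.node (.leaf [0, 1, 1, 2, 1, 0, 1, 1, 2, 2, 1, 2]) (.leaf [0, 2, 2, 0, 0, 1, 2, 2, 1, 0, 2, 1]))) (.node (.node (.leaf [1, 0, 2, 2, 1, 1, 0, 0, 1, 0, 0, 2, 0, 1]) (.leaf [2, 0, 2, 0, 2, 1, 0, 0, 0, 2, 0, 2, 0, 2])) (.node (.leaf []) (.leaf [2, 1, 2, 2, 2, 1, 1, 0, 2, 1, 1, 1, 1, 1])))) (.node (.node (.node (.leaf [1, 0, 2, 2, 1, 1, 2, 2, 0, 0, 1, 2, 2, 2]) (.leaf [2, 1, 2, 2, 1, 0, 2, 2, 1, 1, 0, 0, 1, 1])) (.node (.leaf [1, 0, 2, 0, 0, 0, 2, 0, 0, 2, 0, 2, 2]) (.leaf [0, 1, 1, 0,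 1, 0, 0, 2]))) (.node (.node (.leaf []) (.leaf [])) (.node (.leaf [0, 2, 1, 1, 2, 2, 0, 0, 2, 1, 1, 1, 2, 1]) (.leaf [0, 1, 0, 2, 2, 0, 1, 2, 1, 2, 0, 1, 0, 2])))))) (.node (.node (.node (.node (.node (.node (.leaf []) (.leaf [1, 2, 0, 0, 1, 1, 1, 2, 1, 2, 0, 0, 2, 1])) (.leaf [1, 1, 1, 1, 2, 2, 2, 1, 0, 1, 2, 2, 1, 2])) (.node (.leaf [1, 0, 2, 0, 0, 0, 1, 0, 2, 2, 0, 2]) (.leaf [2, 0, 0, 0, 1, 1, 1, 0, 1, 0, 2, 0, 1, 2]))) (.node (.node (.leaf []) (.leaf [2, 1, 1, 1, 2, 0, 1, 0, 0, 1, 0, 1])) (.node (.leaf [2, 0, 0, 0, 2, 0, 1]) (.leaf [1, 2, 1, 2, 2, 1, 2, 1, 1, 0, 2, 0, 1])))) (.node (.node (.node (.leaf []) (.leaf [0, 0, 0, 2, 0, 1, 2, 2, 1, 0, 1, 0, 2])) (.node (.leaf [2, 1, 0, 2, 2, 0, 2, 0, 1]) (.leaf [2, 0, 0, 2, 0, 0, 1, 0, 0, 1, 1, 0, 0, 2]))) (.node (.node (.leaf [1, 0, 1, 2, 2, 2, 1, 2, 0, 1, 1, 1, 2, 2]) (.leaf [])) (.node (.leaf [1, 2, 2, 2, 2, 1, 1, 2, 1, 1, 0, 2, 2, 1]) (.leaf [1,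 1, 1, 2, 0, 1, 0, 2, 2, 0, 0, 1, 2, 1]))))) (.node (.node (.node (.node (.node (.leaf [2, 2, 2, 1, 1, 0, 2, 0, 0, 1, 0, 1, 1, 2]) (.leaf [0, 2, 0, 2, 0, 0, 0, 0, 1])) (.leaf [2, 0, 0, 1, 0, 0, 0, 0, 2, 0, 2, 0, 1])) (.node (.leaf [1, 2, 2, 2, 1, 0, 2, 0, 1, 0, 2, 0, 0, 1]) (.leaf [2, 2, 1, 1, 1, 1, 0, 2, 1, 2]))) (.node (.node (.leaf []) (.leaf [2, 0, 0, 2, 0, 1, 0, 1, 1, 1, 1, 1, 1, 2])) (.node (.leaf []) (.leaf [2, 0, 1, 0, 1, 1, 0, 2, 1, 2, 1, 2, 1, 2])))) (.node (.node (.node (.leaf []) (.leaf [2, 0, 1, 0, 1, 2, 0, 1, 0, 2, 1])) (.node (.leaf []) (.leaf [2, 0, 2, 2, 0, 2, 0, 2, 2, 0, 1, 0, 1]))) (.node (.node (.leaf [0, 0, 2, 1, 1, 2, 2, 1, 0, 1]) (.leaf [])) (.node (.leaf [0, 1]) (.leaf [0, 1, 0, 1, 0, 1, 1, 0, 2, 2, 0, 2, 0, 2])))))))) (.node (.node (.node (.node (.node (.node (.node (.node (.leaf []) (.leaf [2, 2, 2, 0, 1, 1, 1, 0, 1, 1, 1, 1, 2])) (.leaf [0, 1])) (.node (.leaf [1, 0, 0, 2,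 1, 2, 2, 1, 2, 1, 0, 2, 2]) (.leaf [1, 2, 1, 2, 2, 0, 0, 1, 1, 2, 1, 1, 1, 1]))) (.node (.node (.leaf []) (.leaf [1, 2, 0, 0, 2, 1, 1, 2, 1, 2, 0, 1, 1, 2])) (.node (.leaf []) (.leaf [1, 0, 0, 1, 2, 0, 0, 0, 0, 0, 0, 0, 2])))) (.node (.node (.node (.node (.leaf []) (.leaf [0, 0, 0, 0, 0, 1, 0, 0, 0, 0, 0, 0, 0, 0])) (.leaf [0, 0, 0, 2, 1, 0, 2, 1, 0, 1, 0, 2, 0, 2])) (.node (.leaf [0, 2, 0, 0, 2, 0, 0, 0, 2, 0, 0, 1]) (.leaf [0, 1, 0, 0, 2, 2, 1, 1, 2, 1, 1, 1, 0, 1]))) (.node (.node (.leaf [0, 2, 1, 1, 2, 2, 2, 2, 1, 0, 0, 1]) (.leaf [])) (.node (.leaf []) (.leaf [1, 0, 0, 2, 0, 2, 2, 2, 1, 1, 2, 2, 1, 1]))))) (.node (.node (.node (.node (.node (.leaf []) (.leaf [2, 2, 2, 1, 1, 2, 1, 1, 1, 2, 2, 2, 0, 1])) (.leaf [0, 2, 1, 2, 0, 2, 1, 2, 2, 0, 1, 0, 0, 1])) (.node (.leaf [0, 1, 1, 1, 1, 2, 0, 2, 0, 1]) (.leaf [2, 1, 1, 1, 0, 1, 2, 2, 1, 2, 1, 2, 0, 2]))) (.node (.node (.leaf []) (.leaf [0, 0, 2,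 0, 2, 0, 2, 0, 1, 0, 2, 2, 2, 2])) (.node (.leaf [0, 1]) (.leaf [0, 0, 0, 1, 2, 1, 0, 0, 1, 0, 0, 0, 2, 2])))) (.node (.node (.node (.leaf []) (.leaf [2, 1, 1, 1, 0, 2, 2, 0, 1, 1, 1, 0, 0, 2])) (.node (.leaf [0, 2, 2, 1, 1, 1, 0, 2, 2, 1, 0, 2, 2, 1]) (.leaf [0, 2, 2, 0, 2, 1]))) (.node (.node (.leaf [0, 2, 1, 1, 2, 2, 0, 1, 2, 2, 1, 2, 0, 1]) (.leaf [])) (.node (.leaf [0, 2, 0, 0, 2, 0, 1, 2, 2, 1, 2, 0, 1]) (.leaf [0, 0, 0, 2, 0, 1, 0, 0, 0, 2])))))) (.node (.node (.node (.node (.node (.node (.leaf []) (.leaf [1, 1, 0, 0, 1, 0, 1, 2, 0, 1, 1, 1, 1, 2])) (.leaf [1, 2, 2, 1, 1, 2, 0, 0, 1, 2, 0, 1, 1])) (.node (.leaf []) (.leaf [2, 2, 1, 0, 2, 2, 2, 2, 0, 1, 1, 2, 1, 1]))) (.node (.node (.leaf []) (.leaf [2, 0, 1, 2, 0, 2, 1, 2, 1, 2, 2, 2])) (.node (.leaf []) (.leaf [0, 0, 2, 0, 2, 2, 0, 1, 0, 1])))) (.node (.node (.node (.leaf []) (.leaf [1, 2, 2, 2, 0, 1, 0, 0, 0, 1, 1, 2, 1, 2])) (.node (.leaf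 [2, 0, 0, 0, 2, 0, 2, 1, 0, 2, 2, 2, 2, 1]) (.leaf [2, 1, 2, 0, 2, 0, 2, 2, 0, 0, 0, 2]))) (.node (.node (.leaf []) (.leaf [])) (.node (.leaf []) (.leaf [0, 1, 0, 0, 0, 0, 1, 1, 0, 2, 0, 2, 1, 1]))))) (.node (.node (.node (.node (.node (.leaf []) (.leaf [0, 0, 0, 0, 2, 0, 1])) (.leaf [0, 0, 1, 2, 0, 0, 0, 2, 2, 0, 2])) (.node (.leaf [1, 0, 2, 0, 0, 0, 2, 1]) (.leaf [0, 1, 0, 1, 1, 0, 2, 0, 2]))) (.node (.node (.leaf []) (.leaf [2, 2, 0, 0, 0, 0, 2])) (.node (.leaf [1, 0, 1, 1, 0, 2, 2, 1, 0, 2, 2, 1, 1, 2]) (.leaf [1, 0, 0, 0, 0, 1, 0, 2, 0, 1, 2, 1, 0, 2])))) (.node (.node (.node (.leaf [1, 0, 0, 0, 0, 1, 2, 0, 0, 0, 2, 1, 2, 1]) (.leaf [0, 0, 0, 1, 1, 0, 1, 0, 1, 0, 1])) (.node (.leaf []) (.leaf []))) (.node (.node (.leaf [2, 1, 1, 2, 1, 2, 2, 0, 1, 2, 2, 0, 1, 1]) (.leaf [])) (.node (.leaf []) (.leaf [0, 1, 1, 0, 2, 2, 2, 1, 2, 1, 0, 0, 2, 1]))))))) (.node (.node (.node (.node (.node (.node (.node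 (.leaf []) (.leaf [0, 0, 1, 0, 1, 2, 1, 1, 1, 2, 1, 0, 0, 1])) (.leaf [0, 2, 1, 0, 0, 0, 2, 2])) (.node (.leaf [1, 1, 0, 0, 2, 0, 2, 0, 1, 1, 0, 0, 2, 2]) (.leaf [2, 2, 1, 1, 2, 1, 1, 0, 0, 1, 0, 1, 1, 2]))) (.node (.node (.leaf []) (.leaf [2, 1, 0, 0, 2, 1, 2, 2, 2, 1, 0, 1])) (.node (.leaf []) (.leaf [1, 2, 2, 2, 1, 2, 0, 0, 2, 1, 0, 2, 0, 2])))) (.node (.node (.node (.leaf []) (.leaf [2, 0, 0, 1, 0, 2, 1, 0, 2, 0, 0, 1])) (.node (.leaf [0, 1]) (.leaf [2, 2, 1, 2, 1, 0, 2, 2, 2, 0, 0, 1, 1, 1]))) (.node (.node (.leaf [0, 1, 0, 1, 1, 1, 0, 2, 2, 2, 2, 2, 1, 2]) (.leaf [2, 0, 0, 0, 1, 0, 2, 0, 1, 2, 2, 0, 0, 1])) (.node (.leaf []) (.leaf [0, 0, 0, 2, 1, 0, 2, 0, 0, 0, 1]))))) (.node (.node (.node (.node (.node (.leaf []) (.leaf [1, 0, 0, 1, 0, 1, 0, 1, 0, 0, 1, 2, 1, 2])) (.leaf [0, 2, 0, 0, 0, 2, 0, 1, 1, 1, 1, 0, 1, 2])) (.node (.leaf [0, 1]) (.leaf [2, 1, 2, 1, 2, 0, 0, 2, 0, 1, 1, 2, 2, 2])))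 (.node (.node (.leaf []) (.leaf [2, 1, 1, 2, 0, 0, 2, 0, 0, 2, 1, 2, 0, 2])) (.node (.leaf []) (.leaf [1, 0, 1, 1, 1, 1, 2, 0, 1, 1, 2, 1, 1, 2])))) (.node (.node (.node (.leaf [0, 1, 2, 1, 0, 1, 2, 0, 2, 0, 0, 2, 0, 1]) (.leaf [0, 0, 0, 1, 2, 2, 1, 1, 2, 0, 1, 1, 1, 1])) (.node (.leaf [0, 0, 1, 1, 0, 2, 1, 2, 0, 1, 0, 2, 1, 1]) (.leaf [1, 1, 0, 2, 0, 0, 0, 0, 0, 0, 2, 0, 2]))) (.node (.node (.leaf [0, 2, 0, 1, 2, 1, 1, 1, 2, 0, 2, 1]) (.leaf [])) (.node (.leaf []) (.leaf [2, 1, 0, 2, 2, 2, 1, 2, 0, 1, 0, 2, 1, 2])))))) (.node (.node (.node (.node (.node (.node (.leaf []) (.leaf [1, 0, 0, 1, 1, 0, 1, 0, 2, 1, 1, 1, 2, 1])) (.leaf [0, 1, 2, 1, 2, 2, 1, 1, 2, 0, 2, 0, 2, 2])) (.node (.leaf [2, 0, 2, 1, 2, 0, 0, 0, 0, 0, 0, 2, 1, 2]) (.leaf [1, 2, 0, 1, 2, 1, 1, 2, 0, 1, 1, 0, 1, 2]))) (.node (.node (.leaf [0, 1]) (.leaf [0, 1, 1, 1, 2, 1, 2, 0, 0, 0, 0, 1, 1])) (.node (.leaf []) (.leaf [0, 2, 1, 2,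 0, 2, 0, 0, 1, 0, 2, 0, 1])))) (.node (.node (.node (.leaf []) (.leaf [0, 1])) (.node (.leaf [0, 1]) (.leaf [0, 2, 0, 1, 1, 2, 2, 1, 2, 2, 1, 2, 2, 2]))) (.node (.node (.leaf []) (.leaf [0, 1])) (.node (.leaf []) (.leaf [0, 1, 2, 0, 2, 0, 0, 1]))))) (.node (.node (.node (.node (.node (.leaf [0, 1]) (.leaf [0, 0, 0, 0, 2, 0, 1])) (.leaf [0, 1, 2, 1, 2, 2, 1, 0, 1, 0, 2, 0, 0, 2])) (.node (.leaf [2, 1, 2, 0, 2, 0, 0, 2, 2, 2, 2]) (.leaf [0, 0, 0, 1, 1, 0, 0, 0, 0, 1, 0, 1, 2, 1]))) (.node (.node (.leaf []) (.leaf [0, 2, 1, 0, 0, 0, 1, 2, 1, 1, 0, 0, 2, 2])) (.node (.leaf []) (.leaf [0, 0, 1, 2, 1, 2, 0, 1, 1, 2, 0, 2])))) (.node (.node (.node (.leaf []) (.leaf [0, 0, 2, 1, 2, 1, 0, 1, 2, 0, 2, 1, 2, 1])) (.node (.leaf []) (.leaf [0, 2, 2, 0, 0, 0, 1, 1]))) (.node (.node (.leaf [0, 1, 1, 2, 1, 0, 0, 2, 2, 2, 2, 2, 0, 2]) (.leaf [])) (.node (.leaf [1, 2, 1, 0, 1, 0, 2, 2, 2, 2, 0, 0, 1, 1]) (.leaf [0,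 2, 2, 2, 2, 0, 2, 1, 0, 2, 2, 1, 2])))))))))) (.node (.node (.node (.node (.node (.node (.node (.node (.node (.node (.leaf []) (.leaf [0, 1, 0, 2, 0, 2, 2, 0, 1, 2, 0, 0, 2, 2])) (.leaf [1, 2, 0, 2, 1, 1, 2, 2, 2, 1, 1, 2])) (.node (.leaf [0, 1]) (.leaf [1, 1, 0, 2, 0, 0, 1, 1, 0, 0, 2, 1, 0, 1]))) (.node (.node (.leaf []) (.leaf [1, 1, 0, 2, 0, 0, 0, 0, 1, 1, 2, 1, 1, 1])) (.node (.leaf []) (.leaf [0, 1, 1, 1, 0, 2, 0, 2, 0, 1, 1])))) (.node (.node (.node (.node (.leaf [2, 1, 0, 2, 1, 1, 2, 0, 0, 2, 0, 2, 2, 1]) (.leaf [2, 0, 0, 0, 0, 1, 2, 0, 1, 2, 1, 2])) (.leaf [1, 2, 2, 1, 2, 1, 0, 2, 2, 0, 2, 2, 0, 2])) (.node (.leaf [0, 1, 1, 2, 0, 1, 1, 2, 1, 2, 0, 1, 1, 2]) (.leaf [2, 0, 0, 1, 0, 0, 0, 0, 1, 2, 2, 2, 2, 2]))) (.node (.node (.leaf [2, 0, 2, 2, 0, 0, 1, 0, 0, 1, 0, 1, 0, 2]) (.leaf [1, 1, 1, 1, 2, 1, 0, 1, 1, 1, 2, 0, 2, 2])) (.node (.leaf [2, 0, 0, 2, 0, 0, 0, 0, 0, 0, 1]) (.leaf [0, 0, 1,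 1, 1, 0, 2, 0, 2, 0, 1, 2, 2]))))) (.node (.node (.node (.node (.node (.leaf []) (.leaf [2, 0, 1, 1, 2, 1, 1, 0, 2, 1, 1, 1, 1, 2])) (.leaf [1, 1, 0, 0, 2, 0, 0, 2, 2, 1, 2, 2, 1, 1])) (.node (.leaf []) (.leaf [2, 0, 2, 0, 0, 1, 2, 0, 0, 1, 0, 1, 0, 1]))) (.node (.node (.leaf []) (.leaf [0, 0, 2, 0, 1, 1, 1, 2, 1, 2, 0, 0, 1, 2])) (.node (.leaf []) (.leaf [0, 1, 0, 1, 1, 1, 1, 2, 1, 1, 1, 0, 0, 2])))) (.node (.node (.node (.leaf []) (.leaf [2, 0, 0, 2, 0, 0, 0, 0, 0, 0, 1])) (.node (.leaf [2, 2, 0, 2, 2, 1, 0, 0, 2, 2, 1, 2, 2, 1]) (.leaf [0, 2, 2, 2, 0, 2, 2, 1, 1, 2, 2, 0, 2, 1]))) (.node (.node (.leaf [1, 0, 1, 2, 2, 1, 2, 2, 0, 2]) (.leaf [2, 2, 2, 1, 2, 1, 1, 2, 2, 0, 0, 2, 2, 2])) (.node (.leaf []) (.leaf [1, 0, 2, 2, 2, 2, 1, 2, 2, 0, 2, 2, 0, 1])))))) (.node (.node (.node (.node (.node (.node (.leaf []) (.leaf [0, 0, 1, 0, 0, 0, 2, 0, 0, 1, 0, 1, 1])) (.leaf [0, 0, 0, 2, 1, 1, 2, 1, 2, 1,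 0, 1])) (.node (.leaf []) (.leaf [0, 1, 0, 0, 2, 2, 1, 2, 2, 0, 1]))) (.node (.node (.leaf []) (.leaf [0, 2, 2, 0, 2, 2, 1, 2, 2, 0, 0, 2, 1, 1])) (.node (.leaf [2, 1, 1, 2, 2, 1, 0, 0, 1, 1, 1, 1, 1, 2]) (.leaf [2, 1, 0, 0, 2, 1, 1, 0, 2, 1, 0, 1])))) (.node (.node (.node (.leaf []) (.leaf [1, 2, 0, 2, 1, 1, 0, 1, 2, 1, 1, 0, 1])) (.node (.leaf [1, 0, 0, 2, 0, 0, 0, 2, 1, 2, 0, 0, 2, 2]) (.leaf [0, 1]))) (.node (.node (.leaf []) (.leaf [2, 1, 0, 2, 1, 0, 2, 0, 2, 1, 2, 0, 0, 2])) (.node (.leaf []) (.leaf [1, 1, 1, 0, 2, 0, 1, 2, 0, 0, 2, 0, 1]))))) (.node (.node (.node (.node (.node (.leaf []) (.leaf [0, 1, 2, 1, 2, 1, 0, 1, 0, 0, 2, 0, 1, 2])) (.leaf [1, 0, 1, 1, 0, 0, 0, 2, 1, 1, 0, 1, 1, 1])) (.node (.leaf [1, 0, 1, 1, 1, 2, 2, 0, 2, 2, 1, 2, 2, 2]) (.leaf [0, 2, 0, 1, 0, 0, 0, 0, 2, 0, 1, 0, 2]))) (.node (.node (.leaf []) (.leaf [0, 2, 2, 0, 0, 1, 2, 1, 2, 0, 1, 2, 0, 1])) (.node (.leaf [0,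 1, 1, 2, 2, 2, 1, 1, 1, 2, 0, 2, 1, 1]) (.leaf [2, 0, 0, 2, 2, 2, 0, 2, 2, 0, 0, 1, 2, 2])))) (.node (.node (.node (.leaf []) (.leaf [1, 2, 2, 0, 0, 2, 0, 1, 1, 2, 0, 2])) (.node (.leaf [0, 0, 0, 2, 0, 2, 0, 2, 2, 1, 0, 2, 2, 1]) (.leaf [0, 1, 2, 2, 1, 0, 2, 2, 2, 0, 2, 1, 1, 1]))) (.node (.node (.leaf [1, 1, 0, 1, 0, 0, 1, 0, 1, 2, 2, 0, 2, 1]) (.leaf [])) (.node (.leaf []) (.leaf [1, 1, 0, 0, 0, 1, 1, 1, 0, 0, 1, 1, 1]))))))) (.node (.node (.node (.node (.node (.node (.node (.leaf []) (.leaf [2, 2, 0, 2, 2, 0, 0, 2, 2, 0, 2, 2, 2, 2])) (.leaf [2, 0, 1, 1, 1, 2, 1, 0, 1, 1, 2, 1, 2, 1])) (.node (.leaf []) (.leaf []))) (.node (.node (.leaf []) (.leaf [1, 0, 2, 2, 1, 1, 1, 0, 1, 2, 2, 1, 0, 2])) (.node (.leaf []) (.leaf [0, 2, 0, 2, 0, 0, 0, 0, 1, 0, 2, 0, 1])))) (.node (.node (.node (.node (.leaf [2, 2, 2, 1, 1, 0, 2, 1, 0, 1, 2, 0, 0, 2]) (.leaf [0, 0, 0, 0, 0, 0, 0, 0, 0, 0, 0, 0, 2])) (.leaf [0,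 0, 1, 2, 0, 0, 2, 1, 0, 2, 2, 0, 1, 2])) (.node (.leaf [0, 0, 0, 0, 1, 2, 0, 2, 2, 2, 0, 2, 1, 2]) (.leaf [0, 1]))) (.node (.node (.leaf []) (.leaf [2, 1, 2, 1, 1, 2, 1, 1, 0, 1])) (.node (.leaf []) (.leaf [2, 2, 0, 0, 2, 1, 2, 1, 1, 0, 2, 1, 1]))))) (.node (.node (.node (.node (.node (.leaf []) (.leaf [1, 2, 0, 1, 1, 2, 1, 0, 2, 0, 1])) (.leaf [1, 2, 0, 0, 0, 0, 1, 0, 2, 0, 1])) (.node (.leaf [2, 0, 2, 1, 1, 1, 0, 1, 1, 1, 1, 0, 1, 1]) (.leaf [0, 0, 1, 0, 1, 0, 1, 0, 1, 0, 2, 0, 1, 2]))) (.node (.node (.leaf []) (.leaf [0, 1, 1, 2, 0, 1, 0, 1, 1, 0, 2, 0, 1])) (.node (.leaf [1, 1, 2, 1, 0, 2, 0, 0, 0, 0, 2, 1, 1, 1]) (.leaf [1, 2, 1, 2, 2, 0, 0, 2, 0, 2, 0, 2, 1, 2])))) (.node (.node (.node (.leaf []) (.leaf [1, 2, 1, 2, 0, 0, 1, 0, 2, 2, 0, 1, 0, 2])) (.node (.leaf [2, 1, 2, 0, 2, 0, 1, 1, 0, 1, 0, 1, 0, 1]) (.leaf [0, 2, 2, 2, 1, 1, 2, 0, 1, 1, 1, 0, 2, 2]))) (.node (.node (.leaf []) (.leaf []))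 (.node (.leaf []) (.leaf [2, 1, 1, 1, 1, 0, 0, 2, 2, 2, 0, 0, 0, 1])))))) (.node (.node (.node (.node (.node (.node (.leaf []) (.leaf [1, 0, 0, 2, 1, 1, 2, 0, 0, 0, 2, 1, 0, 1])) (.leaf [0, 1])) (.node (.leaf []) (.leaf [2, 1, 2, 0, 1, 1, 1, 1, 2, 1, 0, 1, 1, 1]))) (.node (.node (.leaf []) (.leaf [2, 2, 0, 0, 0, 0, 2])) (.node (.leaf [0, 0, 1, 0, 1, 0, 0, 2]) (.leaf [2, 2, 1, 0, 1, 1, 2, 1, 1, 0, 2])))) (.node (.node (.node (.leaf [0, 1]) (.leaf [2, 2, 0, 1, 0, 2, 1, 1, 0, 1, 1, 0, 2, 1])) (.node (.leaf [2, 1, 0, 1, 1, 0, 2, 0, 2]) (.leaf [0, 1]))) (.node (.node (.leaf [2, 1, 0, 0, 0, 0, 1, 0, 0, 1, 0, 1, 0, 1]) (.leaf [])) (.node (.leaf [2, 2, 1, 0, 0, 1, 0, 2, 0, 0, 0, 1, 1, 1]) (.leaf [1, 2, 1, 0, 0, 0, 1, 2, 1, 1, 2, 1, 0, 1]))))) (.node (.node (.node (.node (.node (.leaf []) (.leaf [2, 0, 0, 0, 0, 1, 2, 0, 1, 2, 1, 2])) (.leaf [2, 2, 1, 0, 2, 0, 1, 2, 0, 2, 1, 1, 1, 2])) (.node (.leaf [2, 0,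 0, 0, 1, 1, 0, 2, 0, 2, 1, 0, 2, 1]) (.leaf []))) (.node (.node (.leaf []) (.leaf [0, 1, 0, 2, 0, 0, 0, 0, 2, 0, 1, 0, 1])) (.node (.leaf [0, 1]) (.leaf [2, 0, 2, 1, 1, 1, 0, 1, 0, 0, 1, 0, 0, 1])))) (.node (.node (.node (.leaf [2, 0, 2, 1, 1, 1, 1, 1, 0, 2, 1, 2, 2, 1]) (.leaf [0, 2, 1, 1, 0, 1, 1, 1, 0, 0, 2, 2, 0, 1])) (.node (.leaf []) (.leaf [1, 1, 0, 0, 0, 1, 1, 1, 1, 1, 0, 2, 1, 1]))) (.node (.node (.leaf []) (.leaf [])) (.node (.leaf []) (.leaf [1, 0, 1, 1, 2, 0, 2, 0, 1, 1, 2, 1])))))))) (.node (.node (.node (.node (.node (.node (.node (.node (.leaf [0, 1]) (.leaf [0, 1, 0, 0, 2, 1, 2, 2, 2, 1, 0, 1])) (.leaf [1, 2, 2, 2, 0, 1, 1, 0, 1, 1, 1, 2, 0, 1])) (.node (.leaf [1, 0, 2, 0, 0, 2, 1, 2, 2, 0, 1, 2, 0, 1]) (.leaf [1, 2, 0, 1, 2, 1, 0, 1, 0, 1, 2, 1, 2, 2]))) (.node (.node (.leaf []) (.leaf [0, 2, 1, 2, 2, 0, 1, 0, 1])) (.node (.leaf [2, 0, 2, 2, 0, 0, 1, 0, 0, 1, 0, 1, 0, 2]) (.leaf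 [0, 1])))) (.node (.node (.node (.node (.leaf []) (.leaf [1, 0, 2, 0, 1, 1, 0, 1, 2, 1, 1, 1, 1])) (.leaf [1, 1, 2, 1, 2, 0, 0, 1, 0, 0, 2, 2, 0, 1])) (.node (.leaf [1, 1, 2, 2, 2, 1, 0, 0, 1, 1, 2, 1, 1, 1]) (.leaf [1, 0, 0, 2, 0, 2, 2, 0, 1, 1]))) (.node (.node (.leaf [2, 0, 2, 1, 0, 2, 2, 0, 2, 2, 1, 2, 0, 1]) (.leaf [1, 0, 1, 1, 2, 0, 0, 1, 0, 0, 0, 0, 1, 1])) (.node (.leaf [1, 0, 2, 0, 1, 1, 2, 1, 0, 2, 1, 1, 0, 2]) (.leaf [2, 0, 0, 0, 0, 1, 2, 1, 0, 1, 0, 0, 1, 2]))))) (.node (.node (.node (.node (.node (.leaf []) (.leaf [2, 2, 2, 2, 2, 0, 0, 0, 1, 0, 0, 0, 1, 2])) (.leaf [2, 0, 2, 1, 0, 2, 2, 0, 2, 2, 1, 2, 0, 1])) (.node (.leaf [0, 1]) (.leaf [1, 1, 0, 2, 0, 1, 0, 0, 2, 2, 0, 2, 2, 2]))) (.node (.node (.leaf []) (.leaf [0, 1, 0, 0, 1, 0, 2])) (.node (.leaf []) (.leaf [1, 0, 1, 0, 2, 0, 1, 1, 0, 0, 1, 2, 1, 2])))) (.node (.node (.node (.leaf [0, 1]) (.leaf [1, 1, 0, 0, 1, 1, 2, 0, 0, 2]))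 (.node (.leaf []) (.leaf [2, 2, 0, 2, 2, 0, 2, 0, 2, 0, 2]))) (.node (.node (.leaf []) (.leaf [2, 1, 2, 0, 0, 2, 1, 0, 1, 1, 1, 0, 2, 1])) (.node (.leaf [2, 1, 1, 2, 2, 1, 2, 2, 0, 0, 1, 0, 2, 1]) (.leaf [1, 1, 2, 0, 1, 2, 1, 1, 1, 2, 2, 0, 1, 1])))))) (.node (.node (.node (.node (.node (.node (.leaf []) (.leaf [0, 1, 2, 2, 2, 2, 0, 0, 0, 2, 0, 0, 2])) (.leaf [2, 0, 2, 2, 2, 1, 1, 0, 2, 1, 1, 1, 1, 1])) (.node (.leaf []) (.leaf [2, 1, 2, 2, 2, 1, 1, 1, 0, 2, 2, 1, 0, 2]))) (.node (.node (.leaf []) (.leaf [2, 1, 0, 2, 0, 2, 2, 0, 1, 2, 2, 2])) (.node (.leaf []) (.leaf [2, 1, 1, 0, 2, 2, 1, 2, 0, 1, 2, 2, 0, 1])))) (.node (.node (.node (.leaf []) (.leaf [2, 1, 0, 1, 1, 0, 0, 0, 1, 0, 1])) (.node (.leaf [2, 1, 2, 0, 2, 0, 1, 0, 1, 1, 1]) (.leaf [2, 2, 2, 2, 2, 2, 0, 1, 2, 1]))) (.node (.node (.leaf []) (.leaf [])) (.node (.leaf [1, 2, 0, 0, 1, 2, 1, 2, 1, 1, 2, 0, 0, 1]) (.leaf [0, 1]))))) (.node (.node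 (.node (.node (.node (.leaf []) (.leaf [1, 1, 1, 2, 1, 0, 2, 2, 1, 1, 0, 0, 0, 2])) (.leaf [])) (.node (.leaf [2, 2, 2, 0, 1, 2, 1, 2, 1, 2, 0, 2]) (.leaf [2, 1, 2, 2, 1, 2, 0, 2, 2, 1, 2, 1, 0, 1]))) (.node (.node (.leaf []) (.leaf [1, 0, 0, 2, 1, 2, 0, 1, 0, 1, 0, 2, 2])) (.node (.leaf []) (.leaf [0, 2, 1, 2, 2, 0, 0, 2, 2, 0, 1, 2, 1, 1])))) (.node (.node (.node (.leaf []) (.leaf [2, 2, 2, 0, 1, 2, 2, 0, 0, 1, 0, 1, 1])) (.node (.leaf [1, 1, 0, 1, 0, 0, 1, 0, 1, 0, 2, 2, 0, 1]) (.leaf [0, 1]))) (.node (.node (.leaf [1, 1, 2, 1, 2, 2, 0, 0, 1, 2, 2, 2, 0, 1]) (.leaf [0, 1])) (.node (.leaf [2, 1, 0, 1, 2, 2, 2, 2, 2, 2, 1, 2, 2, 1]) (.leaf [2, 0, 1, 0, 2, 0, 2, 1, 2, 1, 2, 2, 1, 1]))))))) (.node (.node (.node (.node (.node (.node (.node (.leaf []) (.leaf [1, 0, 2, 2, 0, 1, 1, 2, 0, 2, 0, 2])) (.leaf [0, 2, 0, 0, 2, 0, 2, 2, 2, 0, 1, 1, 0, 1])) (.node (.leaf []) (.leaf [2, 1, 0, 2, 1, 0, 0, 2, 0,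 1, 1, 2, 2, 1]))) (.node (.node (.leaf []) (.leaf [2, 1, 0, 2, 1, 1, 1, 1, 2, 2, 0, 0, 1, 2])) (.node (.leaf []) (.leaf [1, 1, 0, 1, 2, 0, 1, 2, 0, 1, 0, 1, 1, 2])))) (.node (.node (.node (.leaf [0, 1]) (.leaf [2, 1, 2, 0, 1, 1, 1, 0, 1, 1, 1, 0, 1, 2])) (.node (.leaf [1, 1, 1, 1, 1, 0, 2, 2, 1, 1, 2, 2]) (.leaf [2, 1, 1, 0, 1, 0, 2, 2]))) (.node (.node (.leaf [0, 0, 1, 2, 1, 2, 1, 1, 0, 1, 0, 2, 2, 2]) (.leaf [2, 2, 1, 2, 2, 1, 2, 1, 2, 2, 2, 2, 0, 2])) (.node (.leaf [0, 2, 2, 0, 2, 1, 2, 0, 0, 1, 0, 1, 0, 1]) (.leaf [0, 2, 0, 2, 0, 0, 0, 0, 2, 1, 2, 2, 1, 2]))))) (.node (.node (.node (.node (.node (.leaf []) (.leaf [2, 2, 0, 0, 0, 0, 2])) (.leaf [])) (.node (.leaf [0, 0, 0, 1, 1, 0, 2, 2, 1, 1, 0, 2, 0, 1]) (.leaf [0, 0, 0, 2, 2, 0, 2, 2, 1, 2, 0, 2, 0, 2]))) (.node (.node (.leaf [0, 0, 0, 0, 1, 1, 0, 0, 1, 2, 2, 2, 1, 1]) (.leaf [0, 1, 0, 1, 2, 0, 0, 1, 0, 1, 2, 2, 1, 2])) (.node (.leaf [0, 1,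 1, 0, 0, 1, 0, 2, 1, 0, 0, 2]) (.leaf [0, 0, 2, 2, 0, 1, 2, 0, 2, 1, 2, 1, 2, 2])))) (.node (.node (.node (.leaf []) (.leaf [2, 1, 0, 2, 0, 2, 0, 2, 1, 1, 0, 0, 1, 1])) (.node (.leaf [2, 2, 1, 2, 1, 0, 2, 0, 0, 1, 0, 1, 2]) (.leaf [0, 0, 1, 1, 1, 0, 0, 2, 0, 0, 1, 2, 1, 1]))) (.node (.node (.leaf []) (.leaf [])) (.node (.leaf [2, 0, 0, 1, 0, 0, 1, 0, 2]) (.leaf [2, 0, 2, 0, 1, 2, 0, 0, 1, 1, 1, 1, 2])))))) (.node (.node (.node (.node (.node (.node (.leaf []) (.leaf [1, 1, 0, 0, 1, 0, 0, 0, 2, 1, 1, 0, 0, 2])) (.leaf [2, 0, 2, 1, 1, 1, 1, 0, 2, 0, 2, 2, 1, 1])) (.node (.leaf []) (.leaf [2, 2, 1, 2, 0, 0, 2, 2, 1, 1, 0, 0, 0, 2]))) (.node (.node (.leaf [1, 0, 1, 0, 1, 0, 0, 2]) (.leaf [1, 0, 2, 2, 0, 2, 0, 0, 0, 2, 0, 1, 2, 2])) (.node (.leaf [2, 0, 0, 0, 2, 2, 2, 1, 0, 1, 1, 0, 2, 2]) (.leaf [2, 2, 0, 0, 2, 1, 0, 2])))) (.node (.node (.node (.leaf [2, 2, 2, 1, 2, 2, 1, 0, 1, 1, 2, 0, 0, 1]) (.leaf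 [0, 0, 0, 1, 1, 0, 0, 0, 0, 0, 2])) (.node (.leaf [1, 2, 1, 1, 1, 1, 0, 2, 1, 2]) (.leaf []))) (.node (.node (.leaf [1, 1, 0, 1, 0, 0, 0, 0, 0, 0, 2]) (.leaf [0, 0, 2, 0, 2, 0, 0, 1])) (.node (.leaf [0, 2, 0, 1, 1, 2, 2, 0, 2, 1, 1, 1, 1, 2]) (.leaf [2, 1, 2, 2, 0, 0, 0, 0, 1, 0, 1, 2, 1, 2]))))) (.node (.node (.node (.node (.node (.leaf []) (.leaf [0, 0, 1, 0, 1, 2, 0, 1, 0, 1, 0, 1, 1])) (.leaf [0, 1])) (.node (.leaf [0, 2, 0, 0, 2, 0, 0, 0, 2, 2, 1, 2, 0, 2]) (.leaf [1, 2, 1, 1, 0, 1, 0, 0, 1, 1, 1, 2, 2, 1]))) (.node (.node (.leaf [0, 0, 2, 2, 2, 2, 1, 0, 1, 0, 2, 0, 2, 2]) (.leaf [1, 2, 0, 1, 2, 2, 0, 0, 2, 0, 0, 1])) (.node (.leaf []) (.leaf [2, 2, 0, 2, 0, 0, 1, 1, 2, 2, 0, 2, 0, 1])))) (.node (.node (.node (.leaf [0, 0, 1, 0, 2, 2, 0, 2, 1, 1, 0, 1, 1, 2]) (.leaf [2, 1, 1, 0, 0, 1, 2, 1, 0, 2, 2, 2])) (.node (.leaf []) (.leaf [0, 2, 2, 0, 2, 1, 1, 1, 0, 0, 2, 1, 2, 1]))) (.node (.node (.leaf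 []) (.leaf [1, 2, 1, 1, 1, 0, 1, 0, 2, 2, 1, 1, 0, 2])) (.node (.leaf [2, 0, 2, 2, 1, 2, 0, 2, 1, 0, 2, 2, 1, 1]) (.leaf [2, 2, 1, 0, 2, 0, 1, 2, 0, 2, 1, 1, 1, 2]))))))))) (.node (.node (.node (.node (.node (.node (.node (.node (.node (.leaf []) (.leaf [2, 1, 1, 1, 2, 2, 0, 0, 0, 1, 0, 2, 2])) (.leaf [1, 1, 1, 0, 1, 1, 1, 1, 1, 1, 1, 0, 1, 2])) (.node (.leaf []) (.leaf [1, 1, 1, 1, 1, 2, 0, 2, 0, 1]))) (.node (.node (.leaf [1, 1, 0, 1, 0, 0, 0, 0, 0, 0, 2]) (.leaf [0, 1, 2, 0, 0, 0, 0, 0, 2, 0, 0, 0, 2, 2])) (.node (.leaf []) (.leaf [1, 1, 0, 2, 2, 1, 0, 1, 1, 2, 1, 0, 1, 2])))) (.node (.node (.node (.node (.leaf [0, 0, 1, 0, 1, 0, 0, 2]) (.leaf [0, 1, 2, 2, 1, 0, 0, 0, 2, 1, 1, 1, 0, 2])) (.leaf [0, 2, 2, 0, 1, 0, 0, 1, 2, 1, 0, 1, 1, 1])) (.node (.leaf [2, 1, 0, 2, 0, 2, 1, 2, 0, 2, 0, 2, 2, 1]) (.leaf [2, 1, 2, 1, 2, 0, 2, 2, 0, 0, 2, 1, 1, 1]))) (.node (.node (.leaf []) (.leaf [0, 2, 1, 0, 2,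 0, 2, 1, 1, 0, 2, 0, 2, 1])) (.node (.leaf []) (.leaf [1, 0, 0, 1, 1, 0, 0, 1, 2, 0, 2, 0, 0, 1]))))) (.node (.node (.node (.node (.node (.leaf [0, 0, 0, 1, 0, 1, 2, 0, 1, 2, 2, 2, 0, 1]) (.leaf [0, 0, 0, 2, 0, 1, 2, 2, 2, 1, 0, 2, 1, 1])) (.leaf [2, 0, 0, 2, 2, 2, 1, 0, 1, 2, 2, 2])) (.node (.leaf [0, 1]) (.leaf [1, 2, 0, 0, 2, 0, 0, 0, 2, 0, 0, 1]))) (.node (.node (.leaf [1, 0, 0, 0, 0, 1, 2, 1, 0, 0, 2, 2, 0, 2]) (.leaf [1, 0, 0, 2, 0, 0, 1, 2, 2, 1, 2, 2, 2, 1])) (.node (.leaf [2, 2, 2, 0, 2, 1, 0, 0, 0, 2, 0, 2, 0, 2]) (.leaf [0, 1])))) (.node (.node (.node (.leaf [0, 1, 2, 0, 1, 2, 0, 0, 1, 0, 2, 0, 1, 2]) (.leaf [1, 1, 0, 1, 0, 0, 2, 2, 2, 1, 0, 2, 1, 1])) (.node (.leaf [0, 0, 0, 0, 0, 0, 1, 0, 2, 0, 1]) (.leaf [0, 1]))) (.node (.node (.leaf [2, 2, 0, 2, 0, 0, 1, 0, 2, 0, 0, 0, 2]) (.leaf [2, 0, 0, 2, 1, 2, 2, 1, 2, 1, 0, 2, 2])) (.node (.leaf [1, 0, 2, 2, 2, 2, 2, 0, 2, 0, 1, 0, 2, 2]) (.leaf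 [1, 1, 1, 1, 2, 1, 0, 1, 2, 0, 1, 1, 2, 2])))))) (.node (.node (.node (.node (.node (.node (.leaf []) (.leaf [1, 2, 1, 1, 2, 2, 0, 1, 0, 1, 0, 0, 1, 2])) (.leaf [])) (.node (.leaf [1, 1, 0, 1, 0, 0, 0, 0, 0, 0, 2]) (.leaf [2, 0, 2, 0, 0, 0, 2, 1]))) (.node (.node (.leaf []) (.leaf [0, 2, 0, 2, 2, 2, 0, 1, 0, 2, 2, 2, 2, 2])) (.node (.leaf [0, 2, 2, 1, 0, 1, 1, 1, 1, 2, 2, 1, 0, 2]) (.leaf [2, 0, 0, 2, 1, 2, 2, 0, 0, 0, 1, 2, 2, 2])))) (.node (.node (.node (.leaf [0, 0, 2, 1, 1, 1, 1, 0, 0, 1, 0, 1, 2, 1]) (.leaf [])) (.node (.leaf [1, 0, 2, 0, 2, 1, 2, 2, 0, 2, 1, 2, 2, 2]) (.leaf []))) (.node (.node (.leaf [2, 0, 1, 2, 1, 1, 2, 1, 2, 1, 2, 1, 0, 1]) (.leaf [2, 1, 1, 1, 1, 0, 1, 0, 0, 0, 0, 1, 0, 1])) (.node (.leaf [2, 0, 0, 1, 2, 0, 0, 0, 1, 2, 0, 2, 1, 2]) (.leaf [1, 1, 0, 2, 0, 0, 2, 0, 2, 0, 0, 0, 2]))))) (.node (.node (.node (.node (.node (.leaf []) (.leaf [0, 1])) (.leaf [1, 2, 1, 2, 1, 2,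 0, 2, 0, 1, 1, 1, 2, 2])) (.node (.leaf [0, 1, 1, 1, 2, 1, 2, 1, 1, 0, 2, 1, 2, 2]) (.leaf [1, 0, 2, 2, 2, 2, 1, 1, 0, 0, 2, 0, 1, 1]))) (.node (.node (.leaf [0, 1]) (.leaf [2, 0, 2, 2, 0, 0, 2, 0, 1, 1])) (.node (.leaf [0, 1]) (.leaf [2, 0, 0, 0, 2, 2, 1, 0, 1, 2, 1, 0, 2])))) (.node (.node (.node (.leaf [1, 2, 2, 1, 2, 1, 2, 1, 2, 1, 1, 2, 0, 2]) (.leaf [1, 1, 0, 1, 2, 1, 0, 2, 0, 0, 1, 2, 2, 2])) (.node (.leaf [2, 0, 2, 1, 2, 0, 1, 2, 1, 0, 2, 1, 0, 1]) (.leaf [0, 0, 0, 0, 1, 1, 0, 0, 0, 1, 0, 1, 1]))) (.node (.node (.leaf [2, 1, 0, 2, 2, 0, 0, 0, 0, 0, 1]) (.leaf [])) (.node (.leaf []) (.leaf [0, 2, 2, 1, 1, 0, 0, 2, 2, 2]))))))) (.node (.node (.node (.node (.node (.node (.node (.leaf []) (.leaf [2, 2, 0, 2, 1, 1, 0, 0, 1, 0, 0, 2])) (.leaf [1, 0, 0, 2, 1, 2, 0, 0, 1, 1, 2, 1, 0, 2])) (.node (.leaf [1, 2, 1, 0, 2, 2, 0, 2, 1, 1, 0, 2, 1, 1]) (.leaf [0, 1]))) (.node (.node (.leaf []) (.leaf [2,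 2, 2, 2, 2, 2, 2, 0, 1, 1, 2, 1, 2])) (.node (.leaf []) (.leaf [1, 1, 0, 0, 1, 1, 0, 2, 1, 2, 2, 1, 2, 2])))) (.node (.node (.node (.node (.leaf []) (.leaf [0, 1, 0, 2, 2, 0, 2, 0, 1, 0, 1])) (.leaf [1, 1, 0, 2, 0, 0, 2, 0, 1])) (.node (.leaf [2, 0, 0, 0, 0, 2, 2, 2, 0, 2, 2, 1, 2, 2]) (.leaf [0, 2, 1, 0, 1, 2, 2, 2, 0, 1, 0, 2, 2, 1]))) (.node (.node (.leaf []) (.leaf [0, 2, 1, 2, 2, 2, 2, 1, 2, 2, 2, 0, 1])) (.node (.leaf []) (.leaf []))))) (.node (.node (.node (.node (.node (.leaf []) (.leaf [1, 0, 2, 2, 2, 2, 0, 2, 0, 0, 1, 2, 0, 1])) (.leaf [0, 0, 0, 2, 2, 0, 0, 0, 2, 0, 2])) (.node (.leaf [2, 0, 1, 0, 0, 0, 1, 2]) (.leaf [0, 1]))) (.node (.node (.leaf []) (.leaf [2, 0, 1, 1, 0, 1, 0, 0, 1, 0, 2, 2, 2, 2])) (.node (.leaf [1, 2, 0, 0, 0, 0, 1]) (.leaf [1, 1, 2, 2, 1, 2, 0, 1, 1, 0, 2, 1, 1, 1])))) (.node (.node (.node (.leaf [1, 1, 2, 1, 2, 0, 0, 0, 1, 0, 2, 0, 1, 1]) (.leaf [1, 2, 0, 1, 0, 1,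 0, 0, 0, 0, 1, 0, 0, 1])) (.node (.leaf [0, 0, 2, 1, 1, 2, 0, 0, 2, 0, 1, 0, 0, 2]) (.leaf [0, 2, 1, 2, 1, 0, 0, 2, 0, 0, 1, 2, 0, 1]))) (.node (.node (.leaf []) (.leaf [0, 0, 2, 1, 0, 2, 2, 0, 1, 2, 0, 1, 2, 2])) (.node (.leaf []) (.leaf [1, 0, 2, 2, 1, 0, 0, 2, 0, 0, 2, 0, 0, 2])))))) (.node (.node (.node (.node (.node (.node (.leaf [0, 1]) (.leaf [0, 0, 2, 1, 1, 1, 2, 0, 2, 1, 1, 0, 2, 2])) (.leaf [2, 1, 2, 0, 0, 2, 1, 2, 1, 2, 0, 1, 2])) (.node (.leaf [1, 1, 0, 2, 0, 1, 2, 0, 1, 0, 0, 2]) (.leaf [1, 1, 0, 0, 2, 2, 0, 2, 1, 2]))) (.node (.node (.leaf [1, 0, 1, 2, 2, 2, 1, 0, 0, 1, 0, 1, 1, 1]) (.leaf [0, 1])) (.node (.leaf [0, 1, 0, 0, 0, 0, 0, 2, 1, 0, 0, 1, 1]) (.leaf [1, 0, 1, 0, 1, 0, 0, 2])))) (.node (.node (.node (.leaf []) (.leaf [0, 1])) (.node (.leaf [0, 1]) (.leaf [1, 0, 0, 1, 2, 2, 0, 0, 1, 1, 0, 2, 0, 1]))) (.node (.node (.leaf []) (.leaf [2, 1, 0, 1, 1, 2, 2, 2, 2, 0, 2, 0, 2, 2]))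 (.node (.leaf [0, 1, 1, 0, 1, 0, 0, 2]) (.leaf [2, 2, 0, 0, 1, 2, 0, 1, 1, 2, 0, 1, 1]))))) (.node (.node (.node (.node (.node (.leaf []) (.leaf [2, 0, 2, 0, 2, 1, 0, 0, 1, 2, 2, 2, 0, 2])) (.leaf [0, 2, 2, 0, 1, 0, 1, 2, 1, 1, 0, 1])) (.node (.leaf [0, 0, 1, 1, 0, 2, 0, 0, 1, 2, 2, 2, 2, 2]) (.leaf [0, 1]))) (.node (.node (.leaf []) (.leaf [0, 0, 0, 1, 0, 1, 0, 0, 2, 1, 1, 0, 2])) (.node (.leaf []) (.leaf [2, 1, 0, 2, 1, 0, 0, 0, 1, 1, 2, 0, 1, 2])))) (.node (.node (.node (.leaf []) (.leaf [1, 2, 1, 0, 1, 0, 0, 1, 1, 2, 1, 1, 0, 1])) (.node (.leaf [2, 2, 0, 0, 0, 0, 2]) (.leaf [2, 0, 0, 2, 1, 2, 1, 2, 2, 0, 1, 0, 2, 2]))) (.node (.node (.leaf [2, 1, 2, 0, 1, 1, 2, 2, 2, 0, 1, 2, 2, 2]) (.leaf [0, 1, 0, 1, 1, 0, 1, 0, 1, 1, 2, 0, 2, 2])) (.node (.leaf []) (.leaf [1, 2, 2, 0, 1, 0, 1, 2, 0, 2, 2, 2, 1, 2])))))))) (.node (.node (.node (.node (.node (.node (.node (.node (.leaf []) (.leaf [0, 2, 0, 1,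 1, 1, 2, 2, 1, 0, 2, 1, 1, 1])) (.leaf [0, 0, 2, 2, 1, 0, 2, 2, 2, 1, 1, 1, 2])) (.node (.leaf []) (.leaf [1, 2, 0, 1, 0, 0, 1, 1, 1, 1, 2, 1]))) (.node (.node (.leaf [0, 0, 1, 2, 2, 1, 2, 2, 0, 2]) (.leaf [2, 0, 2, 0, 1, 0, 1, 1, 0, 2, 2, 1, 1])) (.node (.leaf [0, 1]) (.leaf [2, 1, 0, 1, 2, 2, 2, 2, 2, 0, 0, 1, 1, 1])))) (.node (.node (.node (.node (.leaf []) (.leaf [0, 0, 0, 0, 0, 0, 0, 0, 0, 0, 1, 0, 0, 0])) (.leaf [2, 1, 0, 1, 2, 2, 1, 1, 1, 0, 1, 1, 0, 2])) (.node (.leaf [2, 1, 2, 1, 1, 2, 1, 0, 2, 0, 2, 1, 2, 1]) (.leaf [0, 0, 2, 2, 0, 1, 1, 0, 2, 0, 1, 0, 1]))) (.node (.node (.leaf []) (.leaf [])) (.node (.leaf []) (.leaf [1, 0, 1, 0, 1, 0, 0, 2]))))) (.node (.node (.node (.node (.node (.leaf []) (.leaf [1, 2, 0, 1, 0, 0, 0, 2, 1, 0, 2, 0, 0, 2])) (.leaf [1, 1, 1, 2, 2, 0, 0, 1, 0, 2, 0, 2, 2, 1])) (.node (.leaf [2, 1, 2, 0, 2, 0, 0, 1]) (.leaf [0, 1, 0, 0, 2, 2, 2, 1, 2, 1, 0, 0, 1, 2])))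 (.node (.node (.leaf [0, 1]) (.leaf [0, 0, 2, 1, 1, 1, 1, 0, 0, 1, 0, 1, 2, 1])) (.node (.leaf []) (.leaf [1, 1, 2, 2, 0, 0, 2, 0, 2, 1, 1])))) (.node (.node (.node (.leaf [1, 1, 0, 1, 2, 1, 1, 0, 0, 0, 0, 0, 0, 2]) (.leaf [0, 1, 2, 0, 2, 0, 0, 1])) (.node (.leaf [0, 1, 2, 1, 1, 0, 2, 1, 0, 1, 1, 1, 1, 1]) (.leaf [1, 1, 1, 1, 0, 1, 0, 0, 2, 1, 1]))) (.node (.node (.leaf []) (.leaf [0, 1, 0, 1, 1, 0, 0, 0, 1, 0, 1])) (.node (.leaf []) (.leaf [0, 1])))))) (.node (.node (.node (.node (.node (.node (.leaf []) (.leaf [1, 2, 0, 2, 0, 1, 2, 2, 1, 0, 2, 2, 2, 2])) (.leaf [1, 1, 1, 2, 0, 2, 1, 1, 0, 0, 2, 1, 0, 1])) (.node (.leaf [2, 0, 2, 2, 2, 1, 0, 1, 0, 2]) (.leaf [2, 1, 1, 0, 2, 2, 2, 0, 1, 1, 2, 1, 0, 1]))) (.node (.node (.leaf []) (.leaf [0, 2, 1, 0, 2, 1, 0, 1, 2, 1, 0, 2, 2, 1])) (.node (.leaf []) (.leaf [1, 0, 0, 1, 1, 1, 2, 1, 1, 2, 2, 2, 1])))) (.node (.node (.node (.leaf []) (.leaf [2, 0, 0,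 2, 1, 0, 2, 0, 0, 0, 1])) (.node (.leaf [1, 0, 1, 2, 0, 1, 1, 2, 1, 0, 0, 2, 1]) (.leaf [0, 1]))) (.node (.node (.leaf [2, 2, 1, 1, 0, 0, 0, 2, 0, 2, 1, 2, 1, 2]) (.leaf [1, 0, 2, 1, 1, 2, 2, 1, 0, 1])) (.node (.leaf [2, 2, 1, 2, 2, 1, 2, 0, 0, 0, 2, 1, 1]) (.leaf [2, 2, 2, 1, 2, 1, 0, 1, 0, 0, 1, 0, 0, 1]))))) (.node (.node (.node (.node (.node (.leaf []) (.leaf [0, 0, 0, 1, 0, 0, 0, 0, 1, 0, 2, 0, 2])) (.leaf [2, 0, 1, 1, 0, 1, 2, 2, 1, 1, 0, 1, 2])) (.node (.leaf [1, 2, 1, 2, 0, 0, 2, 1, 1, 0, 1, 0, 1, 1]) (.leaf [2, 1, 0, 2, 2, 0, 2, 0, 1]))) (.node (.node (.leaf [0, 0, 2, 0, 1, 1, 1, 0, 2, 0, 1, 2, 0, 1]) (.leaf [0, 0, 1, 0, 0, 1, 2, 1, 1, 1, 0, 0, 0, 2])) (.node (.leaf [0, 0, 0, 1, 0, 0, 1, 0, 2]) (.leaf [1, 1, 0, 1, 0, 2, 0, 1, 2, 0, 1, 2, 0, 1])))) (.node (.node (.node (.leaf []) (.leaf [1, 0, 1, 0, 0, 2, 1, 2, 1, 2, 2, 0, 1, 2])) (.node (.leaf [1, 0, 1, 0, 0, 2, 2, 0, 1, 0, 2, 2, 0, 1])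 (.leaf [2, 0, 1, 2, 2, 0, 0, 2, 2, 2, 1, 1]))) (.node (.node (.leaf [2, 1, 1, 1, 0, 2, 1, 0, 2, 0, 1, 0, 2]) (.leaf [1, 1, 1, 1, 2, 1, 0, 0, 0, 2, 2, 2, 2])) (.node (.leaf [1, 0, 1, 0, 0, 1, 2, 1]) (.leaf [2, 2, 1, 0, 2, 2, 0, 2, 2, 1, 0, 2, 0, 1]))))))) (.node (.node (.node (.node (.node (.node (.node (.leaf []) (.leaf [1, 2, 0, 0, 0, 2, 1, 0, 2, 0, 1, 2, 2, 2])) (.leaf [1, 2, 2, 0, 2, 0, 1, 1])) (.node (.leaf [0, 1]) (.leaf [1, 2, 1, 0, 1, 2]))) (.node (.node (.leaf []) (.leaf [0, 2, 1, 0, 1, 2, 1, 0, 2, 1, 0, 1, 2])) (.node (.leaf []) (.leaf [0, 1])))) (.node (.node (.node (.leaf []) (.leaf [1, 2, 0, 0, 2, 1, 2, 0, 2, 2, 1, 2, 1, 1])) (.node (.leaf [1, 0, 0, 0, 0, 1, 2, 0, 1, 0, 0, 2]) (.leaf [1, 2, 0, 1, 2, 1, 1, 2, 1, 0, 0, 1, 1, 2]))) (.node (.node (.leaf []) (.leaf [0, 1])) (.node (.leaf [2, 0, 1, 2, 1, 0, 0, 0, 2, 1, 1, 2, 2, 2]) (.leaf []))))) (.node (.node (.node (.node (.node (.leaf [])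 (.leaf [1, 0, 0, 2, 2, 0, 1, 0, 1])) (.leaf [2, 1, 0, 0, 0, 0, 0, 0, 2, 0, 2, 0, 2])) (.node (.leaf [0, 1, 2, 2, 2, 0, 1, 0, 1, 2, 2, 2]) (.leaf [2, 2, 0, 1, 1, 0, 1, 0, 1, 0, 1]))) (.node (.node (.leaf []) (.leaf [1, 1, 1, 1, 2, 2, 0, 1, 0, 1, 0, 1, 2, 1])) (.node (.leaf []) (.leaf [1, 1, 1, 2, 0, 1, 2, 0, 1, 2, 2, 2, 1, 1])))) (.node (.node (.node (.leaf []) (.leaf [2, 2, 2, 2, 1, 1, 2, 0, 2, 1, 1, 2, 2])) (.node (.leaf [2, 0, 0, 2, 2, 2, 1, 2, 1, 2, 0, 2]) (.leaf [2, 2, 0, 0, 1, 2, 1, 0, 2, 2, 1, 0, 2, 2]))) (.node (.node (.leaf []) (.leaf [2, 2, 0, 2, 1, 2, 2, 0, 0, 0, 0, 0, 0, 1])) (.node (.leaf [0, 1]) (.leaf [2, 1, 1, 0, 0, 0, 1, 2])))))) (.node (.node (.node (.node (.node (.node (.leaf []) (.leaf [2, 2, 2, 0, 0, 2, 2, 2])) (.leaf [0, 0, 2, 0, 0, 1, 2, 1, 2, 0, 0, 1, 2, 1])) (.node (.leaf []) (.leaf [2, 0, 1, 2, 1, 0, 1, 2, 2, 0, 2, 2, 0, 1]))) (.node (.node (.leaf []) (.leaf [2, 2, 1, 2,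 0, 1, 1, 2, 0, 0, 1, 0, 1, 2])) (.node (.leaf [2, 0, 0, 2, 1, 0, 0, 2, 0, 2, 1, 1, 2, 1]) (.leaf [0, 0, 0, 1, 1, 0, 0, 1, 0, 1, 0, 0, 1, 2])))) (.node (.node (.node (.leaf []) (.leaf [1, 0, 0, 1, 1, 1, 1, 1, 2, 0, 1, 0, 1, 1])) (.node (.leaf [0, 2, 2, 0, 2, 2, 1, 1, 0, 1, 1, 0, 2, 2]) (.leaf [1, 0, 0, 1, 1, 0, 0, 0, 0, 0, 2]))) (.node (.node (.leaf []) (.leaf [2, 2, 2, 0, 0, 2, 0, 1, 0, 2, 2, 0, 0, 2])) (.node (.leaf [2, 1, 0, 1, 2, 2, 0, 0, 1, 0, 0, 2, 0, 2]) (.leaf [0, 1]))))) (.node (.node (.node (.node (.node (.leaf []) (.leaf [0, 0, 0, 1, 0, 0, 0, 0, 1, 0, 2, 0, 2])) (.leaf [])) (.node (.leaf [0, 2, 0, 2, 2, 2, 2, 1, 0, 0, 1, 2, 0, 1]) (.leaf [2, 0, 1, 1, 0, 1, 0, 1, 2, 2, 2, 2, 2, 1]))) (.node (.node (.leaf [0, 1]) (.leaf [])) (.node (.leaf [0, 1, 2, 0, 1, 2, 0, 1, 2, 1, 1, 1, 0, 1]) (.leaf [1, 1, 2, 2, 2, 1, 0, 0, 1, 0, 1, 2, 0, 1])))) (.node (.node (.node (.leaf [2, 1, 1, 2, 0, 0, 0, 0, 1,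 2, 2, 2, 2, 1]) (.leaf [1, 1, 0, 0, 2, 0, 2, 1, 0, 1, 2, 0, 2, 1])) (.node (.leaf []) (.leaf [0, 2, 1, 0, 0, 0, 2, 2]))) (.node (.node (.leaf [2, 2, 2, 2, 2, 0, 2, 2, 2, 2, 2, 1, 1, 2]) (.leaf [])) (.node (.leaf [1, 2, 2, 2, 1, 0, 1, 0, 1, 0, 2, 2, 0, 2]) (.leaf [1, 1, 2, 2, 0, 2, 2, 1, 2, 2, 0, 0, 1, 2])))))))))))

def threeL2 : Janko.Tree (List ℤ) :=
  (.node (.node (.node (.node (.node (.node (.node (.node (.node (.node (.node (.leaf []) (.leaf [2, 2, 1, 0, 1, 0, 0, 0, 0, 2, 0, 1, 2, 2])) (.leaf [2, 1, 0, 1, 2, 2, 1, 1, 1, 2, 2, 1, 2])) (.node (.leaf []) (.leaf [2, 2, 1, 1, 1, 2, 2, 2, 2, 2, 0, 0, 2, 2]))) (.node (.node (.leaf [0, 0, 1, 0, 2, 2, 2, 1, 2, 2, 2, 0, 2, 1]) (.leaf [0, 0, 1, 1, 0, 1, 0, 0, 0, 2])) (.node (.leaf []) (.leaf [1, 2, 0, 2, 2, 2, 0, 0, 2, 0, 2, 0, 1, 2])))) (.node (.node (.node (.node (.leaf []) (.leaf [0, 0, 0, 0, 0, 2, 1, 1, 0, 2, 2, 0, 1, 1])) (.leaf [1, 0, 1, 1, 0, 2,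 1, 2, 0, 0, 0, 2, 2, 2])) (.node (.leaf [2, 2, 0, 2, 2, 1, 1, 2, 0, 2, 0, 1, 0, 1]) (.leaf [2, 2, 2, 2, 1, 1, 2, 1, 2, 1, 1, 1]))) (.node (.node (.leaf [1, 2, 0, 1, 2, 2, 2, 2, 1, 1, 0, 1, 1, 1]) (.leaf [1, 2, 1, 1, 2, 2, 0, 2, 0, 0, 0, 0, 1, 1])) (.node (.leaf [1, 0, 1, 0, 0, 2, 0, 1, 1, 0, 2, 1, 1, 1]) (.leaf [1, 0, 0, 0, 2, 2, 2, 2, 1, 0, 2]))))) (.node (.node (.node (.node (.node (.leaf []) (.leaf [2, 0, 1, 2, 1, 0, 1, 1, 0, 2, 0, 2])) (.leaf [0, 0, 2, 2, 2, 2, 1, 1, 1, 1, 0, 0, 1, 1])) (.node (.leaf [0, 2, 2, 2, 0, 0, 0, 1, 0, 1]) (.leaf [1, 2, 2, 1, 2, 1, 0, 0, 2, 2, 2, 2, 1, 2]))) (.node (.node (.leaf []) (.leaf [0, 0, 1, 1, 1, 1, 1, 0, 2, 0, 1, 2, 2])) (.node (.leaf []) (.leaf [0, 2, 2, 0, 0, 0, 2, 1, 0, 2, 2, 0, 1, 1])))) (.node (.node (.node (.leaf []) (.leaf [0, 2, 2, 2, 0, 0, 2, 1, 1])) (.node (.leaf [0, 1, 2, 0, 1, 2, 1, 0, 2, 0, 2, 0, 0, 2]) (.leaf [1, 0, 0, 0, 0, 0, 1, 1, 0, 2, 2,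 2, 2, 1]))) (.node (.node (.leaf []) (.leaf [1, 1, 1, 1, 0, 0, 0, 0, 0, 1, 2, 2])) (.node (.leaf []) (.leaf [2, 2, 1, 2, 2, 1, 1, 0, 0, 0, 2, 0, 0, 2])))))) (.node (.node (.node (.node (.node (.node (.leaf []) (.leaf [1, 1, 1, 2, 0, 1, 2, 2, 2, 1, 1, 1, 2])) (.leaf [1, 1, 1, 1, 2, 2, 2, 0, 2, 0, 0, 0, 2, 1])) (.node (.leaf []) (.leaf [2, 1, 0, 1, 2, 1, 2, 0, 0, 0, 0, 1, 2, 2]))) (.node (.node (.leaf [2, 2, 2, 0, 0, 0, 0, 1]) (.leaf [1, 1, 1, 1, 1, 0, 1, 1, 2, 1, 1, 2, 2, 1])) (.node (.leaf []) (.leaf [0, 1, 1, 0, 0, 2, 2, 0, 2, 0, 0, 1, 1, 2])))) (.node (.node (.node (.leaf [0, 1, 2, 0, 1, 2, 0, 0, 0, 0, 1, 2]) (.leaf [2, 1, 0, 1, 0, 1, 2, 1, 1, 0, 2, 1, 0, 1])) (.node (.leaf [0, 2, 0, 1, 2, 1, 2, 0, 0, 0, 0, 2]) (.leaf [1, 0, 0, 1, 0, 2, 1, 2, 1, 1, 0, 0, 1, 2]))) (.node (.node (.leaf []) (.leaf [0, 0, 1, 0, 1, 2, 2, 2, 1, 2, 0, 0, 1, 2])) (.node (.leaf [2, 1, 2, 1, 0, 0, 2, 1, 2, 0, 0, 2, 0, 1])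 (.leaf [2, 2, 1, 1, 1, 1, 0, 2, 1, 1, 0, 2, 2, 2]))))) (.node (.node (.node (.node (.node (.leaf []) (.leaf [1, 1, 1, 0, 1, 1, 1, 1, 0, 2, 0, 2, 0, 2])) (.leaf [1, 0, 1, 1, 0, 0, 1, 2, 0, 0, 2, 2, 2, 2])) (.node (.leaf [0, 1, 0, 2, 1, 2, 1, 0, 2, 2, 1, 2]) (.leaf [1, 1, 1, 0, 1, 2, 2, 2, 2, 0, 2, 1, 1]))) (.node (.node (.leaf [0, 0, 0, 1, 0, 1, 0, 0, 0, 2]) (.leaf [0, 0, 0, 0, 1, 2, 0, 1, 0, 1, 1, 2, 1, 1])) (.node (.leaf []) (.leaf [1, 2, 0, 0, 0, 0, 2, 1])))) (.node (.node (.node (.leaf []) (.leaf [2, 1, 0, 2, 0, 2, 2, 2, 0, 1, 0, 1, 2])) (.node (.leaf [1, 1, 2, 0, 0, 1, 1, 1, 2, 1, 0, 1]) (.leaf [0, 0, 1, 1, 0, 2, 0, 2, 1, 0, 0, 0, 2, 2]))) (.node (.node (.leaf [2, 0, 2, 1, 2, 0, 0, 1, 0, 2, 1, 1, 1]) (.leaf [0, 2, 2, 2, 2, 1, 2, 1, 1, 1, 1, 1])) (.node (.leaf [1, 0, 0, 2, 2, 1, 1, 2, 1, 0, 1, 2, 2, 1]) (.leaf [0, 1, 0, 1, 0, 1, 1, 1, 1, 0, 1, 0, 1, 2]))))))) (.node (.node (.node (.node (.node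 (.node (.node (.leaf []) (.leaf [1, 0, 2, 0, 1, 1, 2, 2, 1, 0, 1, 1, 1])) (.leaf [0, 1, 0, 0, 0, 0, 1, 1, 2, 2, 0, 2, 1, 2])) (.node (.leaf [0, 0, 0, 1, 0, 1, 0, 0, 0, 2]) (.leaf [1, 2, 2, 0, 2, 0, 0, 1, 0, 1, 2, 2, 2, 1]))) (.node (.node (.leaf [1, 2, 2, 0, 1, 0, 2, 1]) (.leaf [1, 1, 0, 2, 2, 1, 1, 0, 0, 0, 0, 0, 0, 2])) (.node (.leaf []) (.leaf [0, 1, 0, 2, 2, 1, 1, 2, 1, 0, 0, 0, 2, 1])))) (.node (.node (.node (.node (.leaf []) (.leaf [1, 2, 1, 0, 0, 1, 0, 2])) (.leaf [0, 0, 0, 2, 0, 2, 0, 0, 0, 2, 0, 2])) (.node (.leaf [0, 2, 2, 0, 1, 0, 0, 0, 2, 2, 2, 1, 0, 2]) (.leaf [1, 1, 2, 1, 1, 0, 2, 1, 0, 1, 0, 1, 1, 2]))) (.node (.node (.leaf [0, 0, 0, 1, 0, 1, 0, 0, 0, 2]) (.leaf [1, 2, 0, 0, 2, 0, 1, 2, 1, 0, 2, 0, 2, 1])) (.node (.leaf [2, 1, 2, 0, 1, 0, 2, 2]) (.leaf [0, 1, 1, 0, 1, 0, 1]))))) (.node (.node (.node (.node (.node (.leaf []) (.leaf [2, 1, 2, 2, 2, 1, 0, 0, 1, 0, 2, 1])) (.leaf [0, 2,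 2, 0, 0, 0, 0, 1])) (.node (.leaf [2, 1, 1, 1, 0, 2, 1, 2, 2, 2, 2, 0, 0, 2]) (.leaf [0, 2, 0, 1, 1, 1, 1, 2, 2, 0, 0, 2, 0, 1]))) (.node (.node (.leaf []) (.leaf [1, 1, 0, 0, 0, 2, 0, 2])) (.node (.leaf []) (.leaf [2, 0, 2, 2, 2, 1, 2, 2, 1, 0, 0, 2])))) (.node (.node (.node (.leaf []) (.leaf [0, 2, 2, 0, 2, 2, 0, 2, 1, 2, 0, 2])) (.node (.leaf [2, 2, 1, 2, 2, 2, 1, 2, 1, 1]) (.leaf [2, 1, 1, 0, 0, 0, 1, 2]))) (.node (.node (.leaf [2, 1, 2, 2, 2, 2, 1, 1, 1, 0, 2, 0, 0, 1]) (.leaf [0, 0, 1])) (.node (.leaf [0, 1, 2, 2, 0, 2, 2, 2, 0, 0, 0, 1, 1, 2]) (.leaf [])))))) (.node (.node (.node (.node (.node (.node (.leaf []) (.leaf [0, 0, 1])) (.leaf [0, 0, 2, 1, 0, 0, 0, 0, 0, 0, 0, 2])) (.node (.leaf [2, 2, 1, 0, 1, 1, 2, 1, 1, 0, 2]) (.leaf [0, 2, 0, 0, 0, 1, 2, 0, 0, 2, 1, 1, 2]))) (.node (.node (.leaf []) (.leaf [0, 1, 0, 2, 1, 2, 0, 1, 1, 2, 1, 1, 1, 1])) (.node (.leaf []) (.leaf [0, 0, 1])))) (.node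 (.node (.node (.leaf []) (.leaf [1, 2, 1, 1, 0, 2, 1, 1, 1, 2, 1, 2, 1, 1])) (.node (.leaf []) (.leaf [1, 1, 2, 2, 1, 1, 0, 1, 0, 2, 2, 2, 0, 1]))) (.node (.node (.leaf [2, 2, 1, 2, 2, 2, 2, 0, 2, 2, 2, 2, 0, 2]) (.leaf [0, 2, 2, 2, 1, 1, 0, 2, 2, 2, 1, 1, 0, 1])) (.node (.leaf []) (.leaf [0, 0, 2, 1, 1, 1, 0, 2, 0, 1, 0, 1, 1, 2]))))) (.node (.node (.node (.node (.node (.leaf []) (.leaf [0, 1, 2, 2, 2, 2, 1, 1, 2, 1, 0, 2, 1, 1])) (.leaf [2, 0, 2, 1, 1, 1, 0, 2, 1, 1, 2, 2, 1, 1])) (.node (.leaf [2, 0, 1, 0, 2, 1, 2, 0, 1, 0, 0, 2]) (.leaf [2, 2, 0, 1, 2, 2, 2, 2, 2, 0, 2, 0, 2, 2]))) (.node (.node (.leaf [0, 2, 2, 0, 1, 0, 2, 1]) (.leaf [0, 2, 2, 0, 1, 0, 2, 2, 1, 0, 0, 1, 0, 1])) (.node (.leaf []) (.leaf [0, 0, 1, 0, 0, 0, 2, 2, 1, 1, 1, 1, 1, 1])))) (.node (.node (.node (.leaf [1, 2, 0, 0, 0, 0, 2, 0, 0, 0, 0, 1, 0, 2]) (.leaf [0, 1, 1, 1, 1, 2, 2, 0, 0, 1])) (.node (.leaf [1, 2, 2, 1, 1, 1,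 0, 2, 2, 1, 0, 2, 2, 1]) (.leaf [2, 2, 2, 0, 0, 0, 1, 2, 0, 0, 2]))) (.node (.node (.leaf [1, 1, 0, 0, 0, 2, 0, 1, 1, 0, 2, 2, 1, 2]) (.leaf [0, 1, 2, 2, 2, 0, 0, 1, 0, 0, 0, 0, 1])) (.node (.leaf [0, 0, 1]) (.leaf [0, 0, 1])))))))) (.node (.node (.node (.node (.node (.node (.node (.node (.leaf []) (.leaf [2, 0, 1, 1, 1, 2, 2, 2, 1, 2, 2, 2, 0, 1])) (.leaf [])) (.node (.leaf [1, 0, 0, 0, 0, 1, 2, 0, 1, 0, 1, 1, 2, 1]) (.leaf []))) (.node (.node (.leaf [1, 2, 1, 0, 1, 0, 2, 1, 1, 0, 1, 0, 0, 1]) (.leaf [1, 2, 0, 2, 0, 2, 1, 1, 0, 0, 0, 2, 0, 2])) (.node (.leaf []) (.leaf [0, 2, 0, 2, 1, 2, 1, 2, 0, 0, 2, 0, 2])))) (.node (.node (.node (.node (.leaf [1, 2, 2, 0, 2, 0, 1, 1]) (.leaf [0, 1, 2, 0, 2, 0, 1, 2])) (.leaf [])) (.node (.leaf [2, 2, 2, 1, 2, 2, 1, 0, 1, 2, 2, 2, 0, 1]) (.leaf [2, 0, 1, 2, 0, 1, 0, 0, 0, 0, 0, 1]))) (.node (.node (.leaf []) (.leaf [1, 1, 1, 1, 2, 1, 0, 1, 1, 1, 2, 1, 2, 1]))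 (.node (.leaf [0, 1, 0, 0, 0, 1, 1, 1, 2, 1, 1, 1, 2, 2]) (.leaf [2, 1, 1, 2, 1, 2, 0, 0, 2, 1, 1, 2, 2]))))) (.node (.node (.node (.node (.node (.leaf []) (.leaf [1, 0, 1, 2, 1, 2, 0, 0, 0, 2, 0, 0, 0, 2])) (.leaf [1, 0, 1, 0, 0, 1, 1, 0, 0, 1, 0, 1, 1])) (.node (.leaf [2, 0, 2, 0, 0, 1]) (.leaf [0, 1, 2, 0, 2, 0, 0, 1, 2, 0, 0, 1]))) (.node (.node (.leaf []) (.leaf [0, 0, 1])) (.node (.leaf [2, 2, 2, 0, 0, 2, 2, 0, 2, 1, 0, 2, 2, 2]) (.leaf [0, 2, 0, 0, 2, 0, 0, 1, 1, 2, 0, 0, 2, 1])))) (.node (.node (.node (.leaf []) (.leaf [2, 0, 0, 1, 1, 2, 0, 0, 1, 2, 2, 2, 1])) (.node (.leaf [0, 2, 1, 2, 0, 2, 0, 0, 0, 2, 0, 2, 2, 2]) (.leaf [0, 0, 1]))) (.node (.node (.leaf []) (.leaf [0, 0, 1])) (.node (.leaf [2, 1, 1, 2, 2, 1, 0, 1, 1, 0, 1, 1, 2, 2]) (.leaf [2, 0, 2, 2, 2, 0, 0, 1, 0, 0, 1, 0, 2, 1])))))) (.node (.node (.node (.node (.node (.node (.leaf []) (.leaf [1, 0, 2, 0, 2, 0, 0, 0, 0, 2, 2, 2, 2,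 1])) (.leaf [0, 2, 1, 2, 0, 2, 2, 1, 0, 1, 0, 1, 2])) (.node (.leaf [1, 0, 0, 2, 0, 0, 2, 1, 0, 2, 2, 2, 0, 1]) (.leaf [2, 2, 2, 1, 1, 2, 1, 0, 1, 1, 2, 1, 2, 1]))) (.node (.node (.leaf []) (.leaf [1, 2, 2, 0, 1, 0, 2, 1])) (.node (.leaf [2, 2, 0, 0, 0, 0, 0, 1]) (.leaf [1, 1, 0, 1, 0, 2, 2, 0, 1, 1, 2, 1, 1, 2])))) (.node (.node (.node (.leaf []) (.leaf [2, 0, 0, 1, 0, 0, 1, 0, 0, 2, 0, 0, 2, 1])) (.node (.leaf [0, 1, 2, 0, 0, 0, 1, 1, 2, 1, 2, 1, 2, 1]) (.leaf [2, 2, 1, 2, 1, 2, 1, 0, 1, 2, 2, 1, 1]))) (.node (.node (.leaf [1, 1, 2, 2, 0, 0, 1, 0, 0, 0, 0, 0, 0, 1]) (.leaf [1, 1, 2, 2, 2, 0, 0, 1, 1, 1, 2, 2, 2, 1])) (.node (.leaf [0, 0, 1]) (.leaf [0, 2, 2, 0, 2, 1, 2, 1, 2, 1, 0, 1]))))) (.node (.node (.node (.node (.node (.leaf []) (.leaf [1, 0, 2, 1, 1, 2, 1, 1, 2, 0, 0, 1])) (.leaf [2, 0, 0, 2, 0, 1, 2, 1, 0, 1, 1, 2, 2, 1])) (.node (.leaf [0, 0, 1]) (.leaf [1, 2, 0, 1, 0, 0, 2, 1, 1, 2, 1,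 0, 0, 1]))) (.node (.node (.leaf [2, 2, 1, 1, 2, 1, 0, 0, 2, 1, 1, 0, 1]) (.leaf [1, 2, 2, 2, 1, 0, 0, 2, 1, 1, 0, 0, 0, 2])) (.node (.leaf []) (.leaf [1, 1, 1, 1, 1, 0, 1, 1, 1, 2, 2, 2, 0, 1])))) (.node (.node (.node (.leaf [0, 0, 1]) (.leaf [0, 1, 2, 2, 0, 2, 1, 2, 1, 2, 2, 1, 1])) (.node (.leaf [0, 2, 2, 0, 1, 0, 0, 0, 2, 1, 1, 1, 2, 2]) (.leaf []))) (.node (.node (.leaf []) (.leaf [2, 2, 0, 0, 1, 0, 1, 0, 0, 1, 0, 2, 1])) (.node (.leaf [0, 0, 1]) (.leaf [2, 2, 1, 1, 0, 2, 0, 0, 2, 1, 0, 2, 2, 1]))))))) (.node (.node (.node (.node (.node (.node (.node (.leaf [2, 2, 2, 0, 0, 0, 0, 1]) (.leaf [0, 0, 1, 1, 0, 1, 1, 1, 2, 1, 1, 2, 0, 1])) (.leaf [1, 1, 1, 2, 0, 1, 2, 0, 1, 2, 1, 2, 0, 1])) (.node (.leaf [2, 2, 0, 0, 0, 1, 1, 0, 0, 2, 0, 2, 1, 1]) (.leaf [0, 1, 1, 2, 2, 2, 2, 0, 0, 2, 0, 2, 1, 2]))) (.node (.node (.leaf []) (.leaf [0, 2, 2, 1, 0, 2, 1, 1, 1, 0, 2, 0, 0, 2])) (.node (.leaf []) (.leaf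 [2, 2, 1, 0, 2, 0, 2, 2, 0, 2, 1, 2, 2, 2])))) (.node (.node (.node (.node (.leaf []) (.leaf [2, 1, 2, 2, 2, 1, 1, 2, 0, 2, 0, 2, 0, 1])) (.leaf [2, 1, 2, 1, 1, 1, 0, 2, 0, 1, 0, 2, 2, 1])) (.node (.leaf [2, 2, 0, 1, 1, 1, 2, 2, 1, 0, 0, 0, 0, 1]) (.leaf []))) (.node (.node (.leaf [0, 0, 0, 2, 1, 1, 2, 2, 1]) (.leaf [0, 1, 0, 1, 0, 1, 0, 1, 2, 1, 0, 1])) (.node (.leaf [1, 1, 1, 1, 0, 1, 0, 2, 0, 2, 1, 1, 2, 2]) (.leaf [1, 2, 1, 0, 2, 1, 1, 2, 1, 2, 2, 0, 1]))))) (.node (.node (.node (.node (.node (.leaf []) (.leaf [0, 0, 2, 0, 0, 1, 2, 0, 0, 0, 0, 1, 2])) (.leaf [1, 2, 2, 1, 2, 0, 1, 2, 2, 2, 0, 2, 1, 1])) (.node (.leaf [2, 1, 2, 0, 2, 0, 1, 2]) (.leaf [1, 2, 1, 2, 1, 2, 1, 0, 2, 1, 1, 0, 1, 2]))) (.node (.node (.leaf [1, 1, 2, 2, 0, 0, 0, 1, 1]) (.leaf [1, 2, 1, 0, 2, 2, 2, 0, 2, 0, 0, 0, 0, 1])) (.node (.leaf [1, 2, 0, 2, 0, 1, 2, 0, 0, 0, 1, 0, 1, 2]) (.leaf [1, 1, 0, 1, 1, 1, 2, 1, 2, 2]))))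 (.node (.node (.node (.leaf []) (.leaf [2, 0, 2, 1, 1, 1, 2, 1, 0, 0, 1, 2, 2])) (.node (.leaf [0, 2, 0, 0, 1, 1, 1, 2, 0, 2, 1, 2, 1]) (.leaf [0, 0, 1]))) (.node (.node (.leaf [0, 2, 1, 0, 1, 2, 0, 2, 2, 1, 1, 0, 1]) (.leaf [2, 1, 0, 0, 1, 1, 0, 2, 2, 1, 2, 1, 2, 1])) (.node (.leaf [0, 0, 2, 1, 1, 2, 0, 2, 2, 0, 0, 2, 0, 1]) (.leaf [0, 1, 1, 1, 2, 1, 1, 2, 2, 2, 1, 0, 1, 1])))))) (.node (.node (.node (.node (.node (.node (.leaf []) (.leaf [0, 0, 0, 1, 2, 1, 1, 0, 2, 2, 1, 0, 1, 1])) (.leaf [0, 0, 2, 2, 0, 0, 0, 0, 0, 0, 0, 1])) (.node (.leaf [0, 2, 1, 0, 2, 1, 1, 0, 1, 2, 0, 1, 2, 2]) (.leaf [1, 0, 2, 1, 0, 1, 0, 0, 0, 2, 1, 1, 0, 1]))) (.node (.node (.leaf [1, 2, 1, 0, 2, 2, 0, 0, 1, 2, 2, 2, 0, 2]) (.leaf [0, 2, 0, 0, 1, 1, 1, 1, 1, 1, 2, 0, 0, 1])) (.node (.leaf []) (.leaf [0, 0, 1, 0, 2, 1, 2, 2, 2, 0, 1, 1, 1, 1])))) (.node (.node (.node (.leaf []) (.leaf [0, 2, 2, 1, 2, 0, 1, 0, 2, 2, 1, 0,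 1, 2])) (.node (.leaf [2, 1, 1, 2, 2, 1, 0, 0, 0, 2, 0, 2]) (.leaf [2, 1, 0, 1, 0, 0, 1, 2, 2, 0, 2, 0, 0, 1]))) (.node (.node (.leaf [0, 0, 0, 1, 0, 1, 0, 0, 1, 1, 2, 1]) (.leaf [2, 0, 1, 1, 2, 1, 0, 1, 2, 1, 2, 1, 0, 2])) (.node (.leaf [0, 1, 2, 0, 0, 0, 0, 2]) (.leaf [1, 2, 1, 1, 0, 1, 2, 0, 0, 0, 0, 1, 2, 1]))))) (.node (.node (.node (.node (.node (.leaf []) (.leaf [0, 1, 2, 0, 2, 0, 1, 2])) (.leaf [0, 2, 2, 1, 0, 2, 0, 0, 1, 2, 2, 2, 0, 1])) (.node (.leaf [0, 0, 0, 0, 2, 1, 2, 0, 0, 1, 0, 1, 0, 1]) (.leaf [1, 1, 1, 1, 2, 1, 1, 1, 1, 1, 0, 1, 1, 1]))) (.node (.node (.leaf []) (.leaf [2, 1, 1, 0, 0, 1, 0, 1, 2, 1, 0, 1, 1, 1])) (.node (.leaf [1, 2, 1, 0, 0, 1, 0, 1]) (.leaf [0, 2, 1, 2, 0, 1, 1, 2, 0, 1, 1, 2, 1, 2])))) (.node (.node (.node (.leaf [0, 2, 0, 2, 1, 0, 1, 0, 0, 2, 0, 1, 1]) (.leaf [2, 1, 0, 0, 1, 2, 0, 1])) (.node (.leaf []) (.leaf [0, 1, 2, 0, 1, 2, 0, 0, 1, 2, 0, 2, 2, 2]))) (.node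 (.node (.leaf [2, 2, 0, 0, 1, 0, 2, 1]) (.leaf [0, 2, 1, 0, 2, 0, 0, 0, 1, 0, 2, 2, 1])) (.node (.leaf []) (.leaf [0, 2, 1, 2, 2, 2, 1, 0, 0, 0, 2, 1, 1]))))))))) (.node (.node (.node (.node (.node (.node (.node (.node (.node (.leaf []) (.leaf [2, 0, 1, 0, 1, 1, 0, 0, 0, 2, 1, 2, 0, 1])) (.leaf [])) (.node (.leaf [1, 0, 2, 1, 1, 0, 1, 2, 1, 1, 2, 1, 2, 1]) (.leaf [1, 2, 2, 0, 2, 0, 1, 1]))) (.node (.node (.leaf [1, 2, 1, 0, 1, 0, 1, 0, 0, 1, 0, 1, 1]) (.leaf [1, 2, 2, 1, 0, 2, 2, 0, 0, 1, 0, 1, 2, 1])) (.node (.leaf [0, 1, 2, 0, 2, 0, 1, 2]) (.leaf [1, 2, 1, 2, 2, 1, 2, 0, 0, 1, 0, 2, 2, 2])))) (.node (.node (.node (.node (.leaf [2, 2, 1, 1, 2, 1, 1, 0, 2, 1, 1, 1, 1, 2]) (.leaf [1, 2, 1, 1, 2, 2, 1, 1, 0, 1, 2, 2, 1, 2])) (.leaf [0, 2, 1, 0, 0, 0, 1, 2, 2, 2, 2, 2, 2, 2])) (.node (.leaf [2, 0, 1, 0, 0, 0, 0, 0, 0, 2, 0, 1]) (.leaf [0, 1, 2, 0, 1, 1, 0, 2, 2, 0, 1, 2, 0, 2]))) (.node (.node (.leaf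 []) (.leaf [2, 0, 2, 2, 2, 0, 2, 1, 1])) (.node (.leaf [0, 0, 1]) (.leaf [0, 0, 0, 0, 0, 2, 2, 0, 1, 0, 0, 0, 1, 1]))))) (.node (.node (.node (.node (.node (.leaf [2, 2, 2, 0, 0, 0, 0, 1]) (.leaf [1, 0, 0, 2, 0, 2, 2, 1, 0, 1, 0, 0, 2, 2])) (.leaf [0, 1, 1, 1, 0, 0, 1, 1, 0, 0, 2, 0, 1, 2])) (.node (.leaf [1, 0, 0, 2, 0, 0, 1, 0, 1, 2, 2, 1, 1]) (.leaf [1, 1, 0, 2, 1, 2, 2, 0, 1, 2, 2, 2, 2, 1]))) (.node (.node (.leaf []) (.leaf [2, 0, 1, 2, 0, 2, 1, 0, 2, 0, 1, 0, 1])) (.node (.leaf []) (.leaf [2, 2, 0, 0, 0, 0, 0, 1])))) (.node (.node (.node (.leaf []) (.leaf [0, 0, 0, 1, 2, 2, 2, 2, 2, 1, 1, 1])) (.node (.leaf [1, 0, 1, 0, 0, 2, 2, 0, 2, 0, 2, 1, 2, 2]) (.leaf [0, 0, 0, 2, 2, 2, 2, 2, 0, 2]))) (.node (.node (.leaf [0, 0, 1]) (.leaf [2, 1, 2, 2, 0, 0, 0, 1, 0, 2, 1, 1])) (.node (.leaf []) (.leaf [1, 0, 2, 1, 0, 0, 0, 0, 2, 2, 1, 0, 1, 2])))))) (.node (.node (.node (.node (.node (.node (.leaf [])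 (.leaf [0, 2, 1, 2, 2, 2, 2, 0, 1, 0, 2, 2, 2, 2])) (.leaf [])) (.node (.leaf [0, 0, 2, 1, 0, 0, 1, 2, 0, 2, 0, 2, 2, 2]) (.leaf [2, 0, 1, 2, 0, 2, 1, 0, 0, 0, 0, 0, 2, 1]))) (.node (.node (.leaf []) (.leaf [2, 1, 2, 2, 1, 0, 2, 2, 2, 0, 0, 0, 2])) (.node (.leaf [0, 2, 0, 1, 1, 1, 0, 1, 0, 2, 0, 2, 1]) (.leaf [2, 2, 1, 2, 0, 0, 2, 0, 2, 0, 0, 1, 1, 1])))) (.node (.node (.node (.leaf [1, 1, 2, 2, 0, 0, 0, 1, 1]) (.leaf [0, 1, 2, 0, 0, 0, 1, 1, 0, 0, 0, 1, 2, 2])) (.node (.leaf [1, 0, 0, 1, 0, 2, 1, 2, 2, 0, 0, 0, 1, 2]) (.leaf [0, 0, 1, 0, 1, 0, 2, 0, 0, 2, 0, 2, 1, 1]))) (.node (.node (.leaf [2, 2, 2, 2, 0, 2, 1, 0, 0, 1, 0, 2, 2, 2]) (.leaf [])) (.node (.leaf [2, 2, 2, 2, 1, 1, 1, 1, 2, 1, 1, 1, 2]) (.leaf [2, 1, 1, 0, 1, 2, 0, 2, 2, 2, 0, 1, 0, 1]))))) (.node (.node (.node (.node (.node (.leaf []) (.leaf [1, 0, 0, 2, 2, 1, 1, 0, 1, 0, 2, 2])) (.leaf [2, 1, 0, 2, 2, 0, 1, 0, 2, 1, 1, 2, 1])) (.node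 (.leaf [0, 2, 0, 0, 0, 2, 0, 1]) (.leaf [1, 0, 2, 1, 1, 0, 0, 0, 2, 2, 1, 0, 1, 2]))) (.node (.node (.leaf []) (.leaf [2, 1, 2, 1, 0, 0, 1, 1, 1, 0, 2])) (.node (.leaf [1, 1, 0, 1, 2, 1, 0, 0, 1, 2, 2]) (.leaf [1, 1, 1, 0, 2, 0, 0, 0, 1, 2, 2, 1])))) (.node (.node (.node (.leaf [0, 2, 2, 2, 2, 1, 1, 2, 0, 2, 1, 2, 2]) (.leaf [1, 0, 2, 0, 0, 0, 2, 1, 0, 2, 0, 1])) (.node (.leaf [1, 1, 0, 0, 2, 0, 0, 0, 0, 1, 0, 2]) (.leaf [0, 2, 2, 0, 0, 0, 0, 1]))) (.node (.node (.leaf [2, 0, 0, 1, 2, 1, 1, 0, 1, 2, 0, 1, 2, 2]) (.leaf [2, 1, 0, 1, 0, 0, 1, 1, 1, 0, 2, 1, 1, 1])) (.node (.leaf [0, 2, 2, 0, 0, 0, 0, 1]) (.leaf [0, 1, 0, 0, 2, 1, 2, 0, 0, 1, 0, 1, 0, 1]))))))) (.node (.node (.node (.node (.node (.node (.node (.leaf []) (.leaf [2, 1, 1, 0, 2, 1, 2, 1, 2, 2, 2, 2, 1])) (.leaf [0, 2, 1, 2, 1, 1, 0, 0, 1, 1, 0, 2, 2, 1])) (.node (.leaf [2, 2, 2, 0, 2, 1, 1, 1, 0, 0, 1, 0, 0, 2]) (.leaf [0, 2, 0, 0, 0,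 2, 0, 0, 2, 2, 1, 2, 2]))) (.node (.node (.leaf []) (.leaf [1, 2, 0, 1, 0, 1, 1, 0, 0, 1, 1, 0, 2, 1])) (.node (.leaf []) (.leaf [0, 2, 2, 0, 1, 0, 2, 0, 1, 2, 2, 2, 2])))) (.node (.node (.node (.node (.leaf []) (.leaf [2, 1, 2, 2, 0, 0, 2, 1, 1, 0, 2, 0, 1, 1])) (.leaf [1, 0, 0, 2, 0, 0, 2, 1, 0, 2, 2, 2, 0, 1])) (.node (.leaf [2, 0, 1, 2, 1, 1, 1, 1, 2, 1, 0, 2, 1, 1]) (.leaf [0, 0, 0, 2, 2, 2, 2, 2, 0, 1, 0, 1, 1, 1]))) (.node (.node (.leaf []) (.leaf [2, 2, 2, 0, 0, 0, 0, 1])) (.node (.leaf [1, 0, 1, 1, 0, 0, 2, 1, 2, 2, 2, 2, 2, 1]) (.leaf [0, 0, 2, 1, 2, 0, 1, 1, 2, 1, 0, 2, 1, 1]))))) (.node (.node (.node (.node (.node (.leaf []) (.leaf [1, 0, 2, 0, 2, 0, 0, 2, 0, 0, 1, 1, 2, 2])) (.leaf [0, 0, 1])) (.node (.leaf []) (.leaf [0, 1, 0, 2, 2, 0, 2, 0, 1, 1, 2, 2, 2]))) (.node (.node (.leaf [0, 1, 2, 0, 1, 2, 0, 0, 0, 0, 1, 2]) (.leaf [2, 2, 1, 2, 0, 1, 1, 2, 0, 2, 0, 2, 1, 2])) (.node (.leaf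 []) (.leaf [0, 1, 1, 2, 1, 0, 2, 1, 2, 1, 1, 1, 2])))) (.node (.node (.node (.leaf []) (.leaf [2, 2, 2, 0, 2, 1, 2, 0, 2, 2, 2, 2, 1])) (.node (.leaf [0, 1, 2, 0, 0, 0, 2, 0, 1, 2, 2, 2, 1, 1]) (.leaf [0, 0, 1, 0, 2, 2, 1, 2, 1, 0, 2, 1, 0, 1]))) (.node (.node (.leaf [0, 2, 1, 2, 2, 2, 2, 2, 1, 2, 2, 0, 0, 2]) (.leaf [1, 1, 1, 1, 0, 0, 2, 0, 1, 2, 0, 2, 2, 1])) (.node (.leaf [2, 2, 2, 1, 0, 0, 0, 2, 2]) (.leaf [1, 1, 2, 2, 0, 2, 2, 2, 2, 2, 1, 2])))))) (.node (.node (.node (.node (.node (.node (.leaf []) (.leaf [2, 0, 0, 1, 1, 1, 0, 0, 1, 1, 0, 1, 2])) (.leaf [2, 0, 1, 2, 1, 1, 2, 2, 2, 2, 2, 2, 0, 2])) (.node (.leaf []) (.leaf [2, 1, 0, 2, 0, 1, 1, 0, 0, 2, 0, 2, 1, 2]))) (.node (.node (.leaf []) (.leaf [2, 0, 1, 0, 0, 0, 1, 2])) (.node (.leaf [0, 1, 2, 0, 0, 0, 0, 2]) (.leaf [1, 0, 2, 1, 1, 2, 1, 0, 1, 0, 2, 1, 1, 2])))) (.node (.node (.node (.leaf [2, 2, 0, 2, 2, 1, 1, 0, 1, 0, 2, 2, 2]) (.leaf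 [2, 2, 2, 2, 1, 1, 0, 1, 0, 2, 0, 2, 2, 1])) (.node (.leaf [1, 2, 1, 1, 1, 1, 0, 0, 2, 0, 1]) (.leaf [0, 0, 1]))) (.node (.node (.leaf [1, 1, 2, 1, 1, 1, 1, 1, 1, 2, 0, 0, 1, 1]) (.leaf [])) (.node (.leaf []) (.leaf [0, 1, 0, 2, 0, 2, 2, 2, 0, 1, 0, 1, 2]))))) (.node (.node (.node (.node (.node (.leaf []) (.leaf [2, 0, 1, 0, 1, 1, 1, 1, 1, 0, 1, 1, 1, 2])) (.leaf [0, 2, 2, 1, 2, 0, 1, 1, 1, 0, 0, 0, 1])) (.node (.leaf [0, 0, 0, 0, 2, 1, 2, 2, 2, 1, 2, 0, 1]) (.leaf [0, 0, 0, 2, 0, 2, 0, 0, 0, 1]))) (.node (.node (.leaf []) (.leaf [1, 1, 0, 2, 0, 1, 2, 0, 1, 2, 0, 2, 0, 2])) (.node (.leaf []) (.leaf [0, 0, 1])))) (.node (.node (.node (.leaf [0, 2, 2, 2, 2, 1, 2, 0, 2, 1, 1, 1, 1, 1]) (.leaf [1, 0, 1, 0, 0, 2, 1, 1, 1, 2])) (.node (.leaf []) (.leaf [2, 2, 2, 2, 1, 1, 1, 2, 1, 0, 2, 1, 1, 1]))) (.node (.node (.leaf [1, 1, 1, 2, 1, 1, 1, 2, 2, 1, 1, 1, 2]) (.leaf [])) (.node (.leaf []) (.leaf [1, 0,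 0, 1, 2, 2, 2, 1, 0, 1, 2, 2, 2, 1])))))))) (.node (.node (.node (.node (.node (.node (.node (.node (.leaf []) (.leaf [1, 0, 1, 1, 2, 0, 2, 0, 2, 2, 0, 2, 1, 1])) (.leaf [])) (.node (.leaf []) (.leaf [2, 0, 2, 0, 2, 2, 1, 0, 1, 2, 2, 2, 1, 1]))) (.node (.node (.leaf []) (.leaf [2, 0, 1, 0, 0, 0, 1, 0, 0, 2, 1, 1, 1, 2])) (.node (.leaf []) (.leaf [0, 2, 0, 0, 2, 0, 1, 1])))) (.node (.node (.node (.node (.leaf []) (.leaf [0, 0, 0, 0, 0, 0, 1, 0, 0, 0, 0, 0, 0, 0])) (.leaf [2, 2, 0, 2, 1, 2, 2, 0, 2, 2, 1, 0, 1, 2])) (.node (.leaf [1, 1, 0, 0, 0, 2, 1, 2, 2, 1, 2, 0, 2, 2]) (.leaf [2, 0, 1, 0, 0, 2, 0, 0, 1, 0, 0, 2, 2, 1]))) (.node (.node (.leaf []) (.leaf [0, 2, 2, 1, 1, 0, 2, 1, 2, 2, 1, 2, 2, 2])) (.node (.leaf [2, 1, 1, 1, 1, 1, 2, 2, 2, 1, 1, 1]) (.leaf [0, 2, 0, 2, 1, 2, 0, 2, 0, 0, 0, 1, 0, 1]))))) (.node (.node (.node (.node (.node (.leaf [0, 0, 0, 1, 0, 1, 0, 0, 0, 2]) (.leaf [2, 0, 0, 0,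 0, 1, 2, 1, 2, 2, 0, 0, 2])) (.leaf [1, 1, 1, 1, 1, 0, 2, 2, 0, 2, 2, 0, 2, 2])) (.node (.leaf [0, 1, 1, 0, 2, 0, 1, 2]) (.leaf [1, 0, 2, 2, 2, 2, 1, 1, 1, 2, 1]))) (.node (.node (.leaf []) (.leaf [0, 0, 1, 2, 0, 0, 1, 2, 0, 0, 0, 1])) (.node (.leaf [1, 0, 2, 1, 0, 1, 1, 1, 0, 0, 0, 1, 0, 1]) (.leaf [1, 0, 1, 2, 1, 2, 2, 0, 2, 2, 2, 2, 0, 2])))) (.node (.node (.node (.leaf [0, 1, 0, 2, 0, 0, 2, 2, 0, 2, 1, 2, 1, 1]) (.leaf [0, 2, 2, 2, 2, 1, 2, 0, 1, 0, 0, 0, 2, 1])) (.node (.leaf [0, 2, 2, 2, 2, 1, 2, 1, 0, 2, 2]) (.leaf [0, 0, 2, 1, 1, 2, 1, 0, 2, 1, 1, 0, 1, 2]))) (.node (.node (.leaf [0, 0, 2, 1, 2, 1, 1, 1, 1, 0, 2, 0, 0, 2]) (.leaf [2, 2, 1, 1, 1, 1, 0, 1, 1, 0, 0, 0, 0, 1])) (.node (.leaf [0, 2, 2, 2, 2, 1, 2, 0, 2, 1, 1, 1, 1, 1]) (.leaf [0, 1, 1, 0, 1, 0, 0, 2, 0, 1, 0, 2, 1])))))) (.node (.node (.node (.node (.node (.node (.leaf [0, 0, 1]) (.leaf [0, 1, 0, 2, 2, 0, 0, 0, 0, 0, 0, 2, 1,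 1])) (.leaf [0, 0, 1])) (.node (.leaf []) (.leaf [0, 1, 1, 0, 1, 0, 1, 0, 0, 1, 0, 2]))) (.node (.node (.leaf []) (.leaf [0, 0, 1, 2, 0, 0, 2, 2, 0, 0, 0, 0, 1])) (.node (.leaf [1, 0, 2, 0, 1, 1, 1, 0, 1, 0, 0, 0, 1, 1]) (.leaf [1, 0, 2, 0, 1, 2, 1, 0, 2, 0, 1, 2, 2])))) (.node (.node (.node (.leaf [0, 0, 0, 1, 0, 1, 0, 0, 0, 2]) (.leaf [0, 0, 2, 1, 1, 1, 2, 2, 2, 0, 0, 2, 2, 2])) (.node (.leaf [0, 1, 2, 1, 0, 1, 1, 0, 2, 1, 1, 2, 2]) (.leaf [1, 1, 0, 0, 2]))) (.node (.node (.leaf [0, 0, 1, 2, 0, 0, 2, 0, 1, 0, 2, 2, 2]) (.leaf [1, 2, 1, 2, 2, 1, 1, 0, 2, 2, 1, 1, 1, 2])) (.node (.leaf [1, 1, 1, 0, 0, 0, 0, 2]) (.leaf [0, 0, 2, 1, 2, 0, 2, 1, 2, 0, 1, 0, 2]))))) (.node (.node (.node (.node (.node (.leaf [2, 2, 2, 0, 0, 0, 0, 1]) (.leaf [2, 1, 2, 1, 1, 1, 0, 2, 1, 0, 2, 1, 2, 1])) (.leaf [0, 0, 0, 2, 2, 0, 2, 2, 0, 0, 1, 0, 2, 1])) (.node (.leaf []) (.leaf [0, 1, 2, 2, 2, 0, 1, 1, 0, 0, 2, 0, 2])))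 (.node (.node (.leaf []) (.leaf [1, 2, 0, 1, 2, 2, 1, 0, 2, 0, 0, 0, 2, 1])) (.node (.leaf []) (.leaf [0, 0, 1, 0, 1, 2, 1, 0, 0, 2, 2, 0, 0, 2])))) (.node (.node (.node (.leaf []) (.leaf [0, 0, 2, 2, 0, 1, 0, 0, 0, 1, 2, 1, 1, 2])) (.node (.leaf [0, 0, 2, 0, 1, 1, 0, 0, 2, 2, 1, 2, 0, 2]) (.leaf [2, 2, 0, 0, 1, 0, 2, 1]))) (.node (.node (.leaf []) (.leaf [])) (.node (.leaf [0, 1, 1, 0, 2, 0, 1, 1, 2, 2, 1, 2, 2]) (.leaf [2, 0, 2, 1, 1, 0, 1, 0, 1, 2, 2, 2, 0, 1]))))))) (.node (.node (.node (.node (.node (.node (.node (.leaf []) (.leaf [2, 2, 1, 2, 1, 2, 2, 0, 2, 1, 1, 0, 2])) (.leaf [2, 0, 2, 0, 1, 2, 2, 1, 0, 1, 0, 1, 1])) (.node (.leaf [1, 2, 2, 2, 2, 2, 1, 2, 1, 0, 0, 2, 2, 2]) (.leaf [2, 1, 0, 2, 0, 1, 2, 2, 2, 2, 0, 2, 1]))) (.node (.node (.leaf []) (.leaf [0, 1, 2, 0, 1, 2, 1, 2, 2, 0, 0, 0, 1])) (.node (.leaf []) (.leaf [1, 2, 1, 2, 0, 0, 0, 1, 0, 0, 2, 1, 1])))) (.node (.node (.node (.leaf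 []) (.leaf [1, 0, 2, 1, 0, 1, 1, 2, 1, 0, 1, 1])) (.node (.leaf [1, 0, 2, 0, 0, 0, 2, 1, 0, 0, 2, 1, 1, 2]) (.leaf [1, 2, 2, 1, 1, 2, 1, 1, 1, 0, 1, 0, 2, 1]))) (.node (.node (.leaf [0, 0, 1]) (.leaf [])) (.node (.leaf [2, 0, 0, 0, 0, 2, 1, 1, 1, 1, 0, 0, 2, 2]) (.leaf [2, 0, 2, 2, 1, 1, 1, 2, 1, 2, 1, 0, 1, 2]))))) (.node (.node (.node (.node (.node (.leaf [0, 2, 2, 0, 1, 0, 2, 1]) (.leaf [0, 1, 1, 0, 0, 1, 1, 2, 2, 2, 2, 1, 1, 2])) (.leaf [2, 2, 0, 2, 0, 0, 0, 2, 2, 0, 2, 1, 2])) (.node (.leaf [0, 2, 1, 0, 0, 0, 1, 1, 0, 2, 2, 1, 0, 1]) (.leaf [2, 2, 1, 1, 2, 0, 2, 0, 0, 0, 0, 2]))) (.node (.node (.leaf []) (.leaf [0, 2, 0, 1, 1, 2, 2, 1, 0, 2, 1, 0, 0, 2])) (.node (.leaf [0, 0, 1]) (.leaf [2, 2, 1, 0, 0, 1, 0, 1, 0, 0, 2, 0, 0, 1])))) (.node (.node (.node (.leaf [0, 0, 0, 1, 0, 1, 0, 0, 0, 2]) (.leaf [2, 1, 0, 2, 2, 0, 1, 0, 0, 2, 0, 0, 2, 1])) (.node (.leaf [0, 0, 2, 2, 0, 1, 0, 1, 2, 0, 0, 2,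 2, 1]) (.leaf [1, 0, 2, 2, 0, 2, 1, 1, 0, 0, 0, 2, 1, 2]))) (.node (.node (.leaf []) (.leaf [1, 0, 1, 2, 0, 1, 0, 0, 1, 2, 2, 2])) (.node (.leaf []) (.leaf [])))))) (.node (.node (.node (.node (.node (.node (.leaf []) (.leaf [0, 2, 1, 2, 0, 1, 1, 2, 2, 2, 2, 1, 1, 2])) (.leaf [0, 0, 1])) (.node (.leaf []) (.leaf [2, 1, 1, 2, 1, 1, 1, 2, 1, 1, 0, 0, 0, 2]))) (.node (.node (.leaf [1, 2, 2, 0, 2, 0, 1, 1]) (.leaf [1, 0, 1, 2, 1, 0, 1, 0, 2, 0, 1, 2, 2])) (.node (.leaf []) (.leaf [0, 1, 2, 0, 2, 0, 1, 2])))) (.node (.node (.node (.leaf [0, 2, 2, 0, 1, 0, 2, 1]) (.leaf [2, 0, 1, 0, 0, 0, 2, 1, 0, 1, 0, 1, 2, 2])) (.node (.leaf [1, 1, 1, 2, 0, 2, 2, 2, 2, 1, 1, 2, 0, 1]) (.leaf [1, 1, 0, 0, 2, 2, 1, 1, 0, 0, 1, 0, 1, 1]))) (.node (.node (.leaf [1, 1, 1, 2, 2, 0, 0, 1, 1, 0, 1, 0, 1, 1]) (.leaf [2, 2, 2, 0, 0, 2, 2, 2, 1, 2, 0, 2])) (.node (.leaf [0, 1, 1, 0, 2, 0, 2, 2, 0, 1, 1, 1, 1, 2]) (.leaf [2, 2,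 1, 0, 2, 2, 2, 2, 1, 0, 2, 1, 0, 1]))))) (.node (.node (.node (.node (.node (.leaf []) (.leaf [2, 2, 0, 1, 0, 1, 1, 2, 2, 1, 1, 2, 0, 1])) (.leaf [2, 1, 1, 2, 2, 1, 0, 0, 2, 2, 1, 2])) (.node (.leaf []) (.leaf [0, 1, 1, 2, 2, 1, 2, 1, 1, 0, 0, 0, 2, 1]))) (.node (.node (.leaf []) (.leaf [2, 2, 0, 2, 2, 1, 1, 0, 0, 2])) (.node (.leaf [0, 0, 1, 1, 2, 0, 0, 1, 1, 0, 2, 0, 1, 1]) (.leaf [1, 2, 1, 2, 0, 2, 0, 2, 1, 2, 0, 2])))) (.node (.node (.node (.leaf [2, 0, 2, 2, 1, 2, 0, 0, 0, 0, 1, 0, 1, 2]) (.leaf [0, 0, 0, 1, 2, 2, 1, 1, 2, 0, 2, 1, 1, 2])) (.node (.leaf []) (.leaf [1, 1, 0, 1, 1, 1, 0, 2, 0, 2, 0, 2, 1]))) (.node (.node (.leaf [1, 0, 2, 1, 1, 0, 2, 0, 2, 2, 2, 2, 2, 1]) (.leaf [0, 1, 1, 0, 2, 0, 2])) (.node (.leaf []) (.leaf [2, 2, 0, 2, 2, 0, 2, 1, 1, 1, 0, 1, 0, 1])))))))))) (.node (.node (.node (.node (.node (.node (.node (.node (.node (.node (.leaf []) (.leaf [0, 0, 1, 2, 2, 0, 0, 0, 2,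 1, 2, 0, 1, 1])) (.leaf [1, 1, 2, 1, 2, 0, 1, 2, 1, 2, 2, 0, 1, 1])) (.node (.leaf [1, 2, 2, 0, 0, 2, 2, 2, 1, 2, 0, 2]) (.leaf [0, 0, 2, 0, 0, 1]))) (.node (.node (.leaf [1, 2, 1, 1, 1, 1, 1, 0, 1, 2, 2, 2, 1]) (.leaf [0, 0, 1])) (.node (.leaf [2, 2, 2, 0, 0, 0, 0, 1]) (.leaf [1, 2, 2, 1, 1, 1, 2, 0, 1, 1, 2, 1, 1, 2])))) (.node (.node (.node (.node (.leaf []) (.leaf [1, 0, 0, 2, 2, 0, 0, 0, 0, 1, 2, 1, 2, 1])) (.leaf [0, 1, 0, 2, 1, 2, 1, 2, 2, 1, 2, 0, 1, 1])) (.node (.leaf [0, 0, 2, 2, 2, 2, 0, 2, 1, 0, 0, 2, 2, 2]) (.leaf [0, 2, 0, 0, 0, 2, 1, 0, 2, 1, 1, 1, 0, 2]))) (.node (.node (.leaf []) (.leaf [])) (.node (.leaf [0, 1, 2, 2, 1, 1, 0, 1, 0, 0, 0, 0, 2, 2]) (.leaf [0, 1, 1, 0, 2, 0, 1, 2]))))) (.node (.node (.node (.node (.node (.leaf []) (.leaf [0, 2, 1, 2, 0, 1, 1, 2, 0, 2, 0, 2, 1, 2])) (.leaf [0, 1, 2, 2, 1, 1, 0, 1, 1, 2, 0, 0, 0, 1])) (.node (.leaf [0, 1, 1, 0, 2, 0, 2]) (.leaf [2,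 2, 1, 2, 2, 2, 2, 0, 0, 1, 0, 1, 1, 1]))) (.node (.node (.leaf []) (.leaf [0, 0, 1])) (.node (.leaf []) (.leaf [2, 2, 0, 0, 0, 0, 0, 2, 2, 0, 0, 1])))) (.node (.node (.node (.leaf []) (.leaf [0, 2, 0, 0, 2, 0, 1, 2, 2, 1, 1, 1, 2, 2])) (.node (.leaf [2, 0, 0, 2, 0, 1, 1, 1, 0, 2, 1, 2, 1, 1]) (.leaf [1, 1, 0, 2, 2, 1, 2, 2, 1, 2, 2, 0, 2, 1]))) (.node (.node (.leaf [0, 0, 1, 1, 0, 2, 0, 0, 2, 1, 1, 2]) (.leaf [0, 0, 2, 2, 0, 0, 1, 0, 1, 1, 1, 2, 1, 1])) (.node (.leaf []) (.leaf [0, 1, 2, 2, 0, 1, 0, 0, 2, 2, 2, 2, 2])))))) (.node (.node (.node (.node (.node (.node (.leaf []) (.leaf [2, 0, 1, 0, 0, 0, 1, 2])) (.leaf [2, 2, 0, 0, 2, 2, 0, 0, 1, 2, 0, 2, 0, 1])) (.node (.leaf [1, 2, 2, 0, 1, 1, 0, 0, 2, 0, 1]) (.leaf [0, 0, 1]))) (.node (.node (.leaf [1, 1, 2, 0, 0, 0, 0, 2]) (.leaf [0, 0, 0, 1, 1, 2, 0, 2, 1, 2, 1, 0, 2])) (.node (.leaf [1, 1, 1, 1, 1, 0, 1, 1, 1, 1, 2, 0, 0, 1]) (.leaf [1, 1, 0, 0,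 1, 0, 1, 1, 2, 1, 0, 1])))) (.node (.node (.node (.leaf []) (.leaf [1, 0, 2, 1, 0, 1, 0, 0, 1, 2, 2, 1])) (.node (.leaf [1, 2, 1, 1, 2, 0, 2, 0, 0, 0, 0, 2]) (.leaf [2, 0, 1, 1, 0, 1, 2, 0, 0, 1, 0, 1, 1, 2]))) (.node (.node (.leaf [0, 1, 0, 2, 2, 1, 2, 0, 2, 2, 2, 2, 1, 1]) (.leaf [])) (.node (.leaf [1, 0, 0, 0, 1, 0, 2, 1, 1, 1, 2, 1, 1]) (.leaf [1, 2, 2, 0, 1, 0, 1, 1, 1, 1, 2, 1, 0, 1]))))) (.node (.node (.node (.node (.node (.leaf []) (.leaf [0, 2, 0, 2, 2, 2, 0, 0, 0, 0, 1, 0, 1, 2])) (.leaf [1, 1, 2, 0, 0, 0, 0, 2])) (.node (.leaf [1, 2, 2, 1, 2, 1, 2, 2, 1, 1, 1, 1, 1]) (.leaf [0, 2, 2, 1, 2, 0, 0, 1, 2, 1, 2, 1, 1, 1]))) (.node (.node (.leaf []) (.leaf [1, 2, 0, 2, 1, 1, 1, 0, 2, 1, 1, 2, 1])) (.node (.leaf [2, 0, 2, 0, 1, 0, 2, 2, 2, 1, 1, 2, 1, 2]) (.leaf [0, 2, 1, 0, 0, 2, 2, 0, 1, 1, 1])))) (.node (.node (.node (.leaf [2, 1, 1, 1, 1, 1, 0, 2, 2, 2, 1, 1, 0, 2]) (.leaf [])) (.node (.leaf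 [0, 1, 1, 0, 2, 0, 2, 1, 2, 0, 0, 0, 0, 1]) (.leaf [0, 0, 1]))) (.node (.node (.leaf []) (.leaf [0, 0, 1, 0, 0, 1, 0, 1, 0, 1, 2, 1, 1, 1])) (.node (.leaf [0, 0, 1]) (.leaf [2, 0, 1, 0, 0, 2, 1, 1, 1, 2]))))))) (.node (.node (.node (.node (.node (.node (.node (.leaf []) (.leaf [0, 1, 2, 2, 1, 0, 2, 2, 2, 0, 0, 0, 2])) (.leaf [])) (.node (.leaf [1, 1, 1, 0, 2, 1, 1, 1, 1, 0, 0, 0, 1, 1]) (.leaf [2, 1, 2, 0, 2, 0, 1, 2]))) (.node (.node (.leaf [2, 1, 1, 0, 0, 0, 0, 2]) (.leaf [2, 2, 0, 2, 1, 2, 2, 0, 0, 0, 0, 2, 1, 2])) (.node (.leaf []) (.leaf [1, 0, 1, 1, 0, 2, 1, 1, 1, 0, 1, 1, 1, 1])))) (.node (.node (.node (.node (.leaf []) (.leaf [2, 0, 0, 0, 0, 1, 1])) (.leaf [2, 1, 0, 2, 1, 0, 1, 0, 0, 0, 0, 1])) (.node (.leaf [0, 2, 1, 2, 0, 2, 0, 1, 0, 1, 2, 2, 2]) (.leaf [1, 1, 2, 0, 2, 1, 0, 2, 2, 1, 2, 1]))) (.node (.node (.leaf []) (.leaf [1, 0, 0, 2, 0, 2, 0, 2, 1, 0, 2, 2, 1])) (.node (.leaf [0, 2,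 2, 0, 1, 0, 2, 1, 0, 1, 0, 2, 1, 1]) (.leaf [1, 2, 1, 2, 2, 0, 1, 1, 2, 2, 1, 0, 2, 2]))))) (.node (.node (.node (.node (.node (.leaf []) (.leaf [0, 0, 1, 1, 1, 0, 0, 1, 0, 2, 0, 2, 2])) (.leaf [2, 2, 0, 1, 2, 0, 1, 2, 2, 2, 2, 1, 0, 1])) (.node (.leaf [0, 2, 0, 2, 0, 1, 2, 0, 0, 2, 0, 2, 2, 1]) (.leaf [2, 1, 0, 0, 2, 1, 0, 2, 1, 0, 0, 0, 1, 1]))) (.node (.node (.leaf []) (.leaf [2, 1, 2, 0, 0, 2, 0, 1, 2, 2, 1, 2, 2])) (.node (.leaf []) (.leaf [0, 2, 1, 1, 2, 1, 0, 2, 2, 1, 2, 2, 2, 2])))) (.node (.node (.node (.leaf []) (.leaf [0, 2, 1, 1, 2, 2, 0, 0, 2, 1, 0, 1, 2, 2])) (.node (.leaf [1, 1, 2, 0, 2, 2, 1, 0, 2, 1, 2, 0, 0, 1]) (.leaf [0, 1, 1, 0, 1, 1, 2, 1, 0, 1, 2, 1, 0, 2]))) (.node (.node (.leaf [2, 1, 2, 0, 2, 0, 0, 1, 2, 2, 1, 2, 0, 2]) (.leaf [2, 0, 2, 2, 2, 1, 1, 0, 2, 1, 1, 1, 1, 1])) (.node (.leaf [2, 1, 2, 1, 0, 0, 0, 0, 1, 2, 0, 1, 0, 1]) (.leaf [0, 2, 0, 2, 1, 2, 0, 1, 2, 2, 1, 1,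 1])))))) (.node (.node (.node (.node (.node (.node (.leaf []) (.leaf [1, 0, 0, 1, 0, 1, 0, 0, 2, 1, 1, 1])) (.leaf [1, 1, 0, 0, 0, 2, 0, 2, 1, 2, 0, 1, 0, 2])) (.node (.leaf []) (.leaf [0, 0, 0, 0, 2, 1, 2, 0, 0, 1, 0, 1, 0, 1]))) (.node (.node (.leaf []) (.leaf [0, 2, 0, 1, 2, 1, 2, 2, 1, 0, 2, 0, 2])) (.node (.leaf [2, 2, 2, 0, 0, 0, 0, 1]) (.leaf [0, 0, 0, 2, 0, 1, 0, 0, 1, 2, 2, 1])))) (.node (.node (.node (.leaf []) (.leaf [1, 0, 1, 2, 0, 1, 2, 2, 1, 1, 0, 2, 1, 2])) (.node (.leaf [2, 2, 2, 2, 1, 1, 2, 1, 2, 1, 0, 1]) (.leaf [1, 2, 0, 0, 0, 2, 2, 1, 2, 2, 0, 0, 1, 1]))) (.node (.node (.leaf [0, 1, 2, 0, 0, 0, 0, 2]) (.leaf [0, 2, 0, 0, 1, 0, 2, 1])) (.node (.leaf []) (.leaf [0, 1, 2, 2, 1, 0, 1, 2, 0, 1, 0, 1, 2]))))) (.node (.node (.node (.node (.node (.leaf []) (.leaf [2, 0, 1, 2, 2, 2, 0, 0, 2, 1, 0, 1, 2, 1])) (.leaf [0, 1, 1, 1, 2, 1, 1, 2, 1, 2, 0, 1, 0, 2])) (.node (.leaf [2, 1, 1, 0,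 1, 0, 1, 0, 0, 1, 0, 2]) (.leaf [1, 1, 2, 0, 2, 2, 1, 0, 0, 1, 0, 1, 1]))) (.node (.node (.leaf [1, 1, 1, 0, 0, 0, 0, 2]) (.leaf [0, 0, 2, 1, 2, 1, 1, 1, 1, 0, 2, 0, 0, 2])) (.node (.leaf [0, 1, 1, 2, 2, 2, 2, 0, 0, 2, 0, 2, 1, 2]) (.leaf [2, 2, 2, 1, 2, 2, 2, 1, 0, 0, 0, 1, 1])))) (.node (.node (.node (.leaf [0, 0, 2, 1, 1, 2, 1, 0, 1, 0, 0, 0, 2, 2]) (.leaf [2, 1, 2, 2, 0, 1, 2, 1, 0, 2, 2, 2, 2, 2])) (.node (.leaf []) (.leaf [0, 0, 1, 1, 2, 0, 1, 1, 0, 1, 2, 0, 2]))) (.node (.node (.leaf [0, 0, 0, 0, 1, 2, 0, 0, 0, 2, 0, 1, 0, 2]) (.leaf [0, 2, 2, 2, 2, 1, 0, 0, 2, 0, 2, 2, 1, 2])) (.node (.leaf [1, 0, 1, 0, 0, 2, 2, 0, 2, 0, 1, 2, 0, 1]) (.leaf [2, 1, 0, 0, 1, 1, 0, 0, 2, 1, 1, 1, 0, 1])))))))) (.node (.node (.node (.node (.node (.node (.node (.node (.leaf []) (.leaf [1, 1, 0, 2, 1, 2, 0, 2, 0, 1, 2, 1])) (.leaf [1, 0, 0, 0, 2, 1, 1, 0, 1, 0, 2])) (.node (.leaf [2, 1, 1, 1, 0, 2, 2, 1, 0, 0,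 1, 2, 2]) (.leaf [1, 2, 0, 1, 2, 1, 2, 2, 2, 0, 2, 1, 1, 2]))) (.node (.node (.leaf [0, 2, 0, 0, 1, 1, 1, 2, 1, 2, 2, 0, 1, 1]) (.leaf [0, 2, 0, 1, 2, 1, 0, 0, 0, 1, 2, 2])) (.node (.leaf []) (.leaf [0, 0, 0, 2, 1, 0, 2, 1, 2, 2, 0, 2, 2, 2])))) (.node (.node (.node (.node (.leaf []) (.leaf [2, 1, 0, 2, 1, 0, 1, 1, 0, 0, 0, 0, 1])) (.leaf [0, 1, 0, 1, 2, 0, 1, 0, 1, 1, 2, 1, 2, 1])) (.node (.leaf [2, 1, 1, 2, 1, 1, 2, 0, 0, 2, 0, 2, 2, 1]) (.leaf [0, 2, 1, 2, 2, 2, 1, 2, 1, 1]))) (.node (.node (.leaf []) (.leaf [2, 2, 2, 2, 1, 0, 2, 1, 0, 1, 0, 1, 1, 1])) (.node (.leaf []) (.leaf [1, 1, 0, 2, 0, 0, 1, 2, 1, 1, 1, 1, 1, 2]))))) (.node (.node (.node (.node (.node (.leaf [0, 0, 1]) (.leaf [0, 1, 2, 0, 2, 0, 0, 1, 1, 2, 0, 0, 1, 2])) (.leaf [1, 0, 0, 1, 0, 2, 0, 0, 0, 0, 0, 2])) (.node (.leaf [1, 2, 2, 0, 2, 0, 1, 1]) (.leaf [2, 0, 1, 0, 0, 2, 1, 0, 2, 0, 2, 2, 1, 2]))) (.node (.node (.leaf []) (.leaf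 [0, 2, 2, 2, 0, 0, 1, 0, 2, 0, 1, 1, 1, 1])) (.node (.leaf []) (.leaf [2, 0, 0, 0, 1, 1, 1, 0, 2, 2, 0, 2, 2, 1])))) (.node (.node (.node (.leaf []) (.leaf [1, 0, 2, 2, 2, 0, 1, 0, 2, 0, 1, 1, 1, 1])) (.node (.leaf [1, 2, 2, 0, 0, 2, 1, 2, 1, 1, 2, 0, 1, 2]) (.leaf [0, 2, 0, 2, 0, 1, 1, 2, 0, 2, 0, 2, 1, 2]))) (.node (.node (.leaf [1, 0, 2, 2, 2, 0, 2, 1, 1]) (.leaf [0, 0, 0, 1, 0, 1, 0, 0, 0, 2])) (.node (.leaf [0, 0, 1, 2, 0, 0, 0, 2, 1]) (.leaf [0, 1, 0, 2, 2, 0, 1, 0, 0, 2, 0, 0, 2, 1])))))) (.node (.node (.node (.node (.node (.node (.leaf []) (.leaf [2, 0, 2, 1, 1, 0, 0, 0, 0, 1, 0, 0, 1])) (.leaf [0, 2, 0, 2, 0, 1, 1, 0, 2, 2, 2, 2, 0, 2])) (.node (.leaf [0, 1, 2, 1, 0, 1, 1, 1, 2, 0, 1, 1, 1, 1]) (.leaf [0, 0, 1, 0, 2, 1, 2, 0, 1, 0, 0, 2]))) (.node (.node (.leaf []) (.leaf [1, 0, 2, 2, 0, 2, 2, 1, 2, 0, 1, 1, 1, 1])) (.node (.leaf []) (.leaf [2, 1, 2, 2, 1, 0, 1, 2, 1, 1, 1, 2, 0, 2]))))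 (.node (.node (.node (.leaf [0, 0, 1]) (.leaf [0, 0, 2, 0, 1, 1, 2, 2, 2, 0, 1, 1, 2])) (.node (.leaf [2, 0, 0, 1, 1, 2, 0, 0, 1, 2, 2, 0, 1, 2]) (.leaf []))) (.node (.node (.leaf [2, 1, 1, 1, 1, 1, 1, 0, 1, 0, 2, 0, 1, 1]) (.leaf [2, 0, 1, 1, 1, 2, 0, 1, 2, 1, 1, 0, 1, 2])) (.node (.leaf [0, 2, 2, 0, 1, 0, 2, 1]) (.leaf [0, 2, 1, 2, 1, 0, 0, 1, 0, 1, 0, 1, 0, 2]))))) (.node (.node (.node (.node (.node (.leaf []) (.leaf [0, 2, 0, 2, 2, 1, 1, 0, 0, 2])) (.leaf [2, 1, 1, 0, 2, 1, 1, 1, 1, 1, 2, 1, 0, 1])) (.node (.leaf [2, 1, 2, 2, 2, 2, 2, 0, 1, 1, 2, 1, 0, 1]) (.leaf []))) (.node (.node (.leaf [0, 0, 1]) (.leaf [0, 0, 2, 1, 0, 0, 0, 0, 1, 2, 2])) (.node (.leaf [1, 0, 2, 1, 2, 1, 1, 1, 1, 0, 1]) (.leaf [2, 0, 1, 2, 0, 2, 1, 2, 2, 2, 2, 1, 1, 2])))) (.node (.node (.node (.leaf [0, 0, 0, 2, 0, 2, 0, 0, 0, 0, 0, 1]) (.leaf [1, 1, 2, 1, 2, 0, 1, 2, 1, 2, 2, 0, 1, 1])) (.node (.leaf [2, 1, 1, 0, 0, 1,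 0, 0, 2, 0, 1, 0, 2, 1]) (.leaf [1, 2, 1, 0, 0, 1, 2, 1, 0, 0, 0, 2, 1, 2]))) (.node (.node (.leaf []) (.leaf [1, 0, 2, 1, 0, 0, 1, 1, 0, 0, 0, 0, 2])) (.node (.leaf []) (.leaf [1, 2, 2, 1, 0, 2, 0, 1, 1, 2, 0, 0, 0, 2]))))))) (.node (.node (.node (.node (.node (.node (.node (.leaf []) (.leaf [2, 2, 1, 2, 1, 2, 1, 2, 1, 2, 2, 2])) (.leaf [1, 1, 1, 1, 1, 0, 0, 1, 0, 0, 1, 2, 1])) (.node (.leaf [1, 2, 2, 2, 2, 2, 1, 0, 0, 2, 1, 2, 1, 1]) (.leaf [1, 1, 1, 2, 1, 1, 1, 0, 1, 2, 2, 2]))) (.node (.node (.leaf []) (.leaf [0, 2, 2, 1, 2, 0, 1, 2, 1, 1, 2, 1, 2, 1])) (.node (.leaf [2, 1, 2, 2, 0, 0, 2, 0, 2, 2, 1, 2]) (.leaf [2, 1, 2, 2, 2, 1, 2, 2, 0, 2, 1, 1, 2, 1])))) (.node (.node (.node (.leaf []) (.leaf [2, 1, 2, 0, 1, 1, 2, 0, 1, 0, 1, 2, 1, 1])) (.node (.leaf [0, 0, 1, 1, 0, 2, 0, 0, 0, 1, 0, 2]) (.leaf [2, 1, 2, 0, 0, 1, 1, 1, 2, 1, 0, 1]))) (.node (.node (.leaf []) (.leaf [1, 0, 0, 1, 2, 2, 0, 1,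 2, 2, 2, 1, 1])) (.node (.leaf [0, 1, 1, 0, 0, 2, 2, 2, 0, 0, 1, 2, 1, 2]) (.leaf [2, 0, 2, 0, 1, 2, 1, 2, 1, 1, 1, 0, 1, 2]))))) (.node (.node (.node (.node (.node (.leaf []) (.leaf [1, 0, 1, 0, 1, 0, 1, 0, 2, 2, 0, 2, 2, 1])) (.leaf [1, 1, 2, 0, 0, 1, 0, 0, 1, 1, 2, 0, 0, 2])) (.node (.leaf [2, 2, 2, 0, 0, 0, 0, 0, 0, 2, 0, 2, 2]) (.leaf [1, 2, 0, 1, 2, 1, 2, 0, 0, 0, 0, 2]))) (.node (.node (.leaf []) (.leaf [0, 1, 1, 0, 0, 2, 2, 0, 0, 2, 0, 0, 2, 2])) (.node (.leaf [0, 2, 1, 0, 1, 2, 1, 0, 0, 2, 0, 2, 0, 2]) (.leaf [0, 0, 1])))) (.node (.node (.node (.leaf [0, 0, 1]) (.leaf [0, 1, 0, 1, 1, 1, 0, 1, 0, 2, 1, 2, 2, 1])) (.node (.leaf [2, 1, 2, 1, 1, 2, 2, 2, 2, 0, 1, 0, 1, 1]) (.leaf [1, 0, 2, 2, 2, 2, 0, 1, 1, 2, 1, 2, 0, 1]))) (.node (.node (.leaf [2, 2, 2, 0, 0, 0, 0, 1]) (.leaf [])) (.node (.leaf [1, 1, 2, 2, 0, 0, 0, 1, 1, 1, 0, 2]) (.leaf [2, 1, 1, 0, 2, 2, 2, 0, 1, 1, 1, 1, 0, 2])))))) (.node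 (.node (.node (.node (.node (.node (.leaf []) (.leaf [0, 1, 0, 0, 2, 1, 0, 2, 1, 0, 2, 1, 2])) (.leaf [0, 0, 0, 2, 0, 2, 0, 1, 0, 0, 2, 1, 2, 2])) (.node (.leaf []) (.leaf [2, 0, 0, 0, 1, 1, 0, 2, 0, 2, 0, 1, 2, 1]))) (.node (.node (.leaf []) (.leaf [1, 2, 2, 2, 0, 0, 1, 0, 0, 2, 2, 2, 0, 1])) (.node (.leaf []) (.leaf [1, 1, 0, 0, 2, 0, 2, 0, 1, 2, 0, 2])))) (.node (.node (.node (.leaf []) (.leaf [2, 2, 2, 0, 2, 1, 2, 1, 2, 1, 0, 1])) (.node (.leaf [0, 0, 0, 2, 0, 2, 0, 0, 0, 1]) (.leaf [0, 0, 2, 2, 0, 0, 2, 1, 2, 1, 1, 0, 2, 2]))) (.node (.node (.leaf [1, 0, 2, 1, 1, 0, 2, 1, 2]) (.leaf [])) (.node (.leaf [0, 0, 1, 1, 0, 1, 1, 2, 1, 1, 1, 1, 0, 1]) (.leaf [0, 1, 1, 2, 0, 1, 1, 0, 0, 2, 1, 2, 1, 1]))))) (.node (.node (.node (.node (.node (.leaf []) (.leaf [1, 2, 0, 2, 0, 1, 2, 1, 2, 1, 1, 1, 2])) (.leaf [1, 2, 1, 0, 2, 2, 1, 0, 0, 1, 0, 1, 0, 1])) (.node (.leaf [1, 0, 2, 1, 1, 2, 2, 0, 1, 2, 2, 2,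 2, 2]) (.leaf [2, 2, 2, 2, 0, 1, 1, 0, 0, 2, 1, 2, 0, 2]))) (.node (.node (.leaf []) (.leaf [0, 0, 2, 1, 1, 2, 1, 1, 2, 0, 0, 1])) (.node (.leaf [0, 0, 1, 1, 0, 2, 0, 0, 2, 0, 1, 1, 2, 2]) (.leaf [2, 0, 2, 2, 2, 1, 2, 1, 0, 2, 0, 2, 0, 1])))) (.node (.node (.node (.leaf [0, 2, 1, 2, 2, 0, 1, 2, 2, 0, 2, 2, 2, 2]) (.leaf [2, 0, 0, 1, 2, 1, 1, 0, 2, 2, 0, 0, 0, 1])) (.node (.leaf [0, 0, 1]) (.leaf [1, 2, 2, 1, 2, 1, 2, 2, 1, 1, 1, 1, 1]))) (.node (.node (.leaf []) (.leaf [1, 2, 2, 2, 0, 0, 0, 1, 0, 1])) (.node (.leaf [1, 1, 0, 0, 0, 2, 1, 0, 2, 2, 1, 2, 2]) (.leaf [2, 1, 1, 0, 2, 1, 2, 0, 2, 0, 2, 2, 2, 2]))))))))) (.node (.node (.node (.node (.node (.node (.node (.node (.node (.leaf []) (.leaf [2, 1, 2, 1, 1, 1, 0, 1, 2, 2, 1, 2, 2, 2])) (.leaf [2, 2, 1, 0, 1, 0, 0, 0, 0, 2, 2, 2, 1, 2])) (.node (.leaf [1, 2, 1, 0, 2, 2, 0, 0, 1, 0, 1, 1]) (.leaf [0, 1, 1, 0, 2, 0, 1, 2]))) (.node (.node (.leaf [1,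 0, 2, 1, 1, 0, 2, 1, 2]) (.leaf [1, 0, 0, 2, 2, 1, 0, 1, 1, 0, 1, 1, 0, 1])) (.node (.leaf [1, 0, 1, 2, 0, 0, 2, 1, 2, 0, 1, 1, 1, 1]) (.leaf [2, 2, 2, 1, 2, 1, 1, 0, 2, 1, 1, 1, 1, 2])))) (.node (.node (.node (.node (.leaf []) (.leaf [2, 0, 2, 1, 0, 1, 0, 2, 0, 1, 1, 1, 2])) (.leaf [2, 2, 1, 1, 2, 1, 0, 0, 2, 1, 0, 1, 2, 2])) (.node (.leaf [1, 0, 0, 1, 1, 1, 1, 0, 0, 0, 1, 0, 2, 2]) (.leaf [2, 2, 1, 1, 2, 0, 1, 1, 0, 0, 2, 1, 2]))) (.node (.node (.leaf []) (.leaf [1, 1, 1, 0, 1, 1, 1, 1, 0, 2, 0, 2, 0, 2])) (.node (.leaf [0, 2, 2, 0, 1, 2, 1, 0, 0, 0, 2, 0, 2, 2]) (.leaf [1, 2, 0, 1, 0, 0, 1, 1, 0, 1, 1, 1, 2]))))) (.node (.node (.node (.node (.node (.leaf []) (.leaf [1, 1, 2, 0, 0, 0, 1, 0, 2, 2, 0, 2, 2, 1])) (.leaf [2, 0, 0, 2, 0, 0, 2, 1, 2, 0, 0, 0, 2])) (.node (.leaf [2, 1, 2, 2, 2, 2, 2, 2, 0, 0, 2, 1, 2, 2]) (.leaf [1, 0, 0, 2, 1, 2, 2, 2, 2, 1, 2, 0, 0, 2]))) (.node (.node (.leaf []) (.leaf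 [0, 0, 0, 0, 1, 2, 2, 0, 0, 2, 1, 2, 1])) (.node (.leaf [0, 2, 1, 2, 2, 0, 2, 0, 0, 0, 0, 0, 2, 2]) (.leaf [2, 0, 1, 2, 2, 0, 1, 0, 2, 2, 1, 1])))) (.node (.node (.node (.leaf []) (.leaf [0, 0, 2, 0, 1, 1, 2, 2, 0, 2, 0, 2, 2])) (.node (.leaf [2, 2, 2, 2, 1, 1, 2, 1, 2, 1, 1, 1]) (.leaf [1, 1, 2, 2, 2, 0, 1, 0, 2, 2, 0, 0, 1, 2]))) (.node (.node (.leaf [2, 1, 0, 0, 0, 0, 1, 2, 1, 0, 2, 0, 2, 1]) (.leaf [])) (.node (.leaf [2, 0, 0, 0, 1, 1, 1, 0, 1, 0, 2, 0, 1, 2]) (.leaf [1, 2, 0, 0, 2, 0, 0, 1, 2, 0, 2, 2])))))) (.node (.node (.node (.node (.node (.node (.leaf []) (.leaf [0, 0, 2, 1, 0, 2, 0, 1, 2, 1, 1, 0, 2, 1])) (.leaf [0, 0, 0, 0, 1, 2, 1, 1, 0, 2, 1, 0, 1, 2])) (.node (.leaf [1, 2, 1, 1, 2, 0, 1, 1, 1, 2, 1, 2, 2]) (.leaf []))) (.node (.node (.leaf []) (.leaf [2, 0, 0, 1, 0, 0, 2, 1, 2, 0, 2, 0, 1])) (.node (.leaf [2, 0, 1, 2, 0, 1, 0, 1, 0, 2, 0, 1, 1]) (.leaf [0, 2, 1, 1, 2, 2, 1, 2, 2, 0,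 0, 2, 2, 2])))) (.node (.node (.node (.leaf []) (.leaf [0, 0, 2, 2, 2, 2, 2, 1, 0, 0, 2, 1, 2, 1])) (.node (.leaf [2, 1, 2, 0, 1, 1, 2, 2, 1, 0, 0, 1, 1]) (.leaf [2, 1, 0, 2, 0, 2, 0, 0, 2, 1, 1, 1, 0, 2]))) (.node (.node (.leaf [0, 0, 2, 1, 1, 2, 1, 0, 1, 0, 0, 0, 2, 2]) (.leaf [])) (.node (.leaf [0, 0, 0, 2, 0, 2, 0, 1, 1, 2, 2, 1, 1]) (.leaf [0, 1, 1, 0, 0, 1, 2, 0, 0, 2, 0, 0, 2, 2]))))) (.node (.node (.node (.node (.node (.leaf []) (.leaf [0, 0, 0, 0, 1, 1, 2, 1, 1, 0, 1, 0, 0, 1])) (.leaf [1, 0, 0, 1, 0, 2, 2, 2, 0, 0, 1, 2])) (.node (.leaf [2, 1, 2, 0, 2, 0, 1, 0, 0, 1, 0, 2, 1, 2]) (.leaf [2, 0, 0, 0, 1, 0, 2, 0, 1, 1, 2, 2]))) (.node (.node (.leaf []) (.leaf [2, 2, 0, 0, 0, 1, 2, 2, 0, 2, 1, 0, 1, 2])) (.node (.leaf [0, 0, 1, 1, 0, 2, 0, 0, 1, 2, 2, 2, 2, 2]) (.leaf [0, 0, 1])))) (.node (.node (.node (.leaf []) (.leaf [0, 1, 0, 1, 0, 2, 1, 2, 0, 0, 0, 0, 2])) (.node (.leaf [0, 0, 1, 2, 0,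 0, 2, 2, 1, 0, 0, 2, 2, 2]) (.leaf [0, 1, 0, 2, 1, 2, 1, 0, 1, 2, 2, 2]))) (.node (.node (.leaf [0, 1, 2, 1, 0, 1, 1, 2, 0, 2, 1, 0, 0, 2]) (.leaf [])) (.node (.leaf []) (.leaf [0, 1, 0, 0, 1, 2, 0, 1]))))))) (.node (.node (.node (.node (.node (.node (.node (.leaf []) (.leaf [1, 2, 2, 0, 1, 0, 2, 1])) (.leaf [0, 0, 1])) (.node (.leaf [0, 0, 1]) (.leaf [1, 1, 2, 1, 1, 0, 1, 1, 1, 0, 1, 2, 0, 1]))) (.node (.node (.leaf []) (.leaf [2, 2, 1, 0, 2, 0, 2, 0, 1, 1, 0, 1, 2, 1])) (.node (.leaf [2, 1, 2, 2, 0, 1, 1, 0, 0, 2, 0, 2, 1, 2]) (.leaf [1, 1, 1, 2, 2, 2, 0, 1, 1, 2, 2, 1, 0, 2])))) (.node (.node (.node (.node (.leaf []) (.leaf [1, 1, 2, 2, 2, 0, 0, 1, 1, 0, 2, 0, 1, 1])) (.leaf [1, 2, 1, 1, 2, 0, 1, 2, 2])) (.node (.leaf [0, 1, 2, 2, 2, 0, 1, 2, 2, 1, 0, 0, 0, 1]) (.leaf [2, 2, 2, 2, 1, 0, 2, 1, 0, 2, 2, 1, 1, 1]))) (.node (.node (.leaf [0, 2, 2, 2, 0, 0, 2, 2, 1, 2, 2, 1, 2, 2]) (.leaf [])) (.node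 (.leaf []) (.leaf [0, 0, 1, 0, 0, 0, 0, 0, 1, 0, 2, 1, 1, 1]))))) (.node (.node (.node (.node (.node (.leaf []) (.leaf [1, 2, 2, 1, 1, 1, 2, 2, 0, 2, 1, 1, 2, 2])) (.leaf [2, 0, 1, 0, 1, 2, 1, 2, 0, 2, 0, 1, 2, 1])) (.node (.leaf [2, 0, 0, 1, 1, 2, 2, 1, 2, 1, 0, 2, 1, 1]) (.leaf [1, 2, 1, 2, 1, 1, 0, 1, 1, 0, 1, 1, 2, 2]))) (.node (.node (.leaf []) (.leaf [1, 1, 1, 0, 2, 1, 1, 1, 2, 1, 1, 0, 1, 2])) (.node (.leaf [1, 1, 0, 0, 0, 1, 0, 0, 2, 1, 0, 2, 2, 2]) (.leaf [2, 0, 1, 2, 0, 1, 2, 2, 1, 0, 2, 0, 1])))) (.node (.node (.node (.leaf []) (.leaf [1, 1, 1, 0, 2, 0, 0, 0, 1, 1, 2, 2, 1, 2])) (.node (.leaf [1, 1, 2, 2, 1, 2, 0, 1, 1, 0, 2, 0, 2, 2]) (.leaf [1, 0, 2, 2, 0, 1, 1, 2, 2, 0, 1, 0, 2, 2]))) (.node (.node (.leaf [1, 0, 2, 0, 1, 2, 2, 2, 1, 1, 2, 1, 0, 1]) (.leaf [0, 0, 2, 2, 1, 0, 2, 2, 0, 1, 1, 0, 0, 2])) (.node (.leaf [0, 1, 1, 0, 2, 0, 0, 1, 2, 1, 1, 1, 1]) (.leaf [1, 0, 0, 0, 1, 2, 1,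 2, 2, 0, 1, 2, 1])))))) (.node (.node (.node (.node (.node (.node (.leaf []) (.leaf [0, 0, 1])) (.leaf [0, 0, 1])) (.node (.leaf [2, 0, 2, 0, 0, 1, 0, 1, 2, 1, 1, 1, 1]) (.leaf []))) (.node (.node (.leaf []) (.leaf [0, 1, 1, 2, 0, 1, 1, 0, 2, 2, 1, 1, 1, 2])) (.node (.leaf []) (.leaf [0, 1, 2, 0, 1, 2, 1, 2, 1, 2, 0, 2])))) (.node (.node (.node (.leaf [0, 0, 1]) (.leaf [0, 1, 0, 2, 1, 1, 2, 2, 2, 0, 0, 2, 2, 1])) (.node (.leaf [1, 1, 0, 0, 0, 2, 0, 2, 2, 0, 2, 0, 0, 2]) (.leaf [1, 2, 0, 1, 0, 1, 2, 1, 2, 1, 1, 1, 1, 2]))) (.node (.node (.leaf [0, 1, 1, 2, 2, 2, 1, 0, 0, 0, 0, 0, 1]) (.leaf [1, 0, 0, 0, 1, 0, 1, 0, 0, 0, 1, 0, 1, 1])) (.node (.leaf [1, 0, 2, 0, 2, 1, 1, 2, 0, 0, 0, 1, 0, 1]) (.leaf [1, 2, 2, 2, 2, 1, 0, 0, 1, 0, 2, 0, 1]))))) (.node (.node (.node (.node (.node (.leaf []) (.leaf [0, 1, 0, 2, 2, 0, 2, 2, 2, 1, 2, 1, 1])) (.leaf [2, 1, 2, 2, 2, 1, 2, 1, 1, 0, 1, 0, 2])) (.node (.leaf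 [2, 2, 2, 1, 0, 1, 0, 0, 2, 1, 2]) (.leaf [0, 1, 2, 0, 0, 0, 0, 2, 2, 0, 1, 1, 1, 1]))) (.node (.node (.leaf []) (.leaf [1, 0, 0, 2, 2, 1, 1, 0, 1, 0, 2, 2])) (.node (.leaf [0, 0, 1]) (.leaf [0, 1, 2, 1, 1, 2, 0, 0, 1, 1, 2, 0, 0, 1])))) (.node (.node (.node (.leaf [2, 2, 2, 1, 0, 1, 2, 0, 2, 1, 1, 1, 2, 1]) (.leaf [2, 0, 2, 2, 0, 2, 0, 0, 1, 1, 2, 1, 1, 1])) (.node (.leaf [1, 1, 1, 0, 2, 0, 1, 2]) (.leaf [1, 0, 1, 1, 1, 1, 2, 1, 0, 2, 2, 0, 2, 2]))) (.node (.node (.leaf [0, 2, 2, 0, 1, 0, 1, 2, 0, 1, 0, 0, 1, 1]) (.leaf [])) (.node (.leaf [1, 1, 0, 0, 2, 0, 1, 1, 1, 0, 2]) (.leaf [0, 2, 0, 0, 0, 1, 2, 1, 1, 2, 2, 1, 1, 2])))))))) (.node (.node (.node (.node (.node (.node (.node (.node (.leaf []) (.leaf [2, 1, 2, 0, 1, 0, 0, 1, 0, 2, 0, 0, 1, 1])) (.leaf [1, 0, 2, 1, 2, 2, 1, 0, 2, 0, 2, 1, 2, 1])) (.node (.leaf [0, 0, 1]) (.leaf []))) (.node (.node (.leaf [1, 2, 0, 2, 1, 1, 0, 0, 2, 2, 1]) (.leaf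 [2, 2, 1, 2, 2, 2, 2, 1, 0, 1, 1, 1, 0, 1])) (.node (.leaf [0, 2, 1, 1, 0, 0, 0, 1, 2, 1, 0, 2, 2, 1]) (.leaf [1, 0, 2, 2, 1, 0, 0, 1, 2, 1, 1, 2, 0, 1])))) (.node (.node (.node (.node (.leaf []) (.leaf [1, 0, 1, 2, 0, 1, 0, 0, 0, 2])) (.leaf [2, 2, 2, 1, 1, 0, 1, 0, 2, 0, 1, 1, 1])) (.node (.leaf [2, 1, 2, 0, 2, 0, 0, 1, 2, 0, 0, 1]) (.leaf [0, 0, 0, 0, 1, 1, 1, 0, 1, 1, 2, 1, 0, 1]))) (.node (.node (.leaf [0, 0, 1]) (.leaf [2, 1, 2, 2, 0, 0, 1, 2, 1, 1, 2, 2, 2, 2])) (.node (.leaf [1, 1, 1, 1, 1, 0, 0, 2, 2, 0, 1, 2, 0, 2]) (.leaf [1, 1, 2, 1, 2, 2, 1, 2, 1, 2, 2, 2]))))) (.node (.node (.node (.node (.node (.leaf []) (.leaf [1, 0, 0, 0, 1, 2, 0, 1, 0, 1, 1, 2, 1, 1])) (.leaf [0, 0, 1])) (.node (.leaf []) (.leaf [2, 2, 0, 1, 2, 2, 2, 1, 0, 1, 2, 2, 2, 1]))) (.node (.node (.leaf []) (.leaf [1, 2, 0, 2, 0, 2, 1, 2, 0, 2, 1, 1, 1, 2])) (.node (.leaf [0, 2, 1, 2, 0, 2, 0, 2, 0, 2, 0, 0, 0, 2]) (.leaf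 [0, 2, 2, 2, 1, 2, 1, 1, 1, 2, 1, 1, 0, 2])))) (.node (.node (.node (.leaf []) (.leaf [0, 0, 2, 2, 1, 0, 2, 2, 1, 2, 2, 0, 0, 1])) (.node (.leaf [1, 0, 1, 2, 0, 1, 0, 0, 0, 0, 0, 1]) (.leaf [1, 2, 1, 1, 0, 2, 1, 2, 0, 2, 0, 2, 1]))) (.node (.node (.leaf [1, 2, 1, 0, 1, 0, 0, 1, 2, 0, 1, 0, 2, 1]) (.leaf [1, 1, 2, 0, 0, 0, 0, 1, 1, 2, 0, 2, 2, 2])) (.node (.leaf [2, 1, 0, 1, 2, 2, 0, 0, 0, 0, 0, 2, 2, 2]) (.leaf [2, 1, 2, 2, 0, 0, 2, 2, 1, 1, 2, 1, 2])))))) (.node (.node (.node (.node (.node (.node (.leaf []) (.leaf [1, 0, 2, 0, 1, 1, 0, 0, 0, 1, 0, 0, 1])) (.leaf [0, 0, 1, 1, 0, 1, 0, 0, 0, 2])) (.node (.leaf [2, 1, 1, 1, 2, 0, 1, 0, 1, 2, 2, 0, 1]) (.leaf [1, 1, 2, 2, 1, 1, 2, 2, 1, 0, 0, 2, 1]))) (.node (.node (.leaf []) (.leaf [1, 0, 2, 2, 0, 2, 0, 0, 0, 2, 0, 1])) (.node (.leaf []) (.leaf [1, 2, 1, 2, 1, 2, 1, 2, 1, 2, 2, 2])))) (.node (.node (.node (.leaf []) (.leaf [1, 1, 1, 0, 0, 2, 0, 2,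 2, 2, 0, 0, 0, 2])) (.node (.leaf [1, 0, 0, 0, 2, 2, 2, 1, 2, 1, 0, 2, 0, 1]) (.leaf [1, 2, 1, 2, 1, 1, 1, 1, 0, 2, 1, 0, 0, 1]))) (.node (.node (.leaf [1, 2, 2, 2, 2, 2, 1, 2, 1, 0, 0, 2, 2, 2]) (.leaf [2, 2, 2, 2, 0, 1, 2, 2, 0, 2, 0, 2])) (.node (.leaf []) (.leaf [1, 2, 2, 2, 0, 0, 2, 1, 1]))))) (.node (.node (.node (.node (.node (.leaf [1, 1, 2, 0, 0, 0, 0, 2]) (.leaf [1, 2, 1, 0, 0, 0, 1, 2, 2, 1, 1, 0, 1, 2])) (.leaf [0, 0, 1])) (.node (.leaf [0, 2, 1, 0, 1, 1, 0, 0, 1, 2, 2, 2, 1, 1]) (.leaf [1, 2, 1, 1, 1, 1, 0, 0, 2, 0, 1]))) (.node (.node (.leaf []) (.leaf [1, 1, 2, 1, 0, 2, 2, 2, 2, 1, 2, 0, 2, 2])) (.node (.leaf [1, 0, 0, 0, 0, 0, 0, 0, 0, 1, 0, 2]) (.leaf [0, 2, 1, 0, 0, 2, 0, 0, 2, 1, 0, 1, 0, 2])))) (.node (.node (.node (.leaf [1, 0, 1, 1, 0, 0, 0, 0, 1, 2, 0, 2, 2, 1]) (.leaf [])) (.node (.leaf [2, 2, 2, 2, 1, 1, 1, 0, 0, 2, 0, 1, 1]) (.leaf [0, 0, 0, 0, 1, 1, 1, 2]))) (.node (.node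 (.leaf [0, 1, 0, 1, 2, 0, 2, 1, 2, 2, 1, 0, 1, 1]) (.leaf [])) (.node (.leaf [2, 2, 1, 0, 2, 0, 2, 2, 1, 2, 0, 2]) (.leaf [0, 0, 1, 1, 0, 1, 0, 0, 0, 2]))))))) (.node (.node (.node (.node (.node (.node (.node (.leaf [0, 0, 1]) (.leaf [2, 2, 1, 0, 0, 1, 2, 1, 0, 2, 2, 1, 0, 1])) (.leaf [2, 1, 1, 1, 0, 2, 1, 0, 1, 0, 0, 2, 2, 2])) (.node (.leaf [0, 2, 2, 1, 0, 2, 2, 2, 0, 1, 1, 1, 1, 1]) (.leaf [1, 2, 0, 0, 0, 2, 0, 1]))) (.node (.node (.leaf []) (.leaf [0, 0, 1, 1, 2, 0, 2, 0, 2, 2, 0, 2, 1, 1])) (.node (.leaf [2, 0, 2, 2, 1, 1, 2, 0, 0, 0, 0, 2, 2, 2]) (.leaf [0, 0, 1, 0, 0, 0, 0, 2, 1, 2, 2, 2, 2])))) (.node (.node (.node (.leaf []) (.leaf [2, 0, 2, 2, 2, 0, 1, 2, 1])) (.node (.leaf [1, 2, 0, 0, 1, 2, 2, 0, 1, 0, 2, 2, 2, 2]) (.leaf [2, 1, 0, 0, 2, 0, 0, 0, 0, 1, 0, 2]))) (.node (.node (.leaf [0, 0, 0, 2, 0, 2, 0, 0, 0, 0, 0, 1]) (.leaf [2, 1, 2, 2, 1, 2, 0, 0, 2, 2, 2, 1, 1, 2])) (.node (.leaf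 [0, 0, 1]) (.leaf [2, 1, 0, 1, 1, 2, 0, 1, 0, 1, 2, 1, 0, 1]))))) (.node (.node (.node (.node (.node (.leaf [1, 1, 1, 0, 0, 0, 0, 2]) (.leaf [1, 2, 0, 2, 1, 0, 1, 2, 2, 1, 2, 2, 2, 1])) (.leaf [])) (.node (.leaf [2, 2, 0, 0, 1, 0, 1, 0, 1, 2, 2, 2, 0, 2]) (.leaf [2, 0, 2, 2, 0, 2, 2, 2, 1, 2, 1, 2, 2, 2]))) (.node (.node (.leaf [0, 0, 1]) (.leaf [1, 1, 0, 1, 2, 1, 1, 1, 2, 2, 0, 0, 1])) (.node (.leaf [2, 1, 0, 0, 1, 2, 1, 0, 1, 1, 2, 1, 2, 2]) (.leaf [0, 0, 1, 2, 0, 0, 0, 0, 2, 2, 1, 1])))) (.node (.node (.node (.leaf []) (.leaf [2, 0, 0, 0, 2, 0, 2, 2, 2, 0, 1, 1])) (.node (.leaf []) (.leaf [2, 1, 2, 1, 0, 0, 1, 2, 2]))) (.node (.node (.leaf [2, 1, 0, 1, 0, 1, 0, 1, 2, 1, 0, 1]) (.leaf [1, 1, 0, 1, 2, 0, 2, 2, 1, 0, 2, 0, 0, 2])) (.node (.leaf [0, 0, 2, 1, 0, 2, 0, 2, 1, 0, 0, 1, 1, 2]) (.leaf [1, 1, 1, 1, 1, 2, 2, 0, 0, 1])))))) (.node (.node (.node (.node (.node (.node (.leaf []) (.leaf [2, 1,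 0, 0, 0, 2, 0, 2])) (.leaf [2, 2, 0, 1, 0, 2, 0, 0, 1, 1, 2, 1, 1, 2])) (.node (.leaf [2, 1, 0, 0, 0, 0, 2, 0, 0, 2, 0, 1]) (.leaf [0, 0, 1, 0, 0, 0, 0, 0, 0, 2, 0, 1]))) (.node (.node (.leaf []) (.leaf [1, 1, 2, 2, 2, 1, 0, 0, 1, 0, 2, 2, 1, 1])) (.node (.leaf [1, 1, 0, 0, 1, 1, 2, 1, 0, 2, 0, 2, 2]) (.leaf [0, 1, 1, 0, 2, 0, 2, 2, 1, 1, 2, 0, 1])))) (.node (.node (.node (.leaf [1, 1, 1, 0, 0, 0, 0, 2]) (.leaf [1, 2, 0, 1, 0, 1, 1, 1, 2, 2, 1, 2, 1])) (.node (.leaf [0, 1, 2, 0, 2, 1, 0, 1, 2, 2, 2, 2, 0, 1]) (.leaf [2, 1, 2, 2, 1, 2, 1, 0, 1, 2, 1, 2, 0, 1]))) (.node (.node (.leaf [1, 1, 0, 2, 2, 1, 2, 2, 1, 2, 2, 0, 2, 1]) (.leaf [1, 2, 1, 0, 2, 1, 2, 2, 2, 1, 1, 1, 0, 1])) (.node (.leaf [0, 0, 0, 0, 2, 1, 0, 0, 0, 0, 1, 2]) (.leaf [1, 2, 2, 0, 2, 2, 0, 2, 1, 2, 0, 2]))))) (.node (.node (.node (.node (.node (.leaf []) (.leaf [0, 1, 2, 0, 1, 1, 0, 2, 2, 0, 1, 2, 0, 2])) (.leaf [2, 1, 2, 2, 2, 1,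 0, 2, 1, 0, 2, 2, 1, 2])) (.node (.leaf [1, 2, 0, 2, 1, 1, 0, 0, 1, 0, 0, 2, 0, 1]) (.leaf [0, 2, 1, 1, 1, 0, 2, 0, 1, 1, 0, 2, 2, 2]))) (.node (.node (.leaf []) (.leaf [0, 0, 1])) (.node (.leaf []) (.leaf [2, 0, 0, 0, 0, 2, 0, 1, 2, 0, 0, 2, 2, 1])))) (.node (.node (.node (.leaf [0, 1, 2, 0, 0, 0, 0, 2]) (.leaf [1, 0, 1, 1, 1, 1, 1, 0, 2, 2, 1, 2, 0, 1])) (.node (.leaf []) (.leaf [1, 1, 2, 2, 0, 0, 1, 2, 2, 2, 1, 2, 0, 2]))) (.node (.node (.leaf [1, 1, 2, 1, 1, 1, 1, 1, 0, 2, 1, 2, 1, 2]) (.leaf [0, 0, 1, 2, 0, 2, 1, 0, 0, 2, 0, 1, 1])) (.node (.leaf [0, 0, 1, 1, 0, 1, 0, 0, 0, 0, 0, 2]) (.leaf [2, 2, 0, 1, 1, 0, 1, 0, 1, 2, 2, 2, 0, 2])))))))))))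

def threeL3 : Janko.Tree (List ℤ) :=
  (.node (.node (.node (.node (.node (.node (.node (.node (.node (.node (.node (.leaf []) (.leaf [2, 1, 0, 0, 2, 0, 0, 0, 0, 0, 2, 0, 2])) (.leaf [1, 1, 1, 0, 0, 0, 0, 1, 1, 1, 1, 1, 0, 2])) (.node (.leaf [2, 0, 2, 1, 0, 2, 1, 1, 1, 2, 2, 0, 1, 2]) (.leaf [2, 0, 2, 1, 1, 1, 1, 0, 1, 0, 2, 0, 2]))) (.node (.node (.leaf [1, 0, 1, 1, 0, 0, 0, 0, 0, 2]) (.leaf [0, 0, 2, 2, 1, 0, 2, 0, 2, 2, 0, 2, 2])) (.node (.leaf []) (.leaf [0, 0, 0, 1])))) (.node (.node (.node (.node (.leaf []) (.leaf [2, 1, 2, 2, 2, 1, 2, 1, 2, 1, 0, 2, 2, 1])) (.leaf [0, 2, 1, 0, 1, 1, 2, 0, 1, 0, 1, 1, 1])) (.node (.leaf [1, 0, 0, 1, 1, 1, 2, 0, 2, 1, 0, 2, 1, 2]) (.leaf [2, 0, 1, 0, 2, 1, 1, 0, 2, 1, 1, 1, 1, 1]))) (.node (.node (.leaf []) (.leaf [0, 0, 0, 1])) (.node (.leaf [1, 1, 0, 1, 2, 1, 1, 1, 1, 1, 2, 1, 2, 1]) (.leaf [2, 0, 1, 2, 1, 0, 0, 1, 0, 2, 0, 0, 1, 2]))))) (.node (.node (.node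 (.node (.node (.leaf []) (.leaf [2, 2, 1, 1, 0, 2, 2, 1, 1, 1, 2, 0, 0, 1])) (.leaf [0, 2, 0, 2, 2, 2, 2, 0, 0, 2, 0, 2])) (.node (.leaf [0, 1, 1, 2, 0, 1, 0, 1, 1, 1, 0, 2]) (.leaf [2, 1, 0, 0, 0, 2, 2, 0, 1, 0, 0, 1, 1]))) (.node (.node (.leaf [0, 0, 0, 1]) (.leaf [1, 2, 1, 0, 2, 2, 2, 0, 0, 2, 0, 1])) (.node (.leaf [1, 1, 0, 2, 0, 0, 2, 2, 0, 0, 0, 2, 1, 2]) (.leaf [0, 2, 2, 1, 1, 1, 1, 0, 2, 0, 1, 2, 2, 1])))) (.node (.node (.node (.leaf []) (.leaf [0, 0, 0, 2, 2, 0, 0, 0, 0, 0, 1])) (.node (.leaf [1, 2, 0, 2, 2, 0, 2, 2, 1, 2, 2, 1, 0, 1]) (.leaf [2, 0, 2, 1, 1, 1, 1, 1, 1, 1, 1, 2, 0, 1]))) (.node (.node (.leaf []) (.leaf [])) (.node (.leaf []) (.leaf [0, 1, 1, 2, 1, 2, 1, 0, 2, 2, 1, 2, 1, 2])))))) (.node (.node (.node (.node (.node (.node (.leaf []) (.leaf [1, 2, 0, 1, 0, 0, 0, 0, 2])) (.leaf [0, 1, 1, 2, 2, 2, 2, 0, 0, 2, 0, 2, 1, 2])) (.node (.leaf [1, 0, 1, 2, 1, 0, 0, 0, 0, 1, 0, 2, 0,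 2]) (.leaf [1, 0, 0, 0, 1, 2, 0, 0, 1, 1, 2, 2, 2, 1]))) (.node (.node (.leaf []) (.leaf [2, 1, 0, 0, 0, 0, 0, 1, 2, 2, 0, 1, 1, 1])) (.node (.leaf []) (.leaf [2, 1, 0, 2, 1, 0, 1, 1, 2, 0, 2, 0, 0, 1])))) (.node (.node (.node (.leaf []) (.leaf [0, 1, 2, 2, 0, 2, 0, 2, 2, 2, 0, 1])) (.node (.leaf [0, 1, 0, 1, 1, 1, 0, 2, 1, 1, 0, 1]) (.leaf [1, 1, 1, 2, 0, 1, 1, 1, 2, 2, 0, 1]))) (.node (.node (.leaf []) (.leaf [])) (.node (.leaf []) (.leaf []))))) (.node (.node (.node (.node (.node (.leaf []) (.leaf [0, 0, 1, 2, 2, 0, 0, 1, 1, 2, 2, 2, 2, 2])) (.leaf [0, 2, 0, 0, 2, 0, 2, 0, 0, 1, 0, 2])) (.node (.leaf [0, 1, 1, 1, 1, 2, 2, 0, 0, 1, 0, 1, 2, 1]) (.leaf [2, 0, 1, 2, 1, 1, 1, 2, 1, 1, 0, 2, 0, 1]))) (.node (.node (.leaf []) (.leaf [1, 0, 2, 1, 2, 2, 1, 2, 2, 1, 1, 1, 1, 2])) (.node (.leaf [0, 0, 0, 1]) (.leaf [2, 0, 1, 0, 1, 1, 0, 0, 2, 1, 2, 0, 0, 1])))) (.node (.node (.node (.leaf [0, 2, 0, 1, 2,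 1, 2, 0, 0, 0, 0, 2]) (.leaf [2, 0, 2, 0, 0, 1, 2, 2, 2, 1, 1, 2, 2, 1])) (.node (.leaf [2, 1, 0, 0, 1, 2, 1, 0, 0, 0, 0, 1]) (.leaf [2, 1, 1, 1, 1, 0, 2, 0, 0, 1, 0, 1, 1]))) (.node (.node (.leaf [2, 0, 2, 0, 2, 2, 0, 1, 0, 1, 1, 0, 1]) (.leaf [1, 1, 0, 0, 0, 2, 1, 1, 0, 0, 2, 1, 0, 1])) (.node (.leaf []) (.leaf [0, 0, 0, 1]))))))) (.node (.node (.node (.node (.node (.node (.node (.leaf []) (.leaf [2, 1, 2, 1, 0, 2, 2, 2, 2, 0, 1, 2, 0, 1])) (.leaf [0, 0, 0, 1])) (.node (.leaf [0, 0, 2, 0, 0, 1, 0, 1, 2, 1, 0, 1]) (.leaf [0, 1, 0, 2, 2, 1, 1, 1, 2, 2, 0, 2, 1]))) (.node (.node (.leaf []) (.leaf [1, 1, 1, 0, 2, 1, 0, 2, 0, 1, 2, 2, 0, 2])) (.node (.leaf []) (.leaf [2, 2, 0, 1, 1, 0, 2, 1, 1, 1, 2, 0, 1, 1])))) (.node (.node (.node (.node (.leaf []) (.leaf [0, 0, 0, 0, 0, 0, 0, 0, 0, 0, 0, 1, 0, 0])) (.leaf [2, 1, 1, 1, 1, 1, 0, 2, 1, 0, 0, 2])) (.node (.leaf [1, 2, 2, 2, 2, 2, 2, 0, 2, 0, 1, 0, 2,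 2]) (.leaf [0, 0, 1, 0, 2, 1, 2, 0, 0, 0, 0, 2, 0, 2]))) (.node (.node (.leaf [0, 2, 2, 0, 0, 1, 0, 1, 2, 1, 0, 1]) (.leaf [0, 0, 0, 1])) (.node (.leaf []) (.leaf [0, 2, 2, 2, 0, 0, 0, 2, 0, 1, 2, 0, 2, 2]))))) (.node (.node (.node (.node (.node (.leaf []) (.leaf [2, 1, 1, 1, 2, 0, 1, 0, 1, 2])) (.leaf [2, 0, 1, 1, 2, 2, 0, 1, 0, 0, 0, 0, 1, 1])) (.node (.leaf []) (.leaf [0, 0, 1, 2, 1, 1, 1, 0, 1, 1, 1, 2, 2, 1]))) (.node (.node (.leaf []) (.leaf [1, 2, 0, 1, 1, 0, 1, 1, 1, 1, 2, 0, 2, 2])) (.node (.leaf [1, 1, 0, 2, 0, 1, 0, 1, 2, 1, 2, 1, 2, 2]) (.leaf [2, 0, 1, 1, 2, 2, 2, 2, 1, 1])))) (.node (.node (.node (.leaf [0, 0, 0, 1]) (.leaf [1, 1, 2, 2, 2, 1, 0, 1, 0, 2, 2, 2, 0, 1])) (.node (.leaf [0, 0, 0, 1]) (.leaf [1, 1, 1, 0, 1, 1, 0, 0, 0, 0, 0, 0, 2, 1]))) (.node (.node (.leaf [2, 0, 0, 0, 0, 2, 0, 0, 0, 1]) (.leaf [])) (.node (.leaf [2, 1, 1, 1, 2, 0, 2, 0, 0, 2, 1, 1, 2, 2]) (.leaf [2, 2,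 0, 1, 1, 0, 1, 2, 0, 1, 0, 2, 1, 1])))))) (.node (.node (.node (.node (.node (.node (.leaf [0, 0, 0, 1]) (.leaf [0, 1, 1, 0, 1, 0, 1, 0, 0, 1, 0, 2])) (.leaf [2, 1, 1, 0, 2, 1, 0, 0, 0, 0, 0, 1])) (.node (.leaf [1, 0, 2, 0, 0, 0, 1, 0, 1, 1, 2, 2, 2, 1]) (.leaf []))) (.node (.node (.leaf [0, 1, 0, 2, 0, 0, 0, 0, 0, 0, 0, 0, 1]) (.leaf [2, 1, 1, 1, 2, 0, 0, 2, 1, 2, 0, 0, 0, 2])) (.node (.leaf []) (.leaf [2, 0, 1, 1, 0, 0, 2, 0, 1, 2, 0, 0, 1, 1])))) (.node (.node (.node (.leaf []) (.leaf [0, 1, 1, 0, 1, 1, 1, 1, 2, 1, 0, 1])) (.node (.leaf [2, 2, 0, 0, 0, 1, 0, 2, 1]) (.leaf [2, 2, 1, 0, 0, 1, 0, 0, 0, 2, 0, 2, 2]))) (.node (.node (.leaf [2, 2, 2, 1, 0, 1, 1, 1, 1, 2, 1, 2, 1, 1]) (.leaf [1, 1, 2, 2, 2, 0, 1, 2, 0, 2, 0, 1, 2, 2])) (.node (.leaf [1, 0, 2, 0, 2, 0, 1, 0, 0, 0, 0, 1, 2]) (.leaf [0, 0, 1, 1, 1, 0, 0, 2, 0, 2, 0, 1, 1, 2]))))) (.node (.node (.node (.node (.node (.leaf [1, 0, 1, 1, 0,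 0, 0, 0, 0, 2]) (.leaf [2, 0, 0, 0, 0, 1, 2, 1, 0, 2, 2, 0, 2, 1])) (.leaf [2, 1, 0, 1, 2, 2, 0, 0, 1, 1, 1, 0, 1, 2])) (.node (.leaf [2, 1, 2, 0, 0, 2, 0, 0, 2, 1, 1, 1, 1]) (.leaf [2, 2, 0, 2, 0, 0, 0, 0, 2, 0, 2]))) (.node (.node (.leaf []) (.leaf [1, 2, 0, 2, 2, 0, 0, 0, 0, 0, 0, 0, 1])) (.node (.leaf [2, 1, 0, 0, 0, 0, 0, 0, 1]) (.leaf [0, 0, 0, 2, 1, 1, 1, 2, 0, 0, 2, 1, 1, 1])))) (.node (.node (.node (.leaf []) (.leaf [2, 0, 1, 2, 1, 1, 0, 0, 2, 1, 0, 1])) (.node (.leaf []) (.leaf [1, 1, 2, 2, 1, 1, 2, 0, 2, 1, 1, 1, 1, 1]))) (.node (.node (.leaf [2, 1, 1, 2, 1, 2, 1, 1, 2, 1, 1, 0, 2, 1]) (.leaf [2, 1, 2, 1, 1, 1, 0, 1, 0, 2])) (.node (.leaf [0, 2, 2, 1, 1, 1, 1, 0, 0, 0, 0, 2, 2, 1]) (.leaf [1, 1, 0, 0, 1, 0, 0, 1, 1, 2, 1, 2, 1, 2])))))))) (.node (.node (.node (.node (.node (.node (.node (.node (.leaf []) (.leaf [0, 1, 2, 2, 2, 2, 2, 2, 2, 0, 1, 2, 2, 1])) (.leaf [2, 1, 1, 2, 0, 2, 0, 2,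 0, 1])) (.node (.leaf [1, 2, 1, 2, 1, 2, 1, 0, 0, 0, 2, 1, 2, 2]) (.leaf [0, 0, 1, 1, 2, 2, 2, 2, 1, 1]))) (.node (.node (.leaf []) (.leaf [0, 1, 0, 0, 0, 1, 2, 2, 0, 1, 2, 1, 0, 2])) (.node (.leaf []) (.leaf [0, 2, 1, 2, 2, 2, 2, 2, 2, 2, 1, 0, 1, 2])))) (.node (.node (.node (.node (.leaf [0, 2, 0, 2, 1, 0, 0, 0, 1]) (.leaf [1, 2, 2, 2, 2, 1, 2, 2, 0, 2, 2, 1, 0, 2])) (.leaf [])) (.node (.leaf [0, 0, 2, 2, 0, 1, 0, 2, 0, 2, 0, 0, 1, 2]) (.leaf [0, 0, 2, 2, 0, 0, 0, 1, 0, 2, 0, 1, 2]))) (.node (.node (.leaf [2, 1, 0, 0, 0, 0, 0, 0, 1]) (.leaf [2, 1, 2, 0, 0, 1, 0, 1, 0, 0, 0, 0, 1, 2])) (.node (.leaf []) (.leaf [0, 0, 2, 2, 1, 2, 2, 1, 2, 2, 0, 0, 2, 2]))))) (.node (.node (.node (.node (.node (.leaf []) (.leaf [0, 2, 2, 1, 2, 2, 2, 2, 1, 2, 0, 2])) (.leaf [0, 0, 1, 2, 0, 0, 0, 0, 0, 2])) (.node (.leaf [0, 0, 2, 0, 1, 1, 1, 1, 2, 1, 0, 1]) (.leaf [1, 2, 0, 2, 0, 1, 0, 0, 1, 0, 0, 1, 1, 1]))) (.node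 (.node (.leaf []) (.leaf [0, 1, 2, 0, 2, 1, 1, 0, 0, 1, 0, 0, 0, 2])) (.node (.leaf []) (.leaf [0, 2, 2, 2, 2, 1, 1, 2, 1, 1])))) (.node (.node (.node (.leaf [0, 2, 1, 0, 0, 0, 2, 1, 2, 0, 1, 1, 1, 1]) (.leaf [0, 1, 1, 0, 0, 1, 0, 2, 1, 2])) (.node (.leaf [2, 1, 1, 1, 2, 0, 0, 1, 0, 0, 2, 1]) (.leaf [2, 0, 1, 2, 2, 0, 2, 2, 1, 1, 2, 1, 1, 1]))) (.node (.node (.leaf [2, 2, 2, 1, 0, 1, 0, 1, 1, 1, 2, 1]) (.leaf [2, 0, 1, 2, 0, 1, 0, 2, 2, 2, 1, 2, 1, 2])) (.node (.leaf [1, 2, 0, 0, 0, 0, 1, 0, 2, 0, 1]) (.leaf [1, 2, 2, 2, 0, 0, 2, 2, 0, 2])))))) (.node (.node (.node (.node (.node (.node (.leaf []) (.leaf [0, 0, 2, 0, 0, 1, 0, 2, 0, 0, 1, 2])) (.leaf [1, 2, 1, 0, 2, 2, 1, 0, 2, 0, 2, 1, 2, 2])) (.node (.leaf []) (.leaf [1, 1, 1, 2, 2, 0, 2, 0, 1, 1, 2, 1, 2]))) (.node (.node (.leaf []) (.leaf [1, 2, 2, 1, 2, 1, 2, 0, 2, 2, 0, 0, 0, 1])) (.node (.leaf []) (.leaf [1, 1, 2, 1, 0, 2, 1, 0, 2, 2, 1, 1,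 0, 2])))) (.node (.node (.node (.leaf []) (.leaf [0, 2, 0, 2, 0, 0, 0, 0, 0, 0, 1])) (.node (.leaf [1, 1, 0, 1, 0, 0, 0, 0, 1, 0, 1]) (.leaf [1, 0, 2, 1, 0, 1, 0, 2, 0, 0, 2, 0, 0, 1]))) (.node (.node (.leaf [0, 2, 0, 2, 1, 2, 2, 2, 0, 1, 0, 2, 0, 2]) (.leaf [1, 2, 2, 1, 2, 0, 1, 0, 2, 2, 0, 1, 2, 1])) (.node (.leaf [2, 2, 2, 0, 1, 2, 0, 2, 1, 0, 2, 2, 2, 2]) (.leaf [2, 2, 1, 0, 2, 2, 1, 1, 1, 2, 0, 1, 2, 1]))))) (.node (.node (.node (.node (.node (.leaf [1, 0, 0, 1, 0, 1, 0, 0, 0, 2]) (.leaf [2, 1, 2, 2, 0, 0, 2, 1, 0, 0, 2, 1, 0, 2])) (.leaf [1, 2, 0, 0, 2, 1, 1, 1, 1, 2, 2, 0, 1, 1])) (.node (.leaf [0, 0, 1, 2, 2, 1, 1, 0, 1, 0, 2, 1, 2, 1]) (.leaf [1, 2, 0, 2, 2, 2, 2, 0, 0, 2, 0, 2]))) (.node (.node (.leaf []) (.leaf [1, 2, 0, 1, 2, 2, 1, 2, 1, 0, 0, 2])) (.node (.leaf []) (.leaf [0, 0, 1, 1, 0, 1, 2, 0, 2, 0, 1, 1, 2])))) (.node (.node (.node (.leaf []) (.leaf [0, 2, 0, 1, 2, 1, 2, 2, 2, 2,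 1, 1, 2])) (.node (.leaf [1, 1, 0, 1, 1, 2, 1, 2, 0, 0, 0, 0, 1, 2]) (.leaf [1, 0, 2, 2, 0, 1, 0, 0, 1]))) (.node (.node (.leaf [2, 2, 1, 0, 0, 2, 2, 1, 0, 0, 2, 0, 2, 2]) (.leaf [2, 2, 0, 2, 0, 2, 0, 0, 1, 1])) (.node (.leaf [1, 2, 0, 0, 0, 0, 0, 1, 1, 2, 1, 0, 1, 1]) (.leaf [2, 0, 0, 1, 1, 1, 1, 1, 1, 1, 2, 1]))))))) (.node (.node (.node (.node (.node (.node (.node (.leaf []) (.leaf [1, 0, 0, 2, 0, 2, 2, 0, 1, 1, 2, 2, 0, 1])) (.leaf [2, 0, 0, 1, 2, 0, 1, 0, 2, 1, 1, 2])) (.node (.leaf []) (.leaf []))) (.node (.node (.leaf []) (.leaf [0, 0, 0, 2, 2, 0, 1, 0, 0, 1, 0, 0, 2, 2])) (.node (.leaf [0, 1, 2, 1, 0, 0, 1, 1, 2, 0, 0, 2, 0, 1]) (.leaf [0, 2, 1, 2, 1, 1, 2, 1, 1, 0, 2, 2, 1, 1])))) (.node (.node (.node (.node (.leaf [2, 0, 2, 2, 0, 0, 0, 0, 0, 1]) (.leaf [1, 0, 1, 1, 1, 1, 0, 1, 0, 2, 0, 2, 1])) (.leaf [2, 1, 0, 0, 0, 0, 1, 0, 0, 0, 1])) (.node (.leaf []) (.leaf [2, 0, 0, 2, 0, 0, 0, 0, 0,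 0, 0, 2]))) (.node (.node (.leaf [0, 0, 0, 2, 1, 1, 1, 2, 1, 1, 0, 1, 0, 1]) (.leaf [0, 1, 2, 0, 0, 2, 0, 1, 2, 1])) (.node (.leaf [0, 0, 0, 0, 1, 2, 2, 2, 2, 1, 2, 1, 1, 2]) (.leaf [1, 0, 0, 0, 0, 0, 0, 0, 0, 2, 0, 1, 2, 2]))))) (.node (.node (.node (.node (.node (.leaf []) (.leaf [1, 2, 0, 0, 2, 0, 0, 0, 0, 0, 0, 1, 1, 2])) (.leaf [])) (.node (.leaf [0, 1, 2, 0, 2, 1, 2, 0, 0, 1, 0, 1, 0, 1]) (.leaf [1, 1, 1, 2, 2, 0, 2, 0, 2, 0, 1, 2, 2]))) (.node (.node (.leaf []) (.leaf [2, 1, 0, 2, 0, 2, 0, 0, 2, 2, 1, 0, 0, 2])) (.node (.leaf []) (.leaf [0, 1, 2, 0, 1, 2, 2, 1, 2, 1])))) (.node (.node (.node (.leaf []) (.leaf [0, 2, 1, 0, 1, 2, 0, 1, 2, 0, 2, 0, 0, 2])) (.node (.leaf [2, 0, 0, 1, 2, 1, 0, 0, 0, 2, 0, 2, 0, 1]) (.leaf [0, 2, 1, 2, 1, 1, 1, 2, 0, 2, 1, 2, 0, 2]))) (.node (.node (.leaf [2, 2, 2, 0, 1, 2, 0, 2, 2, 0, 1, 2, 1]) (.leaf [])) (.node (.leaf [1, 1, 0, 2, 0, 0, 0, 0, 2, 2, 0, 1]) (.leaf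 [2, 1, 1, 1, 1, 0, 1, 0, 0, 2])))))) (.node (.node (.node (.node (.node (.node (.leaf []) (.leaf [2, 2, 0, 2, 1, 1, 1, 2, 0, 1, 1, 2])) (.leaf [2, 2, 0, 0, 1, 0, 2, 0, 2, 1, 1, 1, 2])) (.node (.leaf [2, 1, 1, 2, 2, 1, 2, 2, 2, 2]) (.leaf [2, 0, 2, 0, 1, 2, 0, 2, 0, 0, 1, 2, 2, 1]))) (.node (.node (.leaf []) (.leaf [0, 0, 0, 1, 1, 0, 0, 1, 0, 2, 0, 2, 0, 1])) (.node (.leaf []) (.leaf [0, 0, 0, 2, 0, 2, 1, 1, 1, 0, 2, 1, 1, 2])))) (.node (.node (.node (.leaf [2, 1, 0, 0, 2, 1, 0, 1, 0, 1, 1, 1, 1, 2]) (.leaf [1, 0, 0, 2, 0, 2, 0, 2, 1, 2, 0, 2])) (.node (.leaf [0, 1, 2, 0, 2, 1, 0, 0, 2, 0, 1]) (.leaf [1, 0, 2, 0, 1, 2, 0, 1, 1, 1, 1, 1, 1, 1]))) (.node (.node (.leaf [1, 2, 2, 1, 2, 1, 1]) (.leaf [])) (.node (.leaf []) (.leaf [2, 2, 1, 1, 2, 0, 2, 0, 0, 2]))))) (.node (.node (.node (.node (.node (.leaf []) (.leaf [0, 1, 2, 0, 0, 2, 2, 2, 2, 0, 0, 2, 0, 2])) (.leaf [2, 0, 0, 0, 1, 1, 1, 2, 1, 2, 2,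 1, 1])) (.node (.leaf [1, 0, 2, 0, 0, 0, 0, 0, 0, 1]) (.leaf [1, 2, 0, 1, 0, 0, 0, 0, 2]))) (.node (.node (.leaf []) (.leaf [0, 0, 0, 2, 2, 0, 2, 0, 0, 0, 2])) (.node (.leaf [1, 0, 2, 0, 2, 0, 1, 1, 2, 0, 0, 2, 1, 1]) (.leaf [1, 0, 0, 2, 0, 0, 0, 0, 0, 0, 1, 0, 1])))) (.node (.node (.node (.leaf [0, 0, 0, 1, 0, 1, 0, 0, 0, 2]) (.leaf [1, 0, 2, 2, 0, 2, 1, 1, 2, 2, 1, 1, 0, 1])) (.node (.leaf [0, 2, 1, 2, 1, 1, 2, 1, 1, 0, 2, 2, 1, 1]) (.leaf [0, 0, 2, 1, 1, 1, 0, 0, 0, 2, 0, 2, 2, 2]))) (.node (.node (.leaf [1, 2, 1, 1, 0, 2, 0, 1, 0, 2, 2, 0, 1]) (.leaf [0, 0, 0, 1])) (.node (.leaf []) (.leaf [2, 1, 1, 0, 1, 2, 2, 2, 0, 2, 0, 2]))))))))) (.node (.node (.node (.node (.node (.node (.node (.node (.node (.leaf []) (.leaf [1, 2, 2, 1, 0, 2, 0, 1, 0, 1, 0, 1, 2, 2])) (.leaf [1, 2, 0, 2, 0, 2, 0, 0, 0, 0, 0, 0, 0, 1])) (.node (.leaf []) (.leaf [1, 2, 0, 0, 1, 1, 0, 0, 1, 2]))) (.node (.node (.leaf [1,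 2, 2, 1, 2, 1, 1]) (.leaf [1, 1, 1, 0, 0, 2, 1, 0, 0, 2, 0, 2, 1, 2])) (.node (.leaf []) (.leaf [2, 1, 0, 0, 0, 0, 0, 0, 0, 2, 0, 1, 1])))) (.node (.node (.node (.node (.leaf []) (.leaf [1, 0, 0, 0, 0, 0, 0, 0, 2, 0, 1])) (.leaf [1, 1, 2, 0, 0, 1, 2, 2, 1, 0, 0, 0, 2, 1])) (.node (.leaf [2, 1, 1, 1, 1, 1, 0, 2, 1, 2]) (.leaf [0, 0, 0, 0, 0, 0, 0, 0, 0, 0, 2, 0, 2]))) (.node (.node (.leaf [0, 0, 0, 1]) (.leaf [2, 2, 0, 0, 0, 0, 1, 0, 2, 0, 1])) (.node (.leaf []) (.leaf [1, 2, 0, 0, 0, 0, 2, 1, 2, 0, 1, 0, 2, 1]))))) (.node (.node (.node (.node (.node (.leaf []) (.leaf [0, 0, 0, 1])) (.leaf [0, 2, 0, 2, 1, 0, 1, 0, 0, 0, 0, 0, 1])) (.node (.leaf [2, 1, 0, 0, 0, 0, 0, 0, 1]) (.leaf [2, 2, 2, 0, 1, 1, 2, 1, 0, 0, 0, 0, 2, 2]))) (.node (.node (.leaf []) (.leaf [1, 2, 2, 0, 1, 1, 2, 0, 0, 1, 0, 1, 2])) (.node (.leaf [2, 0, 2, 0, 0, 0, 0, 0, 0, 1]) (.leaf [0, 1, 1, 0, 1, 0, 1, 1, 0, 2, 2, 1, 2, 2])))) (.node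 (.node (.node (.leaf []) (.leaf [0, 0, 2, 0, 0, 2, 2, 1, 0, 1])) (.node (.leaf [2, 2, 2, 1, 2, 2, 0, 0, 1, 2, 1, 2]) (.leaf [0, 2, 0, 0, 0, 1, 1, 2, 2, 1, 0, 1, 2, 1]))) (.node (.node (.leaf [0, 0, 2, 0, 2, 0, 1, 2, 0, 1, 2, 0, 2, 1]) (.leaf [2, 2, 2, 1, 1, 2, 1, 1, 0, 1, 1])) (.node (.leaf [1, 0, 2, 0, 0, 0, 0, 0, 0, 1]) (.leaf [0, 0, 0, 1, 0, 0, 1, 0, 1, 0, 0, 0, 1])))))) (.node (.node (.node (.node (.node (.node (.leaf []) (.leaf [0, 1, 1, 2, 1, 2, 2, 1, 2, 2])) (.leaf [0, 0, 0, 1])) (.node (.leaf [1, 2, 1, 2, 2, 1, 2, 0, 2, 2, 1, 2, 1]) (.leaf []))) (.node (.node (.leaf [2, 0, 1, 1, 0, 0, 0, 0, 0, 2]) (.leaf [1, 0, 0, 0, 2, 2, 0, 1, 0, 1, 0, 1, 1, 1])) (.node (.leaf [2, 1, 1, 1, 0, 1, 0, 2, 0, 2]) (.leaf [2, 1, 0, 1, 0, 0, 0, 0, 1, 0, 0, 0, 2])))) (.node (.node (.node (.leaf []) (.leaf [1, 0, 0, 1, 0, 1, 0, 0, 0, 2])) (.node (.leaf [0, 1, 1, 2, 0, 1, 1, 2, 0, 0, 2, 2, 2, 2]) (.leaf [0, 1, 2,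 0, 2, 0, 0, 0, 1, 2, 0, 1, 2, 1]))) (.node (.node (.leaf []) (.leaf [2, 2, 1, 0, 2, 2, 0, 2, 0, 1])) (.node (.leaf [2, 1, 1, 1, 0, 2, 2, 0, 2, 1, 1, 0, 2, 2]) (.leaf [2, 1, 1, 1, 1, 0, 0, 2, 0, 0, 2, 2, 0, 1]))))) (.node (.node (.node (.node (.node (.leaf []) (.leaf [1, 2, 2, 0, 1, 0, 1, 0, 0, 1, 2, 2, 1, 1])) (.leaf [1, 2, 0, 1, 1, 0, 0, 1, 1, 2])) (.node (.leaf [1, 2, 0, 2, 0, 2, 2, 1, 1, 2, 1, 0, 2, 1]) (.leaf [1, 0, 0, 1, 0, 1, 0, 0, 0, 2]))) (.node (.node (.leaf []) (.leaf [2, 1, 0, 1, 1, 2, 1, 0, 1, 1, 2, 1, 2, 2])) (.node (.leaf []) (.leaf [1, 2, 2, 0, 1, 1, 2, 0, 2, 1, 0, 2, 2])))) (.node (.node (.node (.leaf [1, 1, 1, 0, 0, 0, 0, 2, 0, 1, 1, 1, 2, 1]) (.leaf [0, 0, 0, 1])) (.node (.leaf [0, 0, 0, 1, 0, 1, 0, 0, 0, 2]) (.leaf [2, 1, 2, 2, 0, 1, 0, 1, 2, 1, 2, 0, 1, 1]))) (.node (.node (.leaf [0, 2, 0, 2, 0, 0, 0, 0, 0, 0, 0, 0, 1]) (.leaf [0, 2, 0, 2, 0, 0, 0, 0, 0, 0, 0, 0, 2])) (.node (.leaf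 [2, 2, 0, 2, 0, 2, 2, 1, 0, 2, 2, 0, 2, 1]) (.leaf [2, 1, 2, 1, 1, 2, 2, 0, 2, 2, 1, 0, 1]))))))) (.node (.node (.node (.node (.node (.node (.node (.leaf [0, 0, 0, 1]) (.leaf [2, 0, 0, 1, 0, 2, 1, 0, 0, 0, 0, 0, 2, 1])) (.leaf [2, 0, 0, 0, 0, 2, 1, 0, 2, 2, 2, 0, 1, 2])) (.node (.leaf []) (.leaf [1, 1, 0, 1, 1, 2, 1, 0, 1, 0, 2, 0, 1, 1]))) (.node (.node (.leaf []) (.leaf [0, 0, 0, 2, 2, 2, 2, 2, 1, 2, 0, 2, 2, 1])) (.node (.leaf [2, 2, 2, 0, 0, 2, 0, 1, 0, 1]) (.leaf [2, 1, 2, 0, 1, 0, 1, 1, 2, 1, 1, 2, 1])))) (.node (.node (.node (.node (.leaf []) (.leaf [0, 0, 1, 1, 0, 1, 0, 1, 1, 1, 2, 1, 2, 2])) (.leaf [1, 1, 1, 2, 0, 2, 1, 1, 0, 0, 2, 1, 2])) (.node (.leaf [0, 1, 2, 2, 2, 0, 2, 1, 2, 2, 0, 1]) (.leaf [1, 1, 2, 2, 1, 1, 2, 0, 1, 0, 2, 2, 2, 1]))) (.node (.node (.leaf [0, 2, 0, 1, 2, 1, 2, 0, 0, 0, 0, 2]) (.leaf [2, 0, 2, 0, 2, 1, 0, 0, 1, 0, 2, 2, 0, 1])) (.node (.leaf []) (.leaf [2, 0, 1, 1,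 0, 0, 0, 0, 0, 2]))))) (.node (.node (.node (.node (.node (.leaf []) (.leaf [0, 0, 0, 1])) (.leaf [0, 2, 0, 1, 2, 1, 2, 0, 0, 0, 0, 2])) (.node (.leaf [2, 0, 0, 0, 2, 0, 2, 1, 2, 1, 1, 2, 1, 2]) (.leaf [0, 2, 0, 0, 0, 2, 2, 0, 2, 0, 1, 0, 0, 1]))) (.node (.node (.leaf []) (.leaf [1, 2, 1, 2, 2, 1, 2, 0, 2, 1, 1, 2, 1, 1])) (.node (.leaf [1, 1, 1, 2, 2, 0, 1, 1, 1, 2, 0, 0, 1, 1]) (.leaf [1, 2, 1, 0, 0, 0, 0, 1, 0, 1])))) (.node (.node (.node (.leaf [2, 1, 0, 0, 0, 0, 0, 0, 1]) (.leaf [2, 0, 1, 0, 0, 0, 2, 1, 0, 1])) (.node (.leaf [0, 1, 2, 2, 2, 0, 2, 2, 0, 0, 0, 0, 0, 2]) (.leaf [0, 2, 2, 1, 1, 0, 1, 1, 2]))) (.node (.node (.leaf []) (.leaf [2, 1, 0, 2, 0, 1, 0, 0, 2, 2])) (.node (.leaf []) (.leaf [1, 1, 2, 2, 1, 1, 0, 2, 1, 2, 1, 1, 0, 2])))))) (.node (.node (.node (.node (.node (.node (.leaf []) (.leaf [0, 0, 0, 0, 2, 0, 2, 1, 1, 1, 2, 2, 1, 2])) (.leaf [0, 2, 2, 0, 2, 2, 0, 0, 1, 0, 2, 2, 1]))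 (.node (.leaf [0, 2, 1, 1, 1, 0, 0, 0, 0, 0, 0, 2]) (.leaf [0, 1, 2, 2, 2, 2, 2, 1, 2, 1, 1, 2, 1, 1]))) (.node (.node (.leaf []) (.leaf [1, 0, 0, 0, 2, 2, 2, 2, 1, 2])) (.node (.leaf []) (.leaf [0, 2, 0, 0, 0, 1, 2, 0, 2, 2, 1, 0, 1])))) (.node (.node (.node (.leaf []) (.leaf [0, 2, 1, 1, 1, 2, 1, 2, 1, 2, 2, 0, 2, 2])) (.node (.leaf [2, 1, 0, 0, 0, 0, 0, 0, 1]) (.leaf [2, 1, 2, 2, 2, 2, 0, 1, 0, 1, 0, 1, 0, 2]))) (.node (.node (.leaf [1, 0, 1, 1, 0, 0, 0, 0, 0, 2]) (.leaf [1, 0, 2, 1, 0, 0, 1, 2, 0, 2])) (.node (.leaf [0, 0, 0, 1]) (.leaf [1, 2, 2, 1, 0, 2, 2, 1, 1, 0, 2, 2, 1, 2]))))) (.node (.node (.node (.node (.node (.leaf []) (.leaf [1, 0, 0, 0, 0, 0, 0, 0, 2, 0, 1])) (.leaf [1, 0, 2, 2, 2, 0, 0, 1, 0, 0, 1, 1, 2, 1])) (.node (.leaf [2, 0, 2, 2, 0, 0, 2, 2, 2, 1, 2, 1, 0, 1]) (.leaf [2, 2, 2, 0, 2, 0, 1, 2, 1, 2, 0, 2, 1, 1]))) (.node (.node (.leaf []) (.leaf [1, 2, 2, 0, 0, 2, 2, 0, 0, 0,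 0, 1, 2, 1])) (.node (.leaf []) (.leaf [2, 0, 2, 0, 2, 2, 2, 2, 1, 1, 0, 1, 1, 2])))) (.node (.node (.node (.leaf [1, 1, 1, 2, 2, 0, 1, 2, 0, 0, 0, 1, 2, 2]) (.leaf [2, 0, 2, 2, 2, 1, 1, 1, 0, 1, 1, 2, 1, 2])) (.node (.leaf []) (.leaf [0, 1, 2, 0, 2, 0, 0, 0, 2, 0, 1, 1, 1, 1]))) (.node (.node (.leaf [2, 0, 1, 1, 0, 1, 1, 2, 0, 2]) (.leaf [1, 1, 0, 2, 2, 1, 1, 0, 1, 1, 2, 0, 2, 1])) (.node (.leaf [1, 2, 0, 2, 2, 0, 0, 2, 0, 1]) (.leaf [0, 2, 2, 1, 0, 1, 1, 0, 1, 1, 0, 1, 0, 2])))))))) (.node (.node (.node (.node (.node (.node (.node (.node (.leaf []) (.leaf [2, 0, 0, 2, 0, 0, 0, 0, 1, 0, 1, 0, 2])) (.leaf [0, 2, 1, 2, 1, 1, 2, 0, 2, 0, 1, 0, 0, 1])) (.node (.leaf [2, 2, 1, 1, 1, 2, 1, 0, 0, 1, 0, 0, 0, 2]) (.leaf [0, 0, 0, 1]))) (.node (.node (.leaf []) (.leaf [0, 0, 0, 1])) (.node (.leaf [0, 0, 0, 1]) (.leaf [2, 1, 0, 2, 2, 0, 0, 2, 1, 2, 2, 0, 1, 2])))) (.node (.node (.node (.node (.leaf [0, 0,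 0, 1]) (.leaf [0, 0, 0, 0, 0, 0, 0, 1, 0, 0, 0, 0, 0, 0])) (.leaf [0, 0, 0, 1])) (.node (.leaf [1, 0, 0, 2, 0, 0, 0, 0, 0, 0, 0, 1]) (.leaf [0, 0, 0, 0, 2, 1, 2, 2, 0, 0, 1, 2, 2, 1]))) (.node (.node (.leaf []) (.leaf [])) (.node (.leaf [1, 1, 0, 1, 2, 1, 0, 0, 0, 2]) (.leaf [1, 0, 0, 2, 0, 0, 2, 0, 0, 0, 0, 0, 2]))))) (.node (.node (.node (.node (.node (.leaf []) (.leaf [2, 1, 2, 1, 2, 0, 0, 0, 0, 2, 0, 0, 2, 2])) (.leaf [0, 2, 2, 0, 1, 0, 1, 1, 1, 1, 1, 2, 2])) (.node (.leaf [1, 2, 0, 1, 0, 0, 0, 0, 2]) (.leaf [2, 0, 0, 0, 1, 0, 1, 2, 1, 0, 1, 0, 2, 2]))) (.node (.node (.leaf [2, 0, 2, 2, 0, 0, 0, 0, 0, 1]) (.leaf [0, 2, 1, 0, 1, 2, 1, 2, 2, 2, 1, 2, 1, 1])) (.node (.leaf []) (.leaf [2, 2, 0, 0, 2, 2, 1, 1, 2, 1, 0, 0, 1, 2])))) (.node (.node (.node (.leaf []) (.leaf [1, 2, 0, 2, 1, 1, 1, 2, 0, 2, 1, 1])) (.node (.leaf [1, 1, 2, 0, 0, 1, 0, 1, 1, 1, 1, 0, 2, 1]) (.leaf [0, 0, 1, 1, 1, 0, 1, 1,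 1, 1]))) (.node (.node (.leaf []) (.leaf [1, 0, 0, 2, 0, 2, 1, 2, 1, 2, 2])) (.node (.leaf [1, 2, 2, 0, 1, 0, 1, 1, 0, 0, 0, 1, 1, 2]) (.leaf [0, 1, 0, 2, 1, 1, 0, 2, 0, 1, 0, 1, 2, 1])))))) (.node (.node (.node (.node (.node (.node (.leaf []) (.leaf [1, 0, 2, 0, 1, 1, 2, 0, 1, 2, 2, 0, 1, 1])) (.leaf [1, 2, 0, 2, 1, 1, 1, 0, 2, 2, 1, 1, 1])) (.node (.leaf [0, 0, 1, 0, 1, 0, 0, 1, 0, 2, 0, 1, 0, 1]) (.leaf [0, 1, 1, 0, 2, 0, 2, 2, 1]))) (.node (.node (.leaf []) (.leaf [1, 1, 0, 0, 2, 0, 1, 0, 2, 0, 0, 2, 1, 1])) (.node (.leaf []) (.leaf [2, 1, 1, 0, 0, 0, 0, 0, 2, 2])))) (.node (.node (.node (.leaf []) (.leaf [1, 1, 0, 2, 1, 0, 0, 0, 0, 0, 1])) (.node (.leaf [0, 2, 0, 1, 2, 1, 2, 0, 0, 0, 0, 2]) (.leaf [2, 2, 0, 1, 0, 1, 0, 2, 2, 1, 1, 1, 2, 1]))) (.node (.node (.leaf [0, 0, 0, 1, 0, 1, 0, 0, 0, 2]) (.leaf [0, 1, 1, 2, 0, 0, 1, 1, 0, 1])) (.node (.leaf [1, 0, 1, 1, 2, 1, 0, 0, 2, 0, 1, 2, 1, 2])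 (.leaf [1, 0, 2, 1, 0, 0, 1, 2, 2, 1, 1, 0, 1, 1]))))) (.node (.node (.node (.node (.node (.leaf []) (.leaf [0, 1, 2, 0, 0, 2, 2, 0, 0, 0, 0, 1, 1, 1])) (.leaf [2, 0, 1, 2, 0, 2, 0, 2, 0, 1, 1, 1, 2, 2])) (.node (.leaf [1, 2, 1, 1, 1, 1, 0, 1, 0, 1, 0, 1, 2, 1]) (.leaf [1, 1, 1, 1, 2, 2, 2, 1, 2, 2, 0, 2]))) (.node (.node (.leaf [0, 2, 0, 2, 1, 0, 0, 1, 1, 0, 0, 0, 1, 2]) (.leaf [1, 2, 0, 1, 0, 0, 0, 0, 2])) (.node (.leaf [1, 1, 2, 2, 2, 0, 2, 1, 2, 2, 0, 1]) (.leaf [0, 2, 0, 1, 0, 2, 2, 0, 0, 2, 0, 1, 2, 1])))) (.node (.node (.node (.leaf []) (.leaf [2, 1, 1, 2, 1, 2, 2, 1, 2, 2])) (.node (.leaf [0, 0, 0, 0, 2, 1, 1, 0, 1, 2, 2, 2, 2, 1]) (.leaf [1, 1, 1, 2, 2, 0, 1, 1, 1, 2, 2, 1, 0, 1]))) (.node (.node (.leaf []) (.leaf [1, 0, 1, 2, 1, 0, 2, 0, 2, 1, 1, 0, 2, 1])) (.node (.leaf []) (.leaf [2, 1, 2, 0, 1, 0, 2, 1, 0, 0, 1, 0, 1, 1]))))))) (.node (.node (.node (.node (.node (.node (.node (.leaf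 []) (.leaf [2, 0, 1, 1, 0, 0, 0, 0, 0, 2])) (.leaf [1, 1, 2, 2, 1, 1, 1, 1, 1, 2, 0, 0, 0, 1])) (.node (.leaf [1, 2, 2, 1, 0, 0, 0, 0, 1, 1]) (.leaf [0, 1, 0, 0, 0, 0, 0, 2, 0, 1]))) (.node (.node (.leaf [1, 0, 0, 1, 0, 1, 0, 0, 0, 2]) (.leaf [2, 2, 2, 0, 1, 2, 1, 2, 1, 2, 1, 2, 0, 1])) (.node (.leaf []) (.leaf [1, 1, 1, 1, 0, 1, 1, 2, 1, 0, 2, 2, 1])))) (.node (.node (.node (.leaf []) (.leaf [0, 1, 0, 0, 1, 2, 1, 0, 0, 0, 0, 1])) (.node (.leaf [2, 0, 0, 0, 2, 0, 0, 0, 2, 0, 0, 0, 1]) (.leaf [1, 1, 0, 1, 1, 1, 1, 2, 0, 2, 2, 2, 2, 1]))) (.node (.node (.leaf []) (.leaf [0, 0, 0, 1])) (.node (.leaf [0, 1, 0, 1, 2, 0, 2, 1, 0, 1, 1, 0, 2, 1]) (.leaf []))))) (.node (.node (.node (.node (.node (.leaf []) (.leaf [0, 1, 0, 1, 0, 1, 2, 0, 0, 2, 2, 0, 2])) (.leaf [2, 0, 2, 0, 1, 0, 2, 0, 1, 2, 2, 0, 2, 2])) (.node (.leaf [0, 0, 1, 1, 2, 0, 0, 1, 1, 2, 1, 1, 2, 1]) (.leaf [0, 1, 0, 0, 2, 1, 0, 0, 2, 2])))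 (.node (.node (.leaf []) (.leaf [2, 0, 2, 0, 2, 2, 0, 2, 1, 1, 2, 2, 1])) (.node (.leaf []) (.leaf [2, 1, 1, 1, 1, 0, 1, 1, 2, 2, 1, 1, 2, 1])))) (.node (.node (.node (.leaf [0, 2, 2, 0, 0, 1, 0, 1, 2, 1, 0, 1]) (.leaf [0, 2, 0, 2, 0, 0, 0, 0, 0, 0, 0, 0, 2])) (.node (.leaf [2, 1, 1, 1, 1, 1, 1, 0, 1, 2, 1, 2]) (.leaf [0, 0, 0, 1]))) (.node (.node (.leaf [2, 2, 1, 2, 1, 0, 1, 2, 1, 1, 0, 2]) (.leaf [2, 2, 2, 2, 0, 1, 0, 1, 0, 2])) (.node (.leaf [1, 2, 0, 0, 2, 1, 0, 2, 0, 2, 2, 2, 0, 1]) (.leaf [0, 2, 1, 0, 1, 1, 2, 0, 2, 1])))))) (.node (.node (.node (.node (.node (.node (.leaf []) (.leaf [2, 2, 0, 2, 1, 1, 1, 1, 1, 0, 2, 2, 1, 2])) (.leaf [1, 0, 1, 1, 2, 0, 2, 1, 0, 0, 1, 0, 2, 2])) (.node (.leaf [0, 0, 1, 1, 1, 1, 0, 0, 1, 1, 2, 0, 1]) (.leaf [2, 1, 1, 1, 0, 1, 1, 2, 2, 0, 2, 2]))) (.node (.node (.leaf [1, 2, 0, 2, 1, 0, 0, 0, 1]) (.leaf [2, 0, 1, 2, 0, 2, 0, 1, 2, 2, 1, 1, 0, 2])) (.node (.leaf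 []) (.leaf [1, 1, 0, 0, 0, 1, 2, 2, 1, 0, 1, 2, 0, 2])))) (.node (.node (.node (.leaf []) (.leaf [0, 1, 0, 2, 0, 0, 0, 0, 0, 0, 0, 0, 1])) (.node (.leaf [2, 1, 0, 1, 0, 1, 2, 0, 1, 2, 0, 2]) (.leaf [1, 0, 1, 2, 0, 0, 0, 0, 0, 2]))) (.node (.node (.leaf []) (.leaf [0, 0, 2, 0, 1, 0, 0, 2, 1, 2])) (.node (.leaf [0, 0, 0, 1]) (.leaf [2, 2, 0, 1, 0, 1, 0, 1, 1, 1]))))) (.node (.node (.node (.node (.node (.leaf [0, 1, 0, 2, 0, 0, 0, 0, 0, 0, 0, 0, 1]) (.leaf [2, 1, 2, 2, 0, 0, 1, 0, 2, 1, 1, 2, 0, 1])) (.leaf [0, 1, 2, 1, 1, 0, 0, 0, 1, 0, 2, 1, 2])) (.node (.leaf [1, 2, 1, 2, 2, 1, 2, 0, 0, 2, 0, 2]) (.leaf [0, 0, 1, 1, 1, 1, 1, 0, 2, 1, 1, 1, 2, 2]))) (.node (.node (.leaf [0, 1, 1, 2, 1, 0, 0, 1, 2, 0, 1, 1, 2, 1]) (.leaf [2, 1, 0, 0, 1, 2, 1, 1, 1, 0, 1, 2, 2, 1])) (.node (.leaf []) (.leaf [2, 0, 1, 2, 1, 1, 1, 1, 0, 2, 1, 2, 1, 2])))) (.node (.node (.node (.leaf [1, 2, 1, 1, 0, 2, 1, 1, 2, 2, 0, 2,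 1, 1]) (.leaf [0, 0, 2, 2, 1, 0, 1, 1, 0, 0, 1, 1, 0, 2])) (.node (.leaf []) (.leaf [1, 2, 1, 0, 0, 0, 1, 2, 0, 1, 1, 2, 1, 1]))) (.node (.node (.leaf []) (.leaf [1, 2, 2, 2, 0, 0, 0, 0, 0, 2, 0, 1, 0, 1])) (.node (.leaf []) (.leaf [1, 0, 2, 2, 1, 0, 1, 1, 2, 2, 1, 2, 2, 2])))))))))) (.node (.node (.node (.node (.node (.node (.node (.node (.node (.node (.leaf []) (.leaf [1, 0, 0, 0, 2, 1, 0, 2, 2, 1, 2, 1, 0, 1])) (.leaf [1, 2, 2, 1, 0, 0, 2, 2, 0, 2])) (.node (.leaf [2, 0, 2, 0, 1, 0, 0, 2, 1, 2]) (.leaf [0, 0, 2, 0, 1, 1, 1, 1, 2, 1, 0, 1]))) (.node (.node (.leaf [0, 0, 1, 2, 0, 0, 0, 0, 0, 2]) (.leaf [0, 0, 0, 2, 2, 0, 1, 1, 1, 2, 1, 2, 2, 2])) (.node (.leaf []) (.leaf [1, 1, 2, 0, 2, 2, 0, 0, 0, 2, 0, 1, 2, 2])))) (.node (.node (.node (.node (.leaf [2, 0, 0, 0, 0, 2, 0, 0, 0, 1]) (.leaf [2, 2, 1, 1, 2, 0, 1, 2, 0, 2, 2, 1, 2, 2])) (.leaf [2, 1, 1, 0, 1, 2, 1, 2, 2, 2, 2, 0, 2, 2])) (.node (.leaf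 [0, 2, 2, 0, 2, 2, 1, 2, 2, 2, 2, 1]) (.leaf [1, 2, 1, 0, 1, 2, 0, 1, 1, 2, 1]))) (.node (.node (.leaf []) (.leaf [0, 2, 2, 1, 0, 1, 0, 1, 1, 1, 2, 1])) (.node (.leaf []) (.leaf [1, 0, 2, 0, 0, 0, 0, 2, 2, 0, 0, 1, 2, 1]))))) (.node (.node (.node (.node (.node (.leaf []) (.leaf [2, 0, 0, 1, 1, 1, 2, 0, 1, 0, 2, 1, 1, 1])) (.leaf [])) (.node (.leaf [2, 1, 1, 1, 1, 1, 1, 0, 1, 2, 2, 1, 1, 1]) (.leaf [2, 1, 0, 1, 2, 2, 0, 2, 0, 1, 0, 2, 1, 2]))) (.node (.node (.leaf []) (.leaf [2, 1, 1, 0, 1, 0, 1, 0, 0, 1, 0, 2])) (.node (.leaf []) (.leaf [0, 2, 0, 0, 2, 0, 2, 0, 0, 2, 1, 0, 2, 1])))) (.node (.node (.node (.leaf [0, 0, 2, 1, 1, 2, 1, 0, 0, 2, 0, 2, 0, 1]) (.leaf [0, 2, 1, 0, 2, 0, 1, 2, 0, 2, 0, 1, 2, 2])) (.node (.leaf [2, 2, 2, 1, 2, 2, 0, 0, 2, 0, 1, 0, 1, 2]) (.leaf [1, 0, 0, 1, 1, 0, 0, 0, 1, 0, 0, 0, 2]))) (.node (.node (.leaf [2, 0, 0, 0, 0, 2, 0, 0, 0, 1]) (.leaf [1, 0, 0, 0, 0, 0, 0, 0, 1,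 0, 1, 1, 1, 2])) (.node (.leaf []) (.leaf [0, 0, 1, 0, 0, 0, 2, 1, 0, 1])))))) (.node (.node (.node (.node (.node (.node (.leaf []) (.leaf [2, 0, 0, 0, 2, 2, 2, 2, 1, 2])) (.leaf [2, 0, 0, 2, 0, 1, 0, 1, 2, 1, 0, 1])) (.node (.leaf [1, 2, 2, 2, 0, 1, 0, 1, 0, 2]) (.leaf [0, 2, 1, 0, 0, 2, 1, 0, 0, 1, 0, 2, 2, 1]))) (.node (.node (.leaf []) (.leaf [0, 1, 0, 2, 0, 0, 0, 2, 2, 2, 1, 1, 1, 1])) (.node (.leaf [0, 2, 2, 2, 1, 1, 1, 0, 1, 2, 2, 1, 1]) (.leaf [1, 0, 1, 0, 0, 1, 2, 2, 1, 1, 2, 0, 2, 1])))) (.node (.node (.node (.leaf []) (.leaf [1, 1, 1, 1, 2, 2, 0, 0, 1, 2, 2, 2, 0, 2])) (.node (.leaf [2, 1, 0, 0, 2, 1, 0, 0, 2, 2]) (.leaf [1, 0, 0, 0, 2, 2, 2, 2, 0, 0, 0, 0, 2, 2]))) (.node (.node (.leaf [1, 2, 0, 0, 0, 0, 0, 0, 2, 0, 0, 0, 1]) (.leaf [0, 2, 1, 0, 0, 2, 2, 1, 0, 0, 2, 0, 2, 2])) (.node (.leaf [2, 0, 2, 2, 1, 2, 1, 0, 2, 2, 0, 1, 0, 2]) (.leaf [0, 2, 1, 1, 1, 2, 1, 2, 1, 2, 2, 0, 2, 2])))))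 (.node (.node (.node (.node (.node (.leaf []) (.leaf [2, 2, 1, 1, 0, 2, 0, 0, 2, 2, 1, 0, 0, 1])) (.leaf [1, 2, 0, 0, 2, 1, 0, 2, 1, 1, 0, 1, 2, 1])) (.node (.leaf [2, 1, 0, 0, 0, 0, 0, 2, 0, 1]) (.leaf [1, 1, 0, 1, 0, 0, 0, 0, 1, 0, 1]))) (.node (.node (.leaf []) (.leaf [2, 1, 1, 1, 2, 0, 1, 0, 1, 2])) (.node (.leaf []) (.leaf [2, 2, 1, 0, 0, 1, 2, 2, 1, 0, 1, 1, 1, 2])))) (.node (.node (.node (.leaf []) (.leaf [1, 0, 1, 1, 0, 0, 2, 2, 1, 2, 2, 0, 2, 1])) (.node (.leaf [0, 1, 1, 0, 1, 1, 0, 2, 1, 0, 1, 0, 1, 1]) (.leaf [2, 0, 0, 0, 1, 0, 0, 2, 1, 1, 2]))) (.node (.node (.leaf [0, 0, 0, 1]) (.leaf [])) (.node (.leaf []) (.leaf [1, 0, 0, 2, 2, 0, 1, 1, 2, 1, 2, 2, 1, 2]))))))) (.node (.node (.node (.node (.node (.node (.node (.leaf []) (.leaf [2, 2, 1, 2, 0, 1, 1, 1, 2, 1, 1, 1, 2, 1])) (.leaf [1, 1, 2, 1, 2, 0, 2, 0, 1, 1, 2, 1, 1, 2])) (.node (.leaf [1, 1, 2, 2, 2, 1, 2, 2, 1, 0, 2, 1, 1]) (.leaf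 [1, 1, 1, 2, 2, 0, 1, 0, 0, 2, 0, 2, 2, 1]))) (.node (.node (.leaf []) (.leaf [1, 1, 0, 0, 2, 0, 0, 0, 0, 0, 2, 0, 2])) (.node (.leaf []) (.leaf [2, 2, 1, 0, 0, 2, 0, 1, 0, 1, 1, 2, 2, 1])))) (.node (.node (.node (.node (.leaf []) (.leaf [1, 2, 2, 0, 0, 1, 1, 1])) (.leaf [1, 2, 0, 0, 1, 2, 1, 2, 2, 1, 0, 1])) (.node (.leaf [1, 2, 0, 2, 2, 0, 2, 2, 1, 0, 1, 0, 0, 2]) (.leaf [1, 0, 2, 1, 2, 2, 0, 0, 1, 2, 2, 2, 0, 1]))) (.node (.node (.leaf []) (.leaf [1, 1, 1, 1, 2, 1, 0, 2, 2, 1, 1, 0, 1])) (.node (.leaf [2, 1, 2, 1, 0, 0, 0, 2, 0, 2]) (.leaf [1, 0, 0, 1, 0, 1, 0, 0, 0, 2]))))) (.node (.node (.node (.node (.node (.leaf []) (.leaf [2, 2, 1, 1, 0, 2, 2, 0, 2, 2, 1, 2, 0, 2])) (.leaf [2, 2, 2, 2, 0, 2, 2, 0, 2, 0, 0, 2, 2, 2])) (.node (.leaf [0, 0, 0, 1]) (.leaf []))) (.node (.node (.leaf []) (.leaf [1, 2, 2, 0, 0, 2, 1, 1, 2, 2, 1, 1, 2, 1])) (.node (.leaf []) (.leaf [2, 2, 1, 1, 1, 2, 0, 2, 0, 1,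 1])))) (.node (.node (.node (.leaf [0, 2, 0, 2, 1, 0, 2, 2, 1, 1, 0, 0, 2]) (.leaf [2, 2, 2, 2, 0, 2, 2, 0, 0, 0, 0, 0, 2, 2])) (.node (.leaf [0, 0, 0, 0, 2, 1, 2, 2, 0, 0, 1, 2, 2, 1]) (.leaf []))) (.node (.node (.leaf []) (.leaf [])) (.node (.leaf [0, 2, 2, 2, 1, 2, 1, 1, 1, 1]) (.leaf [0, 0, 0, 1])))))) (.node (.node (.node (.node (.node (.node (.leaf []) (.leaf [2, 2, 2, 0, 1, 1, 2, 0, 0, 1, 0, 1, 2])) (.leaf [2, 0, 1, 0, 1, 2, 0, 2, 1, 1, 0, 0, 1])) (.node (.leaf [2, 0, 2, 2, 1, 2, 2, 0, 1, 1, 2, 0, 2, 1]) (.leaf [1, 0, 2, 0, 0, 0, 0, 0, 0, 1]))) (.node (.node (.leaf []) (.leaf [1, 2, 0, 1, 0, 0, 0, 0, 2])) (.node (.leaf [2, 0, 2, 0, 2, 1, 0, 1, 2, 0, 1, 1, 1, 1]) (.leaf [0, 0, 2, 2, 0, 0, 0, 0, 0, 1])))) (.node (.node (.node (.leaf [1, 2, 2, 1, 0, 0, 1, 0, 0, 2, 0, 1, 1, 1]) (.leaf [])) (.node (.leaf [1, 1, 1, 1, 2, 2, 2, 1, 2, 2, 0, 2]) (.leaf [1, 0, 0, 1, 1, 0, 0, 0, 1, 0, 0, 0, 1]))) (.node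 (.node (.leaf []) (.leaf [0, 1, 1, 1, 1, 1, 2, 1, 1, 1, 1, 2])) (.node (.leaf [0, 2, 2, 0, 2, 2, 2, 0, 0, 2, 0, 1, 1, 2]) (.leaf [1, 0, 2, 0, 0, 2, 2, 1, 0, 1]))))) (.node (.node (.node (.node (.node (.leaf []) (.leaf [0, 0, 2, 2, 1, 2, 0, 2, 2, 2, 0, 1, 1, 2])) (.leaf [0, 0, 0, 1])) (.node (.leaf [0, 1, 1, 0, 2, 0, 2, 2, 1]) (.leaf [2, 2, 2, 2, 1, 0, 0, 0, 0, 2, 0, 2]))) (.node (.node (.leaf [0, 1, 2, 1, 2, 2, 2, 2, 2, 0, 1, 2, 2, 1]) (.leaf [0, 0, 2, 2, 2, 2, 0, 1, 0, 2, 0, 2, 2, 2])) (.node (.leaf [0, 1, 0, 2, 0, 0, 0, 0, 0, 0, 0, 0, 1]) (.leaf [2, 0, 0, 0, 2, 2, 2, 2, 2, 2, 1, 2])))) (.node (.node (.node (.leaf [0, 0, 2, 2, 0, 1, 0, 1, 2, 1, 1, 0, 2, 1]) (.leaf [0, 0, 0, 1])) (.node (.leaf []) (.leaf [0, 0, 0, 1]))) (.node (.node (.leaf [2, 1, 1, 2, 0, 0, 1, 1, 0, 1]) (.leaf [2, 1, 1, 2, 2, 1, 2, 2, 2, 2])) (.node (.leaf []) (.leaf [1, 1, 1, 0, 0, 2, 1, 0, 0, 2, 0, 2, 1, 2])))))))) (.node (.node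 (.node (.node (.node (.node (.node (.node (.leaf []) (.leaf [1, 1, 1, 1, 2, 1, 1, 2, 1, 0, 1, 0, 0, 1])) (.leaf [1, 2, 0, 1, 2, 1, 1, 0, 0, 2, 1, 0, 1, 1])) (.node (.leaf [1, 2, 2, 1, 1, 2, 1, 1, 0, 1, 1]) (.leaf []))) (.node (.node (.leaf [0, 1, 0, 2, 0, 0, 0, 0, 0, 0, 0, 0, 2]) (.leaf [1, 0, 2, 1, 2, 2, 2, 2, 1, 0, 2])) (.node (.leaf []) (.leaf [0, 1, 2, 2, 1, 1, 2, 0, 0, 2, 0, 0, 1, 1])))) (.node (.node (.node (.node (.leaf []) (.leaf [1, 2, 2, 0, 1, 0, 2, 0, 2, 1])) (.leaf [])) (.node (.leaf [1, 1, 2, 2, 2, 1, 0, 1, 0, 0, 0, 0, 0, 2]) (.leaf [0, 0, 0, 1]))) (.node (.node (.leaf []) (.leaf [2, 0, 0, 0, 0, 2, 0, 0, 0, 1])) (.node (.leaf []) (.leaf [2, 2, 0, 0, 1, 0, 0, 0, 0, 0, 2, 0, 2]))))) (.node (.node (.node (.node (.node (.leaf []) (.leaf [1, 1, 1, 0, 1, 1, 1, 2, 1, 2, 2, 0, 2])) (.leaf [1, 2, 2, 1, 2, 1, 1])) (.node (.leaf [0, 2, 0, 0, 1, 1, 0, 0, 1, 2]) (.leaf [0, 0, 2, 2, 1, 0, 0, 0, 1,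 1, 2, 1, 0, 2]))) (.node (.node (.leaf [1, 1, 1, 0, 2, 1, 0, 2, 2, 1, 0, 0, 2, 1]) (.leaf [1, 0, 1, 2, 0, 1, 2, 2, 1, 2, 0, 0, 1])) (.node (.leaf [0, 1, 0, 2, 2, 0, 0, 0, 2]) (.leaf [1, 2, 2, 2, 2, 2, 2, 0, 0, 0, 2, 1, 0, 1])))) (.node (.node (.node (.leaf []) (.leaf [1, 2, 1, 1, 2, 0, 2, 0, 0, 2])) (.node (.leaf [0, 0, 0, 0, 0, 0, 0, 0, 0, 0, 2, 0, 2]) (.leaf []))) (.node (.node (.leaf [1, 2, 0, 0, 0, 0, 1, 0, 2, 0, 1]) (.leaf [0, 0, 2, 0, 0, 1, 0, 1, 2, 1, 0, 1])) (.node (.leaf []) (.leaf [0, 2, 0, 2, 0, 0, 0, 0, 0, 0, 0, 0, 2])))))) (.node (.node (.node (.node (.node (.node (.leaf [0, 0, 0, 1, 0, 1, 2, 1, 0, 2, 0, 1, 1, 1]) (.leaf [1, 1, 2, 0, 2, 1, 2, 1, 1, 2, 2, 1, 2, 2])) (.leaf [0, 0, 2, 1, 1, 1, 0, 2, 0, 0, 0, 2, 2, 2])) (.node (.leaf [0, 2, 0, 2, 0, 0, 0, 0, 0, 0, 0, 0, 2]) (.leaf [1, 2, 0, 1, 2, 1, 2, 0, 1, 1, 2, 1]))) (.node (.node (.leaf [0, 0, 0, 1]) (.leaf [1, 1, 1, 0, 2, 1, 1, 0, 0,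 1, 0, 2, 2, 1])) (.node (.leaf [2, 2, 0, 2, 1, 2, 2, 1, 2, 0, 1, 2, 1, 1]) (.leaf [0, 2, 2, 2, 0, 2, 0, 2, 2, 2, 0, 1])))) (.node (.node (.node (.leaf []) (.leaf [1, 0, 2, 2, 0, 2, 2, 0, 0, 0, 0, 2, 1, 2])) (.node (.leaf [1, 0, 0, 1, 0, 1, 0, 0, 0, 2]) (.leaf [0, 1, 2, 1, 1, 2, 0, 2, 1, 0, 1]))) (.node (.node (.leaf []) (.leaf [1, 2, 0, 2, 0, 1, 2, 1, 2, 2, 1, 1, 0, 1])) (.node (.leaf []) (.leaf [0, 1, 0, 2, 0, 0, 0, 0, 0, 0, 0, 0, 1]))))) (.node (.node (.node (.node (.node (.leaf [2, 0, 2, 2, 0, 0, 0, 0, 0, 1]) (.leaf [2, 2, 1, 2, 0, 0, 1, 1, 1, 2, 1, 1, 2, 1])) (.leaf [0, 0, 0, 2, 2, 0, 0, 1, 0, 1, 0, 2, 1, 1])) (.node (.leaf []) (.leaf [0, 2, 0, 0, 0, 1, 0, 2, 1]))) (.node (.node (.leaf [0, 0, 2, 2, 0, 1, 0, 2, 2, 2, 1, 1, 2, 2]) (.leaf [1, 1, 2, 1, 0, 2, 0, 0, 0, 1, 0, 2, 1, 2])) (.node (.leaf [0, 2, 1, 0, 1, 2, 1, 0, 0, 2, 0, 2, 0, 2]) (.leaf [2, 2, 1, 1, 1, 2, 2, 0, 0, 1, 0, 2, 2])))) (.node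 (.node (.node (.leaf []) (.leaf [1, 1, 1, 1, 1, 0, 1, 0, 0, 2])) (.node (.leaf [2, 2, 0, 0, 1, 0, 1, 0, 2, 0, 2, 2, 0, 1]) (.leaf [2, 1, 0, 0, 2, 0, 0, 2, 2, 1]))) (.node (.node (.leaf [1, 2, 1, 0, 2, 2, 0, 2, 0, 1]) (.leaf [2, 2, 1, 0, 1, 0, 0, 0, 0, 0, 0, 1, 1, 1])) (.node (.leaf [0, 1, 1, 2, 2, 1, 2, 2, 2, 2]) (.leaf [0, 1, 2, 2, 0, 1, 2, 1, 2, 1, 2, 2, 1, 2]))))))) (.node (.node (.node (.node (.node (.node (.node (.leaf []) (.leaf [2, 0, 2, 0, 0, 0, 0, 0, 1, 2, 1, 1, 0, 1])) (.leaf [])) (.node (.leaf [1, 1, 0, 2, 0, 1, 0, 0, 2, 2]) (.leaf [2, 0, 2, 1, 2, 0, 1, 0, 0, 0, 0, 0, 1, 1]))) (.node (.node (.leaf []) (.leaf [0, 1, 1, 1, 2, 1, 1, 2, 2, 1, 1, 0, 1, 1])) (.node (.leaf [0, 1, 0, 1, 1, 0, 2, 1, 0, 0, 0, 1, 0, 1]) (.leaf [0, 2, 0, 2, 0, 1, 1, 2, 1, 0, 0, 2, 0, 1])))) (.node (.node (.node (.leaf []) (.leaf [])) (.node (.leaf [0, 1, 2, 0, 1, 2, 1, 0, 1, 2, 2, 2, 2, 1]) (.leaf [0, 1, 0, 0, 1,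 2, 1, 0, 0, 0, 0, 1]))) (.node (.node (.leaf []) (.leaf [1, 1, 0, 1, 1, 1, 2, 1, 2, 1, 2])) (.node (.leaf [1, 2, 2, 1, 0, 2, 1, 2, 2, 0, 2, 1, 1, 2]) (.leaf [2, 1, 0, 2, 1, 0, 0, 0, 0, 0, 1]))))) (.node (.node (.node (.node (.node (.leaf [0, 0, 0, 1]) (.leaf [1, 2, 0, 1, 0, 0, 0, 0, 2])) (.leaf [0, 0, 0, 2, 2, 0, 2, 0, 0, 0, 0, 0, 1])) (.node (.leaf [0, 0, 1, 1, 2, 0, 0, 0, 1, 2, 2, 2, 0, 1]) (.leaf [0, 1, 0, 1, 1, 1, 0, 2, 1, 1, 0, 1]))) (.node (.node (.leaf []) (.leaf [2, 2, 2, 1, 2, 2, 2, 2, 1, 2, 0, 2])) (.node (.leaf [2, 2, 2, 2, 2, 0, 1, 0, 2, 0, 1, 0, 0, 1]) (.leaf [0, 0, 2, 0, 1, 0, 1, 0, 0, 0, 0, 0, 1, 2])))) (.node (.node (.node (.leaf []) (.leaf [0, 2, 2, 2, 0, 0, 2, 2, 0, 2])) (.node (.leaf [0, 2, 1, 1, 0, 1, 2, 0, 0, 2, 0, 1, 2, 1]) (.leaf [0, 1, 0, 0, 2, 1, 2, 0, 1, 2, 2, 0, 2]))) (.node (.node (.leaf [1, 0, 2, 0, 2, 1, 0, 0, 1, 0, 2, 2, 0, 1]) (.leaf [0, 2, 1, 2, 2, 2, 2, 0, 1, 0,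 2, 1, 2, 2])) (.node (.leaf []) (.leaf [0, 1, 1, 2, 1, 2, 2, 1, 2, 2])))))) (.node (.node (.node (.node (.node (.node (.leaf []) (.leaf [1, 1, 1, 2, 2, 2, 2, 2, 2, 2, 1, 2, 2, 1])) (.leaf [1, 1, 2, 0, 0, 1, 2, 2, 2, 0, 2, 2, 2, 2])) (.node (.leaf [2, 0, 0, 0, 0, 2, 1, 0, 0, 2, 0, 1, 2, 1]) (.leaf [1, 2, 1, 2, 2, 1, 2, 0, 0, 2, 2, 0, 1, 2]))) (.node (.node (.leaf [2, 0, 1, 2, 2, 0, 2, 2, 1, 2, 2, 0, 1, 1]) (.leaf [0, 0, 0, 0, 0, 0, 0, 2, 2, 0, 2, 2])) (.node (.leaf [1, 2, 0, 1, 2, 1, 2, 0, 0, 0, 0, 2]) (.leaf [0, 0, 1, 2, 1, 1, 1, 2, 0, 2, 0, 2, 2, 1])))) (.node (.node (.node (.leaf [0, 0, 0, 1]) (.leaf [2, 2, 0, 2, 2, 1, 0, 1, 1, 0, 0, 2, 1, 1])) (.node (.leaf [1, 0, 2, 1, 1, 0, 0, 2, 1, 2, 0, 2, 0, 1]) (.leaf [0, 0, 0, 1]))) (.node (.node (.leaf [0, 0, 0, 1, 1, 0, 1, 1, 2, 1, 0, 2, 0, 1]) (.leaf [2, 0, 1, 1, 0, 0, 1, 1, 2, 2, 1, 0, 1, 2])) (.node (.leaf []) (.leaf [0, 2, 0, 0, 1, 0, 2, 2, 1, 1,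 0, 0, 1]))))) (.node (.node (.node (.node (.node (.leaf [2, 1, 0, 0, 0, 0, 0, 0, 1]) (.leaf [1, 2, 2, 0, 1, 0, 2, 0, 2, 1])) (.leaf [0, 2, 0, 1, 0, 0, 0, 0, 0, 0, 0, 0, 2])) (.node (.leaf [1, 0, 1, 1, 0, 0, 0, 1, 0, 1, 0, 2, 2, 1]) (.leaf [2, 0, 2, 1, 1, 0, 2, 2, 0, 1, 0, 0, 0, 1]))) (.node (.node (.leaf [0, 0, 0, 1]) (.leaf [1, 0, 1, 2, 1, 0, 1, 1, 2, 2, 0, 0, 2, 2])) (.node (.leaf []) (.leaf [0, 0, 0, 1])))) (.node (.node (.node (.leaf [2, 0, 2, 2, 0, 0, 0, 0, 0, 1]) (.leaf [1, 0, 0, 1, 1, 1, 1, 1, 1, 1, 2, 1])) (.node (.leaf []) (.leaf [2, 1, 1, 0, 0, 0, 1, 1, 0, 1]))) (.node (.node (.leaf [0, 0, 2, 1, 0, 0, 1, 2, 0, 2]) (.leaf [0, 1, 1, 2, 0, 1, 0, 1, 1, 1, 0, 2])) (.node (.leaf [2, 1, 2, 1, 1, 2, 0, 1, 0, 2, 0, 1, 1, 1]) (.leaf [0, 0, 0, 1]))))))))) (.node (.node (.node (.node (.node (.node (.node (.node (.node (.leaf []) (.leaf [0, 2, 2, 2, 0, 0, 0, 0, 2, 0, 1, 2, 1, 2])) (.leaf [])) (.node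 (.leaf []) (.leaf [1, 2, 0, 1, 0, 0, 0, 0, 2]))) (.node (.node (.leaf [2, 0, 0, 0, 1, 1, 0, 1, 1, 2, 1, 0, 2, 1]) (.leaf [2, 1, 1, 1, 1, 1, 0, 0, 0, 0, 1, 0, 2, 2])) (.node (.leaf [1, 2, 0, 1, 0, 0, 0, 1, 0, 2]) (.leaf [0, 1, 1, 2, 1, 0, 0, 2, 1, 2, 2, 0, 2, 1])))) (.node (.node (.node (.node (.leaf [2, 1, 1, 0, 1, 0, 1, 2, 1, 2, 2, 0, 0, 1]) (.leaf [2, 1, 2, 0, 1, 0, 1, 0, 0, 1])) (.leaf [2, 1, 0, 0, 1, 2, 0, 1, 0, 1, 1, 1, 2, 1])) (.node (.leaf [0, 1, 2, 0, 0, 0, 2, 0, 2, 0, 2, 1, 1]) (.leaf [1, 1, 0, 2, 0, 1, 2, 1, 2, 2, 0, 1, 1, 1]))) (.node (.node (.leaf [1, 1, 2, 0, 2, 2, 2, 2, 1, 2, 0, 1, 2]) (.leaf [])) (.node (.leaf []) (.leaf [2, 1, 0, 2, 0, 2, 2, 2, 1, 2, 0, 2]))))) (.node (.node (.node (.node (.node (.leaf []) (.leaf [0, 1, 0, 2, 0, 2, 0, 0, 2, 2, 1, 0, 0, 2])) (.leaf [2, 0, 2, 0, 1, 0, 0, 0, 1, 2, 2, 0, 0, 2])) (.node (.leaf [2, 2, 1, 1, 2, 1, 0, 0, 0, 2, 0, 2, 1]) (.leaf [2, 0, 0, 2,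 0, 0, 0, 0, 0, 0, 0, 1]))) (.node (.node (.leaf []) (.leaf [2, 0, 1, 2, 2, 0, 1, 1, 2, 2, 1, 0, 0, 2])) (.node (.leaf [0, 0, 2, 2, 0, 1, 1, 0, 2, 2, 1, 0, 2, 1]) (.leaf [2, 2, 2, 2, 0, 2, 0, 0, 0, 0, 0, 2, 2])))) (.node (.node (.node (.leaf [0, 0, 0, 1]) (.leaf [1, 1, 0, 0, 1, 1, 0, 1, 0, 0, 0, 2, 2, 2])) (.node (.leaf [0, 2, 0, 1, 0, 0, 1, 0, 2, 2, 1, 2, 1, 1]) (.leaf [1, 0, 0, 0, 0, 0, 0, 0, 2, 0, 0, 0, 1]))) (.node (.node (.leaf [0, 0, 0, 1]) (.leaf [2, 0, 2, 0, 0, 0, 1, 0, 0, 0, 0, 2, 0, 2])) (.node (.leaf [2, 1, 0, 1, 2, 1, 0, 1, 1, 1, 2, 2, 2, 1]) (.leaf [2, 2, 0, 2, 1, 1, 2, 1, 2, 1, 2, 1, 2, 2])))))) (.node (.node (.node (.node (.node (.node (.leaf []) (.leaf [0, 2, 1, 1, 2, 1, 2, 1, 0, 1, 0, 1, 2, 1])) (.leaf [1, 1, 0, 2, 2, 2, 0, 2, 2, 0, 2, 1, 0, 2])) (.node (.leaf [2, 2, 2, 0, 2, 1, 2, 1, 0, 1, 2, 2, 1, 1]) (.leaf [1, 0, 0, 2, 0, 2, 2, 1, 1, 1, 2, 1, 1, 1]))) (.node (.node (.leaf [])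 (.leaf [0, 2, 2, 2, 1, 1, 1, 0, 0, 1, 0, 1, 2, 1])) (.node (.leaf [0, 0, 1, 1, 0, 2, 0, 2, 1, 2, 0, 2]) (.leaf [2, 0, 2, 0, 2, 2, 1, 1, 1, 2, 1, 1, 1, 1])))) (.node (.node (.node (.leaf []) (.leaf [2, 0, 1, 1, 0, 0, 0, 0, 0, 2])) (.node (.leaf [1, 0, 2, 0, 1, 2, 2, 2, 1, 0, 0, 1, 1, 1]) (.leaf [1, 1, 0, 2, 1, 0, 1, 0, 2, 1, 1, 1, 2, 1]))) (.node (.node (.leaf [2, 2, 0, 2, 1, 2, 2, 1, 2, 0, 1, 2, 1, 1]) (.leaf [])) (.node (.leaf []) (.leaf [1, 0, 0, 2, 0, 2, 0, 2, 1, 2, 0, 2]))))) (.node (.node (.node (.node (.node (.leaf []) (.leaf [2, 2, 1, 2, 0, 1, 1, 0, 0, 2, 2, 2, 2])) (.leaf [0, 0, 0, 1])) (.node (.leaf [2, 0, 1, 1, 1, 0, 1, 0, 1, 0, 2, 1, 0, 1]) (.leaf [1, 2, 0, 1, 2, 1, 2, 0, 0, 0, 0, 2]))) (.node (.node (.leaf [2, 2, 2, 2, 0, 2, 2, 0, 1, 1, 2, 0, 2, 1]) (.leaf [0, 0, 0, 1])) (.node (.leaf []) (.leaf [0, 2, 1, 2, 2, 2, 2, 0, 0, 0, 0, 1])))) (.node (.node (.node (.leaf []) (.leaf [2, 0, 1,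 1, 2, 2, 1, 2, 2, 2, 0, 1, 1, 2])) (.node (.leaf [0, 1, 1, 2, 0, 1, 1, 1, 2, 2, 0, 1]) (.leaf [2, 1, 0, 1, 1, 2, 1, 0, 2, 2, 1, 1, 1, 1]))) (.node (.node (.leaf []) (.leaf [1, 1, 0, 2, 0, 0, 0, 1, 2, 1, 1, 0, 0, 1])) (.node (.leaf [2, 2, 2, 0, 1, 2, 2, 1, 0, 2, 2, 1, 0, 1]) (.leaf [1, 1, 2, 2, 2, 0, 2, 1, 1, 0, 2, 2, 1, 1]))))))) (.node (.node (.node (.node (.node (.node (.node (.leaf []) (.leaf [0, 1, 2, 1, 0, 0, 1, 0, 0, 1, 2, 2, 2, 1])) (.leaf [0, 1, 2, 0, 0, 2, 1, 1, 2, 0, 2, 0, 0, 2])) (.node (.leaf []) (.leaf [1, 1, 0, 0, 1, 0, 0, 1, 0, 1, 2, 0, 2, 1]))) (.node (.node (.leaf []) (.leaf [0, 1, 1, 1, 1, 2, 2, 1, 2, 0, 1, 0, 1, 2])) (.node (.leaf []) (.leaf [0, 2, 0, 2, 0, 0, 2, 0, 2])))) (.node (.node (.node (.node (.leaf [2, 0, 1, 0, 0, 0, 2, 2, 0, 0, 2, 2, 1, 1]) (.leaf [2, 2, 2, 0, 1, 1, 0, 1, 1, 1, 2, 1, 1, 1])) (.leaf [2, 2, 0, 1, 0, 2, 1, 1, 0, 2, 2, 1, 2, 2])) (.node (.leaf [1, 2, 1, 0,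 2, 2, 1, 0, 0, 2, 2, 0, 2, 1]) (.leaf [0, 2, 0, 1, 0, 0, 2, 0, 1, 0, 1, 0, 1]))) (.node (.node (.leaf []) (.leaf [0, 2, 1, 2, 1, 0, 1, 2, 1, 1, 0, 2])) (.node (.leaf []) (.leaf [0, 2, 0, 2, 0, 0, 0, 0, 0, 0, 1]))))) (.node (.node (.node (.node (.node (.leaf []) (.leaf [2, 2, 0, 1, 2, 2, 1, 2, 1, 0, 0, 2])) (.leaf [2, 0, 2, 0, 2, 2, 2, 2, 1, 0, 1, 1, 0, 1])) (.node (.leaf [0, 1, 0, 2, 2, 1, 1, 1, 2, 2, 0, 2, 1]) (.leaf [0, 0, 0, 0, 2, 0, 0, 0, 2, 0, 0, 0, 1]))) (.node (.node (.leaf []) (.leaf [0, 0, 0, 1])) (.node (.leaf []) (.leaf [1, 1, 1, 1, 1, 0, 0, 1, 2, 0, 2, 1, 2, 1])))) (.node (.node (.node (.leaf []) (.leaf [2, 0, 0, 1, 0, 0, 1, 0, 1, 0, 0, 0, 1])) (.node (.leaf [1, 1, 0, 1, 1, 2, 1, 0, 1, 0, 2, 2, 2, 2]) (.leaf [0, 0, 0, 1]))) (.node (.node (.leaf [0, 0, 0, 1]) (.leaf [2, 2, 2, 1, 0, 0, 0, 0, 1, 1])) (.node (.leaf [0, 1, 1, 2, 2, 2, 2, 0, 0, 2, 0, 2, 1, 2]) (.leaf [1, 2, 2, 2, 2, 1, 0, 2,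 1, 1, 2])))))) (.node (.node (.node (.node (.node (.node (.leaf []) (.leaf [0, 0, 2, 1, 0, 2, 1, 0, 2, 2, 1, 1, 0, 2])) (.leaf [])) (.node (.leaf [1, 1, 2, 1, 1, 1, 0, 1, 0, 2]) (.leaf [2, 2, 1, 2, 2, 1, 2, 0, 0, 2, 0, 2]))) (.node (.node (.leaf [0, 0, 0, 0, 0, 2, 0, 0, 0, 1]) (.leaf [2, 1, 1, 2, 1, 2, 2, 1, 2, 2])) (.node (.leaf []) (.leaf [2, 1, 0, 2, 1, 0, 0, 2, 2, 2, 0, 1, 1, 1])))) (.node (.node (.node (.leaf [0, 0, 0, 1, 0, 1, 2, 2, 0, 0, 0, 2, 1, 2]) (.leaf [1, 2, 2, 1, 0, 0, 1, 2, 1, 1, 1, 0, 1, 1])) (.node (.leaf [2, 2, 0, 2, 0, 0, 0, 0, 2, 0, 2]) (.leaf []))) (.node (.node (.leaf [1, 0, 1, 2, 0, 0, 0, 0, 0, 2]) (.leaf [])) (.node (.leaf [1, 2, 2, 0, 2, 0, 0, 2, 1, 0, 2, 1, 1, 1]) (.leaf [0, 1, 1, 0, 0, 1, 0, 2, 1, 2]))))) (.node (.node (.node (.node (.node (.leaf [0, 0, 0, 1]) (.leaf [2, 1, 2, 0, 1, 0, 1, 0, 0, 1])) (.leaf [2, 0, 0, 2, 1, 0, 0, 0, 2, 0, 1, 0, 1])) (.node (.leaf []) (.leaf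 [0, 1, 0, 1, 0, 1, 2, 0, 1, 2, 0, 2]))) (.node (.node (.leaf [0, 1, 0, 1, 0, 2, 2, 0, 1, 0, 2, 0, 1, 1]) (.leaf [0, 0, 0, 0, 0, 0, 2, 0, 1, 2, 1, 0, 2, 1])) (.node (.leaf []) (.leaf [1, 1, 0, 1, 0, 0, 2, 2, 1, 0, 2, 2, 0, 1])))) (.node (.node (.node (.leaf []) (.leaf [1, 1, 1, 1, 1, 0, 2, 0, 0, 2, 0, 0, 1])) (.node (.leaf [1, 2, 0, 1, 0, 0, 0, 0, 2]) (.leaf [1, 0, 1, 1, 1, 2, 0, 1, 1, 1, 0, 2, 2, 2]))) (.node (.node (.leaf [0, 1, 1, 0, 2, 0, 2, 2, 2, 1, 1, 0, 0, 2]) (.leaf [1, 2, 0, 1, 2, 1, 2, 0, 0, 0, 0, 2])) (.node (.leaf [2, 1, 2, 2, 2, 2, 2, 0, 2, 2, 1, 0, 2]) (.leaf [2, 1, 0, 2, 0, 2, 1, 2, 2, 2, 0, 2, 2, 2])))))))) (.node (.node (.node (.node (.node (.node (.node (.node (.leaf []) (.leaf [0, 0, 2, 0, 1, 0, 2, 1, 1, 1, 1, 0, 0, 1])) (.leaf [0, 0, 2, 1, 2, 1, 2, 0, 2, 0, 2, 1, 1, 2])) (.node (.leaf [1, 0, 2, 1, 0, 1, 2, 2, 0, 0, 0, 0, 0, 2]) (.leaf [0, 0, 1, 2, 2, 0, 1, 1, 0, 2, 0, 0, 0, 2])))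 (.node (.node (.leaf [2, 0, 0, 0, 0, 2, 0, 0, 0, 1]) (.leaf [0, 0, 2, 2, 1, 0, 1, 1, 2, 2, 1, 2, 2, 2])) (.node (.leaf [0, 1, 0, 2, 0, 0, 0, 0, 0, 0, 0, 0, 1]) (.leaf [1, 2, 2, 0, 0, 2, 2, 2, 0, 2, 2, 1, 2])))) (.node (.node (.node (.node (.leaf []) (.leaf [1, 0, 1, 0, 0, 2, 0, 0, 0, 1])) (.leaf [0, 1, 2, 1, 2, 2, 2, 1, 2, 0, 0, 1])) (.node (.leaf [1, 0, 1, 0, 2, 0, 2, 0, 0, 0, 1, 1, 0, 1]) (.leaf [2, 1, 0, 2, 2, 2, 2, 2, 2, 0, 1, 0, 0, 2]))) (.node (.node (.leaf []) (.leaf [])) (.node (.leaf [2, 0, 2, 2, 0, 0, 0, 0, 0, 1]) (.leaf [1, 2, 1, 1, 2, 2, 2, 2, 0, 1, 0, 1, 1, 2]))))) (.node (.node (.node (.node (.node (.leaf []) (.leaf [2, 1, 2, 2, 1, 2, 0, 2, 2, 1, 1, 1, 0, 2])) (.leaf [0, 0, 1, 1, 0, 2, 0, 0, 0, 2, 0, 1])) (.node (.leaf [2, 0, 1, 1, 2, 2, 2, 2, 1, 1]) (.leaf [0, 1, 2, 2, 2, 0, 2, 1, 2, 2, 0, 1]))) (.node (.node (.leaf []) (.leaf [1, 0, 0, 0, 0, 1, 0, 1, 1, 0, 2, 2, 0, 2])) (.node (.leaf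 []) (.leaf [0, 0, 0, 0, 0, 2, 1, 2, 0, 1, 0, 2, 2, 2])))) (.node (.node (.node (.leaf []) (.leaf [1, 2, 0, 1, 0, 1, 0, 1, 1, 1])) (.node (.leaf [0, 1, 1, 2, 2, 2, 1, 1, 0, 0, 0, 2]) (.leaf [2, 1, 2, 2, 2, 1, 0, 0, 1, 2, 1, 0, 2, 1]))) (.node (.node (.leaf [2, 0, 1, 1, 1, 0, 0, 1, 0, 1, 0, 1, 1, 2]) (.leaf [])) (.node (.leaf [0, 0, 0, 1]) (.leaf [0, 2, 2, 2, 1, 1, 0, 2, 2, 1, 1, 2, 0, 1])))))) (.node (.node (.node (.node (.node (.node (.leaf []) (.leaf [0, 0, 0, 0, 1, 1, 0, 0, 0, 0, 0, 2, 1])) (.leaf [0, 2, 2, 0, 0, 1, 0, 1, 2, 1, 0, 1])) (.node (.leaf [1, 2, 0, 2, 0, 2, 0, 0, 1, 1]) (.leaf [1, 1, 0, 0, 2, 2, 1, 2, 1, 1, 0, 1, 2, 1]))) (.node (.node (.leaf [2, 1, 0, 0, 0, 0, 0, 0, 1]) (.leaf [2, 0, 1, 1, 0, 0, 0, 0, 0, 2])) (.node (.leaf []) (.leaf [1, 2, 1, 2, 1, 1, 2, 1, 1, 0, 2, 2, 1, 1])))) (.node (.node (.node (.leaf []) (.leaf [])) (.node (.leaf [0, 2, 0, 2, 2, 2, 2, 0, 0, 2, 0, 2]) (.leaf [1,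 0, 0, 2, 0, 0, 1, 0, 0, 0, 0, 0, 1]))) (.node (.node (.leaf [2, 0, 2, 2, 0, 0, 0, 0, 0, 1]) (.leaf [0, 0, 1, 1, 0, 1, 1, 2, 0, 2])) (.node (.leaf []) (.leaf [1, 0, 0, 2, 2, 0, 0, 0, 0, 0, 1]))))) (.node (.node (.node (.node (.node (.leaf []) (.leaf [0, 0, 0, 1])) (.leaf [1, 1, 0, 2, 2, 2, 1, 0, 1, 1])) (.node (.leaf [0, 2, 0, 0, 1, 1, 1, 0, 2, 1, 1, 1, 1]) (.leaf [2, 1, 0, 0, 0, 0, 0, 0, 1]))) (.node (.node (.leaf [0, 0, 0, 1]) (.leaf [1, 0, 0, 2, 1, 2, 2, 0, 2, 0, 0, 1, 2])) (.node (.leaf []) (.leaf [2, 2, 1, 1, 2, 0, 1, 0, 0, 1, 2, 0, 2, 1])))) (.node (.node (.node (.leaf [1, 2, 0, 0, 0, 0, 0, 0, 2, 0, 0, 0, 1]) (.leaf [0, 2, 1, 0, 1, 1, 2, 0, 2, 1])) (.node (.leaf [2, 1, 1, 1, 2, 0, 1, 2, 0, 1, 2, 1, 1, 1]) (.leaf [1, 2, 0, 1, 0, 0, 0, 0, 2]))) (.node (.node (.leaf [0, 1, 2, 0, 0, 0, 2, 0, 2, 2, 0, 1, 0, 1]) (.leaf [1, 2, 0, 2, 1, 0, 1, 0, 2, 2, 1, 1, 1])) (.node (.leaf [0, 1, 1, 1, 2, 0, 2, 1,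 0, 0, 0, 0, 1, 1]) (.leaf [1, 2, 2, 1, 2, 0, 0, 0, 2, 2, 0, 2]))))))) (.node (.node (.node (.node (.node (.node (.node (.leaf []) (.leaf [0, 2, 0, 1, 1, 2, 1, 2, 1, 0, 0, 1, 1, 2])) (.leaf [2, 2, 0, 1, 1, 1, 2, 2, 2, 1, 0, 2])) (.node (.leaf []) (.leaf [0, 0, 2, 2, 2, 1, 0, 1, 1, 0, 1, 1, 0, 1]))) (.node (.node (.leaf [0, 0, 2, 2, 0, 0, 0, 0, 0, 1]) (.leaf [1, 0, 0, 2, 0, 0, 0, 0, 1, 0, 1, 0, 2])) (.node (.leaf []) (.leaf [0, 0, 2, 2, 0, 0, 0, 0, 0, 0, 0, 0, 0, 1])))) (.node (.node (.node (.leaf []) (.leaf [2, 2, 2, 1, 0, 1, 0, 1, 0, 2, 0, 2, 1, 1])) (.node (.leaf [0, 0, 2, 2, 0, 1, 1, 0, 2, 2, 1, 1, 1]) (.leaf [0, 0, 0, 1, 0, 1, 0, 0, 0, 2]))) (.node (.node (.leaf []) (.leaf [0, 2, 0, 2, 0, 0, 0, 0, 0, 0, 0, 0, 1])) (.node (.leaf []) (.leaf [1, 1, 1, 0, 1, 1, 1, 1, 2, 1, 0, 1]))))) (.node (.node (.node (.node (.node (.leaf []) (.leaf [2, 2, 0, 2, 2, 0, 0, 0, 0, 0, 0, 0, 1])) (.leaf [0, 0, 0, 1]))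 (.node (.leaf []) (.leaf [0, 0, 2, 2, 1, 2, 0, 2, 0, 2, 2, 1, 1, 2]))) (.node (.node (.leaf []) (.leaf [1, 1, 2, 1, 2, 0, 0, 0, 0, 2, 0, 0, 2, 2])) (.node (.leaf []) (.leaf [0, 2, 0, 0, 1, 0, 2, 0, 0, 0, 0, 1, 2])))) (.node (.node (.node (.leaf []) (.leaf [0, 1, 1, 2, 1, 0, 0, 2, 2, 1, 1, 1, 2, 1])) (.node (.leaf [1, 0, 0, 2, 0, 0, 0, 0, 0, 0, 0, 2]) (.leaf [2, 2, 2, 2, 0, 2, 1, 1, 1, 2, 1, 0, 1, 2]))) (.node (.node (.leaf [2, 1, 2, 0, 0, 2, 0, 1, 2, 1]) (.leaf [0, 0, 0, 0, 1, 2, 1, 0, 0, 2, 0, 2])) (.node (.leaf [0, 1, 0, 2, 0, 0, 0, 0, 0, 0, 0, 0, 1]) (.leaf [0, 0, 1, 2, 1, 1, 0, 0, 2, 1, 0, 1])))))) (.node (.node (.node (.node (.node (.node (.leaf []) (.leaf [2, 2, 2, 2, 1, 0, 2, 1, 0, 0, 0, 2, 0, 2])) (.leaf [])) (.node (.leaf [0, 0, 0, 1]) (.leaf [2, 1, 1, 1, 1, 1, 0, 2, 1, 2]))) (.node (.node (.leaf []) (.leaf [0, 2, 2, 2, 2, 1, 0, 0, 1, 2, 2, 0, 2, 1])) (.node (.leaf []) (.leaf [1, 0, 2, 1,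 2, 1, 1, 1, 0, 1, 1, 0, 1, 2])))) (.node (.node (.node (.leaf [2, 1, 0, 2, 2, 0, 0, 2, 2, 2, 1, 1, 0, 1]) (.leaf [1, 2, 2, 1, 1, 2, 0, 2, 0, 0, 0, 2, 0, 1])) (.node (.leaf [1, 2, 0, 1, 0, 0, 0, 0, 2]) (.leaf [1, 2, 0, 2, 1, 0, 0, 0, 0, 0, 2, 0, 2]))) (.node (.node (.leaf [0, 1, 0, 2, 0, 0, 0, 0, 0, 0, 0, 0, 2]) (.leaf [])) (.node (.leaf [2, 1, 0, 0, 0, 0, 0, 0, 1]) (.leaf [0, 2, 1, 2, 1, 0, 1, 1, 0, 0, 2, 0, 1, 1]))))) (.node (.node (.node (.node (.node (.leaf []) (.leaf [0, 0, 0, 1])) (.leaf [0, 0, 2, 1, 2, 1, 1, 0, 1, 0, 2])) (.node (.leaf [0, 0, 0, 1, 1, 0, 1, 2, 0, 2, 1, 1, 0, 1]) (.leaf [0, 2, 2, 1, 2, 2, 0, 0, 1, 2, 1, 2]))) (.node (.node (.leaf []) (.leaf [2, 0, 1, 2, 2, 2, 0, 2, 0, 2, 2, 1, 1, 1])) (.node (.leaf [0, 0, 0, 1]) (.leaf [1, 2, 2, 0, 0, 1, 0, 1, 0, 1, 0, 2, 2, 2])))) (.node (.node (.node (.leaf []) (.leaf [1, 1, 2, 0, 1, 0, 2, 1, 0, 0, 1, 0, 1, 1])) (.node (.leaf [0, 0, 0, 1])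 (.leaf [1, 2, 0, 1, 2, 2, 2, 2, 0, 2, 0, 2, 0, 1]))) (.node (.node (.leaf []) (.leaf [2, 1, 0, 0, 0, 0, 0, 0, 1])) (.node (.leaf [1, 2, 0, 1, 1, 2, 2, 0, 2, 0, 1, 1, 2]) (.leaf [1, 2, 0, 1, 1, 2, 2, 2, 1, 1, 1, 2, 2, 2])))))))))))

def threeL4 : Janko.Tree (List ℤ) :=
  (.node (.node (.node (.node (.node (.node (.node (.node (.node (.node (.node (.leaf []) (.leaf [1, 1, 2, 0, 1, 2, 0, 2, 0, 0, 0, 1, 0, 2])) (.leaf [0, 1, 0, 0, 1, 0, 1])) (.node (.leaf []) (.leaf []))) (.node (.node (.leaf [2, 1, 0, 1, 2, 2, 2, 0, 1, 0, 2, 2, 1, 2]) (.leaf [1, 2, 1, 1, 0, 2, 2, 0, 1, 1, 1, 2])) (.node (.leaf [2, 0, 2, 0, 0, 1]) (.leaf [2, 1, 1, 1, 2, 2, 2, 2, 0, 0, 2, 2, 2, 2])))) (.node (.node (.node (.node (.leaf []) (.leaf [0, 0, 1, 0, 0, 0, 2, 1, 0, 0, 0, 1])) (.leaf [1, 0, 2, 0, 1, 1, 1, 2, 0, 2, 2, 2])) (.node (.leaf [2, 1, 2, 0, 1, 1, 0, 1, 2, 0, 0, 2, 1, 1]) (.leaf [2, 0, 2, 1, 1, 1, 1, 0, 0, 2, 2, 2, 0, 2])))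 (.node (.node (.leaf []) (.leaf [])) (.node (.leaf [1, 2, 0, 1, 1, 2, 2, 2, 0, 0, 1, 2, 2]) (.leaf [1]))))) (.node (.node (.node (.node (.node (.leaf []) (.leaf [1, 1, 0, 0, 1, 0, 1])) (.leaf [2, 0, 2, 0, 0, 1])) (.node (.leaf [1, 0, 1, 0, 0, 2]) (.leaf [1, 2, 1, 1, 2, 2, 2, 0, 0, 0, 1, 0, 1]))) (.node (.node (.leaf [0, 1, 0, 0, 1, 0, 1]) (.leaf [1, 2, 0, 1, 2, 2, 2, 2, 0, 1, 0, 0, 1, 2])) (.node (.leaf []) (.leaf [2, 1, 1, 2, 2, 1, 0, 0, 1, 2, 0, 1, 2, 1])))) (.node (.node (.node (.leaf []) (.leaf [0, 0, 1, 0, 1, 0, 1, 2, 2, 0, 2, 0, 0, 2])) (.node (.leaf [0, 2, 2, 1, 1, 1, 2, 2, 2, 1, 2, 2, 0, 1]) (.leaf [0, 1, 0, 1, 1, 0, 2, 2, 0, 2, 2, 2, 0, 2]))) (.node (.node (.leaf []) (.leaf [])) (.node (.leaf [1, 1, 1, 2, 0, 2, 0, 0, 0, 1, 2, 0, 2, 2]) (.leaf [1, 2, 0, 2, 1, 0, 1, 2, 2, 0, 1, 0, 2, 2])))))) (.node (.node (.node (.node (.node (.node (.leaf []) (.leaf [2, 0, 0, 2, 0, 0, 2, 0, 1])) (.leaf [0,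 2, 0, 1, 2, 1, 2, 1, 2, 1, 0, 1])) (.node (.leaf [2, 2, 2, 1, 1, 0, 1, 1, 2, 2, 2, 0, 1, 1]) (.leaf [1, 2, 1, 0, 0, 1, 0, 1]))) (.node (.node (.leaf []) (.leaf [0, 0, 0, 0, 2, 1, 1, 2, 2, 0, 2, 1, 2, 2])) (.node (.leaf []) (.leaf [2, 0, 1, 0, 1, 1, 2, 1, 2, 1, 0, 1])))) (.node (.node (.node (.leaf []) (.leaf [2, 1, 1, 0, 2, 2, 1, 2, 2, 1, 0, 2, 0, 1])) (.node (.leaf [2, 2, 1, 2, 1, 0, 0, 0, 2, 0, 2, 0, 2, 1]) (.leaf []))) (.node (.node (.leaf [1]) (.leaf [1, 0, 1, 0, 1, 0, 1, 2, 2, 2, 0, 0, 1, 1])) (.node (.leaf [1, 2, 2, 0, 0, 2, 2, 0, 0, 2, 2, 1, 2, 2]) (.leaf [1, 1, 0, 1, 2, 0, 1, 0, 2]))))) (.node (.node (.node (.node (.node (.leaf []) (.leaf [1, 1, 0, 2, 0, 0, 0, 0, 2, 0, 1, 0, 1])) (.leaf [1, 2, 0, 0, 2, 0, 2, 0, 0, 2, 0, 1])) (.node (.leaf [1, 1, 0, 2, 0, 1, 1, 1, 1, 0, 0, 0, 1, 2]) (.leaf [0, 0, 2, 1, 2, 0, 0, 1, 0, 0, 1, 0, 1]))) (.node (.node (.leaf []) (.leaf [2, 2, 1, 0, 0, 2, 1, 0, 2,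 0, 0, 1])) (.node (.leaf [1]) (.leaf [2, 1, 0, 1, 0, 1, 0, 2, 1, 1, 1, 1, 0, 1])))) (.node (.node (.node (.leaf []) (.leaf [1, 1, 1, 0, 0, 0, 2, 1, 2, 2, 1, 2, 2])) (.node (.leaf [1, 2, 0, 1, 1, 0, 1, 0, 2]) (.leaf [0, 2, 0, 1, 0, 0, 0, 0, 1, 0, 2, 0, 2]))) (.node (.node (.leaf [0, 1, 1, 2, 2, 2, 1, 1, 0, 0, 1, 1, 1, 1]) (.leaf [0, 2, 0, 0, 2, 0, 2])) (.node (.leaf [0, 0, 0, 0, 1, 2, 1, 0, 2, 0, 0, 2, 0, 2]) (.leaf [2, 2, 0, 0, 2, 1, 2, 0, 0, 2, 0, 1, 1, 2]))))))) (.node (.node (.node (.node (.node (.node (.node (.leaf []) (.leaf [2, 1, 0, 0, 2, 0, 2, 0, 0, 1, 0, 0, 0, 2])) (.leaf [2, 1, 2, 1, 0, 0, 2, 2, 2, 2, 2, 1, 2, 2])) (.node (.leaf [0, 1, 0, 1, 2, 0, 0, 0, 2, 0, 0, 2, 0, 1]) (.leaf [2, 0, 2, 0, 1, 0, 1, 1]))) (.node (.node (.leaf [0, 1, 0, 2, 2, 0, 2, 0, 1]) (.leaf [1, 2, 0, 2, 2, 0, 0, 0, 2, 0, 1, 0, 1])) (.node (.leaf []) (.leaf [0, 0, 0, 0, 2, 1, 0, 2, 0, 2, 1, 1, 1, 2])))) (.node (.node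 (.node (.node (.leaf []) (.leaf [1, 0, 1, 1, 0, 0, 0, 0, 0, 2, 0, 1])) (.leaf [2, 0, 2, 0, 0, 1, 0, 0, 1, 1, 2, 2])) (.node (.leaf [0, 0, 0, 1, 0, 1, 2, 2, 2, 1, 0, 2]) (.leaf [2, 2, 2, 0, 2, 0, 0, 1, 1, 0, 2, 2, 0, 1]))) (.node (.node (.leaf []) (.leaf [1])) (.node (.leaf [2, 2, 1, 2, 0, 1, 1, 2, 0, 1, 1, 0, 2]) (.leaf [2, 1, 0, 1, 0, 1, 2, 1, 2, 0, 1, 1, 2, 1]))))) (.node (.node (.node (.node (.node (.leaf []) (.leaf [2, 0, 1, 0, 0, 2, 0, 0, 0, 2, 0, 1])) (.leaf [1, 1, 1, 1, 2, 2, 1, 2, 2, 2, 1, 2, 2, 2])) (.node (.leaf [2, 1, 1, 1, 0, 2, 1, 1, 0, 0, 1, 1, 2, 1]) (.leaf [2, 2, 0, 1, 1, 0, 2, 0, 0, 1, 0, 2, 2]))) (.node (.node (.leaf [2, 1, 2, 0, 0, 2, 0, 2]) (.leaf [2, 0, 2, 0, 1, 0, 1, 1, 2, 0, 1])) (.node (.leaf []) (.leaf [2, 1, 1, 2, 1, 1, 0, 2, 2, 1, 2, 1, 0, 1])))) (.node (.node (.node (.leaf [1]) (.leaf [1, 1, 1, 2, 0, 2, 1, 0, 2, 2, 0, 0, 2, 1])) (.node (.leaf [1]) (.leaf [2, 2, 1, 2, 0,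 0, 2, 2, 1]))) (.node (.node (.leaf []) (.leaf [2, 2, 0, 1, 0, 1, 1, 0, 2, 2, 0, 1, 1, 2])) (.node (.leaf [1, 1, 2, 1, 0, 1, 0, 0, 2]) (.leaf [0, 2, 1, 0, 1, 1, 2, 1])))))) (.node (.node (.node (.node (.node (.node (.leaf [1]) (.leaf [1, 0, 0, 0, 0, 0, 0, 0, 0, 2, 0, 1])) (.leaf [1, 0, 2, 1, 1, 0, 0, 0, 0, 0, 0, 2, 1, 2])) (.node (.leaf []) (.leaf [0, 2, 1, 2, 2, 0, 1, 2, 1, 1, 0, 1, 2, 2]))) (.node (.node (.leaf []) (.leaf [0, 0, 1, 0, 2, 2, 1, 0, 2, 0, 1])) (.node (.leaf [2, 0, 2, 0, 0, 1]) (.leaf [1, 1, 2, 0, 2, 2, 0, 1, 1, 2, 2, 2, 2])))) (.node (.node (.node (.leaf []) (.leaf [2, 1, 0, 0, 2, 1, 1, 0, 2, 2, 0, 1, 2, 2])) (.node (.leaf [2, 0, 1, 2, 0, 2, 2, 2, 1, 1]) (.leaf [0, 2, 1, 2, 2, 2, 2, 2, 1, 2, 1, 2, 2, 2]))) (.node (.node (.leaf [1, 2, 1, 2, 2, 1, 1, 0, 2, 0, 2, 2, 2, 2]) (.leaf [2, 0, 2, 1, 0, 1, 1, 1, 2, 2])) (.node (.leaf []) (.leaf [0, 1, 0, 0, 2, 1, 1, 0, 1, 0, 0, 1, 0, 1])))))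 (.node (.node (.node (.node (.node (.leaf []) (.leaf [1, 2, 0, 1, 1, 2, 2, 1, 0, 1, 0, 2])) (.leaf [2, 1, 0, 0, 0, 0, 2, 0, 1, 0, 0, 2])) (.node (.leaf [1, 1, 1, 0, 2, 1, 2, 2, 0, 0, 1, 1, 2, 2]) (.leaf [0, 2, 1, 2, 2, 2, 1, 1, 1, 2, 1, 2, 0, 1]))) (.node (.node (.leaf [1, 2, 0, 2, 0, 1, 0, 1, 0, 1, 1, 2, 2, 1]) (.leaf [0, 0, 0, 0, 1, 1, 0, 2, 0, 0, 2, 1, 1, 2])) (.node (.leaf [0, 2, 0, 1, 2, 0, 0, 0, 2]) (.leaf [1, 2, 2, 1, 0, 0, 0, 0, 2, 2, 0, 1])))) (.node (.node (.node (.leaf [2, 0, 0, 1, 1, 2, 2, 0, 0, 0, 1, 2, 0, 2]) (.leaf [2, 2, 1, 2, 2, 2, 1, 2, 0, 2, 2, 1, 1, 1])) (.node (.leaf [1, 2, 0, 0, 2, 0, 2]) (.leaf [0, 1, 1, 1, 1, 1, 2, 1, 2]))) (.node (.node (.leaf [2, 1, 2, 1, 2, 1, 0, 0, 1, 1, 2, 0, 2, 2]) (.leaf [1, 1, 0, 0, 2])) (.node (.leaf [2, 0, 2, 2, 1, 1, 1, 0, 1]) (.leaf [0, 2, 1, 0, 0, 2, 0, 0, 1, 1, 1, 2, 1])))))))) (.node (.node (.node (.node (.node (.node (.node (.node (.leaf [])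 (.leaf [1, 1, 0, 2, 1, 2, 1, 2, 1, 2, 0, 2])) (.leaf [0, 1, 1, 0, 0, 2, 2])) (.node (.leaf [2, 0, 2, 2, 0, 0, 2, 2, 1, 0, 2, 1, 2, 1]) (.leaf [2, 0, 1, 0, 0, 2, 0, 1, 1, 0, 0, 1, 0, 1]))) (.node (.node (.leaf [1, 1, 0, 1, 0, 0, 0, 0, 2]) (.leaf [2, 0, 2, 2, 0, 0, 2, 1, 2, 1, 2, 0, 0, 2])) (.node (.leaf []) (.leaf [1, 0, 2, 0, 2, 1, 2, 0, 2, 2, 0, 0, 1, 1])))) (.node (.node (.node (.node (.leaf [0, 1, 0, 2, 0, 0, 1, 0, 1]) (.leaf [2, 2, 2, 2, 1, 0, 2, 2, 1, 1, 2, 0, 0, 2])) (.leaf [2, 2, 2, 0, 1, 2, 1, 2, 2, 0, 0, 1, 1, 2])) (.node (.leaf [0, 2, 2, 1, 2, 0, 2, 2, 1, 1, 1, 1, 1]) (.leaf [1, 2, 2, 0, 0, 1, 0, 2, 0, 0, 2, 1]))) (.node (.node (.leaf [2, 2, 2, 2, 2, 0, 2, 2, 1, 2, 1, 1, 0, 2]) (.leaf [1, 1, 0, 2, 2, 1, 2, 1, 0, 1, 1, 2, 2, 1])) (.node (.leaf []) (.leaf [1, 1, 0, 1, 0, 0, 0, 0, 2]))))) (.node (.node (.node (.node (.node (.leaf []) (.leaf [0, 0, 0, 1, 1, 2, 1, 1, 0, 1])) (.leaf [])) (.node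 (.leaf [2, 2, 0, 1, 1, 1, 0, 0, 0, 2]) (.leaf [2, 2, 1, 1, 1, 1, 1, 1, 2, 2, 2, 0, 1, 1]))) (.node (.node (.leaf [1, 1, 0, 1, 0, 0, 0, 0, 0, 0, 2]) (.leaf [2, 1, 1, 2, 1, 2, 0, 2, 0, 0, 2, 0, 1, 1])) (.node (.leaf []) (.leaf [2, 2, 2, 1, 1, 0, 2, 1, 2, 2, 0, 1])))) (.node (.node (.node (.leaf []) (.leaf [0, 0, 0, 1, 1, 0, 2, 2, 2, 1, 0, 2, 1, 1])) (.node (.leaf [1, 2, 0, 2, 2, 0, 0, 2, 0, 1, 0, 0, 2, 2]) (.leaf [1, 2, 1, 1, 1, 0, 2, 2, 2, 2, 0, 1]))) (.node (.node (.leaf []) (.leaf [])) (.node (.leaf [1, 0, 0, 1, 2, 0, 2, 0, 2]) (.leaf [2, 0, 2, 0, 0, 0, 1, 0, 2, 0, 0, 1])))))) (.node (.node (.node (.node (.node (.node (.leaf [2, 2, 0, 2, 0, 0, 0, 0, 1]) (.leaf [1, 0, 0, 0, 0, 0, 0, 2, 0, 1, 1, 2, 1, 1])) (.leaf [2, 0, 0, 2, 1, 0, 2, 0, 1, 2, 0, 2, 0, 2])) (.node (.leaf [1, 1, 0, 1, 0, 0, 0, 0, 2]) (.leaf [2, 2, 0, 1, 2, 2, 0, 2, 0, 1, 2, 2, 1, 2]))) (.node (.node (.leaf []) (.leaf [0, 0, 0, 2, 1,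 1, 1, 0, 2, 1, 1, 1, 2])) (.node (.leaf [2, 2, 0, 2, 0, 0, 0, 0, 1]) (.leaf [1, 1, 2, 1, 0, 2, 0, 0, 0, 0, 2, 1, 1, 1])))) (.node (.node (.node (.leaf [2, 0, 0, 1, 2, 1, 0, 1, 1, 0, 0, 2, 0, 2]) (.leaf [1, 2, 0, 1, 1, 0, 1, 1, 2, 2, 2, 1, 0, 1])) (.node (.leaf [2, 1, 0, 0, 0, 0, 2]) (.leaf [1]))) (.node (.node (.leaf []) (.leaf [])) (.node (.leaf [1]) (.leaf [1, 0, 0, 1, 1, 0, 1, 0, 0, 0, 0, 0, 2]))))) (.node (.node (.node (.node (.node (.leaf []) (.leaf [2, 0, 2, 2, 2, 0, 1, 0, 2, 2, 0, 0, 1, 2])) (.leaf [])) (.node (.leaf [1]) (.leaf [2, 0, 1, 2, 0, 1, 0, 0, 0, 0, 0, 1]))) (.node (.node (.leaf [2, 2, 1, 0, 0, 1, 0, 1]) (.leaf [0, 0, 2, 2, 0, 1, 1, 1, 2, 1, 1, 0, 0, 1])) (.node (.leaf [1, 0, 1, 0, 0, 2]) (.leaf [0, 2, 0, 0, 1, 1, 2, 2, 1, 0, 2, 0, 1])))) (.node (.node (.node (.leaf [0, 0, 0, 0, 0, 0, 0, 0, 0, 2, 0, 1]) (.leaf [1, 0, 0, 0, 1, 0, 1, 1, 2, 0, 1, 1, 0, 1])) (.node (.leaf [0, 2, 1, 0,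 2, 1, 1, 2, 0, 2, 2, 1, 2, 2]) (.leaf [0, 2, 0, 2, 2, 1, 2, 1, 2, 1, 0, 2, 1, 1]))) (.node (.node (.leaf [1, 1, 2, 2, 2, 1, 1, 1, 2, 0, 2, 1, 1, 1]) (.leaf [0, 2, 1, 1, 1, 2, 1, 2, 0, 1])) (.node (.leaf [1, 1, 1, 0, 2, 1, 2, 0, 1, 0, 2, 1, 2]) (.leaf [1, 1, 2, 2, 0, 2, 2, 0, 0, 0, 2, 1, 0, 1]))))))) (.node (.node (.node (.node (.node (.node (.node (.leaf []) (.leaf [1, 2, 0, 0, 0, 2, 0, 0, 0, 2, 0, 2, 2])) (.leaf [0, 2, 1, 0, 0, 0, 1, 2])) (.node (.leaf []) (.leaf [0, 1, 2, 2, 2, 2, 2, 1, 2, 2, 2, 1, 2, 1]))) (.node (.node (.leaf []) (.leaf [1, 1, 0, 1, 2, 0, 2, 0, 2, 2, 1, 0, 2, 1])) (.node (.leaf []) (.leaf [0, 2, 0, 2, 0, 0, 0, 0, 0, 0, 0, 1, 1, 2])))) (.node (.node (.node (.node (.leaf []) (.leaf [1, 0, 0, 0, 0, 0, 0, 2, 1, 1, 2, 1, 1])) (.leaf [1])) (.node (.leaf [2, 1, 1, 2, 2, 1, 2, 1, 1, 0, 1, 0, 1, 1]) (.leaf [2, 2, 0, 0, 0, 0, 1]))) (.node (.node (.leaf [2, 2, 0, 2, 0, 0, 0, 0, 1]) (.leaf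 [2, 2, 1, 2, 0, 0, 0, 1, 0, 1, 1, 2, 2, 1])) (.node (.leaf []) (.leaf [2, 2, 0, 1, 0, 1, 0, 0, 1, 2, 0, 2]))))) (.node (.node (.node (.node (.node (.leaf []) (.leaf [2, 1, 0, 0, 2, 0, 2, 0, 2, 0, 0, 0, 1])) (.leaf [2, 0, 2, 2, 2, 1, 0, 1, 0, 0, 1, 0, 2, 1])) (.node (.leaf [2, 0, 1, 1, 2, 2, 2, 0, 2]) (.leaf [0, 1, 0, 1, 2, 2, 1, 0, 0, 1, 0, 0, 1]))) (.node (.node (.leaf []) (.leaf [0, 1, 1, 1, 2, 1, 2, 1, 0, 2, 0, 2, 1])) (.node (.leaf [1, 1, 0, 0, 2]) (.leaf [2, 2, 1, 0, 0, 2, 1, 0, 2, 0, 0, 1, 1, 2])))) (.node (.node (.node (.leaf []) (.leaf [0, 1, 0, 2, 2, 1, 1, 2, 2, 0, 2, 1, 0, 2])) (.node (.leaf [0, 0, 0, 1, 0, 1, 0, 0, 0, 0, 0, 2]) (.leaf [0, 1, 1, 0, 1, 1, 1, 0, 2, 1, 0, 2, 0, 1]))) (.node (.node (.leaf [0, 0, 1, 0, 0, 1, 2, 1]) (.leaf [2, 1, 2, 2, 1, 2, 2, 1, 2, 2, 2, 0, 2, 2])) (.node (.leaf [2, 1, 0, 1, 1, 0, 1, 2, 1, 1, 1, 2, 2, 1]) (.leaf [1, 1, 0, 2, 1, 2, 2, 2, 0, 1, 0, 1, 2]))))))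 (.node (.node (.node (.node (.node (.node (.leaf [1, 0, 1, 0, 0, 2]) (.leaf [1, 2, 0, 0, 2, 0, 2])) (.leaf [])) (.node (.leaf [1, 0, 0, 0, 2, 2, 2, 2, 0, 2]) (.leaf [2, 0, 1, 1, 2, 2, 1, 0, 1, 2, 2, 0, 2, 1]))) (.node (.node (.leaf []) (.leaf [2, 0, 0, 0, 0, 2, 1, 1, 2, 0, 1, 2, 1, 2])) (.node (.leaf []) (.leaf [0, 2, 2, 0, 2, 1, 2])))) (.node (.node (.node (.leaf [1, 2, 1, 1, 1, 1, 1, 0, 2, 0, 1, 1, 1]) (.leaf [2, 1, 0, 2, 1, 0, 0, 0, 1])) (.node (.leaf [0, 0, 0, 2, 0, 2, 0, 0, 0, 0, 0, 1]) (.leaf [2, 2, 0, 0, 0, 1, 2, 2, 2, 1, 0, 0, 1, 2]))) (.node (.node (.leaf [1]) (.leaf [0, 1, 0, 1, 1, 0, 1, 0, 0, 0, 2, 2, 0, 1])) (.node (.leaf [1, 1, 2, 2, 1, 2, 2, 1, 2, 2, 2, 0, 2, 2]) (.leaf [2, 1, 1, 0, 2, 1, 0, 1, 1, 0, 2, 1, 2, 2]))))) (.node (.node (.node (.node (.node (.leaf []) (.leaf [1, 2, 1, 0, 1, 0, 0, 2, 0, 0, 0, 2, 1, 2])) (.leaf [0, 2, 0, 2, 0, 0, 0, 0, 0, 0, 1])) (.node (.leaf [0, 0, 0, 0,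 0, 0, 0, 0, 0, 1, 0, 2]) (.leaf [1, 0, 0, 2, 2, 0, 2, 0, 0, 0, 0, 0, 1]))) (.node (.node (.leaf []) (.leaf [1, 0, 0, 1, 0, 2, 1, 2, 1, 1, 1, 2, 1, 2])) (.node (.leaf []) (.leaf [1, 2, 1, 0, 0, 1, 0, 0, 0, 2, 2, 0, 0, 2])))) (.node (.node (.node (.leaf [1, 0, 0, 2, 1, 2, 2, 2, 2, 1, 0, 2, 0, 2]) (.leaf [0, 2, 2, 0, 1, 0, 2, 1])) (.node (.leaf []) (.leaf [0, 2, 1, 1, 1, 2, 2, 2, 0, 0, 2, 2, 2, 2]))) (.node (.node (.leaf [1, 2, 1, 0, 0, 1, 1, 0, 1, 2, 0, 2, 1]) (.leaf [1, 1, 0, 0, 0, 1, 0, 2])) (.node (.leaf []) (.leaf [1, 1, 2, 0, 1, 2, 0, 0, 2, 0, 0, 1, 2, 1]))))))))) (.node (.node (.node (.node (.node (.node (.node (.node (.node (.leaf [1]) (.leaf [0, 0, 0, 1, 1, 2, 1, 1, 1, 0, 1, 2, 0, 1])) (.leaf [])) (.node (.leaf []) (.leaf [0, 1, 0, 2, 0, 0, 1, 0, 1]))) (.node (.node (.leaf [1]) (.leaf [0, 1, 1, 2, 2, 2, 1, 2, 2, 1, 2, 2, 2, 1])) (.node (.leaf [2, 2, 0, 2, 0, 0, 0, 0, 1]) (.leaf [1, 1, 1, 0,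 1, 1, 1, 1, 0, 2, 1, 1, 2])))) (.node (.node (.node (.node (.leaf []) (.leaf [2, 1, 0, 2, 0, 1, 2, 1, 2, 2, 1, 0, 2, 1])) (.leaf [2, 2, 0, 2, 1, 2, 1, 0, 1, 1])) (.node (.leaf [0, 1, 2, 1, 2, 2, 1, 1, 2, 2, 1, 0, 1, 2]) (.leaf [1, 1, 2, 2, 1, 2, 2, 2, 1, 1, 0, 0, 0, 2]))) (.node (.node (.leaf [1]) (.leaf [0, 2, 1, 1, 1, 2, 0, 1, 0, 2, 0, 1, 1, 1])) (.node (.leaf [2, 2, 0, 1, 1, 0, 1, 0, 2, 2, 0, 1]) (.leaf [0, 0, 0, 2, 2, 0, 2, 0, 2, 0, 1, 0, 1]))))) (.node (.node (.node (.node (.node (.leaf []) (.leaf [0, 1, 2, 0, 1, 1, 1, 0, 1, 0, 1, 1, 1, 2])) (.leaf [1, 1, 0, 0, 1, 1, 0, 0, 0, 1, 1, 1])) (.node (.leaf []) (.leaf [1]))) (.node (.node (.leaf []) (.leaf [0, 2, 2, 2, 0, 0, 0, 1, 0, 2, 0, 0, 1, 1])) (.node (.leaf [1, 0, 0, 0, 0, 0, 0, 0, 0, 1, 0, 2]) (.leaf [1, 0, 2, 0, 1, 1, 2])))) (.node (.node (.node (.leaf []) (.leaf [2, 1, 0, 0, 0, 0, 1, 1, 0, 0, 1, 0, 1, 1])) (.node (.leaf [1, 1, 0, 2, 2, 2,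 0, 1, 1, 2, 1, 2, 0, 1]) (.leaf []))) (.node (.node (.leaf []) (.leaf [1, 0, 2, 2, 0, 1, 0, 1, 0, 1, 1, 2, 1, 2])) (.node (.leaf [2, 1, 0, 2, 2, 0, 2, 0, 1, 1, 0, 2]) (.leaf [1, 1, 0, 2, 0, 0, 0, 0, 2, 0, 1, 0, 1])))))) (.node (.node (.node (.node (.node (.node (.leaf [2, 2, 0, 0, 1]) (.leaf [0, 1, 0, 2, 2, 0, 1, 2, 1, 2, 0, 1, 0, 2])) (.leaf [1])) (.node (.leaf [1]) (.leaf [2, 0, 0, 0, 1, 0, 0, 1, 1, 2]))) (.node (.node (.leaf []) (.leaf [0, 1, 2, 0, 2, 1, 0, 1, 2, 1, 2, 0, 0, 1])) (.node (.leaf [2, 2, 0, 0, 1]) (.leaf [0, 2, 0, 1, 0, 0, 0, 0, 1, 0, 2, 0, 2])))) (.node (.node (.node (.leaf []) (.leaf [0, 0, 2, 1, 1, 2, 0, 2, 1, 2, 2, 0, 1, 1])) (.node (.leaf [1, 2, 1, 2, 1, 2, 1, 1, 0, 0, 0, 0, 0, 1]) (.leaf [2, 0, 1, 1, 0, 0, 0, 0, 0, 0, 0, 2]))) (.node (.node (.leaf [2, 2, 2, 1, 2, 2, 1, 0, 2, 2, 2, 1, 2, 2]) (.leaf [1, 1, 0, 1, 0, 2, 0, 1, 1, 2, 1, 2, 1, 1])) (.node (.leaf [0, 0, 2, 0, 0, 1])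 (.leaf [0, 1, 0, 0, 2, 1, 0, 0, 1, 2, 1, 0, 2]))))) (.node (.node (.node (.node (.node (.leaf []) (.leaf [1, 1, 0, 1, 1, 1, 1, 0, 0, 0, 0, 2])) (.leaf [0, 0, 2, 2, 0, 0, 0, 0, 0, 0, 0, 1])) (.node (.leaf [1, 2, 2, 2, 0, 1, 1, 2, 1, 0, 1, 1, 2, 1]) (.leaf [0, 0, 2, 0, 0, 1]))) (.node (.node (.leaf []) (.leaf [0, 2, 1, 1, 1, 0, 1, 1, 0, 2, 2, 2, 2])) (.node (.leaf []) (.leaf [2, 0, 1, 2, 1, 0, 2, 2, 1, 1, 0, 1, 2, 2])))) (.node (.node (.node (.leaf [2, 2, 0, 2, 0, 0, 0, 0, 1]) (.leaf [1, 1, 1, 0, 2, 1, 2, 1])) (.node (.leaf [1, 1, 2, 2, 1, 2, 0, 0, 2, 0, 2, 1, 1, 1]) (.leaf [1, 0, 2, 0, 0, 2, 2, 1, 1, 2, 0, 2]))) (.node (.node (.leaf [0, 1, 2, 2, 2, 0, 1, 2, 1, 0, 0, 2, 1]) (.leaf [1, 0, 2, 2, 1, 0, 2, 0, 0, 0, 2, 2, 1, 2])) (.node (.leaf [1, 2, 2, 2, 2, 2, 2, 2, 1, 1, 2, 1, 0, 1]) (.leaf [0, 0, 0, 2, 2, 2, 1, 2, 2, 2, 1, 0, 0, 1]))))))) (.node (.node (.node (.node (.node (.node (.node (.leaf []) (.leaf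 [0, 0, 0, 0, 1, 1, 1, 1, 0, 1])) (.leaf [1, 2, 0, 2, 2, 0, 1, 1, 0, 2, 1, 0, 1])) (.node (.leaf [1, 0, 2, 1, 2, 2, 1, 1, 0, 1, 2, 1, 0, 1]) (.leaf [0, 2, 2, 1, 0, 1, 1, 2, 0, 1, 2, 2, 2, 1]))) (.node (.node (.leaf []) (.leaf [1, 1, 1, 0, 2, 0, 2, 2, 2, 0, 2, 2, 2, 1])) (.node (.leaf []) (.leaf [2, 0, 1, 0, 2, 0, 1, 1, 0, 1, 0, 1, 0, 2])))) (.node (.node (.node (.node (.leaf [1, 1, 0, 1, 0, 0, 0, 0, 0, 0, 2]) (.leaf [2, 1, 2, 1, 1, 1, 0, 1, 1, 1, 2, 1, 0, 1])) (.leaf [1, 1, 1, 0, 2, 1, 1, 2, 2, 1, 0, 1])) (.node (.leaf [1, 1, 0, 1, 1, 2, 1, 0, 0, 1, 0, 1]) (.leaf [1]))) (.node (.node (.leaf []) (.leaf [])) (.node (.leaf [1, 0, 0, 2, 1, 2, 2, 2, 1, 1, 0, 0, 1, 1]) (.leaf [0, 1, 2, 0, 1, 1, 1, 1, 2, 1, 1, 1, 1]))))) (.node (.node (.node (.node (.node (.leaf []) (.leaf [1, 0, 0, 1, 1, 0, 1, 2, 0, 0, 0, 0, 0, 2])) (.leaf [2, 2, 0, 2, 2, 1, 2, 0, 0, 2, 0, 2])) (.node (.leaf [1, 0, 1, 1, 2, 1, 2, 2, 1,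 1, 2, 1]) (.leaf [1, 0, 2, 2, 2, 0, 1, 1, 2, 2, 2, 1, 1, 2]))) (.node (.node (.leaf []) (.leaf [1, 0, 2, 1, 0, 1, 1, 1, 2, 0, 2, 0, 2, 2])) (.node (.leaf []) (.leaf [1, 1, 0, 2, 1, 2, 1, 0, 0, 2, 0, 2])))) (.node (.node (.node (.leaf [0, 2, 1, 1, 2, 2, 1, 2, 1, 0, 1, 2, 2, 2]) (.leaf [1, 1, 1, 0, 2, 1, 1, 0, 1, 0, 1, 1])) (.node (.leaf [1, 2, 1, 2, 0, 0, 1, 1, 1, 1, 2, 1, 0, 2]) (.leaf [1, 1, 2, 0, 0, 0, 2, 1]))) (.node (.node (.leaf [2, 0, 2, 1, 1, 1, 1, 0, 2, 1, 2, 1, 1, 1]) (.leaf [0, 0, 2, 2, 2, 1, 2, 1, 1, 1, 1, 2, 0, 2])) (.node (.leaf [0, 2, 2, 0, 0, 1, 1, 0, 1, 1, 1, 0, 1, 2]) (.leaf [0, 0, 1, 1, 2, 2, 0, 0, 0, 0, 0, 0, 2])))))) (.node (.node (.node (.node (.node (.node (.leaf []) (.leaf [0, 0, 0, 2, 1, 0, 2, 0, 1, 1, 1, 2, 2])) (.leaf [1, 2, 2, 2, 1, 2, 1, 2, 0, 0, 2, 0, 2])) (.node (.leaf [1]) (.leaf []))) (.node (.node (.leaf []) (.leaf [0, 2, 2, 0, 0, 1, 1])) (.node (.leaf [2, 2, 0, 2,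 0, 0, 0, 0, 1]) (.leaf [0, 1, 2, 2, 0, 2, 0, 2, 2, 2, 1, 0, 0, 2])))) (.node (.node (.node (.leaf [1, 2, 1, 0, 0, 1, 0, 1]) (.leaf [2, 0, 0, 2, 1, 0, 0, 0, 2, 0, 1, 0, 1])) (.node (.leaf [2, 0, 0, 1, 0, 0, 1, 0, 2]) (.leaf []))) (.node (.node (.leaf [0, 0, 2, 2, 0, 1, 2, 0, 1, 1, 2, 0, 1, 2]) (.leaf [1, 2, 2, 1, 0, 2, 2, 0, 0, 1, 0, 1])) (.node (.leaf [0, 0, 2, 0, 0, 2, 1, 2]) (.leaf [1, 2, 0, 0, 1, 1, 1, 2]))))) (.node (.node (.node (.node (.node (.leaf []) (.leaf [0, 1, 1, 0, 0, 2, 0, 1, 2, 1, 1, 2, 0, 1])) (.leaf [1])) (.node (.leaf [0, 2, 1, 2, 1, 1, 2, 2, 2, 2]) (.leaf [0, 1, 1, 0, 2, 0, 1, 2, 2, 0, 2, 0, 0, 2]))) (.node (.node (.leaf []) (.leaf [1, 1, 1, 0, 2, 1, 1, 2, 2, 1, 1, 0, 1, 1])) (.node (.leaf [1, 1, 1, 1, 0, 1, 2, 2, 1, 0, 0, 0, 2, 2]) (.leaf [1, 0, 0, 1, 2, 0, 2, 0, 2])))) (.node (.node (.node (.leaf []) (.leaf [2, 1, 2, 1, 0, 0, 0, 0, 2, 2, 0, 0, 2, 2])) (.node (.leaf []) (.leaf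 []))) (.node (.node (.leaf [2, 2, 0, 0, 1]) (.leaf [])) (.node (.leaf [2, 2, 2, 2, 0, 1, 0, 0, 1]) (.leaf [1, 2, 0, 1, 1, 2, 2, 0, 2, 1, 0, 2, 2, 1])))))))) (.node (.node (.node (.node (.node (.node (.node (.node (.leaf []) (.leaf [2, 2, 0, 1, 0, 1, 1, 2, 1, 0, 1, 1, 2, 1])) (.leaf [0, 1, 1, 0, 2, 0, 1, 2])) (.node (.leaf [2, 0, 2, 2, 1, 2, 0, 1, 1, 2, 0, 0, 2, 2]) (.leaf [1]))) (.node (.node (.leaf []) (.leaf [2, 2, 0, 2, 0, 0, 2, 0, 0, 0, 0, 0, 1])) (.node (.leaf []) (.leaf [0, 1, 0, 2, 2, 1, 1, 1, 1, 1, 0, 1, 2, 2])))) (.node (.node (.node (.node (.leaf [0, 1, 0, 0, 1, 0, 1]) (.leaf [2, 2, 2, 0, 0, 0, 0, 2])) (.leaf [1, 0, 0, 2, 1, 2, 2, 0, 1, 1, 0, 2, 2, 1])) (.node (.leaf []) (.leaf [1, 1, 1, 2, 0, 2, 1, 2, 1, 2, 1, 1, 1, 1]))) (.node (.node (.leaf []) (.leaf [1, 0, 2, 2, 2, 2, 0, 0, 0, 2, 2, 1, 0, 2])) (.node (.leaf [1, 1, 0, 1, 2, 1, 2, 2, 2, 1, 1, 1]) (.leaf [1, 0, 1, 2, 0, 0, 1, 2, 2, 0,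 2]))))) (.node (.node (.node (.node (.node (.leaf []) (.leaf [2, 0, 0, 1, 0, 2, 1, 2, 1, 2, 0, 2, 1, 2])) (.leaf [1, 0, 1, 1, 2, 1, 0, 2, 1, 0, 1, 1, 1, 1])) (.node (.leaf [0, 1, 1, 0, 0, 2, 2]) (.leaf [1, 1, 2, 2, 2, 1, 1, 2, 1, 0, 0, 0, 1, 2]))) (.node (.node (.leaf []) (.leaf [0, 2, 0, 2, 0, 1, 1, 1, 2, 1, 0, 2, 1, 1])) (.node (.leaf []) (.leaf [2, 2, 2, 1, 0, 0, 0, 0, 2, 1, 2, 0, 2, 1])))) (.node (.node (.node (.leaf []) (.leaf [2, 1, 2, 2, 2, 2, 2, 2, 2, 2, 2, 0, 0, 1])) (.node (.leaf [2, 1, 2, 2, 2, 2, 1, 1, 1, 2, 2, 1, 0, 1]) (.leaf [1]))) (.node (.node (.leaf [1, 0, 0, 1, 2, 0, 2, 0, 2]) (.leaf [1])) (.node (.leaf [2, 1, 1, 2, 2, 1, 0, 0, 2, 0, 0, 2, 1, 2]) (.leaf [1, 1, 1, 2, 2, 0, 1, 2, 2, 2, 1, 1])))))) (.node (.node (.node (.node (.node (.node (.leaf []) (.leaf [1, 0, 2, 1, 1, 2, 2, 2, 0, 0, 0, 0, 2])) (.leaf [1, 2, 2, 0, 2, 0, 1, 1, 1, 0, 2, 0, 2, 1])) (.node (.leaf []) (.leaf [2, 2,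 0, 1, 1, 0, 2, 0, 2, 1, 0, 0, 0, 2]))) (.node (.node (.leaf []) (.leaf [0, 0, 2, 0, 0, 1])) (.node (.leaf [0, 1, 2, 2, 1, 0, 1, 1, 1, 0, 0, 2, 0, 1]) (.leaf [0, 2, 0, 0, 1])))) (.node (.node (.node (.leaf []) (.leaf [1, 1, 2, 2, 0, 0, 0, 1, 1, 0, 0, 0, 1, 2])) (.node (.leaf [1, 1, 0, 1, 2, 1, 0, 2, 0, 0, 2, 1, 0, 2]) (.leaf [2, 0, 1, 0, 1, 2, 0, 1, 0, 1, 2, 1, 0, 2]))) (.node (.node (.leaf [0, 1, 0, 1, 0, 1, 2, 2, 0, 0, 2, 1, 0, 2]) (.leaf [])) (.node (.leaf []) (.leaf [2, 1, 1, 1, 1, 0, 2, 0, 1, 1, 0, 1, 2]))))) (.node (.node (.node (.node (.node (.leaf []) (.leaf [1, 2, 0, 1, 0, 0, 2, 0, 2])) (.leaf [2, 2, 2, 2, 1, 1, 0, 1, 0, 1, 2, 2, 0, 2])) (.node (.leaf [2, 0, 0, 2, 1, 0, 1, 0, 1]) (.leaf [2, 0, 0, 2, 0, 0, 2, 0, 1]))) (.node (.node (.leaf [2, 2, 2, 1, 1, 0, 1, 0, 1, 0, 2, 1, 1]) (.leaf [1, 0, 0, 1, 2, 0, 2, 0, 1, 0, 1])) (.node (.leaf []) (.leaf [1])))) (.node (.node (.node (.leaf [1]) (.leaf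 [1, 1, 2, 2, 1, 1, 2, 1, 2, 1, 0, 1])) (.node (.leaf [2, 2, 2, 2, 1, 1, 1, 0, 2, 1, 1, 2, 1]) (.leaf [2, 0, 2, 0, 0, 1, 2, 0, 1, 0, 2, 2, 0, 1]))) (.node (.node (.leaf []) (.leaf [])) (.node (.leaf [2, 0, 2, 0, 0, 1]) (.leaf [0, 0, 0, 1, 2, 1, 1, 2, 1, 2, 1, 2, 0, 2]))))))) (.node (.node (.node (.node (.node (.node (.node (.leaf []) (.leaf [2, 1, 2, 1, 1, 1, 0, 1, 1, 2, 2, 0, 1, 1])) (.leaf [])) (.node (.leaf [2, 0, 1, 2, 0, 2, 1, 0, 1, 1, 1, 0, 2, 2]) (.leaf [1, 1, 0, 1, 0, 2, 2, 2, 1, 2, 1, 0, 1]))) (.node (.node (.leaf []) (.leaf [1, 0, 0, 0, 0, 1, 0, 0, 2, 1, 0, 1])) (.node (.leaf [0, 0, 0, 0, 0, 2, 1, 1, 2, 0, 1, 2, 0, 1]) (.leaf [2, 1, 1, 2, 2, 1, 2, 0, 0, 0, 2, 1, 1])))) (.node (.node (.node (.leaf [2, 1, 2, 0, 0, 2, 0, 2]) (.leaf [1, 0, 1, 1, 0, 0, 0, 0, 0, 2, 2, 1, 1, 2])) (.node (.leaf [0, 2, 0, 2, 0, 0, 0, 0, 1]) (.leaf [1, 1, 0, 0, 0, 2, 2, 2, 2, 1, 1, 2, 0, 1]))) (.node (.node (.leaf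 [1, 0, 0, 0, 0, 0, 0, 0, 0, 2, 0, 1]) (.leaf [0, 0, 0, 0, 1, 1, 1, 2, 1, 1, 0, 2, 0, 2])) (.node (.leaf [0, 1, 1, 1, 1, 1, 0, 1, 0, 1, 2, 0, 0, 2]) (.leaf [0, 2, 1, 0, 1, 1, 0, 2, 1, 2]))))) (.node (.node (.node (.node (.node (.leaf [2, 1, 0, 2, 2, 0, 2, 0, 1]) (.leaf [0, 1, 2, 0, 2, 1, 0, 2, 0, 0, 1, 0, 0, 2])) (.leaf [])) (.node (.leaf [2, 2, 0, 2, 0, 0, 1, 1, 2, 1, 2, 2, 1, 2]) (.leaf [0, 2, 0, 0, 1]))) (.node (.node (.leaf [2, 1, 2, 0, 1, 1, 0, 1, 0, 2, 1, 1, 0, 2]) (.leaf [1, 0, 1, 1, 2, 1, 0, 0, 1, 2, 0, 2])) (.node (.leaf [1, 2, 0, 1, 1, 2, 1, 2, 1, 2, 1, 1, 1, 2]) (.leaf [1, 1, 2, 2, 0, 2, 1, 2, 0, 1, 2, 2, 1, 1])))) (.node (.node (.node (.leaf []) (.leaf [2, 0, 0, 0, 0, 2, 1, 0, 2, 0, 0, 1])) (.node (.leaf [2, 0, 2, 1, 0, 2, 0, 0, 0, 0, 0, 2]) (.leaf [1, 0, 0, 2, 1, 1, 1, 0, 1, 1, 1, 2, 0, 2]))) (.node (.node (.leaf [0, 2, 0, 0, 0, 2, 0, 1]) (.leaf [0, 1, 0, 1, 2, 2, 1, 1, 1, 2, 0, 0, 1,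 1])) (.node (.leaf [2, 2, 0, 1, 2, 0, 0, 0, 2]) (.leaf [1, 0, 2, 1, 0, 0, 0, 0, 1, 0, 1, 1, 0, 1])))))) (.node (.node (.node (.node (.node (.node (.leaf []) (.leaf [1, 0, 2, 2, 2, 2, 0, 0, 0, 1, 2, 2, 0, 2])) (.leaf [1, 1, 1, 1, 0, 1, 0, 2, 2, 1, 0, 2, 1, 2])) (.node (.leaf [0, 2, 1, 0, 0, 0, 1, 1, 2, 2, 1, 1, 2, 1]) (.leaf [1, 1, 0, 0, 1, 0, 1, 0, 0, 1, 0, 2]))) (.node (.node (.leaf [0, 1, 0, 2, 0, 0, 1, 0, 1]) (.leaf [0, 1, 1, 1, 0, 0, 0, 2, 0, 1, 0, 0, 2, 2])) (.node (.leaf []) (.leaf [2, 1, 0, 2, 0, 2, 2, 0, 2, 2, 1, 2])))) (.node (.node (.node (.leaf [0, 1, 0, 1, 1, 1, 1, 1, 0, 1, 1, 2, 0, 1]) (.leaf [2, 1, 0, 1, 1, 0, 0, 0, 1, 0, 2, 0, 2])) (.node (.leaf [0, 1, 1, 2, 2, 2, 2, 1, 2, 0, 2, 2, 0, 2]) (.leaf [1]))) (.node (.node (.leaf [1, 1, 0, 1, 0, 0, 0, 0, 2]) (.leaf [])) (.node (.leaf [1]) (.leaf [2, 0, 0, 1, 2, 0, 2, 1, 2, 2]))))) (.node (.node (.node (.node (.node (.leaf []) (.leaf [1, 2,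 0, 1, 0, 0, 2, 0, 2])) (.leaf [1, 0, 1, 0, 1, 1, 2, 1, 2, 2, 1, 2, 1, 2])) (.node (.leaf [0, 1, 1, 2, 0, 1, 0, 0, 2, 1, 0, 2, 1, 1]) (.leaf [1, 2, 1, 2, 0, 2, 1, 0, 2, 2, 0, 1, 2]))) (.node (.node (.leaf []) (.leaf [])) (.node (.leaf [1, 1, 1, 1, 1, 2, 2, 2, 1, 0, 0, 2, 0, 2]) (.leaf [0, 2, 0, 1, 0, 0, 0, 0, 1, 0, 2, 0, 2])))) (.node (.node (.node (.leaf [2, 0, 2, 0, 1, 0, 0, 0, 1, 0, 0, 2, 1, 2]) (.leaf [2, 0, 1, 1, 2, 2, 0, 0, 1, 0, 1, 1, 0, 2])) (.node (.leaf []) (.leaf [1]))) (.node (.node (.leaf [0, 2, 2, 1, 0, 2, 1, 1, 2, 2, 2, 1, 0, 1]) (.leaf [2, 0, 2, 1, 1, 1, 2, 1, 0, 0, 2, 2, 1])) (.node (.leaf [0, 2, 1, 1, 2, 2, 1, 2, 1, 2, 0, 2]) (.leaf [0, 1, 1, 0, 2, 2, 2, 2, 2, 0, 2, 1, 1])))))))))) (.node (.node (.node (.node (.node (.node (.node (.node (.node (.node (.leaf []) (.leaf [1, 0, 0, 0, 0, 0, 1, 2, 1, 2, 0, 1, 1, 1])) (.leaf [])) (.node (.leaf []) (.leaf [2, 0, 1, 0, 0, 2, 0, 0, 0, 1,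 0, 2]))) (.node (.node (.leaf []) (.leaf [0, 0, 0, 0, 2, 1, 1, 0, 1, 2, 1, 0, 2])) (.node (.leaf []) (.leaf [1, 0, 2, 2, 0, 1, 2, 1, 1, 1, 2, 1, 1, 1])))) (.node (.node (.node (.node (.leaf []) (.leaf [1, 2, 0, 2, 1, 0, 1, 2, 1, 1, 2, 0, 2, 2])) (.leaf [0, 1, 1, 0, 0, 2, 2, 1, 2, 2, 0, 2, 2, 1])) (.node (.leaf [0, 1, 0, 0, 1, 0, 1, 0, 0, 1, 0, 2]) (.leaf [1, 0, 1, 2, 1, 0, 1, 2, 1, 2, 2, 1, 0, 2]))) (.node (.node (.leaf [0, 1, 2, 0, 1, 2, 0, 1, 1, 2, 0, 2, 0, 1]) (.leaf [])) (.node (.leaf [0, 1, 2, 2, 2, 0, 2, 1, 1, 1, 0, 0, 0, 2]) (.leaf [0, 1, 2, 0, 1, 2, 2, 2]))))) (.node (.node (.node (.node (.node (.leaf []) (.leaf [1, 1, 0, 0, 2, 2, 1, 1, 2, 2, 2, 2, 2, 2])) (.leaf [2, 1, 1, 0, 1, 2, 1, 0, 2, 1, 0, 0, 1, 2])) (.node (.leaf [1, 0, 2, 0, 1, 2, 1, 1, 2, 1]) (.leaf [0, 1, 2, 0, 0, 0, 0, 2, 1, 1, 1, 1, 2]))) (.node (.node (.leaf []) (.leaf [1, 0, 0, 0, 0, 0, 0, 0, 0, 2, 0, 1])) (.node (.leaf [1,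 1, 2, 0, 0, 0, 1, 2, 2, 2, 2, 2, 2, 2]) (.leaf [1, 1, 1, 2, 1, 0, 0, 0, 0, 1, 2, 2, 0, 2])))) (.node (.node (.node (.leaf []) (.leaf [0, 0, 0, 0, 0, 0, 0, 0, 2, 2, 2, 0, 2, 1])) (.node (.leaf [2, 1, 0, 1, 1, 0, 2, 0, 0, 2, 2, 1]) (.leaf [2, 2, 0, 2, 0, 2, 0, 1, 2, 2, 0, 1, 2]))) (.node (.node (.leaf []) (.leaf [2, 0, 0, 0, 0, 1, 0, 2, 1, 2, 2, 0, 0, 1])) (.node (.leaf [0, 0, 1, 0, 1, 0, 0, 2, 1, 1, 0, 1, 1, 2]) (.leaf [1, 0, 0, 2, 0, 2, 2, 0, 2, 0, 0, 1, 1])))))) (.node (.node (.node (.node (.node (.node (.leaf []) (.leaf [1, 2, 2, 0, 0, 1, 1])) (.leaf [0, 1, 0, 0, 1, 0, 0, 1, 1, 1, 0, 2, 0, 2])) (.node (.leaf [2, 2, 0, 2, 1, 2, 0, 1, 1, 2, 0, 0, 0, 1]) (.leaf [1]))) (.node (.node (.leaf [2, 2, 0, 2, 0, 0, 0, 0, 1]) (.leaf [0, 1, 0, 2, 2, 1, 1, 0, 2, 2, 1, 1, 2, 2])) (.node (.leaf []) (.leaf [0, 1, 2, 1, 1, 0, 2, 2, 1, 2, 2, 0, 1, 2])))) (.node (.node (.node (.leaf []) (.leaf [])) (.node (.leaf [0,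 2, 0, 0, 1]) (.leaf [1, 1, 0, 1, 0, 0, 1, 2, 0, 0, 2, 2, 2, 2]))) (.node (.node (.leaf [2, 1, 0, 2, 2, 0, 2, 0, 1]) (.leaf [1, 1, 2, 1, 2, 2, 0, 1, 1, 1, 0, 2, 0, 1])) (.node (.leaf []) (.leaf [0, 0, 0, 2, 1, 0, 0, 0, 2, 0, 1, 0, 1]))))) (.node (.node (.node (.node (.node (.leaf []) (.leaf [0, 2, 2, 1, 1, 0, 0, 2, 1, 1, 2, 0, 0, 1])) (.leaf [1, 0, 1, 0, 0, 2, 0, 0, 0, 1, 0, 0, 0, 2])) (.node (.leaf [1, 0, 1, 0, 1, 1, 0, 2, 0, 2, 2, 0, 2]) (.leaf [0, 1, 0, 0, 0, 0, 2]))) (.node (.node (.leaf []) (.leaf [1, 0, 1, 0, 0, 2, 0, 0, 0, 2, 0, 1])) (.node (.leaf [2, 0, 2, 0, 0, 1]) (.leaf [2, 0, 1, 0, 2, 0, 0, 1, 1, 2, 2, 2, 1, 1])))) (.node (.node (.node (.leaf []) (.leaf [2, 2, 1, 0, 1, 1, 2, 1])) (.node (.leaf [1, 2, 2, 2, 2, 2, 2, 2, 1, 0, 2, 1, 0, 1]) (.leaf [0, 2, 0, 1, 2, 1, 2, 2, 0, 2, 0, 1, 2]))) (.node (.node (.leaf [0, 2, 1, 2, 2, 0, 2, 2, 0, 1, 1, 2, 1, 2]) (.leaf [1, 1, 0, 1, 0, 0, 0, 0, 2]))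 (.node (.leaf [2, 1, 2, 2, 2, 1, 2, 1, 0, 2]) (.leaf [0, 2, 2, 2, 2, 0, 2, 0, 2, 2, 0, 0, 1, 2]))))))) (.node (.node (.node (.node (.node (.node (.node (.leaf []) (.leaf [1, 2, 1, 2, 1, 1, 0, 1, 1, 0, 0, 2, 0, 1])) (.leaf [0, 2, 0, 1, 2, 1, 1, 0, 1, 1, 1, 1, 1])) (.node (.leaf [1]) (.leaf [0, 0, 1, 1, 2, 2, 2, 0, 2]))) (.node (.node (.leaf []) (.leaf [0, 0, 1, 0, 2, 2, 2, 2, 2, 2, 1, 0, 2, 2])) (.node (.leaf [2, 0, 1, 0, 2, 0, 2, 0, 0, 0, 1, 1, 0, 1]) (.leaf [2, 0, 2, 0, 2, 2, 0, 0, 2, 0, 0, 1, 2, 1])))) (.node (.node (.node (.node (.leaf []) (.leaf [0, 1, 1, 0, 0, 1, 1, 2])) (.leaf [0, 1, 0, 0, 1, 0, 1])) (.node (.leaf [2, 1, 1, 1, 2, 0, 0, 2, 1, 1, 0, 1, 0, 2]) (.leaf [1, 0, 0, 1, 0, 1, 0, 0, 0, 0, 0, 2]))) (.node (.node (.leaf []) (.leaf [1, 0, 1, 0, 0, 1, 2, 1])) (.node (.leaf []) (.leaf [1, 0, 0, 0, 1, 2, 2, 2, 2, 0, 1, 1, 0, 1]))))) (.node (.node (.node (.node (.node (.leaf []) (.leaf [0, 0,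 1, 2, 0, 0, 0, 1, 0, 2, 2, 2, 1])) (.leaf [0, 1, 2, 0, 0, 0, 0, 2, 2, 0, 2, 1, 0, 1])) (.node (.leaf [1]) (.leaf [1, 2, 2, 0, 1, 0, 1, 1, 0, 0, 2, 0, 0, 1]))) (.node (.node (.leaf [0, 2, 1, 0, 1, 2, 0, 0, 0, 2, 1, 0, 2, 1]) (.leaf [0, 1, 0, 0, 1, 0, 1])) (.node (.leaf []) (.leaf [2, 0, 1, 0, 2, 0, 2, 2, 1, 2, 0, 2, 2, 2])))) (.node (.node (.node (.leaf []) (.leaf [0, 1, 1, 2, 2, 1, 0, 2, 2, 2, 1, 2, 1, 2])) (.node (.leaf [2, 1, 2, 2, 0, 1, 1, 2, 0, 2, 2, 1, 1, 1]) (.leaf [0, 1, 0, 0, 2, 2, 2, 1]))) (.node (.node (.leaf [0, 0, 2, 2, 2, 2, 0, 0, 0, 2, 2, 1, 0, 2]) (.leaf [])) (.node (.leaf [0, 1, 0, 2, 1, 1, 1, 2, 0, 1, 1, 1, 0, 1]) (.leaf [2, 1, 1, 0, 2, 1, 2, 1])))))) (.node (.node (.node (.node (.node (.node (.leaf [2, 0, 2, 0, 0, 1]) (.leaf [2, 0, 0, 0, 2, 2, 2, 1, 2, 2, 1, 0, 0, 1])) (.leaf [0, 1, 2, 1, 2, 2, 0, 1, 2, 1, 0, 1, 2, 2])) (.node (.leaf []) (.leaf [0, 0, 0, 0, 0, 0, 0, 0, 0, 1, 0,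 2]))) (.node (.node (.leaf []) (.leaf [2, 0, 0, 2, 0, 0, 2, 0, 1])) (.node (.leaf [1, 0, 2, 0, 0, 0, 2, 1]) (.leaf [2, 0, 1, 0, 0, 2])))) (.node (.node (.node (.leaf []) (.leaf [0, 1, 0, 1, 2, 0, 1, 0, 2])) (.node (.leaf [1, 0, 0, 2, 0, 0, 2, 0, 1]) (.leaf [2, 0, 0, 1, 0, 0, 1, 0, 2]))) (.node (.node (.leaf [0, 0, 2, 2, 2, 2, 1, 0, 1, 1, 0, 1, 1]) (.leaf [2, 0, 1, 2, 2, 0, 1, 0, 2, 1, 2, 1, 1])) (.node (.leaf []) (.leaf [0, 2, 2, 2, 2, 0, 1, 1, 2, 2, 2, 2, 1, 1]))))) (.node (.node (.node (.node (.node (.leaf []) (.leaf [0, 1, 1, 0, 2, 0, 1, 2, 2, 2, 1, 1, 2, 2])) (.leaf [0, 1, 0, 0, 1, 0, 1])) (.node (.leaf [1, 1, 1, 2, 2, 0, 2, 0, 0, 2, 2, 1, 0, 2]) (.leaf [1, 0, 0, 2, 0, 2, 0, 0, 0, 0, 0, 1]))) (.node (.node (.leaf []) (.leaf [0, 1, 0, 2, 0, 0, 0, 0, 2, 0, 1, 0, 1])) (.node (.leaf [1, 2, 0, 2, 1, 1, 0, 1, 2, 2, 1, 0, 2, 1]) (.leaf [0, 0, 1, 0, 1, 2, 0, 0, 1, 2, 0, 1, 2])))) (.node (.node (.node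 (.leaf [2, 1, 2, 1, 2, 1, 2, 1, 1, 0, 2, 2]) (.leaf [0, 0, 1, 1, 1, 0, 1, 0, 2, 2, 1, 1, 0, 2])) (.node (.leaf []) (.leaf [2, 2, 2, 0, 1, 2, 1, 2]))) (.node (.node (.leaf []) (.leaf [1, 0, 0, 0, 2, 2, 2, 2, 0, 2])) (.node (.leaf []) (.leaf [2, 1, 1, 0, 2, 1, 2, 2, 0, 0, 1, 1, 0, 1])))))))) (.node (.node (.node (.node (.node (.node (.node (.node (.leaf []) (.leaf [2, 0, 0, 0, 0, 1, 0, 0, 2, 1, 0, 1])) (.leaf [])) (.node (.leaf [2, 1, 2, 2, 2, 2, 1, 1, 2, 2, 2, 0, 2, 2]) (.leaf [1, 0, 1, 1, 1, 1, 0, 1, 1, 2, 0, 0, 1, 1]))) (.node (.node (.leaf []) (.leaf [2, 2, 0, 2, 0, 0, 0, 0, 2, 2, 0, 0, 2, 1])) (.node (.leaf [1, 2, 0, 0, 2, 0, 2, 0, 0, 2, 1, 0, 2, 1]) (.leaf [1, 0, 1, 0, 0, 2, 1, 1, 2, 1, 2, 1])))) (.node (.node (.node (.node (.leaf [0, 1, 2, 1, 2, 2, 2, 2, 2, 1, 1, 1, 2, 1]) (.leaf [1, 0, 0, 0, 0, 0, 0, 0, 0, 0, 0, 0, 0, 0])) (.leaf [0, 0, 0, 2, 1, 1, 1, 1, 2, 2, 0, 0, 1, 2])) (.node (.leaf [1])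 (.leaf [1]))) (.node (.node (.leaf [2, 2, 0, 2, 0, 0, 1, 2, 2, 1, 0, 0, 1]) (.leaf [])) (.node (.leaf [2, 0, 0, 2, 1, 0, 1, 0, 2, 0, 2]) (.leaf [1]))))) (.node (.node (.node (.node (.node (.leaf []) (.leaf [2, 1, 1, 2, 1, 1, 2, 0, 1, 2, 0, 2, 2])) (.leaf [2, 0, 2, 0, 2, 1, 1, 1, 0, 0, 1, 1, 0, 1])) (.node (.leaf [0, 1, 0, 2, 0, 0, 1, 0, 1]) (.leaf [1, 2, 1, 2, 1, 1, 2, 2, 0, 2, 2]))) (.node (.node (.leaf []) (.leaf [0, 2, 0, 0, 2, 0, 2])) (.node (.leaf [1, 1, 1, 1, 1, 0, 0, 2, 1, 0, 2, 0, 0, 2]) (.leaf [1])))) (.node (.node (.node (.leaf []) (.leaf [2, 1, 2, 0, 2, 0, 0, 1, 0, 0, 0, 1, 2, 2])) (.node (.leaf [2, 0, 1, 0, 2, 1, 2, 2, 1, 2, 0, 1, 0, 2]) (.leaf [2, 0, 1, 1, 0, 1, 0, 2, 2, 1, 0, 1]))) (.node (.node (.leaf [1, 2, 2, 2, 1, 0, 1, 1, 0, 1, 0, 0, 2, 1]) (.leaf [1, 2, 1, 1, 1, 0, 1, 0, 0, 1, 2, 0, 1, 1])) (.node (.leaf [0, 1, 0, 0, 0, 1, 1, 1, 0, 0, 1, 1, 1]) (.leaf [0, 0, 0, 0, 0, 2, 1, 0,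 2, 0, 0, 1])))))) (.node (.node (.node (.node (.node (.node (.leaf []) (.leaf [0, 2, 2, 0, 2, 1, 0, 2, 0, 0, 0, 2, 2, 2])) (.leaf [2, 0, 2, 2, 1, 2, 0, 0, 0, 0, 1, 0, 1, 2])) (.node (.leaf [1, 0, 2, 0, 1, 2, 0, 0, 1, 2, 1, 1, 2, 2]) (.leaf [0, 0, 2, 0, 0, 2, 1, 2, 0, 2, 1, 0, 1, 2]))) (.node (.node (.leaf [1]) (.leaf [0, 2, 2, 1, 0, 2, 1, 0, 2, 1, 1, 1])) (.node (.leaf []) (.leaf [1, 2, 1, 0, 1, 0, 2, 0, 2, 0, 0, 1, 2, 1])))) (.node (.node (.node (.leaf []) (.leaf [2, 1, 2, 2, 1, 0, 0, 0, 1])) (.node (.leaf [0, 0, 2, 0, 0, 1]) (.leaf [2, 0, 1, 0, 0, 2]))) (.node (.node (.leaf []) (.leaf [1, 2, 1, 1, 1, 0, 1, 0, 1, 2, 2, 1, 0, 2])) (.node (.leaf [0, 0, 1, 0, 1, 0, 2, 0, 2, 2, 2, 1, 0, 2]) (.leaf [0, 1, 0, 1, 1, 0, 0, 0, 1, 0, 2, 0, 2]))))) (.node (.node (.node (.node (.node (.leaf []) (.leaf [0, 2, 2, 0, 0, 1, 1])) (.leaf [1, 2, 0, 1, 1, 0, 1, 0, 2])) (.node (.leaf [1, 0, 0, 0, 1, 0, 0, 1, 1, 2])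 (.leaf [0, 0, 1, 2, 0, 2, 2, 2, 1, 1]))) (.node (.node (.leaf [0, 0, 1, 0, 1, 0, 2, 1, 0, 1, 2, 1, 0, 2]) (.leaf [1, 1, 0, 0, 2, 0, 2, 0, 2, 0, 0, 0, 1])) (.node (.leaf []) (.leaf [0, 0, 0, 2, 1, 0, 1, 2, 1, 1])))) (.node (.node (.node (.leaf []) (.leaf [1, 0, 0, 2, 2, 1, 1, 2, 1, 0, 2, 0, 1])) (.node (.leaf [1, 0, 1, 1, 0, 0, 0, 0, 0, 0, 0, 2]) (.leaf [1, 2, 0, 1, 0, 1, 1, 0, 0, 1, 0, 1]))) (.node (.node (.leaf [0, 0, 0, 0, 1, 2, 1, 1, 1, 2, 1, 2, 2, 1]) (.leaf [])) (.node (.leaf [0, 2, 0, 0, 1]) (.leaf [2, 2, 1, 2, 0, 0, 0, 0, 0, 1, 2, 2, 0, 2]))))))) (.node (.node (.node (.node (.node (.node (.node (.leaf [2, 2, 0, 2, 0, 0, 0, 0, 1]) (.leaf [0, 0, 2, 0, 0, 1])) (.leaf [0, 2, 1, 2, 0, 2, 0, 0, 1])) (.node (.leaf [0, 1, 0, 0, 1, 0, 1, 1, 0, 1, 2, 2, 2, 2]) (.leaf [2, 0, 0, 2, 1, 0, 0, 1, 2, 2, 2, 2, 0, 2]))) (.node (.node (.leaf []) (.leaf [1, 1, 0, 2, 1, 2, 1, 2, 1, 2, 0, 2])) (.node (.leaf [])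 (.leaf [1, 2, 0, 2, 0, 2, 1, 0, 1, 2, 1, 0, 1, 2])))) (.node (.node (.node (.leaf []) (.leaf [2, 0, 2, 0, 0, 1, 0, 0, 0, 1, 0, 2])) (.node (.leaf [1, 1, 1, 1, 1, 0, 1, 1, 1, 1, 0, 0, 1, 2]) (.leaf [2, 2, 0, 1, 1, 0, 1, 0, 2]))) (.node (.node (.leaf [1, 1, 0, 0, 0, 2, 1, 1, 1, 1, 1, 0, 1, 2]) (.leaf [1, 0, 2, 0, 0, 2, 1, 1, 1, 1, 0, 2, 1, 1])) (.node (.leaf [1, 1, 0, 1, 0, 0, 0, 0, 2]) (.leaf [2, 0, 0, 0, 1, 0, 0, 1, 2, 1, 2, 1, 1, 2]))))) (.node (.node (.node (.node (.node (.leaf [1]) (.leaf [2, 0, 0, 1, 2, 0, 2, 0, 1, 0, 1])) (.leaf [1, 2, 2, 2, 0, 1, 0, 0, 2, 0, 2])) (.node (.leaf [1, 2, 2, 0, 0, 2, 0, 2, 2, 2, 0, 0, 1, 1]) (.leaf [0, 1, 0, 0, 2, 2, 0, 0, 2, 1, 2, 1, 2, 1]))) (.node (.node (.leaf [1, 1, 0, 1, 0, 0, 0, 0, 2]) (.leaf [2, 0, 0, 1, 1, 2, 1, 1, 0, 1])) (.node (.leaf []) (.leaf [2, 1, 2, 0, 1, 1, 2, 2, 1, 0, 2, 2, 2, 2])))) (.node (.node (.node (.leaf []) (.leaf [1, 0, 2, 0, 0, 0, 1,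 0, 2, 0, 0, 1])) (.node (.leaf [1]) (.leaf [2, 0, 1, 1, 1, 0, 1, 0, 1, 2, 1, 0, 2, 2]))) (.node (.node (.leaf []) (.leaf [2, 2, 2, 0, 1, 1, 0, 1, 1, 0, 0, 1, 0, 1])) (.node (.leaf [1, 0, 1, 1, 1, 2, 1, 0, 2, 0, 1, 0, 2]) (.leaf [1, 1, 2, 2, 1, 1, 2, 1, 2, 1, 0, 1])))))) (.node (.node (.node (.node (.node (.node (.leaf []) (.leaf [0, 1, 0, 0, 1, 2, 1, 1, 1, 2, 1, 0, 1, 1])) (.leaf [0, 1, 0, 2, 2, 1, 0, 1, 2, 2, 2, 2, 2])) (.node (.leaf []) (.leaf [1, 0, 0, 2, 2, 0, 1, 1, 1, 0, 1, 2, 2, 1]))) (.node (.node (.leaf [2, 0, 0, 2, 1, 0, 1, 0, 1]) (.leaf [1, 0, 0, 1, 0, 2, 1, 2, 1, 0, 0, 1, 2, 1])) (.node (.leaf [2, 0, 1, 0, 2, 0, 0, 0, 2, 2, 2]) (.leaf [0, 1, 2, 0, 1, 1, 1])))) (.node (.node (.node (.leaf [1]) (.leaf [0, 0, 0, 1, 1, 0, 1, 0, 0, 0, 0, 0, 2])) (.node (.leaf [1, 0, 0, 1, 0, 2, 1, 2, 2, 1, 2, 1, 0, 2]) (.leaf [0, 1, 0, 2, 0, 2, 1, 0, 0, 0, 1, 2, 2, 2]))) (.node (.node (.leaf [0, 2, 0, 0, 2,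 0, 2]) (.leaf [])) (.node (.leaf [1, 2, 0, 2, 2, 2, 0, 1, 1, 0, 2, 0, 0, 1]) (.leaf [2, 2, 0, 1, 1, 0, 2, 2, 2, 1, 2, 2, 0, 1]))))) (.node (.node (.node (.node (.node (.leaf []) (.leaf [1, 2, 2, 0, 0, 1, 1])) (.leaf [2, 2, 0, 2, 0, 0, 0, 0, 0, 0, 1])) (.node (.leaf []) (.leaf [1, 0, 2, 0, 0, 0, 2, 2, 0, 0, 1, 1, 0, 1]))) (.node (.node (.leaf []) (.leaf [2, 2, 1, 0, 0, 2, 1, 0, 2, 0, 0, 1, 1, 2])) (.node (.leaf []) (.leaf [1, 2, 2, 0, 0, 2, 0, 2, 0, 1, 0, 0, 0, 2])))) (.node (.node (.node (.leaf []) (.leaf [0, 2, 0, 2, 2, 2, 0, 0, 1, 1, 1, 2, 1, 1])) (.node (.leaf []) (.leaf [1, 2, 1, 2, 2, 1, 1, 0, 1, 0, 1, 1, 1]))) (.node (.node (.leaf [0, 2, 2, 1, 0, 2, 2, 0, 0, 1, 0, 1]) (.leaf [1, 0, 1, 0, 0, 2])) (.node (.leaf [2, 1, 2, 2, 2, 2, 2, 1, 2, 1, 0, 1, 1, 2]) (.leaf [0, 2, 0, 2, 0, 0, 2, 0, 0, 0, 0, 0, 1]))))))))) (.node (.node (.node (.node (.node (.node (.node (.node (.node (.leaf []) (.leaf [0,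 0, 1, 1, 0, 1, 1, 0, 2, 1, 1, 2, 1, 1])) (.leaf [0, 0, 0, 1, 1, 0, 2, 2, 2, 2, 0, 1, 2, 1])) (.node (.leaf []) (.leaf [1, 1, 1, 0, 0, 2, 2]))) (.node (.node (.leaf [0, 2, 0, 0, 2, 0, 2]) (.leaf [1, 1, 2, 2, 2, 1, 2, 0, 2, 2, 0, 0, 2, 1])) (.node (.leaf []) (.leaf [2, 2, 1, 1, 1, 2, 0, 1, 1, 1, 0, 1, 2])))) (.node (.node (.node (.node (.leaf [2, 0, 0, 2, 1, 0, 1, 0, 1]) (.leaf [1, 0, 2, 0, 2, 0, 0, 1])) (.leaf [2, 0, 2, 0, 0, 1, 1, 2, 2, 1, 0, 2, 0, 1])) (.node (.leaf [0, 2, 2, 0, 2, 2, 1, 0, 1, 1, 0, 1]) (.leaf [1, 0, 0, 2, 0, 0, 0, 1, 1, 1, 2, 0, 2, 1]))) (.node (.node (.leaf []) (.leaf [2, 0, 0, 1, 2, 0, 2, 0, 2])) (.node (.leaf []) (.leaf [0, 0, 0, 2, 2, 0, 0, 0, 1]))))) (.node (.node (.node (.node (.node (.leaf [2, 2, 0, 2, 0, 0, 0, 0, 1]) (.leaf [1, 2, 2, 1, 1, 1, 0, 1, 1, 0, 2, 0, 2])) (.leaf [1, 1, 0, 1, 2, 1, 1, 0, 0, 1, 1, 1, 2])) (.node (.leaf []) (.leaf []))) (.node (.node (.leaf []) (.leaf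 [0, 0, 2, 0, 1, 0, 0, 0, 0, 0, 2, 1])) (.node (.leaf []) (.leaf [0, 0, 1, 2, 2, 0, 2, 0, 1, 1, 0, 2])))) (.node (.node (.node (.leaf []) (.leaf [0, 2, 0, 0, 1, 1, 1, 2])) (.node (.leaf [1, 0, 2, 0, 1, 2, 0, 0, 2, 0, 0, 0, 2, 2]) (.leaf [1, 2, 0, 1, 0, 0, 2, 0, 2]))) (.node (.node (.leaf []) (.leaf [1, 1, 1, 2, 0, 1, 1, 1, 1, 0, 0, 1, 0, 2])) (.node (.leaf [1, 1, 2, 2, 0, 0, 0, 2, 1, 0, 1, 1, 0, 1]) (.leaf [0, 0, 1, 2, 0, 2, 0, 2, 2, 2, 2, 0, 2, 2])))))) (.node (.node (.node (.node (.node (.node (.leaf [1, 1, 0, 0, 2]) (.leaf [0, 1, 0, 1, 2, 2, 0, 1, 2, 0, 1, 2, 0, 2])) (.leaf [1, 0, 1, 1, 0, 2, 2, 0, 2, 2, 1, 1, 2])) (.node (.leaf [0, 2, 0, 0, 2, 0, 2]) (.leaf [0, 0, 0, 2, 1, 0, 1, 0, 1]))) (.node (.node (.leaf []) (.leaf [0, 0, 0, 0, 1, 1, 1, 1, 0, 1])) (.node (.leaf [1, 1, 0, 0, 2]) (.leaf [1, 0, 0, 2, 0, 0, 2, 2, 1, 1, 1, 2])))) (.node (.node (.node (.leaf [1, 1, 0, 1, 0, 0, 0, 0, 2]) (.leaf [2,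 1, 2, 0, 1, 1, 1, 1, 2, 1, 1, 1, 1])) (.node (.leaf [2, 0, 2, 1, 2, 0, 0, 1, 0, 0, 1, 0, 1]) (.leaf [2, 2, 2, 1, 1, 2, 0, 0, 1, 2, 2]))) (.node (.node (.leaf [1, 2, 0, 0, 1, 2, 2, 1, 1, 2, 2, 1]) (.leaf [])) (.node (.leaf [1, 2, 2, 0, 0, 1, 1]) (.leaf [2, 1, 0, 2, 1, 0, 0, 0, 1]))))) (.node (.node (.node (.node (.node (.leaf []) (.leaf [1, 0, 0, 0, 0, 0, 0, 2, 0, 2, 2, 0, 0, 2])) (.leaf [1])) (.node (.leaf [1, 2, 1, 0, 0, 1, 0, 1]) (.leaf [0, 0, 2, 2, 0, 0, 0, 2, 0, 1, 2, 2, 0, 2]))) (.node (.node (.leaf []) (.leaf [2, 2, 0, 2, 2, 1, 1, 2, 2, 1, 1, 1, 0, 2])) (.node (.leaf [2, 2, 2, 2, 0, 2, 1, 0, 2, 0, 2, 2, 1]) (.leaf [1, 1, 1, 2, 2, 2, 1, 0, 1, 2, 2, 1, 1])))) (.node (.node (.node (.leaf [2, 0, 0, 0, 1, 1, 0, 1, 2, 0, 0, 2, 0, 2]) (.leaf [1, 0, 2, 2, 2, 0, 1, 0, 0, 2, 0, 2])) (.node (.leaf []) (.leaf [1]))) (.node (.node (.leaf [1, 1, 0, 0, 0, 2, 2, 2, 2, 0, 0, 1, 2, 1]) (.leaf [])) (.node (.leaf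 [2, 1, 1, 1, 0, 2, 0, 0, 2, 0, 1, 0, 2]) (.leaf [1, 2, 2, 0, 1, 0, 2, 1]))))))) (.node (.node (.node (.node (.node (.node (.node (.leaf []) (.leaf [1, 2, 2, 2, 2, 1, 0, 0, 1, 0, 2, 0, 1])) (.leaf [2, 0, 0, 0, 0, 2, 0, 2, 2, 0, 0, 1, 2, 1])) (.node (.leaf [1, 0, 0, 2, 2, 1, 0, 0, 2, 2, 0, 1, 0, 2]) (.leaf [0, 0, 2, 1, 2, 0, 1, 1, 1, 0, 0, 1, 1, 2]))) (.node (.node (.leaf []) (.leaf [2, 2, 1, 2, 2, 2, 1, 1, 2, 1, 0, 0, 0, 1])) (.node (.leaf []) (.leaf [0, 1, 0, 2, 0, 0, 0, 0, 2, 0, 1, 0, 1])))) (.node (.node (.node (.node (.leaf []) (.leaf [2, 0, 0, 1, 2, 0, 2, 0, 2, 0, 1])) (.leaf [1, 2, 0, 1, 0, 0, 2, 0, 2])) (.node (.leaf [0, 0, 2, 2, 0, 1, 1, 0, 1, 1, 2, 2, 1]) (.leaf [0, 0, 2, 1, 0, 2, 0, 0, 0, 0, 0, 2]))) (.node (.node (.leaf []) (.leaf [1, 2, 0, 0, 0, 2, 0, 1])) (.node (.leaf [2, 1, 1, 0, 2, 2, 0, 0, 1, 1, 1, 0, 1, 2]) (.leaf [2, 0, 1, 1, 0, 0, 2, 1, 0, 0, 1, 2, 1, 1]))))) (.node (.node (.node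 (.node (.node (.leaf []) (.leaf [1, 0, 2, 2, 0, 1, 1, 1, 2, 1, 1, 0, 0, 1])) (.leaf [0, 0, 2, 1, 2, 1, 0, 2, 1, 1])) (.node (.leaf [2, 0, 2, 0, 1, 0, 1, 1]) (.leaf [0, 2, 0, 2, 0, 0, 0, 0, 1]))) (.node (.node (.leaf []) (.leaf [0, 0, 1, 1, 2, 0, 1, 0, 1, 1, 1, 2, 1, 2])) (.node (.leaf [2, 2, 0, 0, 1]) (.leaf [1])))) (.node (.node (.node (.leaf [1, 2, 0, 1, 0, 1, 0, 2, 1, 2, 1, 1]) (.leaf [0, 1, 0, 2, 0, 0, 0, 0, 2, 0, 1, 0, 1])) (.node (.leaf [1, 0, 1, 2, 1, 0, 0, 1, 0, 2, 0, 1, 0, 1]) (.leaf [2, 0, 2, 1, 0, 2, 1, 2, 1, 1, 0, 2, 1]))) (.node (.node (.leaf [1]) (.leaf [2, 0, 0, 2, 0, 0, 1, 0, 2, 1, 0, 0, 2, 2])) (.node (.leaf [2, 1, 1, 0, 2, 2, 2, 2, 2, 0, 0, 1]) (.leaf [2, 1, 0, 1, 0, 0, 0, 1, 2, 0, 1, 1, 2, 1])))))) (.node (.node (.node (.node (.node (.node (.leaf []) (.leaf [2, 2, 2, 1, 0, 0, 0, 2, 0, 2, 2, 2, 1, 1])) (.leaf [2, 0, 0, 2, 0, 1, 2, 0, 1, 2, 2, 0, 2])) (.node (.leaf [1, 1, 0, 0, 2])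 (.leaf [1, 2, 2, 2, 2, 1, 1, 0, 0, 2, 2, 0, 2, 1]))) (.node (.node (.leaf []) (.leaf [1, 1, 0, 1, 2, 1, 0, 2, 0, 0, 1, 2, 2, 2])) (.node (.leaf []) (.leaf [2, 0, 0, 1, 1, 1, 1, 0, 2, 2])))) (.node (.node (.node (.leaf [0, 2, 1, 2, 2, 0, 0, 1, 0, 1, 2, 1, 1, 2]) (.leaf [1, 2, 1, 2, 1, 2, 0, 0, 1, 1, 1, 2, 2])) (.node (.leaf [1, 2, 2, 0, 2, 0, 2, 1, 1, 1, 1, 1, 1, 1]) (.leaf [1]))) (.node (.node (.leaf []) (.leaf [2, 1, 1, 0, 1, 0, 2, 1, 0, 2, 1, 1, 1, 1])) (.node (.leaf [1, 0, 2, 0, 0, 0, 2, 1]) (.leaf [2, 0, 2, 0, 1, 2, 1, 2, 2, 2, 0, 0, 0, 1]))))) (.node (.node (.node (.node (.node (.leaf [1]) (.leaf [0, 0, 2, 0, 2, 0, 0, 1])) (.leaf [1, 0, 0, 0, 0, 1, 1, 2, 1, 0, 1, 1, 1, 2])) (.node (.leaf [0, 0, 0, 1, 1, 0, 1, 2, 0, 0, 1, 0, 2, 2]) (.leaf [1, 0, 1, 1, 0, 2, 0, 1, 2, 0, 2, 2, 1, 2]))) (.node (.node (.leaf []) (.leaf [0, 1, 0, 1, 1, 1, 1, 0, 0, 0, 0, 2])) (.node (.leaf []) (.leaf [0, 1, 0, 1, 1,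 0, 0, 0, 1, 0, 2, 0, 2])))) (.node (.node (.node (.leaf []) (.leaf [0, 0, 0, 0, 2, 1, 2, 2, 0, 1, 0, 2, 1, 1])) (.node (.leaf [2, 0, 0, 2, 0, 0, 2, 0, 1]) (.leaf [2, 2, 0, 0, 1, 0, 0, 0, 0, 0, 2, 1, 1, 2]))) (.node (.node (.leaf [1, 0, 2, 1, 0, 1, 1, 1, 2, 2]) (.leaf [0, 2, 2, 1, 0, 1, 2, 1, 2, 1, 1, 0, 0, 1])) (.node (.leaf [1, 2, 0, 2, 2, 0, 0, 2, 1, 2, 0, 1, 0, 2]) (.leaf [2, 2, 1, 1, 1, 1, 0, 1, 0, 1, 1, 0, 1, 2])))))))) (.node (.node (.node (.node (.node (.node (.node (.node (.leaf []) (.leaf [0, 1, 0, 0, 1, 2, 2, 2, 1, 1, 0, 2, 0, 2])) (.leaf [1, 0, 1, 2, 1, 0, 2, 1, 0, 0, 1, 1, 2])) (.node (.leaf []) (.leaf [1, 1, 2, 0, 1, 2, 2, 2, 1, 0, 2]))) (.node (.node (.leaf [1]) (.leaf [1, 1, 1, 2, 2, 0, 1, 2, 1, 1, 0, 2])) (.node (.leaf [1, 2, 0, 2, 1, 0, 2, 1, 1, 0, 0, 2, 1]) (.leaf [0, 1, 2, 0, 0, 2, 1, 0, 1, 0, 1, 0, 1])))) (.node (.node (.node (.node (.leaf []) (.leaf [2, 2, 0, 2, 0, 0, 0, 0, 2]))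 (.leaf [2, 1, 2, 2, 1, 0, 2, 2, 0, 0, 2, 1, 0, 1])) (.node (.leaf [0, 0, 1, 1, 0, 2, 2, 1, 1, 0, 0, 1, 2, 1]) (.leaf [1, 0, 1, 0, 2, 0, 0, 1, 1, 1, 2, 1, 2, 2]))) (.node (.node (.leaf []) (.leaf [1, 1, 2, 0, 0, 0, 1, 0, 0, 0, 1, 0, 1, 1])) (.node (.leaf []) (.leaf [0, 2, 0, 1, 0, 0, 0, 0, 1, 0, 2, 0, 2]))))) (.node (.node (.node (.node (.node (.leaf []) (.leaf [0, 2, 1, 0, 0, 2, 1, 0, 2, 0, 0, 1])) (.leaf [])) (.node (.leaf [0, 0, 1, 2, 0, 0, 2, 1, 0, 1, 1, 2, 2, 1]) (.leaf [2, 1, 0, 1, 1, 2, 1, 0, 0, 1, 0, 1]))) (.node (.node (.leaf []) (.leaf [0, 1, 0, 2, 1, 2, 1, 0, 1, 2, 1, 0, 1, 2])) (.node (.leaf []) (.leaf [1, 1, 1, 0, 1, 2, 1])))) (.node (.node (.node (.leaf [1, 0, 1, 1, 2, 1, 0, 1, 1, 0, 0, 0, 0, 1]) (.leaf [1, 0, 0, 1, 2, 0, 2, 1, 2, 2])) (.node (.leaf [0, 1, 0, 1, 1, 1, 0, 2, 1, 1, 1, 2]) (.leaf [0, 1, 0, 0, 2, 2, 2, 1]))) (.node (.node (.leaf [1, 0, 0, 2, 0, 0, 1, 1, 1, 0, 0, 1, 1, 1])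 (.leaf [2, 1, 1, 0, 1, 2, 1, 1, 2, 0, 0, 0, 0, 1])) (.node (.leaf [1]) (.leaf [1, 1, 1, 2, 0, 1, 1, 1, 1, 0, 2, 0, 1])))))) (.node (.node (.node (.node (.node (.node (.leaf []) (.leaf [2, 0, 1, 1, 1, 2, 0, 2, 1, 2, 2, 1, 2, 2])) (.leaf [0, 2, 1, 2, 1, 1, 2, 2, 2, 2])) (.node (.leaf [2, 2, 1, 1, 1, 2, 1, 2, 0, 1]) (.leaf [1, 1, 2, 0, 2, 1, 2, 2, 0, 0, 2, 1]))) (.node (.node (.leaf []) (.leaf [0, 2, 2, 0, 0, 0, 0, 1, 2, 1, 1, 2, 1, 1])) (.node (.leaf [2, 2, 1, 1, 2, 0, 2, 2, 2, 1, 0, 0, 0, 2]) (.leaf [2, 2, 2, 2, 2, 2, 1, 2, 0, 0, 0, 0, 1])))) (.node (.node (.node (.leaf []) (.leaf [2, 2, 1, 0, 1, 1, 0, 2, 1, 2])) (.node (.leaf [1, 0, 1, 2, 0, 1, 0, 0, 0, 0, 0, 1]) (.leaf [1, 2, 0, 1, 1, 0, 1, 0, 2]))) (.node (.node (.leaf []) (.leaf [2, 2, 0, 0, 1])) (.node (.leaf [0, 0, 2, 0, 0, 2, 1, 2]) (.leaf [2, 0, 1, 1, 1, 2, 2, 2, 0, 2, 1, 2, 1, 2]))))) (.node (.node (.node (.node (.node (.leaf [2, 2, 0, 2,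 0, 0, 0, 0, 1]) (.leaf [1])) (.leaf [1, 2, 2, 1, 2, 1, 2, 1, 1, 2])) (.node (.leaf [0, 2, 1, 2, 2, 0, 1, 2, 0, 0, 2, 1, 2, 2]) (.leaf [0, 0, 0, 1, 0, 0, 1, 0, 2]))) (.node (.node (.leaf [1]) (.leaf [2, 2, 1, 1, 1, 2, 2, 2, 1, 0, 0, 0, 2, 2])) (.node (.leaf [2, 1, 0, 2, 1, 0, 0, 0, 1]) (.leaf [1, 2, 1, 1, 1, 0, 0, 0, 0, 0, 0, 2])))) (.node (.node (.node (.leaf [2, 1, 0, 2, 2, 0, 2, 0, 1]) (.leaf [0, 2, 1, 1, 1, 0, 2, 0, 0, 2, 2, 0, 2, 1])) (.node (.leaf []) (.leaf [2, 2, 2, 0, 1, 2, 1, 2]))) (.node (.node (.leaf []) (.leaf [1])) (.node (.leaf []) (.leaf [1, 1, 0, 0, 1, 0, 0, 0, 2, 1, 0, 2, 1]))))))) (.node (.node (.node (.node (.node (.node (.node (.leaf []) (.leaf [1, 0, 0, 1, 2, 2, 2, 0, 1, 2, 2, 2, 1])) (.leaf [0, 1, 2, 1, 2, 2, 1, 2, 1, 2, 2, 2])) (.node (.leaf [1, 1, 2, 2, 1, 2, 2, 1, 2, 2, 2, 0, 2, 2]) (.leaf [0, 0, 1, 2, 2, 0, 2, 2, 1, 1, 1, 2, 0, 1]))) (.node (.node (.leaf []) (.leaf [1, 1,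 2, 1, 1, 1, 0, 2, 0, 2, 2, 0, 1, 1])) (.node (.leaf []) (.leaf [1, 2, 2, 0, 0, 2, 1, 0, 1, 2, 1, 0, 2])))) (.node (.node (.node (.leaf [0, 1, 0, 0, 2, 2, 2, 0, 2, 1, 2, 2, 1, 1]) (.leaf [0, 0, 0, 1, 2, 2, 0, 0, 2, 2, 2, 2])) (.node (.leaf [2, 2, 2, 0, 1, 2, 1, 0, 2, 0, 1, 2, 1]) (.leaf [2, 2, 0, 2, 0, 2, 1, 0, 0, 1, 1, 2, 2, 1]))) (.node (.node (.leaf []) (.leaf [1, 0, 2, 1, 0, 0, 2, 2, 1, 0, 0, 2, 2])) (.node (.leaf [2, 0, 0, 1, 0, 0, 1, 0, 2, 2, 0, 1]) (.leaf [1, 2, 0, 2, 1, 0, 1, 0, 0, 1, 2, 0, 2, 2]))))) (.node (.node (.node (.node (.node (.leaf []) (.leaf [1, 2, 0, 0, 2, 0, 2, 2, 1, 2, 1, 0, 0, 2])) (.leaf [1])) (.node (.leaf [2, 0, 1, 2, 0, 2, 1, 1, 1, 1, 0, 0, 1, 1]) (.leaf [2, 1, 1, 2, 2, 1, 0, 1, 1, 2, 2, 2, 2, 1]))) (.node (.node (.leaf []) (.leaf [0, 2, 0, 2, 1, 0, 1, 2, 0, 0, 1, 0, 1, 2])) (.node (.leaf [1, 1, 0, 2, 0, 1, 0, 2, 1, 2, 0, 2, 0, 2]) (.leaf [0, 0, 0, 0, 0, 0, 0, 1, 0, 2,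 1, 2, 0, 1])))) (.node (.node (.node (.leaf []) (.leaf [2, 0, 1, 2, 0, 2, 0, 2, 0, 1, 0, 0, 2])) (.node (.leaf [1, 2, 0, 0, 0, 0, 1]) (.leaf [0, 0, 1, 0, 0, 1, 1, 0, 2, 0, 0, 1]))) (.node (.node (.leaf [0, 2, 0, 2, 0, 1, 0, 1, 1, 1, 0, 2, 2, 1]) (.leaf [1])) (.node (.leaf [2, 2, 1, 2, 1, 0, 0, 1, 1, 2, 2, 0, 2, 1]) (.leaf [0, 1, 2, 0, 0, 2, 1, 2, 1, 0, 1, 2, 1, 1])))))) (.node (.node (.node (.node (.node (.node (.leaf []) (.leaf [2, 0, 2, 2, 1, 1, 0, 1, 1, 1, 2, 1, 2])) (.leaf [0, 0, 1, 2, 0, 0, 0, 2, 1, 2, 1, 0, 2, 1])) (.node (.leaf [0, 1, 0, 0, 0, 1, 0, 2]) (.leaf [1, 0, 0, 2, 0, 2, 1, 1, 0, 0, 0, 1, 1, 2]))) (.node (.node (.leaf [1, 1, 1, 0, 2, 1, 1, 2, 2, 2, 1, 2, 1, 1]) (.leaf [1, 1, 1, 1, 0, 1, 0, 2, 0, 1, 0, 1])) (.node (.leaf []) (.leaf [1, 0, 1, 2, 0, 1, 1, 0, 1, 2, 0, 2, 2])))) (.node (.node (.node (.leaf []) (.leaf [0, 2, 1, 1, 0, 1, 0, 0, 0, 2, 1, 2])) (.node (.leaf [0, 0, 0, 2, 2, 0,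 2, 0, 0, 0, 0, 0, 1]) (.leaf [0, 2, 0, 0, 1]))) (.node (.node (.leaf []) (.leaf [])) (.node (.leaf [1, 1, 1, 0, 2, 0, 0, 2, 0, 1, 2, 2, 1]) (.leaf [1, 0, 0, 1, 1, 0, 2, 0, 0, 2, 2, 0, 0, 1]))))) (.node (.node (.node (.node (.node (.leaf []) (.leaf [1])) (.leaf [0, 0, 2, 1, 0, 0, 1, 1, 2, 2, 1, 1, 1, 2])) (.node (.leaf [1, 0, 2, 2, 2, 0, 2, 0, 1, 1, 2, 2, 0, 1]) (.leaf [0, 2, 0, 1, 1, 1, 0, 1, 2, 1, 0, 1, 0, 1]))) (.node (.node (.leaf []) (.leaf [])) (.node (.leaf []) (.leaf [0, 0, 0, 1, 1, 2, 2, 0, 2, 0, 0, 1])))) (.node (.node (.node (.leaf [2, 0, 1, 2, 2, 0, 1, 0, 2, 1, 2, 1, 1]) (.leaf [0, 0, 1, 1, 2, 0, 1, 2, 0, 2, 2, 2, 0, 2])) (.node (.leaf [1]) (.leaf [1, 0, 0, 0, 0, 1, 1, 1, 0, 0, 1, 0, 1, 1]))) (.node (.node (.leaf [0, 0, 2, 2, 2, 2, 1, 0, 0, 1, 2, 0, 0, 1]) (.leaf [])) (.node (.leaf [1, 0, 0, 2, 2, 1, 1, 0, 1, 0, 0, 2]) (.leaf [2, 2, 0, 2, 2, 0, 0, 0, 2, 0, 1, 0, 1])))))))))))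

def threeL5 : Janko.Tree (List ℤ) :=
  (.node (.node (.node (.node (.node (.node (.node (.node (.node (.node (.node (.leaf []) (.leaf [0, 1, 1, 1, 0, 2, 1, 2, 1, 1, 2, 2, 1, 1])) (.leaf [0, 1, 1, 1, 1, 2, 0, 2, 0, 1])) (.node (.leaf [0, 1, 1, 0, 1, 0, 0, 2]) (.leaf [2, 1, 0, 1, 2, 2, 2, 2, 2, 0, 0, 1, 1, 1]))) (.node (.node (.leaf []) (.leaf [1, 2, 1, 0, 1, 0, 2, 1, 0, 2, 2, 0, 0, 2])) (.node (.leaf []) (.leaf [0, 2, 0, 2, 0, 1, 0, 1, 0, 1, 1, 2, 2, 1])))) (.node (.node (.node (.node (.leaf []) (.leaf [2, 1, 2, 2, 1, 2, 1, 1, 2, 0, 1, 1, 1])) (.leaf [2, 0, 1, 2, 0, 2, 2, 2, 0, 1, 2, 2, 1, 1])) (.node (.leaf [2, 2, 0, 0, 2, 2, 2, 2, 2, 0, 2, 2]) (.leaf [1, 2, 2, 0, 1, 1, 1, 0, 2, 2, 1, 2, 0, 2]))) (.node (.node (.leaf [2, 1, 0, 0, 0, 0, 0, 2, 1, 0, 0, 1, 1]) (.leaf [])) (.node (.leaf [2, 2, 0, 1, 2, 0, 0, 1, 0, 2, 0, 2, 0, 1]) (.leaf [0, 2, 2, 2, 0, 0, 0, 2, 2, 2, 2, 1, 1, 2]))))) (.node (.node (.node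 (.node (.node (.leaf []) (.leaf [1, 0, 0, 0, 1, 2, 1, 1, 1, 2, 0, 2])) (.leaf [1, 2, 0, 0, 2, 0, 0, 0, 2, 0, 0, 1])) (.node (.leaf []) (.leaf [0, 1, 2, 0, 2, 0, 0, 1, 1, 1, 0, 1, 1, 2]))) (.node (.node (.leaf [2, 2, 0, 0, 0, 0, 2]) (.leaf [0, 1])) (.node (.leaf [1, 1, 1, 0, 0, 2, 0, 2, 1, 0, 0, 1, 1]) (.leaf [1, 1, 2, 0, 2, 1, 1, 0, 1, 1, 2, 2])))) (.node (.node (.node (.leaf []) (.leaf [0, 1])) (.node (.leaf [0, 1, 1, 0, 2, 0, 0, 2, 0, 0, 1, 0, 2]) (.leaf [0, 1]))) (.node (.node (.leaf []) (.leaf [])) (.node (.leaf [0, 0, 0, 0, 1, 1, 0, 1, 0, 0, 2, 1]) (.leaf [1, 2, 0, 1, 0, 0, 0, 2, 2, 0, 2, 2, 0, 2])))))) (.node (.node (.node (.node (.node (.node (.leaf []) (.leaf [1, 0, 2, 1, 1, 2, 2, 2, 2, 1, 1, 2, 0, 2])) (.leaf [1, 0, 2, 0, 0, 0, 2, 1])) (.node (.leaf []) (.leaf [0, 2, 1, 0, 0, 0, 2, 2]))) (.node (.node (.leaf [0, 1]) (.leaf [2, 2, 0, 1, 2, 2, 0, 0, 0, 0, 1, 2, 0, 2])) (.node (.leaf []) (.leaf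 [2, 1, 0, 0, 2, 1, 2, 2, 2, 1, 0, 1])))) (.node (.node (.node (.leaf [0, 0, 1, 1, 0, 2, 0, 0, 0, 2, 0, 2, 2, 2]) (.leaf [])) (.node (.leaf [0, 0, 0, 2, 2, 0, 0, 0, 2, 0, 2]) (.leaf [2, 0, 0, 1, 0, 2, 1, 0, 2, 0, 0, 1]))) (.node (.node (.leaf [1, 2, 0, 0, 0, 0, 1]) (.leaf [])) (.node (.leaf [1, 0, 2, 2, 2, 0, 1, 0, 1, 1, 2, 2, 0, 1]) (.leaf [0, 1, 0, 1, 2, 2, 1, 2, 1, 2, 0, 2]))))) (.node (.node (.node (.node (.node (.leaf []) (.leaf [0, 1])) (.leaf [0, 2, 1, 2, 0, 2, 0, 1, 2, 2, 0, 2, 0, 1])) (.node (.leaf [2, 1, 1, 0, 0, 1, 2, 0, 0, 1, 0, 1, 2, 2]) (.leaf [1, 2, 1, 2, 0, 2, 2, 1, 2, 2, 0, 1, 0, 2]))) (.node (.node (.leaf []) (.leaf [1, 1, 1, 0, 1, 2, 2, 0, 2, 0, 0, 1])) (.node (.leaf []) (.leaf [0, 1, 0, 1, 0, 2, 1, 0, 0, 0, 1, 0, 2, 2])))) (.node (.node (.node (.leaf []) (.leaf [1, 2, 2, 2, 2, 2, 1, 0, 1, 1, 2, 1, 2])) (.node (.leaf [0, 1, 0, 2, 0, 0, 2, 0, 1]) (.leaf [0, 2, 0, 0, 0, 2, 2, 1, 2,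 0, 1, 1, 2, 1]))) (.node (.node (.leaf []) (.leaf [])) (.node (.leaf []) (.leaf [0, 2, 0, 2, 2, 1, 1, 0, 1, 2, 2, 2, 2, 1]))))))) (.node (.node (.node (.node (.node (.node (.node (.leaf []) (.leaf [0, 1])) (.leaf [0, 1])) (.node (.leaf [1, 1, 1, 1, 1, 2, 2, 0, 1, 2, 2, 2, 2, 2]) (.leaf [0, 1]))) (.node (.node (.leaf []) (.leaf [1, 2, 1, 0, 0, 1, 1, 2, 2, 0, 1, 2, 0, 2])) (.node (.leaf []) (.leaf [1, 1, 2, 0, 0, 1, 0, 2, 0, 1, 1, 0, 0, 2])))) (.node (.node (.node (.node (.leaf []) (.leaf [0, 0, 0, 0, 0, 0, 0, 0, 0, 0, 0, 0, 1, 0])) (.leaf [0, 2, 1, 0, 1, 2, 2, 2, 0, 1, 0, 2, 2, 1])) (.node (.leaf [2, 1, 1, 2, 1, 2, 2, 0, 2, 0, 1, 0, 1]) (.leaf [0, 2, 2, 2, 2, 0, 1, 1, 2, 0, 1, 1, 2, 2]))) (.node (.node (.leaf [1, 0, 0, 2, 1, 2, 0, 0, 0, 1, 0, 1, 0, 2]) (.leaf [])) (.node (.leaf [1, 0, 2, 1, 1, 0, 2, 1, 2, 1, 2, 2, 1]) (.leaf [2, 1, 0, 1, 0, 0, 2, 1, 1, 1, 2, 1]))))) (.node (.node (.node (.node (.node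 (.leaf []) (.leaf [2, 2, 1, 2, 2, 1, 1, 0, 0, 0, 0, 0, 0, 1])) (.leaf [0, 1])) (.node (.leaf [1, 2, 0, 0, 0, 0, 2, 1, 1, 2, 1, 1, 2, 2]) (.leaf [2, 0, 2, 1, 2, 0, 1, 2, 2, 2, 1, 2, 0, 1]))) (.node (.node (.leaf []) (.leaf [2, 0, 2, 2, 2, 1, 2, 1, 2, 2, 1, 0, 0, 1])) (.node (.leaf [1, 1, 1, 0, 1, 1, 2, 2, 0, 0, 1, 0, 0, 2]) (.leaf [1, 1, 1, 0, 1, 2, 0, 0, 1, 1, 2, 0, 0, 2])))) (.node (.node (.node (.leaf [0, 2, 1, 0, 0, 0, 1, 1, 0, 0, 1, 2, 1, 2]) (.leaf [2, 1, 2, 0, 2, 0, 0, 2, 1, 1, 0, 0, 0, 1])) (.node (.leaf [1, 2, 2, 1, 1, 2, 1, 1, 0, 0, 2, 0, 2, 1]) (.leaf [2, 0, 1, 2, 1, 0, 2, 0, 0, 2, 2, 1, 0, 2]))) (.node (.node (.leaf []) (.leaf [2, 1, 2, 1, 0, 2, 1, 2, 2, 2, 2, 1, 1])) (.node (.leaf [2, 1, 0, 1, 2, 2, 0, 0, 2, 0, 2, 2, 0, 2]) (.leaf [0, 2, 2, 0, 2, 1])))))) (.node (.node (.node (.node (.node (.node (.leaf []) (.leaf [2, 1, 2, 1, 0, 2, 1, 2, 1, 0, 0, 1, 1, 2])) (.leaf [1, 0, 1, 2, 0, 1,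 1, 2, 0, 2, 1, 0, 1])) (.node (.leaf []) (.leaf [1, 0, 2, 1, 0, 0, 1, 0, 0, 0, 1, 2, 2]))) (.node (.node (.leaf [2, 0, 2, 1, 0, 2, 2, 0, 2, 2, 1, 2, 0, 1]) (.leaf [1, 0, 1, 0, 1, 0, 0, 2])) (.node (.leaf []) (.leaf [1, 2, 0, 1, 1, 0, 2, 2, 2, 2, 1, 2, 1])))) (.node (.node (.node (.leaf []) (.leaf [2, 0, 2, 0, 2, 1, 2, 0, 1, 2, 0, 0, 2, 1])) (.node (.leaf [2, 0, 2, 0, 0, 1, 2, 2, 2, 1, 2, 1, 1, 2]) (.leaf [0, 1, 2, 0, 1, 2, 0, 0, 2, 2, 2, 0, 1, 2]))) (.node (.node (.leaf [0, 1]) (.leaf [])) (.node (.leaf [2, 2, 0, 0, 0, 1, 2, 2, 0, 2, 1, 2, 2, 2]) (.leaf [2, 2, 0, 0, 0, 0, 2, 0, 1, 1, 1, 0, 1, 2]))))) (.node (.node (.node (.node (.node (.leaf []) (.leaf [0, 1, 0, 2, 1, 1, 1, 1, 1, 0, 2, 1, 1])) (.leaf [0, 1])) (.node (.leaf []) (.leaf [1, 1, 0, 1, 2, 0, 0, 2, 1, 2, 0, 2]))) (.node (.node (.leaf [0, 0, 2, 0, 2, 0, 1, 1, 2, 1, 1, 0, 0, 2]) (.leaf [2, 1, 1, 2, 1, 2, 0, 0, 0, 1, 0, 0, 1, 2])) (.node (.leaf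 []) (.leaf [2, 2, 0, 0, 0, 0, 2])))) (.node (.node (.node (.leaf [2, 1, 1, 0, 0, 1, 0, 2, 1, 0, 0, 2]) (.leaf [2, 1, 1, 0, 0, 1, 0, 2, 1, 0, 2, 0, 1, 2])) (.node (.leaf [0, 1]) (.leaf [0, 2, 0, 0, 2, 0, 2, 0, 1, 0, 1, 0, 1]))) (.node (.node (.leaf [0, 2, 1, 1, 0, 1, 2, 0, 1, 1, 0, 1, 0, 2]) (.leaf [])) (.node (.leaf [2, 1, 1, 0, 1, 0, 0, 0, 2, 2, 1, 1, 1, 2]) (.leaf [1, 1, 2, 0, 2, 1, 1, 0, 2, 1, 1, 2])))))))) (.node (.node (.node (.node (.node (.node (.node (.node (.leaf []) (.leaf [1, 1, 0, 2, 1, 2, 1, 2, 1, 2, 0, 2])) (.leaf [2, 2, 2, 0, 0, 2, 0, 1, 1, 2, 2, 2, 2])) (.node (.leaf [1, 2, 2, 2, 1, 0, 2, 0, 2, 0, 2, 2, 2, 2]) (.leaf [1, 2, 0, 1, 1, 2, 2, 1, 1, 1, 1, 0, 0, 2]))) (.node (.node (.leaf [0, 1]) (.leaf [1, 1, 0, 0, 2, 0, 1, 2, 1, 1, 1, 2, 0, 1])) (.node (.leaf [2, 2, 0, 0, 2, 1, 0, 0, 2, 1, 2, 0, 0, 1]) (.leaf [0, 0, 1, 1, 2, 0, 2, 0, 1, 1, 2, 1])))) (.node (.node (.node (.node (.leaf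 []) (.leaf [0, 1])) (.leaf [0, 1, 0, 2, 2, 1, 2, 0, 0, 1, 0, 1, 2])) (.node (.leaf [1, 2, 1, 2, 1, 2, 0, 1, 0, 0, 2, 1, 0, 1]) (.leaf [1, 0, 0, 2, 0, 2, 1, 2, 0, 0, 1, 2, 1]))) (.node (.node (.leaf [1, 2, 2, 1, 2, 1, 1, 2, 1, 2, 0, 1, 0, 1]) (.leaf [1, 1, 0, 0, 0, 1, 0, 1, 1, 2, 2, 2, 2])) (.node (.leaf []) (.leaf [2, 0, 0, 0, 0, 1, 2, 0, 1, 2, 1, 2]))))) (.node (.node (.node (.node (.node (.leaf []) (.leaf [0, 0, 1, 0, 1, 2, 1, 1, 1, 2, 2, 2, 2, 2])) (.leaf [0, 2, 2, 2, 1, 2, 2, 1, 1, 0, 1, 2, 1, 2])) (.node (.leaf [1, 1, 2, 1, 2, 0, 2, 0, 1, 0, 2, 2, 1, 2]) (.leaf [0, 1]))) (.node (.node (.leaf []) (.leaf [0, 2, 2, 2, 2, 1, 0, 0, 1, 2, 2, 1, 1])) (.node (.leaf [1, 2, 2, 2, 1, 0, 1, 1, 0, 1, 0, 0, 1, 2]) (.leaf [0, 1, 1, 1, 0, 2, 2, 0, 0, 2, 2, 0, 0, 1])))) (.node (.node (.node (.leaf [0, 0, 1, 0, 1, 0, 0, 2]) (.leaf [2, 1, 0, 0, 0, 0, 2, 0, 2, 2, 1, 1, 2])) (.node (.leaf []) (.leaf [2, 0, 1, 0,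 2, 1, 2, 2, 0, 2, 0, 2, 1, 1]))) (.node (.node (.leaf [2, 2, 1, 1, 0, 0, 2, 1, 0, 1, 0, 1, 2, 1]) (.leaf [2, 2, 0, 0, 0, 1, 1, 0, 0, 2, 0, 2, 1, 1])) (.node (.leaf [0, 1, 0, 1, 1, 0, 0, 0, 1, 0, 1]) (.leaf [0, 0, 1, 1, 0, 1, 2, 2, 2, 0, 2, 1, 2, 1])))))) (.node (.node (.node (.node (.node (.node (.leaf []) (.leaf [0, 1])) (.leaf [0, 2, 2, 1, 1, 1, 1, 0, 0, 1, 0, 1, 2, 1])) (.node (.leaf [0, 1]) (.leaf [0, 0, 0, 2, 2, 0, 1, 0, 0, 1, 0, 1, 1, 1]))) (.node (.node (.leaf []) (.leaf [0, 2, 1, 1, 2, 2, 1, 1, 1, 1, 2, 1])) (.node (.leaf []) (.leaf [1, 1, 0, 0, 0, 1, 0, 2, 1, 1, 0, 0, 2, 2])))) (.node (.node (.node (.leaf []) (.leaf [0, 1])) (.node (.leaf [2, 1, 0, 0, 0, 0, 0, 0, 2, 0, 2, 0, 2]) (.leaf [0, 1, 2, 2, 0, 2, 0, 1, 2, 0, 1, 1, 2]))) (.node (.node (.leaf []) (.leaf [1, 2, 2, 1, 1, 1, 1, 1, 2, 2])) (.node (.leaf [0, 0, 2, 1, 1, 2, 2, 1, 0, 1]) (.leaf [2, 2, 0, 1, 0, 1, 2, 2, 2, 1, 2, 2, 2, 2])))))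 (.node (.node (.node (.node (.node (.leaf []) (.leaf [0, 1])) (.leaf [2, 1, 0, 2, 2, 0, 2, 0, 1])) (.node (.leaf [1, 2, 2, 0, 2, 0, 1, 1]) (.leaf [0, 1, 2, 1, 2, 1, 2, 2, 2, 0, 2, 0, 0, 1]))) (.node (.node (.leaf []) (.leaf [1, 1, 2, 0, 0, 1, 2, 1, 2, 1, 1, 0, 2, 1])) (.node (.leaf [2, 1, 2, 0, 1, 1, 0, 2, 2, 1, 2, 1, 1, 2]) (.leaf [1, 2, 0, 2, 1, 1, 2, 0, 0, 2, 0, 2, 1])))) (.node (.node (.node (.leaf [0, 2, 0, 0, 2, 0, 0, 0, 0, 2, 2, 0, 1, 1]) (.leaf [2, 1, 2, 2, 1, 0, 1, 2, 0, 0, 0, 2, 1])) (.node (.leaf [2, 1, 1, 2, 0, 0, 0, 0, 1, 2, 2, 2, 2, 1]) (.leaf [1, 0, 0, 0, 2, 1, 1, 2, 0, 2, 2, 0, 1, 1]))) (.node (.node (.leaf [2, 1, 1, 1, 0, 2, 0, 0, 0, 0, 0, 1, 2, 2]) (.leaf [])) (.node (.leaf [1, 0, 2, 0, 0, 0, 1, 0, 2, 2, 0, 2]) (.leaf [2, 2, 0, 2, 1, 1, 2, 0, 2, 2, 1, 2, 2, 1]))))))) (.node (.node (.node (.node (.node (.node (.node (.leaf [0, 1]) (.leaf [1, 0, 1, 2, 0, 0, 2, 0, 1, 2, 2, 0, 0, 1]))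 (.leaf [0, 2, 1, 0, 1, 2])) (.node (.leaf []) (.leaf [0, 2, 1, 0, 0, 2, 0, 0, 0, 0, 1, 1, 2, 2]))) (.node (.node (.leaf []) (.leaf [0, 1])) (.node (.leaf [2, 2, 2, 2, 0, 1, 2, 2, 0, 2, 0, 2]) (.leaf [2, 1, 0, 1, 0, 0, 1, 0, 0, 0, 1, 1, 1, 2])))) (.node (.node (.node (.node (.leaf []) (.leaf [0, 0, 0, 0, 0, 2, 0, 2, 1, 2, 2, 1, 1])) (.leaf [0, 0, 1, 0, 1, 2, 1, 2, 1, 2, 0, 0, 1, 2])) (.node (.leaf [2, 2, 2, 0, 1, 2, 2, 1, 2, 2, 1, 2, 1, 1]) (.leaf [1, 2, 1, 0, 2, 1, 2, 1, 2, 1, 0, 1]))) (.node (.node (.leaf []) (.leaf [2, 2, 2, 2, 1, 0, 2, 0, 2, 0, 1, 2, 0, 2])) (.node (.leaf [0, 1]) (.leaf [2, 1, 0, 0, 2, 0, 1, 0, 1, 0, 0, 0, 2]))))) (.node (.node (.node (.node (.node (.leaf []) (.leaf [2, 0, 1, 0, 1, 1, 0, 2, 0, 1, 2, 1, 0, 2])) (.leaf [1, 2, 0, 1, 1, 0, 1, 0, 1, 0, 1])) (.node (.leaf [0, 0, 2, 2, 1, 0, 2, 2, 2, 1, 1, 1, 2]) (.leaf [1, 1, 0, 1, 0, 2, 2, 1, 2]))) (.node (.node (.leaf [0, 1]) (.leaf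 [1, 0, 1, 2, 1, 0, 1, 0, 2, 1, 1, 1, 0, 1])) (.node (.leaf []) (.leaf [0, 0, 0, 0, 2, 0, 0, 0, 2, 2, 1, 2, 0, 2])))) (.node (.node (.node (.leaf []) (.leaf [2, 1, 0, 0, 2, 1, 0, 0, 0, 1, 0, 2, 1, 2])) (.node (.leaf [2, 2, 1, 1, 1, 2, 2, 1, 2, 1, 0, 2, 1, 2]) (.leaf [0, 1, 1, 0, 1, 0, 0, 2, 0, 0, 1, 2, 2, 1]))) (.node (.node (.leaf []) (.leaf [1, 0, 1, 0, 1, 1, 0, 0, 0, 0, 0, 0, 2, 1])) (.node (.leaf [1, 2, 2, 2, 1, 0, 2, 0, 1, 0, 2, 0, 0, 1]) (.leaf [2, 1, 2, 0, 2, 0, 0, 1])))))) (.node (.node (.node (.node (.node (.node (.leaf []) (.leaf [0, 1, 2, 1, 2, 1, 0, 2, 2, 1, 0, 1])) (.leaf [1, 0, 1, 2, 1, 0, 1, 2, 2, 0, 2, 2, 0, 1])) (.node (.leaf [0, 0, 1, 0, 0, 1, 2, 1]) (.leaf [0, 1, 1, 2, 2, 1, 0, 1, 1, 0, 1, 1, 2, 2]))) (.node (.node (.leaf []) (.leaf [2, 0, 1, 2, 1, 1, 1, 1, 0, 0, 0, 2, 2, 2])) (.node (.leaf []) (.leaf [2, 2, 2, 1, 1, 0, 2, 0, 1, 2, 2, 2, 1])))) (.node (.node (.node (.leaf [0, 1,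 2, 2, 2, 0, 0, 0, 0, 1, 2, 1, 1, 2]) (.leaf [0, 0, 0, 1, 1, 0, 0, 0, 0, 0, 2])) (.node (.leaf [0, 0, 2, 1, 0, 0, 2, 2, 0, 1, 1, 1, 2]) (.leaf [2, 1, 1, 1, 2, 2, 2, 2, 1, 2, 1, 2, 2]))) (.node (.node (.leaf [2, 0, 0, 1, 0, 0, 1, 0, 2]) (.leaf [0, 0, 0, 1, 1, 2, 1, 2, 1, 0, 0, 1, 2, 1])) (.node (.leaf [1, 2, 1, 0, 0, 0, 0, 1, 1, 2, 1, 0, 0, 2]) (.leaf [2, 2, 0, 0, 1, 2, 0, 1]))))) (.node (.node (.node (.node (.node (.leaf []) (.leaf [0, 1])) (.leaf [1, 2, 0, 0, 1, 2, 1, 1, 0, 2, 1, 2, 0, 1])) (.node (.leaf [1, 1, 2, 1, 0, 2, 0, 1, 1, 1, 1, 2, 2, 1]) (.leaf [2, 0, 0, 1, 0, 0, 0, 0, 2, 0, 2, 0, 1]))) (.node (.node (.leaf []) (.leaf [0, 1, 2, 1, 2, 2, 2, 0, 0, 1, 2, 0, 2, 1])) (.node (.leaf []) (.leaf [0, 0, 2, 0, 0, 1, 1, 1, 0, 0, 2, 0, 2, 2])))) (.node (.node (.node (.leaf [1, 0, 1, 2, 0, 1, 0, 1, 2, 1, 2, 1, 0, 1]) (.leaf [0, 2, 1, 0, 0, 0, 2, 2])) (.node (.leaf [0, 1, 2, 0, 2, 0, 0, 1]) (.leaf [1,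 1, 0, 1, 0, 0, 2, 1, 1, 2, 0, 0, 2]))) (.node (.node (.leaf [2, 1, 0, 0, 0, 0, 2, 0, 0, 1, 2, 2, 1]) (.leaf [0, 1])) (.node (.leaf []) (.leaf [0, 2, 2, 0, 0, 0, 1, 1, 0, 2, 2, 2, 1, 2]))))))))) (.node (.node (.node (.node (.node (.node (.node (.node (.node (.leaf []) (.leaf [1, 1, 1, 2, 2, 2, 2, 0, 1, 0, 1, 1, 2, 2])) (.leaf [2, 1, 1, 0, 0, 0, 1, 1, 2, 1, 0, 1, 0, 2])) (.node (.leaf [0, 1, 0, 0, 2, 2, 0, 0, 2, 1, 1, 1, 2, 2]) (.leaf [1, 1, 2, 0, 0, 0, 2, 2, 0, 0, 2, 0, 2, 2]))) (.node (.node (.leaf [2, 0, 0, 1, 0, 0, 1, 0, 2]) (.leaf [0, 1])) (.node (.leaf []) (.leaf [0, 0, 2, 2, 1, 0, 0, 2, 2, 0, 0, 1, 0, 1])))) (.node (.node (.node (.node (.leaf []) (.leaf [0, 0, 2, 2, 0, 0, 2, 2, 2, 1, 1, 2, 1, 1])) (.leaf [0, 0, 0, 2, 0, 2, 2, 0, 1, 1])) (.node (.leaf [0, 0, 0, 1, 1, 0, 1, 0, 1, 0, 0, 2, 1, 1]) (.leaf [1, 0, 0, 0, 0, 0, 2, 2, 1, 0, 2, 2, 0, 2]))) (.node (.node (.leaf [1, 0, 2, 1, 2, 2, 0, 1,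 2, 0, 2, 2, 0, 2]) (.leaf [0, 1])) (.node (.leaf [1, 0, 1, 2, 2, 2, 1, 1, 1, 2, 2, 2, 2, 1]) (.leaf [0, 0, 0, 1, 0, 0, 0, 0, 1, 0, 2, 0, 2]))))) (.node (.node (.node (.node (.node (.leaf [0, 1]) (.leaf [0, 0, 2, 2, 1, 2, 0, 0, 1, 0, 2, 0, 2, 2])) (.leaf [0, 1, 0, 1, 0, 2, 2, 0, 1, 0, 1, 0, 1, 2])) (.node (.leaf [1, 0, 0, 0, 1, 0, 1, 2, 1, 2, 2, 1, 2, 1]) (.leaf [2, 1, 2, 0, 1, 0, 0, 1, 2, 1, 0, 0, 1, 2]))) (.node (.node (.leaf []) (.leaf [1, 1, 2, 0, 1, 0, 2, 1, 1, 1, 0, 0, 2, 2])) (.node (.leaf [0, 2, 0, 1, 2, 1, 0, 0, 0, 1, 2, 0, 1, 1]) (.leaf [2, 2, 1, 0, 0, 2, 0, 2, 1, 2, 2, 1, 0, 2])))) (.node (.node (.node (.leaf []) (.leaf [1, 2, 0, 2, 2, 0, 2, 0, 2, 0, 2])) (.node (.leaf [0, 1]) (.leaf [2, 0, 1, 0, 1, 1, 0, 1, 2, 2, 2, 2, 0, 1]))) (.node (.node (.leaf []) (.leaf [0, 1, 2, 1, 1, 2, 0, 1, 0, 1, 2, 2, 2, 1])) (.node (.leaf [1, 1, 1, 0, 0, 0, 1, 0, 2, 1, 0, 0, 2, 1]) (.leaf [1, 1, 0, 2, 0, 0,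 0, 0, 0, 0, 2, 0, 2])))))) (.node (.node (.node (.node (.node (.node (.leaf []) (.leaf [1, 2, 0, 0, 0, 2, 1, 0, 0, 2, 0, 2, 2])) (.leaf [2, 0, 1, 2, 0, 1, 0, 1, 2, 1, 0, 0, 2, 2])) (.node (.leaf [2, 0, 0, 1, 0, 0, 1, 0, 2]) (.leaf [1, 0, 1, 0, 2, 0, 0, 0, 0, 0, 0, 0, 1, 2]))) (.node (.node (.leaf []) (.leaf [1, 0, 0, 2, 0, 0, 2, 2, 1, 1, 1, 2, 1, 1])) (.node (.leaf []) (.leaf [1, 0, 0, 1, 0, 2, 0, 2, 0, 1, 0, 2, 2, 1])))) (.node (.node (.node (.leaf [0, 1]) (.leaf [1, 2, 2, 2, 2, 2, 0, 1, 2, 1])) (.node (.leaf []) (.leaf [0, 0, 0, 0, 2, 0, 1, 1, 2, 1, 0, 2, 2, 2]))) (.node (.node (.leaf [2, 1, 1, 0, 0, 1, 0, 2, 1, 0, 0, 2]) (.leaf [1, 2, 0, 1, 0, 0, 0, 0, 0, 0, 2])) (.node (.leaf []) (.leaf [2, 1, 0, 1, 2, 1, 1, 1, 0, 1, 0, 1, 1, 2]))))) (.node (.node (.node (.node (.node (.leaf []) (.leaf [1, 0, 1, 2, 1, 2, 0, 1, 1, 2, 0, 2])) (.leaf [1, 1, 1, 0, 1, 2, 1, 2, 1, 0, 0, 0, 1, 1])) (.node (.leaf [2,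 0, 0, 0, 1, 1, 0, 2, 1, 1, 2, 2, 1, 1]) (.leaf [2, 2, 2, 1, 0, 0, 2, 0, 1, 0, 1, 2, 2, 2]))) (.node (.node (.leaf []) (.leaf [0, 2, 2, 1, 2, 0, 2, 2, 0, 1, 0, 0, 0, 1])) (.node (.leaf []) (.leaf [0, 2, 0, 0, 0, 1, 2, 2, 0, 1, 0, 1, 2, 2])))) (.node (.node (.node (.leaf []) (.leaf [0, 1])) (.node (.leaf [0, 2, 2, 2, 0, 0, 1, 0, 2, 0, 0, 2, 1, 2]) (.leaf [0, 1]))) (.node (.node (.leaf [1, 1, 0, 2, 0, 0, 0, 0, 2, 1, 1, 1, 1, 1]) (.leaf [])) (.node (.leaf [0, 1]) (.leaf [0, 2, 2, 0, 0, 0, 1, 1]))))))) (.node (.node (.node (.node (.node (.node (.node (.leaf []) (.leaf [0, 0, 2, 0, 2, 2, 0, 1, 0, 1])) (.leaf [1, 0, 0, 1, 2, 0, 1, 2, 0, 1, 1, 2, 0, 1])) (.node (.leaf [1, 1, 1, 1, 2, 2, 1, 2, 2, 1, 2, 1, 1, 1]) (.leaf []))) (.node (.node (.leaf []) (.leaf [1, 2, 2, 1, 1, 2, 2, 2, 0, 2, 0, 2, 2, 2])) (.node (.leaf []) (.leaf [0, 0, 1, 1, 1, 0, 0, 1, 0, 2, 2, 0, 2, 2])))) (.node (.node (.node (.node (.leaf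 []) (.leaf [1, 0, 1, 0, 1])) (.leaf [2, 1, 1, 0, 1, 0, 2, 2])) (.node (.leaf [2, 1, 1, 0, 2, 2, 2, 0, 1, 1, 2, 1, 0, 1]) (.leaf [1, 2, 1, 2, 1, 1, 2, 0, 1, 1, 1, 0, 1]))) (.node (.node (.leaf []) (.leaf [])) (.node (.leaf [0, 0, 0, 0, 1, 2, 1, 1, 0, 2, 1, 2, 2, 2]) (.leaf [2, 1, 0, 1, 2, 1, 0, 2, 0, 2, 0, 1, 1]))))) (.node (.node (.node (.node (.node (.leaf []) (.leaf [0, 0, 2, 0, 0, 2, 0, 2, 1, 1, 1, 1, 0, 2])) (.leaf [1, 1, 0, 1, 1, 2, 2, 2, 2, 1, 2, 1, 0, 2])) (.node (.leaf [0, 2, 2, 1, 0, 2, 0, 0, 0, 2, 2, 0, 2, 1]) (.leaf [2, 2, 2, 1, 1, 0, 1, 1, 0, 2, 0, 2, 0, 1]))) (.node (.node (.leaf [0, 2, 1, 0, 1, 2, 1, 0, 0, 2, 0, 2, 0, 2]) (.leaf [2, 2, 2, 0, 1, 2, 2, 0, 1, 2, 0, 2, 2, 2])) (.node (.leaf [1, 1, 0, 1, 2, 1, 1, 0, 0, 0, 2, 1, 1, 1]) (.leaf [1, 2, 2, 0, 0, 2, 2, 2])))) (.node (.node (.node (.leaf [0, 0, 2, 1, 1, 2, 2, 2, 0, 0, 1, 2, 1, 1]) (.leaf [2, 0, 0, 2, 1, 0, 1, 2, 2, 2, 2, 1, 2,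 1])) (.node (.leaf [0, 1, 1, 1, 2, 1, 0, 1, 1, 0, 1, 2, 0, 1]) (.leaf [0, 1]))) (.node (.node (.leaf [1, 1, 0, 1, 0, 0, 1, 1, 2, 2, 2, 1, 2, 2]) (.leaf [2, 0, 2, 2, 0, 0, 0, 1, 1, 1, 0, 1, 0, 1])) (.node (.leaf []) (.leaf [])))))) (.node (.node (.node (.node (.node (.node (.leaf []) (.leaf [2, 2, 1, 1, 0, 2, 2, 0, 1, 2, 0, 2, 1, 2])) (.leaf [1, 1, 1, 1, 1, 0, 0, 2, 1, 1, 0, 0, 1, 2])) (.node (.leaf [0, 1, 1, 1, 2, 1, 2, 2, 1, 2, 2, 2, 2, 1]) (.leaf []))) (.node (.node (.leaf []) (.leaf [1, 2, 0, 0, 2, 1, 0, 2])) (.node (.leaf []) (.leaf [1, 1, 2, 1, 1, 1, 1, 0, 2, 1, 1, 0, 2, 2])))) (.node (.node (.node (.leaf []) (.leaf [])) (.node (.leaf []) (.leaf []))) (.node (.node (.leaf []) (.leaf [0, 1, 2, 0, 0, 2, 1, 2])) (.node (.leaf [0, 0, 2, 0, 2, 0, 0, 1]) (.leaf [0, 2, 2, 0, 2, 1]))))) (.node (.node (.node (.node (.node (.leaf []) (.leaf [1, 0, 1, 1, 0, 2, 1, 2, 2, 2, 1, 0, 0, 1])) (.leaf [0, 0, 0,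 2, 2, 2, 2, 0, 2, 1, 0, 2, 1, 1])) (.node (.leaf [0, 2, 0, 1, 0, 0, 2, 0, 1, 1, 2, 1, 2, 1]) (.leaf [1]))) (.node (.node (.leaf []) (.leaf [2, 2, 1, 1, 0, 0, 0, 1, 0, 0, 2, 0, 2, 1])) (.node (.leaf []) (.leaf [1, 0, 0, 2, 2, 0, 1, 0, 1])))) (.node (.node (.node (.leaf []) (.leaf [1, 0, 0, 2, 1, 2, 1, 1, 0, 2, 2, 0, 2, 1])) (.node (.leaf []) (.leaf [2, 1, 1, 0, 0, 0, 1, 2]))) (.node (.node (.leaf [0, 2, 0, 2, 1, 0, 0, 2, 0, 2, 0, 1, 2, 1]) (.leaf [])) (.node (.leaf [0, 2, 1, 1, 1, 0, 1, 0, 2, 2, 1, 1, 0, 2]) (.leaf [1, 0, 1, 0, 2, 0, 2, 0, 1, 1, 2, 1, 1])))))))) (.node (.node (.node (.node (.node (.node (.node (.node (.leaf []) (.leaf [2, 2, 0, 0, 0, 0, 0, 0, 1, 0, 1, 0, 1])) (.leaf [])) (.node (.leaf []) (.leaf [1, 2, 1, 0, 1, 2]))) (.node (.node (.leaf []) (.leaf [0, 2, 0, 2, 0, 0, 0, 0, 1, 0, 2, 0, 1])) (.node (.leaf [0, 0, 0, 2, 0, 1, 1, 1, 1, 1, 0, 1, 0, 1]) (.leaf [1, 2, 2, 1, 1, 2, 2, 2, 1,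 1, 1, 1, 2, 2])))) (.node (.node (.node (.node (.leaf [1, 2, 0, 0, 0, 0, 2]) (.leaf [0, 1, 2, 0, 0, 0, 1, 2])) (.leaf [0, 1])) (.node (.leaf [0, 1, 1, 1, 2, 1, 1, 2, 2, 0, 2, 1, 2, 1]) (.leaf [2, 1, 0, 1, 2, 1, 0, 2, 0, 2, 1, 2, 1, 2]))) (.node (.node (.leaf []) (.leaf [])) (.node (.leaf [2, 1, 2, 1, 1, 2, 1, 1, 0, 1]) (.leaf [0, 2, 1, 1, 0, 0, 0, 0, 1, 0, 2, 0, 0, 2]))))) (.node (.node (.node (.node (.node (.leaf []) (.leaf [2, 2, 2, 1, 1, 2, 1, 1, 1, 0, 1, 0, 2, 1])) (.leaf [1, 1, 1, 2, 0, 2, 1, 0, 2, 2, 1, 2, 1, 2])) (.node (.leaf [1, 2, 1, 1, 1, 1, 1, 2, 0, 2, 0, 0, 2]) (.leaf []))) (.node (.node (.leaf []) (.leaf [0, 2, 2, 0, 2, 1, 1, 2, 0, 1, 0, 1, 2, 2])) (.node (.leaf [0, 2, 2, 0, 1, 2, 1, 2, 2, 1, 2, 1, 2, 1]) (.leaf [2, 2, 1, 1, 2, 1, 1, 0, 1, 0, 2, 2, 1, 2])))) (.node (.node (.node (.leaf [2, 1, 1, 2, 0, 0, 2, 2, 2, 1, 2, 2]) (.leaf [0, 1, 2, 2, 2, 0, 1, 0, 2, 0, 0, 2, 1, 2])) (.node (.leaf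 [1, 0, 1, 0, 1, 1, 0, 2, 1, 2, 0, 1, 0, 2]) (.leaf [2, 2, 1, 0, 1, 1, 0, 1, 0, 2, 1, 1, 1]))) (.node (.node (.leaf [2, 0, 0, 2, 0, 0, 0, 0, 0, 0, 1]) (.leaf [1, 1, 0, 2, 0, 0, 1, 0, 1])) (.node (.leaf []) (.leaf [2, 0, 2, 1, 2, 2, 1, 1, 0, 1])))))) (.node (.node (.node (.node (.node (.node (.leaf []) (.leaf [1, 0, 1, 0, 2, 0, 2, 2])) (.leaf [0, 2, 1, 0, 0, 0, 2, 1, 2, 2, 0, 2, 2, 1])) (.node (.leaf []) (.leaf [2, 2, 0, 1, 2, 2, 0, 0, 1, 1, 0, 2, 0, 1]))) (.node (.node (.leaf []) (.leaf [0, 2, 1, 1, 1, 0, 0, 1, 2, 2, 1, 2, 1])) (.node (.leaf []) (.leaf [1, 2, 0, 2, 1, 1, 0, 0, 1, 0, 0, 2])))) (.node (.node (.node (.leaf []) (.leaf [0, 1])) (.node (.leaf [1, 1, 2, 1, 2, 0, 1, 2, 2, 2, 2, 2, 2, 1]) (.leaf []))) (.node (.node (.leaf [1, 0, 1, 2, 0, 1, 0, 1, 2, 1, 2, 1, 0, 1]) (.leaf [])) (.node (.leaf []) (.leaf [1, 0, 1, 2, 2, 1, 2, 2, 0, 2]))))) (.node (.node (.node (.node (.node (.leaf [0, 1]) (.leaf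 [2, 1, 1, 1, 2, 2, 1, 0, 2, 2, 2, 2, 2, 1])) (.leaf [])) (.node (.leaf [0, 0, 0, 2, 1, 1, 2, 1, 2, 1, 0, 1]) (.leaf [0, 1, 0, 0, 0, 0, 2, 0, 1, 0, 2]))) (.node (.node (.leaf [1, 2, 1, 2, 1, 2, 1, 0, 0, 2, 2, 2, 2, 2]) (.leaf [1, 0, 0, 2, 1, 2, 1, 1, 0, 2, 1, 2, 1, 1])) (.node (.leaf [1, 1, 0, 0, 2, 0, 2, 0, 2, 1, 1, 1, 0, 1]) (.leaf [0, 1, 0, 1, 1, 0, 0, 2, 0, 2, 1, 1, 0, 1])))) (.node (.node (.node (.leaf [1, 2, 0, 0, 0, 0, 1]) (.leaf [2, 2, 2, 1, 2, 2, 0, 1, 2, 1, 2, 2, 0, 1])) (.node (.leaf [2, 1, 1, 1, 2, 0, 1, 1, 1, 1, 2, 0, 2]) (.leaf [0, 0, 0, 0, 1, 1, 1, 2, 0, 2, 2, 2, 1, 2]))) (.node (.node (.leaf []) (.leaf [])) (.node (.leaf []) (.leaf [2, 1, 2, 2, 2, 1, 2, 1, 1, 1, 2, 1, 1, 1]))))))) (.node (.node (.node (.node (.node (.node (.node (.leaf []) (.leaf [0, 2, 0, 1, 2, 0, 1, 1, 1, 1, 2, 1])) (.leaf [1, 2, 2, 0, 1, 1, 2, 2, 2, 1, 1, 1, 1])) (.node (.leaf []) (.leaf []))) (.node (.node (.leaf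 []) (.leaf [2, 1, 0, 0, 2, 1, 1, 0, 2, 1, 0, 1])) (.node (.leaf []) (.leaf [1, 0, 2, 2, 0, 2, 0, 0, 1, 2, 2, 0, 2])))) (.node (.node (.node (.leaf []) (.leaf [0, 1])) (.node (.leaf [1, 2, 0, 0, 0, 0, 1, 0, 2, 0, 1]) (.leaf []))) (.node (.node (.leaf [0, 1, 2, 0, 0, 0, 2, 0, 2, 1, 0, 2, 0, 1]) (.leaf [1, 0, 2, 2, 2, 2, 2, 2, 0, 2, 1, 2, 1, 1])) (.node (.leaf [1, 2, 1, 2, 0, 0, 0, 0, 0, 2, 1, 1, 1, 2]) (.leaf [2, 0, 1, 1, 0, 0, 0, 0, 1, 2, 0, 1, 2, 2]))))) (.node (.node (.node (.node (.node (.leaf []) (.leaf [1, 2, 2, 0, 2, 2, 2, 2, 1, 1, 1, 1, 0, 2])) (.leaf [0, 2, 0, 1, 0, 0, 0, 0, 2, 0, 1, 0, 2])) (.node (.leaf [0, 1, 1, 0, 0, 1, 1, 0, 2, 0, 1, 0, 2, 1]) (.leaf [0, 2, 0, 0, 1, 0, 0, 0, 1, 0, 0, 2]))) (.node (.node (.leaf []) (.leaf [0, 0, 2, 1, 2, 1, 2, 2, 2, 1, 0, 2, 1, 2])) (.node (.leaf []) (.leaf [2, 2, 0, 0, 1, 2, 2, 2, 1, 2, 1, 0, 1, 1])))) (.node (.node (.node (.leaf [2, 2, 2, 0, 2, 1, 0,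 0, 0, 2, 0, 2, 0, 2]) (.leaf [2, 1, 2, 2, 1, 0, 2, 2, 2, 0, 2, 1, 1, 1])) (.node (.leaf [2, 0, 0, 2, 0, 1, 2, 1, 1, 2, 1, 0, 1, 2]) (.leaf [0, 2, 1, 1, 1, 2, 1, 1, 1, 1, 2, 2, 0, 2]))) (.node (.node (.leaf []) (.leaf [2, 1, 2, 0, 2, 0, 2, 1, 0, 1, 2, 0, 1, 2])) (.node (.leaf []) (.leaf [1, 0, 0, 0, 0, 0, 1, 2, 2, 2, 1, 2, 2])))))) (.node (.node (.node (.node (.node (.node (.leaf [1, 0, 2, 1, 0, 1, 0, 0, 2, 2, 1, 2, 2, 2]) (.leaf [0, 2, 1, 2, 1, 0, 2, 0, 2, 2, 1, 2, 2, 1])) (.leaf [0, 2, 1, 1, 1, 0, 2, 0, 0, 2, 0, 2, 0, 1])) (.node (.leaf []) (.leaf [0, 0, 1, 2, 0, 2, 2, 0, 2, 0, 0, 2, 2, 1]))) (.node (.node (.leaf []) (.leaf [0, 1, 0, 1, 1, 1, 1, 2, 1, 1, 1, 0, 0, 2])) (.node (.leaf [0, 1, 2, 1, 0, 0, 2, 2, 1, 2, 0, 1, 2, 2]) (.leaf [1, 1, 0, 1, 0, 2, 2, 1, 2, 0, 1, 2, 0, 2])))) (.node (.node (.node (.leaf [1, 1, 0, 1, 1, 2, 0, 1, 1, 1, 2, 0, 2, 2]) (.leaf [1, 2, 2, 1, 0, 0, 1, 1, 0, 0, 0, 1, 1,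 1])) (.node (.leaf [1, 1, 2, 0, 0, 1, 0, 2, 0, 1, 1, 0, 0, 2]) (.leaf [0, 1, 0, 2, 0, 0, 2, 0, 2, 0, 0, 0, 2]))) (.node (.node (.leaf [0, 1]) (.leaf [2, 1, 0, 1, 2, 1, 1, 1, 2, 1, 0, 1])) (.node (.leaf [1, 0, 1, 0, 1, 1, 1, 2, 1, 2, 1, 1, 2, 2]) (.leaf [0, 1, 1, 0, 1, 0, 0, 2]))))) (.node (.node (.node (.node (.node (.leaf [2, 1, 0, 1, 2, 2, 0, 0, 0, 0, 0, 0, 1, 1]) (.leaf [2, 2, 1, 2, 1, 2, 0, 0, 2, 2, 2, 2, 1, 1])) (.leaf [0, 0, 1, 1, 0, 2, 0, 0, 0, 2, 0, 2, 2, 2])) (.node (.leaf [0, 1]) (.leaf [2, 0, 1, 1, 1, 2, 2, 2, 1, 1, 0, 2, 0, 1]))) (.node (.node (.leaf [0, 0, 1, 0, 1, 0, 0, 2]) (.leaf [])) (.node (.leaf [2, 0, 2, 1, 0, 2, 2, 1, 1, 0, 2, 2, 1, 2]) (.leaf [0, 1])))) (.node (.node (.node (.leaf [0, 1]) (.leaf [2, 1, 1, 1, 0, 2, 0, 2, 0, 1, 1])) (.node (.leaf []) (.leaf [2, 2, 2, 1, 1, 0, 0, 2, 2, 2]))) (.node (.node (.leaf [2, 0, 1, 2, 2, 0, 0, 2, 1, 2, 2, 0, 1, 1]) (.leaf [1, 1, 2, 2, 1,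 1, 2, 2, 1, 2, 2, 2])) (.node (.leaf [0, 1, 0, 1, 0, 1, 0, 1, 2, 1, 0, 2, 2, 1]) (.leaf [2, 1, 2, 0, 0, 1, 2, 1, 0, 1, 2, 1, 2])))))))))) (.node (.node (.node (.node (.node (.node (.node (.node (.node (.node (.leaf []) (.leaf [1, 2, 1, 1, 1, 0, 2, 2, 1, 2, 2, 2, 2, 2])) (.leaf [2, 1, 2, 0, 2, 0, 0, 1])) (.node (.leaf [1, 1, 0, 1, 2, 1, 1, 1, 2, 1, 0, 1]) (.leaf [2, 1, 1, 2, 2, 0, 0, 0, 0, 2, 0, 1, 2, 2]))) (.node (.node (.leaf [2, 1, 1, 1, 2, 0, 0, 1, 2, 0, 0, 2, 2, 2]) (.leaf [1, 2, 1, 0, 1, 0, 2, 0, 2, 2, 1, 0, 1])) (.node (.leaf [0, 1]) (.leaf [2, 0, 2, 1, 0, 2, 2, 1, 0, 2, 2, 1, 2, 1])))) (.node (.node (.node (.node (.leaf []) (.leaf [0, 0, 0, 1, 0, 0, 0, 1, 1, 0, 2, 2, 2, 2])) (.leaf [0, 2, 1, 0, 0, 0, 2, 1, 2, 0, 2, 0, 1, 1])) (.node (.leaf [2, 0, 0, 0, 0, 2, 0, 0, 1, 2, 1, 1, 0, 1]) (.leaf []))) (.node (.node (.leaf []) (.leaf [2, 1, 0, 0, 1, 1, 0, 1, 1, 1, 2, 1, 0, 1])) (.node (.leaf [])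 (.leaf [2, 0, 0, 0, 2, 0, 1]))))) (.node (.node (.node (.node (.node (.leaf []) (.leaf [0, 0, 1, 0, 0, 1, 0, 0, 1, 0, 0, 0, 0, 2])) (.leaf [0, 0, 2, 1, 2, 1, 0, 0, 0, 2, 1, 0, 1, 1])) (.node (.leaf [1, 1, 1, 1, 1, 0, 1, 2, 1, 0, 2, 0, 2]) (.leaf [2, 1, 1, 1, 2, 2, 1, 1, 0, 0, 2, 1, 1, 1]))) (.node (.node (.leaf []) (.leaf [2, 1, 2, 2, 0, 1, 2, 2, 2, 2, 2, 0, 2, 2])) (.node (.leaf []) (.leaf [1, 2, 1, 0, 0, 0, 2, 2, 1, 2, 0, 2, 2, 2])))) (.node (.node (.node (.leaf []) (.leaf [0, 1, 2, 1, 1, 2, 2, 0, 1, 2, 1, 1, 1, 2])) (.node (.leaf [2, 1, 1, 0, 0, 1, 2, 2, 2, 0, 2, 1, 0, 1]) (.leaf [2, 2, 1, 0, 2, 0, 2, 1, 1, 0, 2, 0, 2, 1]))) (.node (.node (.leaf []) (.leaf [0, 0, 0, 0, 0, 2, 1, 0, 1, 0, 0, 2, 1, 2])) (.node (.leaf []) (.leaf [2, 2, 1, 2, 2, 1, 0, 2, 2, 1, 2, 0, 1, 1])))))) (.node (.node (.node (.node (.node (.node (.leaf []) (.leaf [2, 2, 0, 0, 2, 1, 0, 2])) (.leaf [2, 0, 0, 1, 2, 0, 2, 1, 0,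 2, 2, 2, 1, 1])) (.node (.leaf [1, 2, 0, 2, 1, 1, 2, 1, 0, 0, 2, 2, 1, 2]) (.leaf [1, 2, 2, 0, 2, 0, 1, 1]))) (.node (.node (.leaf []) (.leaf [0, 1])) (.node (.leaf [1, 1, 0, 0, 0, 1, 2, 0, 0, 1, 0, 0, 1, 1]) (.leaf [0, 2, 2, 2, 1, 2, 0, 0, 0, 2, 2, 2, 1])))) (.node (.node (.node (.leaf []) (.leaf [2, 1, 2, 1, 2, 1, 1, 0, 0, 0, 0, 2, 2, 1])) (.node (.leaf [2, 2, 0, 0, 1, 0, 0, 0, 1, 0, 0, 2]) (.leaf [0, 2, 1, 1, 2, 2, 0, 0, 2, 1, 1, 1, 2, 1]))) (.node (.node (.leaf [2, 2, 0, 2, 0, 0, 0, 0, 0, 0, 1]) (.leaf [2, 1, 0, 1, 0, 0, 0, 0, 1, 0, 2, 1, 2, 2])) (.node (.leaf [1, 0, 1, 2, 1, 0, 1, 0, 1, 1, 2, 1, 2]) (.leaf []))))) (.node (.node (.node (.node (.node (.leaf []) (.leaf [0, 1, 0, 1, 1, 0, 2, 1, 2, 2, 0, 2, 1, 1])) (.leaf [1, 2, 0, 2, 1, 1, 0, 2, 0, 2, 1, 1])) (.node (.leaf []) (.leaf [2, 1, 0, 0, 0, 0, 0, 0, 2, 0, 2, 0, 2]))) (.node (.node (.leaf []) (.leaf [0, 1, 0, 1, 0, 2, 2, 0, 1, 0, 2, 0, 1,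 1])) (.node (.leaf [2, 1, 0, 1, 1, 0, 2, 2, 2, 1, 2, 1, 0, 2]) (.leaf [0, 1, 2, 2, 2, 0, 1, 1, 0, 0, 0, 0, 0, 1])))) (.node (.node (.node (.leaf [0, 1]) (.leaf [2, 2, 2, 0, 2, 1])) (.node (.leaf []) (.leaf [0, 2, 2, 2, 1, 1, 2, 0, 2, 1, 1, 2, 2]))) (.node (.node (.leaf [1, 1, 2, 1, 1, 1, 2, 2, 1, 1, 0, 1, 1, 1]) (.leaf [0, 1])) (.node (.leaf [0, 0, 2, 2, 2, 1, 0, 1, 0, 2]) (.leaf [1, 0, 0, 1, 1, 0, 0, 1, 2, 0, 0, 1, 1, 1]))))))) (.node (.node (.node (.node (.node (.node (.node (.leaf []) (.leaf [2, 2, 2, 2, 1, 0, 1, 2, 0, 0, 2, 1, 0, 1])) (.leaf [1, 1, 2, 0, 2, 2, 2, 0, 2, 1, 1, 1, 1])) (.node (.leaf [0, 1, 0, 2, 0, 0, 1, 0, 1]) (.leaf [1, 0, 1, 1, 1, 2, 1, 2, 2, 2, 1, 2, 1]))) (.node (.node (.leaf []) (.leaf [0, 1, 0, 2, 0, 2, 2, 2, 0, 0, 0, 1, 2, 1])) (.node (.leaf []) (.leaf [1, 0, 2, 2, 1, 1, 0, 1, 2, 0, 0, 2])))) (.node (.node (.node (.node (.leaf []) (.leaf [0, 0, 0, 2, 1, 0, 1, 0, 1, 0, 1]))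 (.leaf [0, 0, 0, 2, 2, 2, 1, 2, 1, 2, 0, 2])) (.node (.leaf []) (.leaf [2, 2, 0, 1, 1, 0, 2, 1, 0, 1, 2, 2, 1, 2]))) (.node (.node (.leaf []) (.leaf [])) (.node (.leaf []) (.leaf [2, 2, 2, 2, 2, 2, 0, 1, 2, 1]))))) (.node (.node (.node (.node (.node (.leaf []) (.leaf [1, 1, 1, 1, 0, 0, 1, 2, 2, 0, 1, 2, 2, 1])) (.leaf [1, 0, 0, 0, 0, 1, 2, 0, 1, 0, 0, 2])) (.node (.leaf [0, 2, 1, 0, 1, 2]) (.leaf [1, 1, 1, 1, 2, 1, 2, 1, 2, 0, 1, 0, 1, 1]))) (.node (.node (.leaf []) (.leaf [0, 0, 0, 0, 1, 2, 1, 1, 1, 2, 0, 2])) (.node (.leaf []) (.leaf [2, 2, 0, 1, 2, 2, 0, 0, 0, 0, 0, 0, 1, 1])))) (.node (.node (.node (.leaf []) (.leaf [1, 0, 1, 2, 2, 2, 2, 2, 1, 0, 0, 2, 2, 2])) (.node (.leaf [0, 1, 0, 0, 2, 2, 2, 2, 2, 0, 2, 0, 0, 2]) (.leaf [0, 1, 2, 0, 2, 0, 0, 1]))) (.node (.node (.leaf []) (.leaf [])) (.node (.leaf [0, 1]) (.leaf [0, 1])))))) (.node (.node (.node (.node (.node (.node (.leaf []) (.leaf [1,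 2, 0, 2, 0, 1, 2, 1, 1, 0, 0, 2, 2, 2])) (.leaf [1, 1, 2, 0, 0, 1, 2, 1, 0, 1, 1, 0, 0, 1])) (.node (.leaf []) (.leaf [1, 2, 1, 2, 2, 0, 2, 1, 2, 1, 0, 2, 1, 1]))) (.node (.node (.leaf []) (.leaf [1, 0, 1, 0, 1, 1, 1, 2, 2, 2, 1, 0, 2, 2])) (.node (.leaf [0, 1]) (.leaf [2, 0, 2, 1, 1, 0, 2, 1, 1, 1, 1, 2, 1, 1])))) (.node (.node (.node (.leaf []) (.leaf [2, 1, 0, 1, 2, 2, 1, 2, 1, 2, 0, 2])) (.node (.leaf [2, 1, 0, 0, 0, 0, 2, 0, 1, 0, 2]) (.leaf [2, 0, 0, 2, 1, 0, 2, 0, 0, 0, 1]))) (.node (.node (.leaf []) (.leaf [0, 1, 0, 0, 0, 0, 2, 0, 0, 1, 2, 2, 1])) (.node (.leaf [0, 0, 1, 2, 1, 2, 0, 2, 2, 0, 2, 2, 2, 2]) (.leaf [2, 2, 0, 2, 2, 0, 2, 0, 2, 0, 2]))))) (.node (.node (.node (.node (.node (.leaf []) (.leaf [2, 0, 2, 1, 0, 1, 0, 1, 2, 0, 1, 2, 2, 2])) (.leaf [1, 1, 1, 1, 0, 1, 1, 1, 0, 2, 1, 1, 2, 2])) (.node (.leaf [1, 2, 0, 1, 2, 2, 0, 0, 1, 1, 0, 2, 0, 1]) (.leaf [2, 1, 1, 1, 2, 2, 0, 2, 0,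 2, 1, 2]))) (.node (.node (.leaf []) (.leaf [0, 1])) (.node (.leaf []) (.leaf [0, 1, 2, 2, 2, 2, 2, 1, 1, 0, 0, 2, 0, 2])))) (.node (.node (.node (.leaf []) (.leaf [2, 1, 0, 0, 0, 2, 1, 0, 0, 0, 0, 0, 2, 1])) (.node (.leaf []) (.leaf [2, 0, 1, 1, 0, 1, 2, 2, 2, 1, 1, 2, 2, 2]))) (.node (.node (.leaf []) (.leaf [1, 0, 1, 0, 0, 1, 2, 1])) (.node (.leaf []) (.leaf [0, 1])))))))) (.node (.node (.node (.node (.node (.node (.node (.node (.leaf []) (.leaf [0, 1, 0, 0, 2, 1, 1, 0, 2, 1, 0, 1])) (.leaf [2, 0, 1, 0, 0, 0, 1, 2])) (.node (.leaf [0, 0, 1, 2, 2, 1, 0, 1, 0, 2, 2, 0, 2, 1]) (.leaf [0, 1, 2, 1, 1, 2, 2, 1, 1, 0, 1, 2, 2, 2]))) (.node (.node (.leaf []) (.leaf [0, 2, 0, 0, 0, 2, 1, 1, 2, 2, 0, 2, 1, 2])) (.node (.leaf []) (.leaf [1, 2, 2, 2, 2, 2, 0, 0, 0, 2, 2, 2, 2, 2])))) (.node (.node (.node (.node (.leaf []) (.leaf [0, 1, 0, 0, 0, 0, 0, 0, 0, 0, 0, 0, 0, 0])) (.leaf [2, 2, 2, 2, 2, 0, 0, 0,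 1, 1, 2, 1, 0, 2])) (.node (.leaf [2, 1, 0, 0, 1, 2, 0, 1, 1, 1, 1, 0, 1, 2]) (.leaf [0, 0, 1, 2, 0, 0, 0, 1, 1, 0, 1, 0, 1, 1]))) (.node (.node (.leaf []) (.leaf [])) (.node (.leaf []) (.leaf [2, 2, 0, 2, 0, 0, 0, 0, 1]))))) (.node (.node (.node (.node (.node (.leaf [0, 2, 2, 2, 0, 0, 0, 0, 0, 0, 0, 0, 0, 1]) (.leaf [2, 1, 1, 1, 1, 0, 0, 2, 2, 2, 0, 0, 2, 2])) (.leaf [0, 0, 1, 0, 0, 1, 2, 2, 2, 2, 0, 1, 2, 2])) (.node (.leaf [0, 2, 1, 1, 2, 1, 1, 2, 1, 0, 1, 0, 1, 2]) (.leaf [1, 0, 2, 2, 2, 0, 1, 0, 2, 2, 1, 2]))) (.node (.node (.leaf [2, 1, 2, 1, 1, 2, 1, 1, 0, 1]) (.leaf [2, 1, 2, 1, 2, 1, 0, 2, 2, 1, 0, 1])) (.node (.leaf []) (.leaf [0, 0, 2, 1, 0, 2, 0, 2, 2, 2, 2, 0, 1, 1])))) (.node (.node (.node (.leaf [2, 0, 0, 0, 2, 0, 1]) (.leaf [1, 2, 0, 0, 1, 2, 0, 1])) (.node (.leaf [2, 2, 1, 0, 1, 1, 1, 2, 1, 2, 2, 1, 2, 2]) (.leaf [2, 1, 2, 0, 0, 2, 1, 2, 2, 2, 0, 0, 0, 1]))) (.node (.node (.leaf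 [0, 1]) (.leaf [2, 1, 0, 0, 1, 1, 1, 0, 1, 0, 2, 0, 1, 2])) (.node (.leaf [0, 2, 2, 1, 2, 0, 1, 2, 1, 0, 0, 1, 2, 1]) (.leaf [1, 0, 1, 0, 2, 2, 2, 2, 2, 1, 2, 2, 1, 1])))))) (.node (.node (.node (.node (.node (.node (.leaf []) (.leaf [1, 2, 0, 2, 0, 1, 0, 2, 1, 1, 1, 0, 2, 2])) (.leaf [1, 0, 2, 1, 0, 1, 0, 0, 0, 2, 0, 2, 2, 2])) (.node (.leaf []) (.leaf []))) (.node (.node (.leaf []) (.leaf [0, 2, 0, 2, 1, 0, 1, 0, 0, 1, 0, 2, 2, 1])) (.node (.leaf []) (.leaf [2, 1, 1, 1, 0, 1, 1, 1, 2, 2, 0, 2, 0, 2])))) (.node (.node (.node (.leaf [1, 2, 1, 1, 0, 2, 2, 0, 0, 1, 0, 1, 2, 1]) (.leaf [1, 1, 0, 0, 2, 0, 1, 0, 1, 0, 0, 0, 2])) (.node (.leaf [0, 0, 1, 2, 2, 1, 1, 0, 2, 0, 0, 2, 1, 2]) (.leaf []))) (.node (.node (.leaf []) (.leaf [1, 1, 0, 1, 1, 1, 1, 0, 0, 0, 1, 0, 2, 2])) (.node (.leaf [1, 0, 1, 2, 2, 2, 0, 2, 0, 0, 0, 2, 0, 2]) (.leaf [0, 1, 0, 0, 1, 2, 2, 1, 2, 0, 1, 1, 2, 1]))))) (.node (.node (.node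 (.node (.node (.leaf []) (.leaf [2, 0, 0, 1, 1, 1, 2, 0, 0, 0, 0, 2, 2])) (.leaf [0, 1])) (.node (.leaf [1, 1, 2, 0, 1, 0, 1, 0, 1, 1, 2, 1, 2, 2]) (.leaf [1, 0, 1, 2, 0, 0, 1, 2, 2, 2, 2, 2, 0, 2]))) (.node (.node (.leaf [0, 1, 1, 2, 0, 0, 2, 2, 1, 1, 0, 2]) (.leaf [2, 0, 1, 1, 1, 0, 1, 2, 1, 0, 1, 0, 1, 2])) (.node (.leaf []) (.leaf [0, 0, 2, 2, 0, 0, 2, 0, 1, 1])))) (.node (.node (.node (.leaf []) (.leaf [2, 1, 2, 0, 2, 0, 0, 1])) (.node (.leaf [0, 0, 0, 1, 2, 2, 2, 1, 0, 0, 2, 1, 0, 2]) (.leaf [0, 2, 0, 1, 1, 2, 1, 2, 2, 1, 2, 0, 0, 2]))) (.node (.node (.leaf [0, 2, 0, 1, 0, 0, 0, 0, 0, 0, 2]) (.leaf [])) (.node (.leaf [1, 1, 0, 2, 0, 1, 2, 0, 1, 0, 0, 2]) (.leaf [0, 1, 1, 1, 0, 2, 0, 2, 0, 1, 1]))))))) (.node (.node (.node (.node (.node (.node (.node (.leaf []) (.leaf [1, 1, 0, 1, 2, 0, 2, 1, 1, 1, 2, 1])) (.leaf [0, 1, 1, 1, 2, 1, 2, 1, 1, 0, 2, 1, 2, 2])) (.node (.leaf [0, 0, 0, 2, 0, 2, 0,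 1, 0, 1, 1, 1, 0, 1]) (.leaf [2, 2, 0, 2, 2, 1, 2, 0, 2, 0, 1, 0, 2, 2]))) (.node (.node (.leaf []) (.leaf [0, 1, 0, 2, 1, 2, 1, 2, 1, 2, 0, 2])) (.node (.leaf [0, 1]) (.leaf [2, 1, 1, 2, 0, 2, 1, 0, 0, 0, 0, 0, 1])))) (.node (.node (.node (.leaf []) (.leaf [2, 0, 1, 2, 2, 0, 2, 2, 0, 2, 0, 0, 1, 1])) (.node (.leaf [0, 0, 1, 1, 0, 2, 2, 1, 0, 0, 0, 0, 1, 1]) (.leaf [1, 1, 0, 2, 0, 0, 2, 0, 1]))) (.node (.node (.leaf [1, 1, 2, 1, 0, 2, 0, 1, 1, 2, 2, 0, 1, 2]) (.leaf [])) (.node (.leaf [2, 1, 0, 2, 2, 0, 0, 0, 0, 0, 1]) (.leaf [0, 1]))))) (.node (.node (.node (.node (.node (.leaf [1, 2, 0, 0, 0, 0, 1]) (.leaf [0, 1, 1, 0, 0, 1, 0, 1, 2, 2, 2, 2, 0, 1])) (.leaf [1, 1, 0, 0, 1, 1, 0, 2, 1, 0, 0, 0, 0, 2])) (.node (.leaf []) (.leaf [1, 0, 0, 2, 2, 0, 0, 0, 2, 0, 2]))) (.node (.node (.leaf [0, 0, 0, 0, 0, 0, 1, 0, 2, 0, 1]) (.leaf [0, 2, 0, 1, 2, 1, 1, 1, 1, 0, 2, 0, 2, 2])) (.node (.leaf [0, 1, 1, 1,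 0, 0, 2, 1, 0, 0, 1, 0, 0, 1]) (.leaf [2, 1, 1, 2, 2, 1, 2, 0, 1, 0, 2, 2, 1, 2])))) (.node (.node (.node (.leaf [1, 0, 2, 1, 2, 2, 0, 0, 1, 2, 2, 2, 0, 1]) (.leaf [2, 2, 2, 2, 1, 1, 2, 2, 0, 1, 1, 2, 2, 1])) (.node (.leaf [0, 0, 2, 2, 0, 1, 0, 0, 2, 2, 0, 1, 2]) (.leaf [0, 2, 0, 0, 0, 2, 2, 0, 2, 1, 2, 1, 2, 1]))) (.node (.node (.leaf []) (.leaf [])) (.node (.leaf [1, 1, 0, 1, 0, 0, 0, 0, 0, 0, 2]) (.leaf [0, 2, 0, 0, 2, 2, 2, 1, 0, 2, 1, 0, 2, 1])))))) (.node (.node (.node (.node (.node (.node (.leaf []) (.leaf [0, 1, 2, 2, 0, 1, 2, 2, 0, 1, 0, 1, 0, 2])) (.leaf [0, 2, 1, 0, 2, 1, 0, 2, 2, 2, 1, 2, 1, 1])) (.node (.leaf []) (.leaf [1, 0, 1, 1, 1, 1, 1, 2, 1, 0, 0, 2, 2]))) (.node (.node (.leaf []) (.leaf [0, 1])) (.node (.leaf []) (.leaf [0, 1])))) (.node (.node (.node (.leaf [1, 2, 0, 0, 0, 0, 1]) (.leaf [1, 1, 1, 2, 1, 1, 2, 2, 0, 2, 1, 0, 2, 2])) (.node (.leaf []) (.leaf [0, 1]))) (.node (.node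 (.leaf []) (.leaf [0, 1, 1, 0, 1, 0, 0, 2])) (.node (.leaf []) (.leaf [2, 1, 0, 2, 2, 2, 1, 0, 1, 0, 1, 2, 1, 2]))))) (.node (.node (.node (.node (.node (.leaf []) (.leaf [2, 1, 0, 2, 0, 1, 1, 0, 0, 0, 0, 2, 1])) (.leaf [0, 0, 0, 0, 0, 0, 1, 0, 2, 0, 1])) (.node (.leaf []) (.leaf [2, 2, 0, 0, 1, 2, 1, 2, 0, 1, 1, 1]))) (.node (.node (.leaf [0, 0, 2, 0, 2, 0, 0, 1]) (.leaf [0, 1])) (.node (.leaf [0, 2, 1, 2, 0, 2, 1, 0, 1, 0, 1, 0, 2]) (.leaf [1, 2, 0, 0, 1, 1, 1, 0, 2, 1, 1])))) (.node (.node (.node (.leaf []) (.leaf [2, 0, 0, 0, 0, 1, 1, 0, 2, 2, 1, 2, 1, 1])) (.node (.leaf [0, 1, 2, 0, 2, 0, 0, 1, 0, 1, 2, 0, 1, 2]) (.leaf [1, 2, 2, 1, 1, 1, 1, 1, 1, 1, 1, 0, 1, 1]))) (.node (.node (.leaf [2, 1, 2, 0, 0, 2, 1, 2]) (.leaf [])) (.node (.leaf [0, 1]) (.leaf [0, 2, 0, 2, 0, 0, 0, 0, 1, 0, 2, 0, 1]))))))))) (.node (.node (.node (.node (.node (.node (.node (.node (.node (.leaf []) (.leaf [0, 1])) (.leaf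 [1, 2, 0, 1, 2, 2, 2, 1, 1, 0, 1, 2, 0, 1])) (.node (.leaf []) (.leaf [2, 2, 2, 0, 1, 1, 0, 2, 1, 0, 2, 1, 1]))) (.node (.node (.leaf []) (.leaf [2, 2, 2, 2, 0, 2, 0, 0, 0, 1, 0, 1, 2])) (.node (.leaf []) (.leaf [1, 0, 2, 2, 1, 0, 2, 0, 0, 0, 0, 0, 0, 1])))) (.node (.node (.node (.node (.leaf []) (.leaf [1, 0, 1, 0, 1, 0, 0, 2])) (.leaf [0, 2, 0, 1, 1, 2, 0, 1, 2, 1, 1, 1, 2, 1])) (.node (.leaf [1, 2, 0, 2, 1, 1, 0, 1, 1, 0, 0, 0, 1, 2]) (.leaf [2, 2, 1, 2, 2, 1, 1, 2, 1, 2, 0, 1, 1, 2]))) (.node (.node (.leaf []) (.leaf [2, 0, 0, 2, 0, 0, 0, 0, 0, 0, 1])) (.node (.leaf []) (.leaf [2, 2, 0, 0, 0, 0, 2, 0, 1, 0, 2]))))) (.node (.node (.node (.node (.node (.leaf []) (.leaf [1, 2, 1, 0, 2, 1, 1, 0, 1, 2, 2, 2, 0, 1])) (.leaf [1, 1, 2, 2, 0, 2, 0, 2, 1, 1, 1, 1, 1, 2])) (.node (.leaf [1, 1, 2, 1, 2, 0, 2, 2, 0, 0, 2, 1, 1, 1]) (.leaf [2, 2, 2, 2, 1, 0, 0, 2, 1, 0, 0, 1, 1, 1]))) (.node (.node (.leaf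 []) (.leaf [2, 1, 2, 0, 1, 1, 0, 0, 0, 2, 1, 2, 2, 2])) (.node (.leaf []) (.leaf [0, 1, 1, 1, 0, 2, 0, 2, 2, 2, 2, 0, 0, 2])))) (.node (.node (.node (.leaf [0, 0, 2, 0, 2, 0, 0, 1]) (.leaf [2, 2, 2, 0, 2, 1])) (.node (.leaf [2, 1, 0, 2, 2, 0, 2, 0, 1, 2, 2, 2, 1, 2]) (.leaf [2, 0, 0, 2, 0, 0, 0, 0, 0, 0, 1]))) (.node (.node (.leaf []) (.leaf [])) (.node (.leaf []) (.leaf [2, 0, 1, 0, 0, 2, 2, 0, 0, 0, 0, 1, 0, 2])))))) (.node (.node (.node (.node (.node (.node (.leaf []) (.leaf [0, 1, 2, 0, 0, 0, 0, 1, 2, 0, 1, 2, 1, 2])) (.leaf [2, 1, 1, 0, 0, 1, 1, 2, 1, 0, 0, 1, 0, 1])) (.node (.leaf []) (.leaf [1, 0, 0, 2, 1, 1, 2, 1, 2, 1, 0, 1]))) (.node (.node (.leaf []) (.leaf [2, 0, 2, 0, 2, 2, 0, 1, 0, 1])) (.node (.leaf []) (.leaf [2, 2, 0, 1, 2, 0, 2, 2, 2, 2, 0, 1, 2, 1])))) (.node (.node (.node (.leaf [0, 0, 0, 0, 0, 0, 1, 0, 2, 0, 1]) (.leaf [0, 2, 1, 0, 1, 2, 0, 2, 0, 1, 0, 0, 1])) (.node (.leaf [1,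 2, 2, 2, 0, 1, 2, 1, 1, 2, 1, 1, 0, 2]) (.leaf [0, 2, 2, 1, 1, 0, 2, 1, 2, 2, 1, 1]))) (.node (.node (.leaf []) (.leaf [])) (.node (.leaf []) (.leaf [1, 0, 0, 1, 1, 0, 0, 0, 0, 0, 2]))))) (.node (.node (.node (.node (.node (.leaf []) (.leaf [0, 0, 2, 2, 0, 0, 2, 0, 2, 2, 0, 1, 2, 1])) (.leaf [2, 1, 0, 1, 1, 0, 2, 0, 2])) (.node (.leaf [0, 2, 1, 0, 0, 0, 2, 2]) (.leaf [1, 2, 2, 1, 1, 1, 2, 2, 1, 0, 0, 0, 0, 1]))) (.node (.node (.leaf []) (.leaf [0, 0, 1, 1, 0, 2, 1, 2, 0, 0, 2, 0, 1, 2])) (.node (.leaf [0, 1, 2, 2, 0, 2, 0, 0, 0, 2, 0, 2, 2, 1]) (.leaf [0, 1, 2, 1, 1, 2, 2, 1, 1, 1, 2, 0, 0, 1])))) (.node (.node (.node (.leaf [1, 1, 2, 1, 0, 2, 0, 1, 1, 2, 2, 0, 1, 2]) (.leaf [])) (.node (.leaf [1, 0, 0, 1, 0, 2, 1, 0, 2, 0, 0, 1]) (.leaf [2, 2, 2, 0, 0, 2, 0, 1, 1, 2, 0, 2]))) (.node (.node (.leaf []) (.leaf [])) (.node (.leaf []) (.leaf [1, 2, 1, 0, 0, 0, 2, 2]))))))) (.node (.node (.node (.node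 (.node (.node (.node (.leaf []) (.leaf [0, 0, 1, 2, 1, 2, 0, 1, 1, 1, 2, 1, 2])) (.leaf [2, 2, 1, 1, 2, 1, 1, 0, 0, 1, 0, 1, 1, 2])) (.node (.leaf [2, 2, 2, 0, 2, 1, 1, 2, 0, 1, 1, 0, 1]) (.leaf [0, 2, 0, 2, 2, 1, 1, 0, 1, 2, 2, 2, 2, 1]))) (.node (.node (.leaf []) (.leaf [2, 2, 2, 1, 1, 0, 2, 0, 1, 2, 1, 0, 2, 2])) (.node (.leaf []) (.leaf [0, 2, 0, 2, 2, 2, 0, 0, 1, 1, 2, 0, 2, 2])))) (.node (.node (.node (.node (.leaf [2, 1, 2, 1, 1, 2, 1, 1, 0, 1]) (.leaf [0, 1, 2, 2, 1, 0, 0, 1, 0, 1, 0, 1, 1, 2])) (.leaf [1, 2, 0, 2, 1, 1, 2, 2, 0, 0, 2, 1, 1, 1])) (.node (.leaf [1, 2, 0, 1, 0, 1, 0, 2, 2, 1, 1, 1, 2, 1]) (.leaf [0, 1, 0, 0, 2, 1, 1, 1, 1, 2, 1, 0, 0, 2]))) (.node (.node (.leaf [0, 1]) (.leaf [])) (.node (.leaf [2, 2, 1, 1, 2, 0, 2, 0, 2, 0, 1, 1, 0, 1]) (.leaf [0, 1]))))) (.node (.node (.node (.node (.node (.leaf []) (.leaf [0, 2, 2, 2, 2, 0, 2, 1, 0, 0, 0, 2, 2, 1])) (.leaf [2, 1, 1, 0, 2,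 2, 2, 2, 0, 2, 1, 0, 1, 2])) (.node (.leaf [0, 1]) (.leaf [1, 2, 0, 0, 0, 0, 1, 0, 2, 0, 1]))) (.node (.node (.leaf []) (.leaf [2, 0, 2, 1, 1, 0, 2, 0, 0, 1, 0, 1, 1, 2])) (.node (.leaf []) (.leaf [2, 0, 2, 1, 1, 0, 1, 1, 0, 0, 0, 0, 2])))) (.node (.node (.node (.leaf []) (.leaf [0, 1, 0, 2, 0, 0, 0, 0, 0, 0, 2, 0, 2])) (.node (.leaf [0, 2, 1, 1, 2, 2, 0, 1, 2, 1, 1, 2, 1, 2]) (.leaf [1, 0, 1, 2, 2, 1, 2, 0, 1, 0, 1, 2, 1, 2]))) (.node (.node (.leaf []) (.leaf [])) (.node (.leaf []) (.leaf [2, 0, 0, 0, 2, 0, 1, 2, 1, 1, 2, 0, 1])))))) (.node (.node (.node (.node (.node (.node (.leaf []) (.leaf [2, 2, 0, 2, 2, 0, 0, 0, 0, 2, 0, 1, 1])) (.leaf [1, 0, 1, 2, 1, 0, 0, 2, 2, 1, 2, 0, 0, 2])) (.node (.leaf []) (.leaf [0, 1]))) (.node (.node (.leaf []) (.leaf [1, 0, 0, 2, 2, 1, 1, 0, 1, 1, 2, 1, 2])) (.node (.leaf [1, 2, 0, 2, 1, 1, 0, 0, 0, 0, 0, 0, 2, 2]) (.leaf [2, 2, 0, 0, 0, 0, 2])))) (.node (.node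 (.node (.leaf [2, 1, 1, 2, 0, 0, 2, 2, 1, 1, 0, 2]) (.leaf [1, 0, 0, 0, 0, 1, 2, 1, 0, 1, 0, 1, 2, 2])) (.node (.leaf [0, 0, 1, 2, 0, 0, 0, 2, 2, 0, 2]) (.leaf [1, 1, 0, 1, 1, 1, 0, 1, 1, 0, 0, 2, 1, 1]))) (.node (.node (.leaf [0, 1, 2, 1, 2, 2, 0, 1, 1, 0, 1, 2, 2, 2]) (.leaf [1, 2, 1, 2, 0, 2, 2, 2, 2, 1, 1, 2, 0, 1])) (.node (.leaf [0, 1]) (.leaf [0, 1, 1, 2, 0, 0, 1, 0, 0, 0, 0, 2, 1]))))) (.node (.node (.node (.node (.node (.leaf []) (.leaf [1, 0, 1, 0, 1, 0, 0, 2])) (.leaf [0, 0, 1, 0, 1, 0, 2, 0, 1, 2, 2, 2, 1, 1])) (.node (.leaf [0, 1, 1, 0, 2, 0, 1, 0, 2, 2, 2, 1, 2]) (.leaf [2, 1, 0, 0, 0, 0, 0, 2, 2, 1, 2, 0, 0, 2]))) (.node (.node (.leaf []) (.leaf [0, 0, 1, 2, 1, 2, 0, 1, 1, 2, 0, 2])) (.node (.leaf [1, 0, 1, 2, 2, 1, 2, 2, 0, 2]) (.leaf [0, 1, 0, 2, 0, 0, 0, 0, 2, 0, 1, 0, 1])))) (.node (.node (.node (.leaf []) (.leaf [0, 2, 2, 0, 0, 0, 1, 1])) (.node (.leaf []) (.leaf [0, 2, 2, 2,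 0, 2, 2, 1, 0, 2, 2, 1, 1, 1]))) (.node (.node (.leaf []) (.leaf [])) (.node (.leaf []) (.leaf [0, 0, 2, 1, 0, 2, 1, 2, 1, 2, 1, 0, 0, 1])))))))) (.node (.node (.node (.node (.node (.node (.node (.node (.leaf []) (.leaf [2, 1, 2, 1, 0, 2, 2, 0, 2, 2, 2, 1, 2, 2])) (.leaf [0, 2, 0, 0, 2, 0, 0, 2, 1, 1, 0, 2, 1, 1])) (.node (.leaf [1, 2, 1, 1, 0, 2, 2, 0, 0, 1, 0, 1, 2, 1]) (.leaf [2, 1, 2, 2, 1, 0, 0, 0, 2, 0, 0, 1, 2, 1]))) (.node (.node (.leaf [2, 2, 0, 0, 0, 0, 1]) (.leaf [0, 1, 0, 1, 0, 2, 0, 1, 0, 0, 2])) (.node (.leaf [0, 1, 1, 0, 0, 1, 1, 0, 2, 0, 1, 0, 2, 1]) (.leaf [1, 0, 2, 2, 1, 0, 2, 0, 2, 1, 2, 1, 1])))) (.node (.node (.node (.node (.leaf []) (.leaf [2, 2, 0, 0, 1, 0, 0, 0, 1])) (.leaf [1, 1, 0, 1, 2, 1, 0, 0, 1, 1, 2, 1])) (.node (.leaf [0, 1]) (.leaf [2, 1, 1, 2, 2, 0, 1, 1, 2, 2, 0, 1, 1, 1]))) (.node (.node (.leaf [0, 0, 2, 0, 2, 0, 2, 0, 0, 0, 0, 0, 2, 1]) (.leaf [1, 1, 2, 1, 0,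 1, 1, 1, 0, 2, 1, 1, 2, 2])) (.node (.leaf []) (.leaf [2, 1, 1, 2, 1, 1, 2, 2, 0, 1, 1, 0, 2, 2]))))) (.node (.node (.node (.node (.node (.leaf []) (.leaf [2, 1, 2, 2, 1, 2, 1, 0, 0, 1, 2, 2, 2])) (.leaf [1, 0, 0, 1, 2, 0, 1, 2, 0, 0, 0, 1, 2])) (.node (.leaf [0, 1, 1, 2, 2, 2, 2, 1, 2, 2, 0, 1, 0, 2]) (.leaf [2, 1, 2, 2, 2, 2, 1, 0, 2, 2, 1, 2, 2, 1]))) (.node (.node (.leaf []) (.leaf [0, 1, 2, 0, 2, 0, 2, 0, 0, 0, 0, 0, 2, 1])) (.node (.leaf [0, 2, 2, 0, 2, 2, 1, 1, 1, 2, 2, 0, 2, 2]) (.leaf [0, 1, 0, 0, 1, 0, 2])))) (.node (.node (.node (.leaf []) (.leaf [0, 1, 1, 0, 1, 0, 0, 2])) (.node (.leaf [2, 1, 1, 1, 2, 0, 1, 2, 0, 2, 1, 1, 1]) (.leaf [1, 1, 0, 0, 1, 1, 2, 0, 0, 2]))) (.node (.node (.leaf [2, 1, 1, 1, 0, 2, 1, 1, 1, 1, 2, 1]) (.leaf [1, 1, 1, 0, 2, 0, 0, 2, 1, 2, 0, 2, 0, 1])) (.node (.leaf []) (.leaf [0, 0, 1, 2, 1, 1, 2, 0, 1, 2, 2, 2])))))) (.node (.node (.node (.node (.node (.node (.leaf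 []) (.leaf [0, 1])) (.leaf [1, 2, 2, 2, 2, 2, 2, 0, 2, 0, 1, 0, 2, 2])) (.node (.leaf []) (.leaf [1, 2, 2, 0, 0, 2, 1, 0, 1, 2, 2, 2, 1, 1]))) (.node (.node (.leaf []) (.leaf [0, 2, 2, 0, 2, 2, 0, 1, 1, 2, 2, 2, 2])) (.node (.leaf [2, 2, 0, 2, 0, 0, 0, 0, 1, 2, 2, 2, 1, 2]) (.leaf [0, 1, 0, 0, 0, 1, 0, 0, 2, 1, 1, 1, 1])))) (.node (.node (.node (.leaf []) (.leaf [0, 0, 2, 2, 0, 1, 1, 0, 1, 1, 0, 0, 0, 2])) (.node (.leaf [2, 2, 1, 0, 1, 1, 2, 2, 1, 2, 0, 2, 0, 1]) (.leaf [0, 1, 0, 1, 1, 0, 0, 0, 1, 0, 1]))) (.node (.node (.leaf []) (.leaf [1, 1, 0, 1, 2, 0, 1, 2, 0, 2, 0, 1, 0, 1])) (.node (.leaf []) (.leaf [0, 1]))))) (.node (.node (.node (.node (.node (.leaf []) (.leaf [1, 1, 1, 1, 0, 0, 1, 1, 0, 1, 1, 1, 1, 1])) (.leaf [1, 2, 1, 1, 1, 1, 0, 2, 1, 2])) (.node (.leaf [0, 2, 0, 1, 0, 0, 2, 0, 0, 1, 0, 1, 2, 1]) (.leaf []))) (.node (.node (.leaf [1, 2, 0, 0, 0, 0, 1]) (.leaf [1, 1, 2, 0, 0, 1, 1, 2,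 2, 0, 0, 0, 2, 2])) (.node (.leaf [1, 1, 0, 1, 0, 0, 0, 0, 0, 0, 2]) (.leaf [2, 2, 0, 1, 2, 2, 1, 1, 0, 1, 0, 2])))) (.node (.node (.node (.leaf [2, 2, 0, 2, 0, 0, 0, 0, 0, 0, 1]) (.leaf [1, 1, 2, 0, 2, 2, 2, 2, 2, 0, 1])) (.node (.leaf [1, 0, 1, 0, 1, 0, 0, 2]) (.leaf [1, 2, 2, 1, 1, 1, 0, 0, 1, 0, 2, 0, 2]))) (.node (.node (.leaf [0, 2, 2, 1, 1, 1, 1, 1, 2, 2]) (.leaf [1, 2, 0, 1, 1, 0, 0, 2, 1, 0, 2, 0, 0, 1])) (.node (.leaf []) (.leaf [0, 2, 1, 1, 1, 2, 0, 1, 1, 1, 1, 2, 1, 2]))))))) (.node (.node (.node (.node (.node (.node (.node (.leaf []) (.leaf [1, 0, 1, 0, 1, 0, 0, 2])) (.leaf [0, 2, 2, 0, 1, 2, 1, 2, 1, 2, 0, 2])) (.node (.leaf [2, 1, 2, 1, 0, 0, 2, 0, 2, 0, 1, 0, 1, 1]) (.leaf [2, 0, 0, 0, 1, 1, 0, 2, 1, 1, 2, 2, 1, 1]))) (.node (.node (.leaf []) (.leaf [1, 2, 0, 0, 0, 0, 0, 0, 1, 0, 1, 0, 1])) (.node (.leaf []) (.leaf [1, 2, 0, 2, 0, 2, 2, 1, 1, 0, 1, 1, 2, 2])))) (.node (.node (.node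 (.leaf []) (.leaf [0, 1, 2, 1, 0, 1, 1, 0, 2, 0, 1, 2, 0, 1])) (.node (.leaf [2, 2, 2, 2, 2, 0, 1, 1, 0, 0, 2, 0, 2]) (.leaf [2, 2, 0, 0, 0, 1, 2, 0, 2, 2, 0, 1, 2, 2]))) (.node (.node (.leaf []) (.leaf [1, 0, 0, 1, 1, 0, 1, 0, 2, 1, 1, 1, 2, 1])) (.node (.leaf [1, 0, 1, 1, 0, 2, 2, 0, 0, 1, 0, 1, 2, 1]) (.leaf [0, 1, 1, 0, 1, 0, 0, 0, 1, 0, 0, 1, 0, 1]))))) (.node (.node (.node (.node (.node (.leaf []) (.leaf [0, 2, 0, 1, 0, 2, 0, 0, 2, 0, 1, 2, 1, 2])) (.leaf [2, 2, 0, 2, 1, 1, 1, 0, 1, 0, 1, 2])) (.node (.leaf [0, 1, 0, 1, 1, 1, 0, 0, 0, 1, 1, 2, 2, 2]) (.leaf []))) (.node (.node (.leaf [2, 2, 2, 1, 0, 1, 2, 0, 2, 1, 1, 1, 2, 1]) (.leaf [0, 0, 0, 0, 0, 0, 1, 1, 1, 2, 1, 2, 2, 1])) (.node (.leaf []) (.leaf [2, 2, 2, 1, 1, 2, 1, 1, 0, 2, 2, 0, 2, 2])))) (.node (.node (.node (.leaf []) (.leaf [1, 0, 2, 1, 2, 2, 1, 1, 0, 1])) (.node (.leaf [0, 2, 1, 0, 2, 1, 2, 1, 2, 1, 0, 1]) (.leaf [0, 1, 0, 2,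 0, 2, 0, 2, 1, 1, 0, 0, 1, 1]))) (.node (.node (.leaf [2, 2, 2, 0, 1, 2, 0, 0, 0, 2, 0, 1, 1, 2]) (.leaf [2, 0, 0, 1, 0, 0, 1, 0, 2])) (.node (.leaf []) (.leaf [2, 2, 1, 0, 2, 2, 1, 2, 0, 1, 0, 1, 2, 2])))))) (.node (.node (.node (.node (.node (.node (.leaf []) (.leaf [1, 0, 2, 0, 2, 0, 0, 1, 0, 1, 0, 2, 1, 1])) (.leaf [0, 2, 2, 2, 1, 2, 1, 0, 0, 2, 0, 2, 2, 1])) (.node (.leaf [0, 1]) (.leaf [2, 0, 0, 2, 1, 2, 2, 0, 2, 2, 2, 1, 2, 1]))) (.node (.node (.leaf []) (.leaf [1, 0, 1, 0, 2, 0, 2, 2])) (.node (.leaf [0, 2, 0, 0, 1, 1, 0, 0, 1, 2, 2, 2, 1, 1]) (.leaf [1, 2, 0, 0, 1, 2, 0, 0, 1, 0, 2, 2, 2, 2])))) (.node (.node (.node (.leaf []) (.leaf [1, 0, 1, 2, 2, 1, 2, 2, 0, 2])) (.node (.leaf [2, 0, 0, 1, 0, 0, 0, 0, 2, 0, 2, 0, 1]) (.leaf [1, 0, 0, 1, 1, 0, 0, 0, 0, 0, 2]))) (.node (.node (.leaf []) (.leaf [2, 0, 2, 2, 0, 0, 1, 0, 0, 1, 0, 1, 0, 2])) (.node (.leaf [2, 0, 1, 2, 0, 1, 0, 2, 2, 1, 1, 0,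 2, 1]) (.leaf [1, 2, 0, 1, 1, 2, 2, 2, 0, 1, 1, 0, 2, 1]))))) (.node (.node (.node (.node (.node (.leaf []) (.leaf [0, 0, 2, 1, 1, 1, 0, 1, 0, 0, 1, 0, 0, 1])) (.leaf [])) (.node (.leaf [0, 0, 1, 2, 0, 0, 2, 1, 2, 2, 0, 0, 1, 2]) (.leaf [0, 1]))) (.node (.node (.leaf [2, 0, 0, 0, 2, 0, 1]) (.leaf [])) (.node (.leaf []) (.leaf [2, 2, 0, 1, 2, 2, 0, 0, 2, 0, 0, 1])))) (.node (.node (.node (.leaf []) (.leaf [1, 1, 0, 1, 2, 1, 1, 1, 2, 2, 1, 2, 0, 1])) (.node (.leaf []) (.leaf [1, 0, 0, 1, 1, 0, 2, 1, 0, 0, 2]))) (.node (.node (.leaf [0, 2, 0, 1, 2, 1, 0, 2, 2, 2, 2, 0, 1, 1]) (.leaf [0, 0, 1, 0, 1, 2, 1, 2, 0, 2, 0, 1, 2, 1])) (.node (.leaf [0, 1]) (.leaf [2, 2, 0, 1, 0, 1, 2, 2, 1, 2, 2, 1, 1, 2])))))))))))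

def threeL6 : Janko.Tree (List ℤ) :=
  (.node (.node (.node (.node (.node (.node (.node (.node (.node (.node (.node (.leaf []) (.leaf [1, 2, 1, 1, 2, 2, 0, 2, 1, 1, 0, 1, 0, 2])) (.leaf [0, 1, 1, 0, 2, 0, 1, 2])) (.node (.leaf [0, 2, 1, 2, 0, 2, 2, 2, 1, 0, 2, 1, 1, 1]) (.leaf []))) (.node (.node (.leaf [1, 0, 0, 1, 2, 0, 1, 1, 0, 0, 2]) (.leaf [1, 0, 2, 1, 1, 2, 2, 0, 1, 2, 2, 2, 2, 2])) (.node (.leaf []) (.leaf [1, 2, 2, 2, 0, 1, 1, 1, 2, 1, 2, 2, 1, 2])))) (.node (.node (.node (.node (.leaf [0, 0, 1]) (.leaf [0, 1, 1, 2, 1, 2, 0, 0, 2, 1, 1, 2, 2])) (.leaf [0, 0, 1, 0, 1, 2, 1, 1, 1, 2, 1, 0, 2])) (.node (.leaf [0, 0, 1]) (.leaf [0, 2, 2, 0, 1, 0, 2, 0, 1, 2, 2, 2, 2]))) (.node (.node (.leaf []) (.leaf [0, 0, 1, 0, 2, 1, 2, 1, 0, 1, 0, 1, 0, 1])) (.node (.leaf [1, 2, 0, 0, 0, 0, 2, 1, 0, 0, 0, 0, 1, 2]) (.leaf [0, 2, 0, 2, 2, 1, 1, 0, 0, 2]))))) (.node (.node (.node (.node (.node (.leaf []) (.leaf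 [1, 1, 0, 1, 1, 1, 2, 1, 2, 2])) (.leaf [1, 1, 1, 2, 0, 2, 0, 2, 0, 2, 1, 1, 1, 2])) (.node (.leaf [2, 1, 2, 2, 2, 2, 0, 1, 1, 1, 2, 1, 2]) (.leaf [0, 0, 1]))) (.node (.node (.leaf [0, 1, 1, 0, 2, 0, 1, 2]) (.leaf [1, 2, 0, 1, 0, 1, 2, 0, 0, 2, 0, 1, 1])) (.node (.leaf []) (.leaf [1, 0, 1, 2, 1, 0, 1, 0, 2, 0, 1, 2, 2])))) (.node (.node (.node (.leaf []) (.leaf [1, 2, 2, 0, 1, 0, 0, 0, 2, 2, 0, 0, 0, 2])) (.node (.leaf [1, 0, 1, 2, 0, 1, 1, 1, 0, 2, 2, 2, 1]) (.leaf [0, 2, 1, 0, 1, 2, 1, 1, 1, 0, 2, 0, 1, 2]))) (.node (.node (.leaf [0, 0, 1]) (.leaf [0, 0, 0, 2, 0, 1, 0, 2, 1, 1, 0, 1, 2, 2])) (.node (.leaf []) (.leaf [0, 0, 1])))))) (.node (.node (.node (.node (.node (.node (.leaf []) (.leaf [2, 2, 2, 0, 0, 2, 1, 2, 2, 2, 1, 0, 0, 1])) (.leaf [])) (.node (.leaf [1, 2, 0, 0, 1, 2, 1, 1, 2, 2, 1, 2, 2]) (.leaf [0, 2, 2, 0, 2, 1, 1, 1, 1, 0, 2]))) (.node (.node (.leaf []) (.leaf [2, 0, 1, 1, 1, 0,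 2, 2, 1, 1, 1, 0, 0, 2])) (.node (.leaf []) (.leaf [0, 0, 1, 0, 2, 2, 0, 2, 1, 2, 1, 2])))) (.node (.node (.node (.leaf []) (.leaf [1, 0, 2, 1, 1, 0, 1, 0, 0, 1, 0, 1, 1, 2])) (.node (.leaf [2, 2, 1, 2, 2, 2, 2, 2, 0, 2, 0, 1, 0, 1]) (.leaf [1, 1, 1, 0, 2, 1, 1, 2, 0, 2, 2]))) (.node (.node (.leaf [2, 1, 2, 0, 0, 2, 0, 0, 0, 1, 2, 2, 2, 2]) (.leaf [1, 0, 2, 2, 0, 1, 0, 1, 1, 2, 0, 1, 1, 2])) (.node (.leaf []) (.leaf [1, 2, 2, 2, 2, 1, 0, 2, 0, 0, 1, 0, 2, 1]))))) (.node (.node (.node (.node (.node (.leaf []) (.leaf [0, 0, 0, 1, 2, 1, 1, 2, 2, 0, 2, 1, 1, 2])) (.leaf [0, 1, 2, 1, 0, 1, 1, 0, 2, 1, 1, 2, 2])) (.node (.leaf [0, 0, 1]) (.leaf [1, 2, 2, 1, 0, 2, 2, 2, 2, 1, 2, 2, 1]))) (.node (.node (.leaf [2, 1, 2, 2, 0, 1, 1, 0, 0, 2, 0, 2, 1, 2]) (.leaf [0, 0, 1])) (.node (.leaf [0, 0, 1, 2, 0, 0, 2, 0, 1, 0, 2, 2, 2]) (.leaf [1, 0, 1, 1, 0, 2, 0, 1, 1, 0, 0, 1, 1, 2])))) (.node (.node (.node (.leaf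 []) (.leaf [1, 0, 2, 0, 2, 1, 1, 0, 1, 0, 2])) (.node (.leaf [1, 2, 1, 1, 2, 0, 1, 2, 2]) (.leaf [2, 0, 1, 2, 0, 1, 0, 0, 0, 1, 0, 2, 1, 1]))) (.node (.node (.leaf []) (.leaf [])) (.node (.leaf []) (.leaf [2, 2, 0, 1, 0, 1, 2, 0, 0, 2, 1, 2, 1, 2]))))))) (.node (.node (.node (.node (.node (.node (.node (.leaf []) (.leaf [1, 2, 2, 0, 2, 2, 2, 0, 0, 0, 0, 0, 1, 2])) (.leaf [2, 1, 2, 2, 1, 2, 2, 1, 2, 2, 0, 1, 1, 1])) (.node (.leaf [0, 0, 1, 0, 1, 0, 1, 0, 0, 0, 0, 0, 1, 2]) (.leaf []))) (.node (.node (.leaf []) (.leaf [1, 2, 0, 2, 1, 1, 1, 1, 1, 0, 2, 2, 1, 2])) (.node (.leaf []) (.leaf [0, 1, 2, 0, 2, 0, 2, 0, 1, 0, 0, 2, 2, 2])))) (.node (.node (.node (.node (.leaf [0, 0, 1]) (.leaf [0, 0, 0, 0, 0, 0, 0, 0, 0, 0, 0, 0, 0, 1])) (.leaf [1, 2, 1, 0, 1, 0, 0, 1, 2, 1, 0, 0, 2, 1])) (.node (.leaf [0, 1, 1, 1, 2, 1, 2, 1, 2, 2, 0, 2, 2]) (.leaf [0, 0, 2, 2, 0, 1, 0, 0, 2, 0, 1, 1, 2, 2]))) (.node (.node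 (.leaf [1, 0, 1, 1, 1, 2, 2, 0, 1, 2, 2, 2, 2, 2]) (.leaf [0, 1, 1, 1, 1, 1, 2, 2, 2, 1, 1, 1])) (.node (.leaf []) (.leaf [0, 0, 2, 1, 2, 1, 2, 1, 1, 0, 2, 0, 2]))))) (.node (.node (.node (.node (.node (.leaf []) (.leaf [2, 0, 2, 2, 2, 0, 1, 1, 2, 0, 1, 0, 0, 1])) (.leaf [0, 2, 0, 0, 1, 1, 1, 1, 0, 2, 2, 0, 0, 2])) (.node (.leaf [0, 1, 0, 2, 2, 1, 1, 0, 1, 2, 1, 2, 2, 2]) (.leaf [2, 2, 2, 2, 0, 2, 1, 2, 2, 2, 0, 0, 1, 2]))) (.node (.node (.leaf [0, 1, 0, 1, 2, 0, 2, 1, 1, 2, 2, 0, 1, 1]) (.leaf [2, 1, 0, 2, 2, 0, 0, 2, 1, 1, 2, 1, 2])) (.node (.leaf [0, 0, 1]) (.leaf [2, 2, 2, 1, 1, 2, 2, 2, 2, 0, 1, 1, 1])))) (.node (.node (.node (.leaf []) (.leaf [1, 2, 1, 0, 1, 0, 1, 2, 2, 1, 1, 1, 2, 2])) (.node (.leaf [1, 0, 2, 0, 1, 2, 0, 0, 2, 0, 0, 0, 2, 2]) (.leaf [0, 2, 0, 1, 2, 1, 1, 0, 2, 1, 2, 1, 1, 1]))) (.node (.node (.leaf [0, 2, 0, 0, 1, 1, 1, 0, 2, 0, 0, 0, 2, 2]) (.leaf [1, 2, 0, 2, 2, 0, 2, 0,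 1, 1, 2, 1, 1, 1])) (.node (.leaf [2, 2, 2, 0, 2, 1, 2, 2, 2, 2, 2, 1, 0, 2]) (.leaf [])))))) (.node (.node (.node (.node (.node (.node (.leaf []) (.leaf [1, 2, 0, 0, 2, 0, 0, 1, 1, 2, 0, 0, 2, 1])) (.leaf [])) (.node (.leaf []) (.leaf [0, 0, 1]))) (.node (.node (.leaf []) (.leaf [0, 1, 2, 0, 1, 2, 1, 2, 1, 2, 0, 2])) (.node (.leaf []) (.leaf [0, 2, 2, 0, 1, 0, 2, 2, 1, 1, 2, 1, 1])))) (.node (.node (.node (.leaf [2, 1, 1, 1, 0, 2, 1, 0, 2, 0, 1, 0, 2]) (.leaf [2, 0, 0, 0, 2, 0, 2, 1, 0, 0, 0, 0, 1, 2])) (.node (.leaf [2, 2, 1, 0, 1, 1, 0, 2, 2, 0, 2, 2, 1]) (.leaf [0, 2, 2, 0, 2, 1, 0, 2, 2, 0, 0, 2, 0, 2]))) (.node (.node (.leaf [1, 0, 0, 0, 0, 1, 2, 0, 1, 0, 2, 0, 1, 2]) (.leaf [1, 1, 1, 0, 0, 0, 0, 2])) (.node (.leaf [1, 0, 2, 1, 1, 0, 2, 0, 2, 2, 2, 2, 2, 1]) (.leaf [0, 0, 1]))))) (.node (.node (.node (.node (.node (.leaf []) (.leaf [1, 2, 0, 2, 0, 1, 1, 0, 2, 2, 1])) (.leaf [1, 0, 0, 2, 1,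 2, 1, 2, 1, 0, 2, 1, 2, 1])) (.node (.leaf [0, 1, 0, 1, 0, 2, 0, 1, 0, 2, 1, 0, 0, 2]) (.leaf [1, 0, 2, 0, 2, 0, 0, 2, 2, 2, 2, 2, 0, 1]))) (.node (.node (.leaf [2, 0, 1, 0, 0, 0, 1, 1, 1, 1, 2, 0, 2]) (.leaf [2, 0, 1, 1, 2, 2, 2, 0, 0, 0, 0, 2, 2, 1])) (.node (.leaf [1, 0, 0, 2, 0, 0, 2, 1, 0, 2, 2, 2, 0, 1]) (.leaf [1, 1, 2, 0, 0, 0, 2, 0, 0, 0, 2, 0, 0, 1])))) (.node (.node (.node (.leaf [1, 2, 0, 2, 1, 1, 0, 0, 0, 0, 0, 0, 2, 2]) (.leaf [1, 2, 1, 1, 2, 0, 1, 1, 1, 1, 1, 2, 1, 2])) (.node (.leaf [2, 2, 2, 0, 2, 0, 1, 1]) (.leaf [2, 2, 2, 0, 1, 2, 0, 0, 2, 2, 0, 2, 1, 2]))) (.node (.node (.leaf [1, 1, 2, 2, 2, 1, 1, 1, 1, 0, 2, 2, 2]) (.leaf [2, 2, 2, 1, 1, 2, 0, 1, 1, 2, 2, 2, 1])) (.node (.leaf []) (.leaf [2, 1, 1, 2, 2, 0, 0, 2, 0, 2, 2, 2, 1])))))))) (.node (.node (.node (.node (.node (.node (.node (.node (.leaf [2, 2, 2, 0, 0, 0, 0, 1]) (.leaf [0, 2, 2, 2, 2, 0, 2, 0, 2, 2, 0, 0, 1, 2])) (.leaf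 [])) (.node (.leaf [1, 1, 2, 0, 1, 0, 1, 0, 0, 1, 1, 0, 1]) (.leaf []))) (.node (.node (.leaf [2, 2, 1, 2, 1, 0, 0, 0, 2, 0, 1, 0, 2, 2]) (.leaf [0, 1, 2, 0, 0, 0, 2, 1, 2, 1, 1, 2, 2, 1])) (.node (.leaf [2, 2, 0, 1, 0, 1, 2, 0, 2, 0, 2, 2, 2]) (.leaf [0, 0, 2, 1, 2, 0, 0, 0, 2, 2, 1, 2, 0, 1])))) (.node (.node (.node (.node (.leaf []) (.leaf [0, 1, 1, 0, 1, 0, 1])) (.leaf [1, 2, 2, 2, 2, 2, 2, 0, 2, 1, 1, 1, 1, 1])) (.node (.leaf [2, 0, 0, 2, 2, 2, 2, 0, 1, 1, 2, 1, 0, 2]) (.leaf [0, 1, 2, 1, 1, 0, 1, 2, 0, 0, 1, 0, 2, 2]))) (.node (.node (.leaf [2, 2, 2, 0, 0, 0, 0, 1]) (.leaf [0, 0, 1])) (.node (.leaf [0, 1, 2, 0, 0, 2, 2, 2, 2, 0, 1, 1, 0, 2]) (.leaf [1, 1, 2, 1, 1, 0, 0, 0, 2, 0, 0, 0, 2, 1]))))) (.node (.node (.node (.node (.node (.leaf []) (.leaf [2, 2, 0, 0, 0, 0, 2, 1])) (.leaf [1, 1, 1, 2, 0, 2, 2, 1, 1, 2, 1, 0, 2, 1])) (.node (.leaf [2, 0, 1, 1, 0, 1, 0, 0, 0, 0, 0, 2]) (.leaf [0, 0,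 2, 1, 1, 1, 0, 1, 0, 2, 2, 2, 0, 2]))) (.node (.node (.leaf []) (.leaf [0, 2, 0, 1, 1, 2, 0, 1, 2, 0, 0, 2, 2, 2])) (.node (.leaf []) (.leaf [2, 0, 0, 0, 0, 2, 2, 0, 1, 2, 2, 2, 2])))) (.node (.node (.node (.leaf [2, 2, 2, 0, 0, 0, 0, 1]) (.leaf [0, 1, 0, 0, 1, 0, 2, 2, 1, 2, 2, 2, 2])) (.node (.leaf [1, 1, 2, 2, 2, 1, 0, 2, 1, 0, 2, 2, 1, 2]) (.leaf [2, 1, 1, 0, 1, 0, 2, 2, 2, 0, 1]))) (.node (.node (.leaf []) (.leaf [])) (.node (.leaf [1, 2, 2, 2, 2, 2, 0, 1, 2, 1, 2, 1, 2, 2]) (.leaf [0, 1, 1, 1, 2, 0, 1, 2, 0, 1, 1, 1, 0, 2])))))) (.node (.node (.node (.node (.node (.node (.leaf []) (.leaf [1, 2, 2, 1, 0, 2, 0, 1, 1, 1, 1, 2, 2, 1])) (.leaf [2, 1, 1, 2, 1, 2, 2, 2, 2, 0, 2, 2, 1])) (.node (.leaf [2, 0, 2, 1, 0, 2, 0, 2, 1, 0, 0, 1, 1, 2]) (.leaf []))) (.node (.node (.leaf []) (.leaf [2, 1, 0, 0, 2, 1, 1, 2, 1, 0, 2])) (.node (.leaf []) (.leaf [0, 1, 2, 2, 1, 0, 2, 2, 2, 0, 0, 0, 2])))) (.node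 (.node (.node (.leaf []) (.leaf [0, 2, 0, 2, 1, 2, 1, 1, 1, 2, 0, 0, 0, 1])) (.node (.leaf []) (.leaf [1, 0, 2, 0, 1, 2, 0, 1, 1, 2, 2, 0, 1, 2]))) (.node (.node (.leaf [2, 0, 0, 2, 2, 2, 2, 0, 1, 1, 2, 1, 0, 2]) (.leaf [0, 1, 1, 2, 2, 1, 0, 1, 1, 0, 2, 0, 1])) (.node (.leaf [1, 1, 2, 1, 1, 1, 0, 2, 0, 2, 0, 2, 1]) (.leaf [2, 0, 1, 0, 0, 2, 1, 1, 2, 2, 0, 2, 2, 1]))))) (.node (.node (.node (.node (.node (.leaf []) (.leaf [2, 0, 2, 1, 2, 2, 0, 2, 0, 2, 0, 2, 1])) (.leaf [2, 0, 0, 1, 0, 0, 1, 0, 2, 1, 1, 1, 1])) (.node (.leaf [0, 2, 1, 0, 2, 1, 1, 0, 2, 2, 2, 1, 2, 2]) (.leaf [1, 0, 0, 0, 0, 1, 1, 0, 1, 2, 2, 0, 1]))) (.node (.node (.leaf [0, 2, 0, 2, 2, 2, 1, 0, 0, 2, 0, 1, 1, 2]) (.leaf [2, 1, 2, 1, 1, 2, 0, 0, 0, 2, 2, 2, 0, 2])) (.node (.leaf [2, 0, 1, 2, 2, 0, 1, 1, 1, 0, 0, 1, 1, 1]) (.leaf [0, 0, 1, 2, 1, 2, 1, 1, 1, 1, 2, 1])))) (.node (.node (.node (.leaf []) (.leaf [2, 0, 0, 0, 1, 1, 1, 2]))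 (.node (.leaf [1, 0, 2, 2, 2, 0, 1, 2, 1]) (.leaf [0, 0, 1, 0, 0, 1, 2, 1, 1, 2, 2, 1]))) (.node (.node (.leaf [0, 0, 1]) (.leaf [0, 2, 2, 0, 0, 0, 0, 1])) (.node (.leaf []) (.leaf [0, 0, 2, 0, 1, 0, 2, 0, 0, 0, 1, 0, 0, 2]))))))) (.node (.node (.node (.node (.node (.node (.node (.leaf []) (.leaf [0, 0, 1])) (.leaf [0, 2, 0, 0, 0, 2, 0, 1])) (.node (.leaf [1, 0, 1, 1, 0, 0, 2, 0, 0, 2, 0, 1, 1, 2]) (.leaf [2, 1, 1, 2, 2, 0, 2, 0, 2, 0, 2, 1, 1, 1]))) (.node (.node (.leaf []) (.leaf [0, 1, 1, 2, 2, 2, 0, 2, 2, 1, 1, 1, 2])) (.node (.leaf []) (.leaf [1, 1, 0, 0, 1, 1, 2, 0, 0, 1, 1, 0, 0, 1])))) (.node (.node (.node (.node (.leaf [2, 2, 2, 0, 0, 0, 0, 1]) (.leaf [0, 0, 2, 0, 2, 2, 1, 2, 1, 0, 2, 2, 0, 2])) (.leaf [1, 2, 2, 2, 1, 0, 0, 0, 2, 0, 1, 1])) (.node (.leaf [0, 0, 1]) (.leaf [0, 2, 1, 1, 1, 2, 0, 1, 2, 2, 0, 2, 1, 1]))) (.node (.node (.leaf [2, 2, 2, 0, 0, 0, 1, 2, 0, 1, 0, 2, 1, 2]) (.leaf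 [2, 0, 1, 1, 0, 0, 2, 1, 2, 2, 2, 2, 2, 1])) (.node (.leaf [0, 1, 1, 2, 1, 0, 0, 0, 0, 2, 1, 1, 1, 2]) (.leaf [1, 0, 1, 2, 2, 1, 2, 1, 2, 1, 0, 1, 2, 1]))))) (.node (.node (.node (.node (.node (.leaf []) (.leaf [0, 2, 0, 0, 1, 0, 1, 2, 0, 0, 2, 0, 0, 1])) (.leaf [2, 1, 2, 0, 2, 2, 1, 2, 1, 2, 1, 2, 1, 2])) (.node (.leaf [2, 1, 0, 2, 1, 1, 0, 0, 1, 0, 0, 1, 1, 1]) (.leaf [0, 0, 1]))) (.node (.node (.leaf [0, 2, 2, 0, 0, 0, 2, 1, 0, 2, 2, 0, 1, 1]) (.leaf [0, 2, 2, 0, 1, 0, 0, 0, 0, 0, 0, 2])) (.node (.leaf [2, 2, 2, 2, 0, 2, 1, 0, 0, 1, 0, 2, 2, 2]) (.leaf [0, 1, 0, 2, 1, 1, 0, 2, 2, 1, 1, 1, 0, 2])))) (.node (.node (.node (.leaf []) (.leaf [2, 1, 2, 1, 0, 0, 1, 2, 2])) (.node (.leaf [2, 1, 0, 2, 2, 0, 1, 0, 0, 1, 0, 2, 1]) (.leaf [0, 2, 0, 2, 2, 1, 1, 0, 0, 0, 1]))) (.node (.node (.leaf [1, 0, 2, 2, 2, 0, 0, 2, 0, 1, 0, 0, 0, 2]) (.leaf [2, 2, 2, 1, 0, 0, 0, 2, 2])) (.node (.leaf [1, 2, 0, 0, 1,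 2, 2, 2, 2, 2, 1, 2, 0, 2]) (.leaf [2, 0, 0, 2, 2, 1, 1, 2, 0, 2, 2, 2])))))) (.node (.node (.node (.node (.node (.node (.leaf []) (.leaf [0, 0, 2, 2, 2, 1, 2, 2, 1, 0, 0, 2])) (.leaf [0, 0, 1, 0, 0, 0, 0, 0, 0, 2, 0, 1])) (.node (.leaf [2, 2, 1, 0, 2, 0, 2, 2, 1, 2, 0, 2]) (.leaf [0, 2, 2, 0, 2, 1, 2, 2, 0, 0, 1, 0, 0, 2]))) (.node (.node (.leaf []) (.leaf [2, 2, 0, 1, 1, 1, 1, 2, 2, 1, 1])) (.node (.leaf []) (.leaf [2, 0, 1, 0, 0, 0, 1, 2])))) (.node (.node (.node (.leaf [0, 2, 2, 0, 0, 1, 1, 1, 1, 0, 2, 2, 0, 1]) (.leaf [2, 2, 1, 2, 0, 1, 2, 0, 1, 0, 1, 0, 1, 1])) (.node (.leaf [0, 0, 1]) (.leaf [1, 1, 2, 0, 2, 2, 0, 1, 2, 0, 1, 0, 2, 1]))) (.node (.node (.leaf [0, 0, 0, 0, 0, 0, 0, 0, 0, 1, 0, 2]) (.leaf [])) (.node (.leaf [0, 0, 1, 0, 1, 2, 0, 2, 1, 2, 2, 2, 1, 1]) (.leaf [2, 1, 1, 0, 0, 0, 1, 2]))))) (.node (.node (.node (.node (.node (.leaf []) (.leaf [0, 1, 1, 0, 1, 0, 1])) (.leaf [1, 1,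 2, 0, 2, 2, 0, 0, 0, 1, 1, 2, 0, 2])) (.node (.leaf [0, 0, 1, 1, 0, 1, 0, 0, 0, 2]) (.leaf [1, 2, 2, 1, 2, 0, 1, 1, 1, 0, 0, 0, 1]))) (.node (.node (.leaf []) (.leaf [0, 2, 2, 1, 1, 1, 0, 1, 2, 1, 0, 0, 2, 1])) (.node (.leaf [0, 0, 1]) (.leaf [1, 1, 2, 0, 0, 1, 0, 0, 0, 1, 1, 1, 1, 2])))) (.node (.node (.node (.leaf [0, 0, 1, 2, 1, 2, 1, 2, 2, 2, 1, 0, 0, 2]) (.leaf [1, 1, 0, 1, 0, 0, 0, 2, 0, 0, 0, 0, 2, 2])) (.node (.leaf []) (.leaf [1, 0, 1, 0, 0, 2, 1, 1, 1, 2]))) (.node (.node (.leaf []) (.leaf [])) (.node (.leaf [1, 2, 2, 2, 1, 0, 0, 0, 0, 1]) (.leaf [2, 1, 0, 0, 2, 0, 2, 2, 2, 2, 2, 2, 0, 1]))))))))) (.node (.node (.node (.node (.node (.node (.node (.node (.node (.leaf []) (.leaf [0, 0, 0, 2, 2, 2, 1, 1, 0, 1, 2, 2, 2])) (.leaf [2, 2, 1, 2, 2, 2, 0, 2, 2, 2, 2, 0, 2, 2])) (.node (.leaf [0, 2, 2, 0, 1, 0, 2, 2, 0, 1, 2, 1, 1, 1]) (.leaf [1, 0, 1, 0, 0, 1, 2, 1, 0, 2, 0, 1]))) (.node (.node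 (.leaf [0, 0, 0, 0, 0, 0, 0, 0, 0, 1, 0, 2]) (.leaf [0, 1, 0, 1, 0, 2, 2, 1, 0, 1, 2, 1, 2, 2])) (.node (.leaf []) (.leaf [0, 0, 1, 1, 0, 1, 0, 0, 0, 2])))) (.node (.node (.node (.node (.leaf []) (.leaf [1, 0, 2, 2, 0, 1, 1, 2, 0, 1, 0, 2, 1, 1])) (.leaf [2, 2, 1, 2, 2, 2, 1, 2, 1, 1])) (.node (.leaf [1, 1, 1, 0, 2, 1, 2, 1, 2, 0, 0, 1, 1, 2]) (.leaf [0, 0, 1, 0, 0, 0, 0, 2, 2, 1, 1, 0, 1, 2]))) (.node (.node (.leaf []) (.leaf [1, 1, 2, 2, 2, 0, 0, 1, 1, 2, 2, 0, 1, 1])) (.node (.leaf [0, 0, 1, 0, 0, 1, 1, 1, 1, 1, 2, 1, 0, 1]) (.leaf [0, 0, 2, 0, 2, 0, 2, 2, 0, 2, 0, 1, 2, 2]))))) (.node (.node (.node (.node (.node (.leaf []) (.leaf [0, 1, 2, 2, 1, 0, 1, 1, 2, 0, 0, 0, 1, 1])) (.leaf [0, 0, 1, 2, 0, 0, 0, 0, 1, 1, 0, 0, 0, 2])) (.node (.leaf [0, 2, 2, 1, 2, 0, 0, 0, 0, 2, 0, 2, 1]) (.leaf [2, 1, 2, 2, 1, 0, 2, 1, 0, 2, 1, 1, 2, 1]))) (.node (.node (.leaf [0, 0, 1]) (.leaf [2, 1, 1, 0, 0, 1, 2, 0,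 0, 0, 2, 0, 0, 1])) (.node (.leaf [0, 0, 0, 1, 0, 1, 0, 0, 0, 2]) (.leaf [0, 2, 0, 0, 2, 2, 2, 0, 0, 0, 0, 2])))) (.node (.node (.node (.leaf []) (.leaf [0, 2, 0, 2, 0, 1, 1, 2, 0, 2, 0, 2, 1, 2])) (.node (.leaf [2, 1, 1, 0, 0, 1, 0, 0, 1, 0, 2, 0, 2, 1]) (.leaf [1, 2, 2, 2, 0, 0, 2, 1, 1]))) (.node (.node (.leaf [0, 0, 2, 0, 0, 2, 2, 0, 0, 1, 0, 2, 1, 2]) (.leaf [])) (.node (.leaf [0, 0, 0, 1, 0, 1, 0, 0, 0, 2]) (.leaf [1, 0, 2, 1, 0, 0, 0, 1, 2, 1, 1, 0, 0, 2])))))) (.node (.node (.node (.node (.node (.node (.leaf [0, 2, 2, 0, 1, 0, 2, 1]) (.leaf [0, 1, 2, 0, 2, 0, 1, 2])) (.leaf [2, 0, 1, 0, 2, 1, 2, 0, 1, 0, 0, 2])) (.node (.leaf [1, 1, 2, 2, 0, 0, 0, 1, 1, 1, 0, 2]) (.leaf [0, 1, 2, 2, 2, 0, 0, 0, 2, 2, 0, 2, 0, 1]))) (.node (.node (.leaf []) (.leaf [0, 2, 2, 1, 0, 2, 1, 2, 2, 0, 0, 1, 0, 2])) (.node (.leaf [0, 2, 2, 0, 1, 0, 2, 1]) (.leaf [0, 1, 2, 1, 1, 2, 1, 1, 1, 1, 2, 2, 2, 1])))) (.node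 (.node (.node (.leaf [0, 2, 2, 1, 0, 2, 0, 1, 1, 1, 1, 2, 2, 1]) (.leaf [])) (.node (.leaf [1, 0, 1, 0, 1, 1, 2, 0, 0, 0, 0, 2, 2, 2]) (.leaf [2, 0, 1, 2, 1, 1, 2, 1, 2, 1, 1, 2, 0, 1]))) (.node (.node (.leaf [1, 2, 0, 2, 1, 1, 0, 0, 0, 0, 0, 0, 2, 2]) (.leaf [0, 2, 0, 1, 2, 0, 0, 1, 0, 1, 2, 0, 1, 1])) (.node (.leaf [2, 0, 2, 1, 1, 1, 0, 1, 1, 1, 2, 0, 1, 2]) (.leaf [0, 1, 1, 1, 2, 0, 2, 1, 0, 2, 1, 2, 2, 1]))))) (.node (.node (.node (.node (.node (.leaf []) (.leaf [1, 2, 1, 2, 0, 2, 0, 2, 1, 2, 0, 2])) (.leaf [])) (.node (.leaf [0, 2, 2, 0, 0, 1, 0, 1, 0, 2, 1, 1, 1]) (.leaf [2, 1, 0, 1, 2, 2, 2, 2, 0, 1, 2, 0, 0, 2]))) (.node (.node (.leaf [2, 1, 0, 2, 0, 2, 2, 0, 1, 2, 2, 2]) (.leaf [2, 2, 1, 1, 1, 2, 2, 2, 2, 2, 2, 1, 2, 2])) (.node (.leaf [1, 1, 1, 0, 0, 0, 2, 0, 1, 0, 0, 0, 0, 2]) (.leaf [2, 0, 2, 2, 1, 1, 2, 1, 0, 2, 1, 0, 0, 1])))) (.node (.node (.node (.leaf [0, 1, 2, 0, 1, 2, 0, 2, 1,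 0, 2, 1, 0, 2]) (.leaf [0, 0, 1, 0, 2, 2, 0, 1, 2, 1, 1, 0, 2, 2])) (.node (.leaf [0, 1, 0, 0, 1, 0, 2, 0, 0, 0, 2, 2, 1, 1]) (.leaf [0, 2, 2, 2, 2, 1, 0, 2, 0, 2, 0, 2]))) (.node (.node (.leaf [1, 2, 2, 1, 2, 1, 1, 2, 2, 0, 2, 2, 0, 2]) (.leaf [1, 0, 0, 1, 2, 2, 0, 2, 0, 1, 2, 0, 1, 1])) (.node (.leaf [1, 1, 2, 0, 2, 2, 1, 1, 1, 2, 2, 2, 2]) (.leaf [2, 0, 1, 0, 2, 0, 1, 2, 2, 2, 1, 2, 2]))))))) (.node (.node (.node (.node (.node (.node (.node (.leaf []) (.leaf [2, 1, 0, 0, 0, 2, 2, 0, 0, 1])) (.leaf [1, 2, 2, 2, 0, 1, 2, 0, 2, 0, 1, 0, 1])) (.node (.leaf [0, 0, 1, 2, 0, 0, 0, 2, 1]) (.leaf [1, 1, 1, 0, 0, 2, 1, 1, 1, 2, 1, 2, 1, 2]))) (.node (.node (.leaf []) (.leaf [2, 1, 2, 0, 2, 0, 0, 2, 1, 1, 0, 0, 0, 1])) (.node (.leaf [0, 0, 0, 1, 0, 1, 0, 0, 0, 2]) (.leaf [1, 2, 1, 2, 1, 1, 2, 0, 1, 1, 2, 1, 1, 2])))) (.node (.node (.node (.node (.leaf []) (.leaf [0, 2, 2, 0, 0, 0, 0, 1, 0, 0, 0, 0, 0, 1]))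 (.leaf [1, 1, 2, 0, 0, 1, 1, 1, 2, 1, 0, 1])) (.node (.leaf [1, 0, 0, 1, 0, 2, 0, 0, 0, 0, 0, 2]) (.leaf [1, 0, 0, 2, 0, 2, 0, 0, 0, 2, 0, 2]))) (.node (.node (.leaf []) (.leaf [2, 1, 2, 0, 1, 0, 2, 2])) (.node (.leaf [1, 2, 1, 0, 0, 1, 1, 1, 1, 2, 0, 1, 2]) (.leaf [2, 1, 0, 0, 2]))))) (.node (.node (.node (.node (.node (.leaf [0, 0, 1]) (.leaf [0, 2, 0, 0, 2, 2, 0, 0, 2, 1, 0, 2, 2, 2])) (.leaf [0, 2, 0, 1, 2, 1, 2, 0, 0, 0, 0, 2])) (.node (.leaf [2, 0, 1, 1, 2, 2, 2, 0, 1, 2, 2, 2, 1]) (.leaf [0, 2, 2, 0, 0, 0, 0, 1]))) (.node (.node (.leaf []) (.leaf [0, 0, 1])) (.node (.leaf []) (.leaf [2, 1, 0, 0, 0, 2, 0, 2])))) (.node (.node (.node (.leaf [2, 1, 2, 2, 1, 0, 1, 1, 0, 0, 0, 0, 1]) (.leaf [2, 0, 0, 0, 2, 0, 1, 1, 1, 1, 1, 1, 1, 1])) (.node (.leaf [0, 1, 1, 0, 2, 0, 0, 0, 2, 2, 1, 2, 1, 1]) (.leaf [1, 2, 2, 0, 2, 2, 0, 2, 1, 2, 0, 2]))) (.node (.node (.leaf []) (.leaf [0, 1, 2, 2, 0, 2, 2, 2,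 0, 0, 0, 1, 1, 2])) (.node (.leaf []) (.leaf [0, 2, 0, 0, 1, 0, 2, 1])))))) (.node (.node (.node (.node (.node (.node (.leaf [2, 2, 2, 0, 0, 0, 0, 1]) (.leaf [0, 0, 0, 2, 1, 0, 2, 0, 0, 2, 1, 2, 0, 2])) (.leaf [1, 2, 0, 1, 2, 2, 0, 2, 2, 0, 1, 2, 2, 1])) (.node (.leaf []) (.leaf [1, 0, 2, 1, 0, 0, 0, 0, 0, 0, 0, 2]))) (.node (.node (.leaf [0, 0, 1]) (.leaf [1, 1, 0, 0, 2, 0, 2, 0, 1, 2, 0, 2])) (.node (.leaf [2, 2, 0, 1, 2, 2, 2, 2, 1, 1, 0, 1, 1, 1]) (.leaf [2, 1, 0, 1, 1, 0, 2, 1, 0, 0, 2, 2, 0, 1])))) (.node (.node (.node (.leaf [1, 0, 2, 2, 1, 1, 2, 0, 0, 0, 0, 2, 2, 2]) (.leaf [0, 0, 2, 0, 0, 2, 0, 1, 0, 0, 0, 2, 0, 2])) (.node (.leaf [0, 2, 1, 0, 1, 2, 2, 1, 0, 2, 0, 2, 1, 1]) (.leaf [1, 1, 1, 2, 1, 0, 1, 1, 0, 0, 2, 0, 1, 1]))) (.node (.node (.leaf [1, 0, 0, 0, 2, 1, 0, 1, 2, 1, 0, 1, 2]) (.leaf [])) (.node (.leaf []) (.leaf [2, 2, 2, 2, 2, 0, 1, 0, 1, 2, 2, 1, 1, 2]))))) (.node (.node (.node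 (.node (.node (.leaf []) (.leaf [1, 0, 2, 2, 0, 1, 1, 2, 0, 1, 0, 2, 1, 1])) (.leaf [1, 0, 0, 2, 2, 1, 2, 0, 1, 0, 0, 0, 1, 2])) (.node (.leaf [1, 0, 2, 2, 2, 0, 2, 0, 2, 0, 2, 0, 1, 2]) (.leaf [1, 0, 0, 1, 1, 0, 0, 2, 0, 1, 0, 2, 1, 1]))) (.node (.node (.leaf []) (.leaf [2, 2, 1, 2, 0, 1, 1, 1, 2, 1, 1, 1, 2, 1])) (.node (.leaf []) (.leaf [0, 1, 0, 1, 2, 0, 2, 2, 2, 1, 2, 2, 0, 1])))) (.node (.node (.node (.leaf [2, 0, 1, 1, 2, 2, 1, 0, 2, 2, 1, 2, 2, 2]) (.leaf [1, 1, 1, 1, 0, 1, 1, 2, 0, 0, 2])) (.node (.leaf []) (.leaf [0, 1, 1, 1, 1, 2, 2, 0, 0, 1]))) (.node (.node (.leaf [0, 2, 2, 0, 1, 0, 2, 1]) (.leaf [0, 0, 1])) (.node (.leaf [1, 2, 2, 2, 0, 0, 0, 1, 0, 1]) (.leaf [0, 2, 1, 1, 2, 1, 2, 1, 0, 2, 0, 2, 1])))))))) (.node (.node (.node (.node (.node (.node (.node (.node (.leaf []) (.leaf [2, 2, 0, 0, 0, 0, 0, 0, 1, 2, 1, 0, 2, 1])) (.leaf [2, 1, 2, 0, 2, 0, 1, 2])) (.node (.leaf []) (.leaf [])))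 (.node (.node (.leaf [0, 0, 1]) (.leaf [1, 1, 0, 0, 2, 2, 1, 1, 0, 2, 2, 0, 1, 1])) (.node (.leaf [2, 1, 2, 2, 0, 0, 0, 1, 1]) (.leaf [2, 0, 1, 0, 2, 1, 0, 1, 2, 0, 1, 2, 2, 2])))) (.node (.node (.node (.node (.leaf [0, 1, 1, 0, 2, 0, 1, 2]) (.leaf [0, 0, 0, 0, 0, 0, 0, 0, 1, 0, 0, 0, 0, 0])) (.leaf [0, 2, 1, 2, 1, 1, 0, 2, 1])) (.node (.leaf [2, 2, 2, 2, 0, 2, 1, 1, 0, 0, 1, 1, 1, 1]) (.leaf []))) (.node (.node (.leaf []) (.leaf [1, 0, 1, 1, 1, 1, 1, 1, 0, 2, 0, 2, 2, 2])) (.node (.leaf [1, 2, 1, 1, 1, 1, 1, 2, 0, 0, 0, 2, 2]) (.leaf [1, 1, 1, 2, 2, 2, 2, 2, 1, 1, 0, 1, 1]))))) (.node (.node (.node (.node (.node (.leaf [0, 2, 1, 2, 2, 0, 2, 0, 0, 0, 0, 0, 2, 2]) (.leaf [2, 2, 1, 2, 1, 2, 0, 0, 2, 1, 1])) (.leaf [2, 2, 0, 1, 1, 1, 2, 2, 1, 0, 0, 0, 0, 1])) (.node (.leaf [1, 2, 0, 1, 1, 0, 2, 2, 2, 0, 1, 1, 2, 1]) (.leaf [1, 0, 0, 1, 0, 1, 2, 0, 2, 0, 1, 0, 2]))) (.node (.node (.leaf [2, 2, 2, 0,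 0, 0, 0, 1]) (.leaf [2, 1, 2, 2, 0, 1, 0, 2, 0, 2, 1, 0, 2, 2])) (.node (.leaf [1, 2, 1, 0, 2, 1, 2, 2, 2, 1, 2, 1]) (.leaf [0, 0, 1])))) (.node (.node (.node (.leaf []) (.leaf [1, 1, 1, 1, 1, 0, 0, 1, 1, 0, 1, 0, 1, 2])) (.node (.leaf [1, 0, 2, 0, 2, 1, 1, 2, 2, 2, 2, 1, 1, 1]) (.leaf [1, 1, 1, 0, 0, 0, 0, 0, 1, 1, 2, 1, 1]))) (.node (.node (.leaf [2, 2, 2, 2, 0, 2, 1, 1, 2, 1, 1, 1, 0, 2]) (.leaf [2, 2, 1, 2, 1, 2, 1, 1, 0, 1, 2, 2, 0, 2])) (.node (.leaf [1, 1, 2, 2, 1, 2, 2, 0, 1, 2, 2, 2, 2, 1]) (.leaf [0, 2, 2, 0, 0, 0, 0, 1])))))) (.node (.node (.node (.node (.node (.node (.leaf []) (.leaf [2, 2, 0, 0, 0, 0, 0, 1])) (.leaf [2, 1, 0, 0, 1, 2, 0, 0, 2, 2, 1, 2, 1, 1])) (.node (.leaf [0, 0, 1]) (.leaf [2, 0, 1, 2, 2, 0, 0, 1, 2, 2, 1, 2]))) (.node (.node (.leaf []) (.leaf [1, 1, 0, 1, 2, 0, 0, 0, 2, 1, 1])) (.node (.leaf []) (.leaf [1, 2, 2, 0, 1, 0, 2, 1])))) (.node (.node (.node (.leaf [2, 1,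 2, 2, 0, 1, 1, 0, 0, 2, 0, 2, 1, 2]) (.leaf [1, 2, 1, 2, 0, 2, 1, 1, 0, 0, 2, 1, 0, 1])) (.node (.leaf [1, 1, 2, 0, 0, 0, 0, 2]) (.leaf [2, 1, 0, 1, 2, 1, 2, 0, 2, 0, 1, 1, 0, 1]))) (.node (.node (.leaf [1, 2, 0, 0, 2, 1, 1, 2, 2, 0, 1, 1, 0, 2]) (.leaf [0, 0, 1])) (.node (.leaf [0, 2, 0, 0, 1, 0, 2, 1]) (.leaf [0, 0, 0, 2, 2, 2, 2, 2, 0, 2]))))) (.node (.node (.node (.node (.node (.leaf []) (.leaf [0, 0, 2, 1, 0, 2, 0, 0, 0, 2, 1, 2, 2, 1])) (.leaf [0, 1, 1, 0, 2, 0, 1, 0, 1, 1, 2, 1, 1])) (.node (.leaf [0, 2, 1, 0, 2, 1, 0, 0, 0, 2, 1, 2, 0, 1]) (.leaf [1, 2, 0, 2, 1, 0, 1, 1, 1, 0, 0, 1, 1, 1]))) (.node (.node (.leaf [1, 0, 1, 0, 2, 0, 2, 1, 1, 1, 2, 0, 1, 1]) (.leaf [2, 1, 2, 0, 0, 2, 0, 1, 0, 0, 0, 1, 2])) (.node (.leaf [0, 0, 0, 1, 0, 1, 0, 0, 1, 1, 2, 1]) (.leaf [0, 1, 2, 2, 2, 2, 2, 2, 2, 0, 2, 2, 2, 2])))) (.node (.node (.node (.leaf [1, 2, 1, 1, 2, 0, 2, 0, 1, 1, 1, 2, 1, 2]) (.leaf [1,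 0, 0, 0, 2, 2, 0, 1, 0, 2, 2, 1, 1])) (.node (.leaf [2, 2, 1, 2, 1, 0, 0, 0, 1, 0, 2, 2]) (.leaf [1, 2, 0, 0, 2, 1, 0, 2, 0, 2, 0, 1]))) (.node (.node (.leaf [2, 2, 1, 2, 2, 2, 0, 1, 0, 1, 0, 1, 2]) (.leaf [0, 0, 1])) (.node (.leaf [1, 0, 2, 1, 1, 0, 0, 0, 0, 2, 1, 1, 1, 2]) (.leaf [2, 0, 0, 1, 1, 1, 2, 0, 2, 0, 1, 1, 2, 2]))))))) (.node (.node (.node (.node (.node (.node (.node (.leaf []) (.leaf [1, 1, 0, 1, 0, 2, 2, 0, 2, 1, 1, 2, 2, 2])) (.leaf [0, 0, 1])) (.node (.leaf [0, 2, 0, 2, 2, 2, 2, 0, 0, 2, 1, 1, 2, 1]) (.leaf [2, 1, 1, 0, 0, 0, 0, 0, 2, 1, 0, 1, 1, 1]))) (.node (.node (.leaf []) (.leaf [0, 1, 0, 0, 1, 0, 1, 1, 2, 1, 0, 1])) (.node (.leaf [0, 2, 0, 2, 2, 1, 1, 0, 1, 0, 2, 2, 2]) (.leaf [1, 0, 2, 2, 2, 2, 0, 1, 1, 0, 2, 0, 2, 2])))) (.node (.node (.node (.leaf [0, 2, 1, 1, 1, 0, 0, 1, 2, 0, 1, 1, 2, 1]) (.leaf [1, 0, 2, 2, 0, 2, 0, 0, 0, 0, 0, 0, 2, 2])) (.node (.leaf [2, 2, 1, 0, 2,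 0, 0, 2, 0, 0, 1, 2, 2, 1]) (.leaf [1, 0, 2, 2, 2, 2, 0, 2, 2, 2, 1, 0, 2, 1]))) (.node (.node (.leaf []) (.leaf [2, 0, 2, 2, 1, 1, 0, 2, 1, 0, 0, 2, 2, 2])) (.node (.leaf []) (.leaf [0, 0, 1]))))) (.node (.node (.node (.node (.node (.leaf []) (.leaf [0, 0, 1])) (.leaf [0, 0, 2, 2, 1, 0, 2, 1, 2, 1, 2, 1, 0, 1])) (.node (.leaf []) (.leaf [0, 0, 2, 1, 1, 1, 2, 2, 1, 0, 1, 0, 2, 1]))) (.node (.node (.leaf []) (.leaf [0, 1, 1, 0, 1, 1, 1, 0, 2, 0, 0, 2, 2])) (.node (.leaf [0, 1, 1, 2, 0, 1, 1, 0, 1, 0, 2, 0, 0, 1]) (.leaf [2, 0, 1, 1, 1, 2, 1, 0, 2, 0, 0, 0, 2, 1])))) (.node (.node (.node (.leaf [0, 1, 2, 0, 0, 0, 2, 0, 1, 1, 2, 1, 2, 2]) (.leaf [0, 0, 1])) (.node (.leaf [1, 1, 0, 2, 1, 0, 1, 0, 0, 0, 0, 1]) (.leaf [2, 1, 0, 1, 0, 1, 0, 1, 1, 1]))) (.node (.node (.leaf [0, 0, 2, 1, 0, 0, 1, 1, 0, 1, 0, 2, 0, 1]) (.leaf [2, 1, 1, 1, 0, 1, 1, 2, 2, 1, 0, 0, 1, 1])) (.node (.leaf [1, 2, 2, 2, 1, 0, 1,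 1, 2, 1, 0, 1, 2, 1]) (.leaf [0, 1, 0, 0, 2, 1, 1, 2, 2, 1, 1, 2, 1, 1])))))) (.node (.node (.node (.node (.node (.node (.leaf []) (.leaf [1, 2, 1, 0, 0, 0, 1, 1, 2, 1, 1, 1, 1])) (.leaf [1, 0, 2, 1, 1, 0, 2, 0, 0, 0, 0, 0, 1, 1])) (.node (.leaf [2, 2, 2, 2, 1, 1, 0, 0, 1, 0, 2, 2, 1, 1]) (.leaf [0, 0, 2, 2, 0, 0, 0, 0, 0, 0, 0, 1]))) (.node (.node (.leaf []) (.leaf [1, 2, 0, 0, 0, 0, 0, 2, 2, 0, 0, 1])) (.node (.leaf []) (.leaf [1, 0, 1, 0, 0, 1, 2, 1, 2, 2, 1, 1, 1, 1])))) (.node (.node (.node (.leaf [0, 1, 0, 0, 2, 2, 2, 1, 1, 2, 2, 1]) (.leaf [1, 1, 0, 2, 2, 1, 2, 2, 1, 2, 2, 0, 2, 1])) (.node (.leaf [2, 2, 2, 0, 1, 2, 1, 2, 1, 1, 0, 0, 0, 2]) (.leaf [1, 2, 2, 1, 2, 0, 1, 0, 2, 2, 1, 0, 1, 2]))) (.node (.node (.leaf [2, 2, 2, 1, 1, 0, 2, 0, 0, 1, 0, 1, 1, 2]) (.leaf [0, 1, 2, 0, 0, 0, 0, 2])) (.node (.leaf [2, 2, 1, 1, 1, 1, 2, 0, 2, 1, 0, 2, 2, 1]) (.leaf [1, 2, 1, 0, 0, 1, 0, 2, 2, 2, 1, 0,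 2, 1]))))) (.node (.node (.node (.node (.node (.leaf []) (.leaf [2, 0, 0, 2, 0, 0, 1, 0, 0, 1, 1, 1, 0, 1])) (.leaf [1, 2, 1, 0, 0, 1, 1, 0, 1, 1, 2, 1, 0, 2])) (.node (.leaf [0, 0, 1, 0, 1, 0, 2, 2, 1, 1, 0, 0, 2, 2]) (.leaf [2, 1, 1, 0, 1, 0, 1, 0, 2, 2, 1, 2, 1, 1]))) (.node (.node (.leaf [2, 2, 2, 0, 0, 0, 0, 1]) (.leaf [2, 2, 1, 0, 0, 1, 0, 1])) (.node (.leaf []) (.leaf [2, 2, 0, 1, 2, 2, 2, 1, 0, 1, 2, 1, 0, 1])))) (.node (.node (.node (.leaf [1, 1, 1, 0, 2, 1, 0, 0, 2, 1, 1, 1, 2, 2]) (.leaf [0, 1, 1, 0, 2, 2, 0, 0, 2, 1, 1, 1, 2, 2])) (.node (.leaf []) (.leaf [2, 1, 0, 0, 1, 2, 0, 1]))) (.node (.node (.leaf []) (.leaf [])) (.node (.leaf [2, 0, 2, 0, 0, 1]) (.leaf [1, 0, 0, 1, 0, 2, 1, 0, 0, 2, 0, 2, 1])))))))))) (.node (.node (.node (.node (.node (.node (.node (.node (.node (.node (.leaf []) (.leaf [0, 2, 2, 1, 1, 0, 2, 2, 1, 1, 0, 0, 2, 1])) (.leaf [])) (.node (.leaf [0, 1, 2, 0, 0, 0, 0,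 2]) (.leaf [0, 0, 1, 1, 0, 1, 0, 0, 0, 0, 0, 2]))) (.node (.node (.leaf []) (.leaf [2, 0, 0, 0, 0, 2, 0, 2, 0, 0, 2, 0, 1])) (.node (.leaf []) (.leaf [0, 2, 0, 0, 2, 2, 2, 0, 0, 2, 0, 2, 1, 1])))) (.node (.node (.node (.node (.leaf [0, 0, 0, 1, 0, 1, 0, 0, 0, 2]) (.leaf [1, 2, 0, 0, 2, 0, 0, 2, 1, 1, 1, 1, 0, 2])) (.leaf [2, 0, 1, 2, 0, 1, 0, 0, 0, 0, 0, 1])) (.node (.leaf [2, 0, 2, 2, 0, 0, 0, 0, 0, 0, 0, 1]) (.leaf [1, 2, 2, 2, 1, 2, 1, 2, 0, 1, 0, 0, 2, 2]))) (.node (.node (.leaf []) (.leaf [])) (.node (.leaf [2, 1, 1, 0, 2, 2, 2, 1, 0, 2, 0, 2, 1, 1]) (.leaf [1, 1, 2, 1, 1, 1, 0, 2, 1, 0, 2, 1, 2, 1]))))) (.node (.node (.node (.node (.node (.leaf []) (.leaf [0, 0, 1])) (.leaf [0, 1, 2, 0, 2, 0, 0, 1, 2, 0, 0, 1])) (.node (.leaf []) (.leaf [1, 2, 0, 0, 0, 0, 2, 0, 0, 2, 0, 2, 0, 2]))) (.node (.node (.leaf []) (.leaf [1, 2, 0, 1, 2, 2, 1, 1, 2, 1, 2, 2, 0, 1])) (.node (.leaf [0, 0, 1]) (.leaf [0,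 0, 0, 2, 0, 2, 2, 0, 1, 2, 2, 1, 0, 1])))) (.node (.node (.node (.leaf [2, 0, 2, 2, 1, 2, 0, 0, 0, 1, 1, 1, 0, 1]) (.leaf [0, 0, 1])) (.node (.leaf [1, 0, 2, 0, 2, 1, 0, 0, 2, 1, 1, 1, 0, 1]) (.leaf [0, 2, 1, 2, 0, 2, 2, 1, 2, 1, 1, 1, 2]))) (.node (.node (.leaf [1, 2, 1, 0, 0, 1, 0, 1]) (.leaf [1, 1, 0, 1, 1, 1, 2, 0, 0, 0, 1, 2, 2])) (.node (.leaf [0, 0, 1]) (.leaf [1, 0, 1, 0, 2, 2, 1, 1, 0, 1, 2, 1, 1, 1])))))) (.node (.node (.node (.node (.node (.node (.leaf []) (.leaf [2, 1, 0, 0, 2, 0, 2, 0, 1, 2, 0, 2])) (.leaf [0, 0, 0, 2, 0, 1, 0, 0, 0, 1, 0, 1, 1, 1])) (.node (.leaf [1, 1, 1, 1, 0, 1, 1, 2, 2, 1, 0, 0, 1, 1]) (.leaf [2, 0, 2, 1, 1, 0, 0, 0, 1, 2, 0, 1, 1, 2]))) (.node (.node (.leaf []) (.leaf [0, 2, 0, 1, 2, 0, 0, 0, 0, 2, 0, 2, 2, 2])) (.node (.leaf []) (.leaf [0, 2, 2, 2, 0, 0, 2, 0, 0, 0, 2, 0, 1, 1])))) (.node (.node (.node (.leaf []) (.leaf [0, 2, 2, 0, 1, 0, 2, 0, 1, 1, 2, 0, 2]))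 (.node (.leaf [1, 2, 0, 1, 2, 2, 1, 2, 1, 2, 1, 2, 1, 1]) (.leaf [2, 0, 2, 2, 2, 0, 1, 2, 1]))) (.node (.node (.leaf [2, 1, 0, 0, 1, 2, 2, 0, 2, 1, 2, 1, 1, 2]) (.leaf [0, 0, 1])) (.node (.leaf [2, 0, 2, 0, 0, 1, 0, 1, 0, 2, 0, 0, 2, 1]) (.leaf [1, 2, 1, 0, 1, 2, 2, 1, 2, 2, 1, 1, 2, 2]))))) (.node (.node (.node (.node (.node (.leaf [0, 0, 1]) (.leaf [1, 2, 1, 0, 0, 0, 2, 1, 0, 0, 0, 0, 0, 1])) (.leaf [2, 0, 1, 2, 2, 2, 1, 1, 0, 2, 2, 0, 2, 1])) (.node (.leaf [2, 0, 1, 0, 1, 2, 2, 0, 0, 0, 2, 0, 0, 1]) (.leaf []))) (.node (.node (.leaf []) (.leaf [0, 1, 2, 2, 1, 1, 2, 1, 1, 1, 2, 1, 1, 1])) (.node (.leaf [2, 0, 2, 0, 1, 2, 0, 2, 1, 0, 0, 2, 1, 2]) (.leaf [0, 1, 2, 0, 2, 0, 0, 1, 2, 0, 0, 1])))) (.node (.node (.node (.leaf [1, 2, 0, 2, 1, 1, 1, 1, 1, 1, 2, 2, 0, 1]) (.leaf [])) (.node (.leaf [0, 0, 0, 1, 2, 2, 2, 2, 0, 0, 0, 1, 1, 1]) (.leaf [0, 2, 1, 2, 0, 2, 0, 2, 1, 0, 2, 1, 1]))) (.node (.node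 (.leaf [0, 0, 1, 2, 1, 2, 0, 2, 2, 0, 2, 2, 2, 2]) (.leaf [1, 2, 2, 1, 1, 1, 2, 2, 2, 2, 2, 0, 0, 2])) (.node (.leaf [2, 2, 1, 2, 1, 0, 0, 0, 1, 2, 2]) (.leaf [1, 0, 2, 2, 1, 1, 1, 2, 1, 1, 1, 1]))))))) (.node (.node (.node (.node (.node (.node (.node (.leaf []) (.leaf [1, 0, 1, 0, 2, 2, 1, 2, 1, 2, 1, 0, 0, 2])) (.leaf [1, 0, 0, 0, 0, 1, 2, 0, 0, 0, 0, 0, 1, 2])) (.node (.leaf [1, 1, 2, 0, 2, 2, 1, 1, 1, 2, 1, 0, 0, 2]) (.leaf [2, 0, 1, 2, 2, 2, 2, 0, 1, 2, 0, 0, 0, 1]))) (.node (.node (.leaf []) (.leaf [0, 0, 1, 2, 1, 2, 2, 2, 1, 1, 0, 1, 2, 2])) (.node (.leaf [0, 0, 1]) (.leaf [2, 2, 1, 2, 2, 2, 2, 1, 0, 1, 1, 1, 0, 1])))) (.node (.node (.node (.node (.leaf []) (.leaf [1, 1, 0, 0, 1, 0, 1, 0, 1])) (.leaf [])) (.node (.leaf [1, 1, 1, 1, 2, 1, 0, 0, 0, 1, 0, 1]) (.leaf [1, 1, 1, 0, 2, 1, 2, 0, 0, 0, 0, 1, 2]))) (.node (.node (.leaf [0, 2, 0, 1, 0, 0, 0, 0, 2, 0, 0, 1, 0, 2]) (.leaf [0, 1, 0, 0,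 1, 2, 2, 2, 2, 1, 1, 0, 2, 2])) (.node (.leaf [2, 1, 0, 1, 0, 1, 0, 1, 2, 1, 0, 1]) (.leaf []))))) (.node (.node (.node (.node (.node (.leaf []) (.leaf [0, 2, 0, 0, 1, 1, 1, 2, 2, 0, 2, 2, 1, 2])) (.leaf [0, 0, 1, 2, 0, 0, 2, 0, 1, 2, 2, 1, 2, 2])) (.node (.leaf []) (.leaf [0, 0, 1]))) (.node (.node (.leaf []) (.leaf [0, 1, 0, 1, 1, 1, 2, 1, 2, 2])) (.node (.leaf [1, 0, 0, 2, 0, 2, 0, 0, 0, 0, 0, 1]) (.leaf [0, 1, 2, 0, 1, 1, 1, 2, 0, 0, 1, 2, 1, 2])))) (.node (.node (.node (.leaf []) (.leaf [0, 0, 1])) (.node (.leaf []) (.leaf [2, 0, 0, 0, 1, 1, 0, 2, 1, 1, 2, 2, 1, 1]))) (.node (.node (.leaf [1, 2, 2, 0, 2, 0, 2, 1, 2, 2, 1, 2, 0, 2]) (.leaf [1, 0, 1, 0, 0, 1, 1, 0, 2, 0, 1, 2, 0, 2])) (.node (.leaf [1, 2, 0, 1, 0, 1, 2, 2, 2, 1, 2, 1, 1, 1]) (.leaf [1, 0, 2, 2, 2, 2, 2, 1, 0, 2, 0, 1, 1, 2])))))) (.node (.node (.node (.node (.node (.node (.leaf []) (.leaf [1, 1, 2, 0, 0, 0, 2, 0, 2, 0, 0, 0, 0,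 1])) (.leaf [1, 2, 1, 1, 1, 1, 2, 0, 2, 1, 2, 0, 2, 1])) (.node (.leaf [0, 0, 1]) (.leaf [0, 0, 1, 1, 0, 1, 0, 0, 0, 2]))) (.node (.node (.leaf []) (.leaf [2, 1, 2, 0, 1, 1, 0, 2, 0, 1, 0, 2, 2, 1])) (.node (.leaf []) (.leaf [0, 1, 0, 0, 2, 1, 2, 0, 2, 2, 1, 1, 2])))) (.node (.node (.node (.leaf []) (.leaf [0, 1, 1, 2, 0, 1, 2, 2, 2, 2, 2, 2, 1, 1])) (.node (.leaf [0, 0, 0, 0, 0, 0, 0, 1, 1, 0, 0, 1, 0, 1]) (.leaf [1, 2, 1, 1, 2, 2, 2, 2, 2, 2, 0, 0, 2, 2]))) (.node (.node (.leaf []) (.leaf [])) (.node (.leaf [0, 2, 0, 0, 0, 2, 1, 1, 0, 1, 1, 1, 1, 2]) (.leaf [0, 2, 1, 0, 0, 2, 2, 2, 0, 1, 0, 1, 2, 2]))))) (.node (.node (.node (.node (.node (.leaf []) (.leaf [0, 1, 0, 1, 0, 1, 0, 2, 0, 2, 2, 2, 0, 2])) (.leaf [0, 0, 1, 0, 0, 1, 2, 1, 1, 1, 0, 1, 2, 1])) (.node (.leaf [0, 2, 0, 0, 0, 2, 0, 1, 2, 0, 1]) (.leaf [0, 0, 1]))) (.node (.node (.leaf [2, 2, 0, 0, 0, 0, 0, 1]) (.leaf [0, 2, 1, 0, 0, 0, 2,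 2, 1, 0, 0, 1, 2, 2])) (.node (.leaf [0, 1, 2, 2, 2, 2, 2, 2, 2, 2, 1, 0, 2, 1]) (.leaf [2, 0, 1, 2, 1, 1, 2, 2, 2, 2, 2, 1, 2, 2])))) (.node (.node (.node (.leaf [0, 0, 1]) (.leaf [2, 0, 2, 1, 2, 0, 0, 0, 0, 0, 1, 0, 2, 2])) (.node (.leaf []) (.leaf []))) (.node (.node (.leaf [0, 0, 1]) (.leaf [0, 2, 1, 0, 2, 0, 2, 2, 1, 2, 0, 2])) (.node (.leaf [0, 1, 2, 2, 0, 2, 1, 0, 0, 0, 0, 2, 2]) (.leaf [2, 2, 1, 2, 2, 1, 1, 1, 2, 1, 0, 1, 1, 2])))))))) (.node (.node (.node (.node (.node (.node (.node (.node (.leaf []) (.leaf [1, 1, 0, 0, 1, 0, 1, 1, 2, 1, 0, 1])) (.leaf [0, 1, 1, 2, 0, 1, 1, 1, 1, 1, 1, 2, 0, 1])) (.node (.leaf []) (.leaf [2, 2, 2, 2, 1, 0, 2, 0, 1, 0, 1, 0, 0, 2]))) (.node (.node (.leaf []) (.leaf [1, 2, 1, 0, 1, 0, 0, 2, 0, 0, 1, 0, 1, 1])) (.node (.leaf []) (.leaf [1, 2, 0, 0, 0, 2, 0, 1, 0, 1, 2, 2, 0, 1])))) (.node (.node (.node (.node (.leaf []) (.leaf [0, 0, 1, 0, 0, 0, 0, 0, 0, 0,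 0, 0, 0, 0])) (.leaf [1, 1, 0, 1, 1, 2, 2, 1, 2, 1, 1, 1, 1, 2])) (.node (.leaf [0, 1, 2, 0, 1, 2, 0, 1, 1, 1, 0, 0, 0, 1]) (.leaf [1, 1, 2, 0, 0, 0, 1, 0, 1, 1, 1, 1, 0, 2]))) (.node (.node (.leaf []) (.leaf [1, 1, 2, 0, 2, 1, 0, 0, 1, 2, 1, 2, 1, 2])) (.node (.leaf [0, 2, 0, 0, 2, 0, 1, 2, 1, 0, 2, 0, 2, 1]) (.leaf [1, 2, 1, 2, 2, 1, 2, 1, 1, 0, 1, 1, 2, 2]))))) (.node (.node (.node (.node (.node (.leaf []) (.leaf [2, 2, 2, 1, 0, 0, 0, 0, 1, 0, 1, 2, 1])) (.leaf [0, 0, 0, 0, 0, 0, 1, 2, 0, 2, 2, 1, 0, 1])) (.node (.leaf [1, 2, 2, 2, 1, 0, 0, 1, 2, 2, 1, 1, 1]) (.leaf [0, 2, 1, 1, 1, 2, 0, 1, 1, 0, 1]))) (.node (.node (.leaf []) (.leaf [2, 0, 2, 2, 2, 1, 2, 2, 1, 0, 0, 2])) (.node (.leaf [0, 1, 0, 0, 1, 0, 2, 2, 2, 0, 1, 2, 2, 2]) (.leaf [2, 0, 1, 1, 1, 0, 0, 0, 0, 1, 1, 1, 2])))) (.node (.node (.node (.leaf [0, 1, 2, 0, 0, 0, 0, 2]) (.leaf [1, 1, 1, 0, 0, 0, 1, 2])) (.node (.leaf [1, 2, 2, 0, 1,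 1, 2, 2, 2, 0, 1, 2, 0, 2]) (.leaf [0, 2, 2, 2, 2, 1, 0, 2, 0, 2, 0, 2]))) (.node (.node (.leaf [1, 1, 1, 1, 2, 2, 2, 1, 1, 0, 2, 1, 0, 1]) (.leaf [2, 1, 1, 0, 0, 1, 2, 0, 2, 1, 1, 1, 2, 2])) (.node (.leaf [0, 0, 1]) (.leaf [0, 0, 1])))))) (.node (.node (.node (.node (.node (.node (.leaf []) (.leaf [2, 2, 0, 0, 0, 0, 0, 2, 2, 0, 0, 1])) (.leaf [0, 1, 1, 2, 1, 0, 0, 0, 2, 2, 2, 1])) (.node (.leaf [0, 1, 0, 2, 1, 2, 2, 2, 0, 1, 2, 0, 0, 1]) (.leaf [2, 0, 2, 0, 1, 0, 1, 1, 1, 2, 0, 0, 1, 2]))) (.node (.node (.leaf []) (.leaf [0, 0, 1])) (.node (.leaf []) (.leaf [1, 0, 2, 0, 0, 2, 1, 1, 2, 1, 2, 1])))) (.node (.node (.node (.leaf []) (.leaf [0, 2, 2, 2, 0, 2, 1, 1, 2, 0, 0, 0, 1, 1])) (.node (.leaf [1, 0, 1, 1, 0, 0, 1, 2, 0, 0, 2, 2, 2, 2]) (.leaf [1, 1, 2, 0, 1, 2, 1, 1, 0, 0, 2, 1, 1, 1]))) (.node (.node (.leaf []) (.leaf [2, 0, 1, 2, 0, 1, 0, 1, 0, 2, 0, 1, 1])) (.node (.leaf [0, 2, 0, 2, 1, 0, 0,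 2, 1, 2, 2, 1, 0, 1]) (.leaf [1, 0, 2, 2, 0, 1, 1, 2, 0, 1, 0, 2, 1, 1]))))) (.node (.node (.node (.node (.node (.leaf []) (.leaf [1, 1, 1, 0, 2, 0, 1, 2])) (.leaf [1, 0, 1, 1, 1, 2, 0, 2, 0, 1, 1, 1, 0, 2])) (.node (.leaf [1, 0, 2, 2, 0, 2, 2, 0, 0, 1, 2, 1, 2, 1]) (.leaf [2, 2, 1, 0, 1, 1, 0, 2, 2, 0, 2, 2, 1]))) (.node (.node (.leaf []) (.leaf [1, 1, 2, 2, 2, 1, 2, 2, 1, 0, 1, 0, 1, 1])) (.node (.leaf [1, 2, 0, 2, 1, 1, 2, 0, 0, 1, 0, 1, 2]) (.leaf [2, 2, 2, 1, 0, 1, 0, 2, 2, 1, 2, 2, 2, 2])))) (.node (.node (.node (.leaf []) (.leaf [1, 2, 1, 0, 0, 1, 1, 2, 1, 0, 1])) (.node (.leaf [1, 0, 0, 2, 1, 2, 2, 1, 0, 1, 0, 2, 0, 1]) (.leaf [2, 2, 0, 1, 2, 0, 2, 2, 2, 1, 1, 1]))) (.node (.node (.leaf [1, 2, 2, 1, 2, 1, 0, 1, 1, 1, 1, 0, 1, 1]) (.leaf [])) (.node (.leaf [0, 1, 0, 1, 2, 0, 2, 1, 1, 1, 2, 1]) (.leaf [2, 0, 0, 2, 0, 0, 1, 0, 0, 1, 0, 1, 0, 2]))))))) (.node (.node (.node (.node (.node (.node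 (.node (.leaf []) (.leaf [1, 1, 0, 1, 2, 0, 0, 0, 2, 1, 1])) (.leaf [2, 2, 1, 2, 1, 0, 1, 0, 2, 0, 1, 1, 1, 2])) (.node (.leaf [2, 1, 0, 0, 0, 0, 0, 2, 0, 2, 0, 0, 2, 2]) (.leaf [0, 0, 1]))) (.node (.node (.leaf []) (.leaf [2, 2, 2, 2, 2, 0, 2, 0, 2, 2, 0, 0, 1, 2])) (.node (.leaf []) (.leaf [2, 0, 1, 1, 1, 0, 1, 0, 1, 1, 0, 1, 1, 1])))) (.node (.node (.node (.leaf [2, 1, 2, 0, 2, 0, 1, 2]) (.leaf [1, 1, 0, 2, 2, 2, 0, 2, 1, 1, 0, 0, 0, 2])) (.node (.leaf [0, 2, 2, 0, 0, 0, 0, 1]) (.leaf [2, 2, 1, 1, 2, 0, 1, 2, 2]))) (.node (.node (.leaf []) (.leaf [])) (.node (.leaf [1, 2, 1, 1, 2, 0, 2, 2, 0, 0, 1, 1, 1, 2]) (.leaf [1, 0, 2, 2, 2, 2, 2, 1, 1, 1, 1, 2, 1, 1]))))) (.node (.node (.node (.node (.node (.leaf []) (.leaf [1, 0, 1, 1, 1, 1, 0, 1, 0, 1, 0, 2, 2])) (.leaf [1, 0, 1, 2, 2, 2, 0, 2, 2, 0, 2, 1, 2])) (.node (.leaf [0, 1, 0, 1, 0, 2, 2, 1, 0, 1, 2, 1, 2, 2]) (.leaf [0, 1, 2, 1, 0, 1, 0, 2, 2,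 2, 1, 1, 1, 1]))) (.node (.node (.leaf []) (.leaf [1, 2, 0, 0, 0, 0, 2, 1])) (.node (.leaf [2, 2, 1, 0, 2, 0, 2, 0, 2, 0, 2, 0, 0, 2]) (.leaf [0, 2, 2, 1, 1, 0, 0, 1, 1, 1, 2, 0, 0, 2])))) (.node (.node (.node (.leaf []) (.leaf [2, 0, 2, 2, 0, 0, 1, 2, 1, 2, 0, 2, 0, 2])) (.node (.leaf [0, 0, 0, 2, 0, 2, 0, 0, 0, 2, 0, 2]) (.leaf [2, 2, 2, 1, 1, 2, 2, 0, 0, 1, 0, 2, 0, 2]))) (.node (.node (.leaf [1, 1, 2, 0, 1, 0, 2, 2]) (.leaf [1, 2, 2, 0, 1, 0, 1, 1, 0, 2, 0, 2, 2])) (.node (.leaf [1, 0, 0, 0, 1, 0, 1, 1, 0, 1, 2, 1, 2]) (.leaf [0, 0, 1, 0, 2, 1, 0, 1, 2, 2, 0, 1, 1])))))) (.node (.node (.node (.node (.node (.node (.leaf []) (.leaf [2, 1, 1, 2, 0, 2, 0, 2, 1, 2, 0, 0, 2, 2])) (.leaf [1, 0, 0, 1, 1, 1, 1, 0, 0, 0, 1, 0, 2, 2])) (.node (.leaf [0, 0, 1]) (.leaf [0, 0, 1]))) (.node (.node (.leaf [2, 2, 2, 0, 1, 2, 2, 2, 1, 2, 1, 0, 1, 1]) (.leaf [0, 2, 1, 1, 0, 0, 0, 1, 2, 1, 0, 2, 2, 1])) (.node (.leaf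 []) (.leaf [1, 1, 1, 0, 0, 0, 2, 0, 0, 1, 0, 0, 2, 2])))) (.node (.node (.node (.leaf [1, 1, 1, 1, 2, 2, 2, 1, 0, 1, 0, 1]) (.leaf [1, 2, 0, 0, 1, 2, 0, 1, 1, 1, 1, 1, 1, 1])) (.node (.leaf [2, 1, 1, 0, 0, 1, 0, 2, 0, 0, 0, 1, 1, 1]) (.leaf [0, 2, 0, 0, 0, 1, 1, 2, 2, 0, 0, 2, 1, 1]))) (.node (.node (.leaf []) (.leaf [1, 2, 2, 1, 0, 2, 1, 2, 2, 1, 1, 2, 0, 1])) (.node (.leaf [0, 1, 0, 1, 0, 1, 0, 0, 1, 1, 1, 2]) (.leaf [2, 1, 2, 0, 1, 0, 2, 1, 2, 1, 0, 1, 0, 2]))))) (.node (.node (.node (.node (.node (.leaf [2, 2, 2, 0, 0, 0, 0, 1]) (.leaf [1, 1, 1, 0, 2, 0, 1, 2])) (.leaf [2, 2, 2, 2, 1, 1, 2, 1, 2, 1, 1, 1])) (.node (.leaf [0, 0, 2, 1, 0, 0, 0, 0, 0, 0, 0, 2]) (.leaf [0, 1, 1, 1, 2, 0, 1, 1, 1, 1, 1, 1, 1]))) (.node (.node (.leaf []) (.leaf [2, 0, 2, 2, 2, 1, 1, 2, 1, 1, 2, 1, 2])) (.node (.leaf [1, 0, 1, 2, 1, 2, 2, 2, 0, 0, 0, 0, 0, 1]) (.leaf [2, 1, 1, 0, 1, 0, 0, 0, 0, 0, 0, 2, 2])))) (.node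 (.node (.node (.leaf [1, 1, 0, 1, 2, 1, 0, 0, 1, 2, 2]) (.leaf [1, 0, 1, 0, 1, 1, 2, 0, 1, 0, 0, 0, 0, 2])) (.node (.leaf []) (.leaf [1, 2, 1, 1, 1, 0, 1, 0, 2, 1, 1, 1, 2, 1]))) (.node (.node (.leaf []) (.leaf [1, 1, 2, 0, 2, 1, 1, 1, 2, 0, 1])) (.node (.leaf [1, 0, 2, 0, 0, 0, 2, 2, 2, 1, 0, 2, 2, 2]) (.leaf [0, 0, 1, 0, 0, 0, 0, 1, 0, 1, 2, 2, 0, 1]))))))))) (.node (.node (.node (.node (.node (.node (.node (.node (.node (.leaf []) (.leaf [2, 1, 1, 0, 2, 1, 1, 2])) (.leaf [0, 2, 0, 2, 0, 1, 2, 0, 0, 2, 0, 2, 2, 1])) (.node (.leaf [0, 0, 2, 1, 0, 0, 2, 2, 1, 2, 0, 2, 1, 2]) (.leaf [0, 1, 1, 0, 2, 2, 0, 2, 1, 0, 2, 1, 0, 1]))) (.node (.node (.leaf []) (.leaf [0, 1, 1, 1, 0, 0, 1, 1, 1, 1, 2, 1])) (.node (.leaf []) (.leaf [0, 0, 1])))) (.node (.node (.node (.node (.leaf [2, 1, 2, 2, 2, 2, 0, 2, 1, 2, 1, 0, 2, 1]) (.leaf [1, 1, 2, 1, 2, 2, 1, 2, 1, 2, 2, 2])) (.leaf [0, 0, 2, 1, 0, 0, 1, 0, 1, 2, 0,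 1, 0, 1])) (.node (.leaf [0, 0, 1]) (.leaf [0, 0, 1, 2, 2, 0, 0, 2, 2, 0, 2, 2, 0, 1]))) (.node (.node (.leaf []) (.leaf [2, 2, 1, 2, 0, 0, 1, 1, 0, 1, 0, 1, 0, 2])) (.node (.leaf [1, 0, 1, 2, 0, 1, 1, 1, 0, 2, 0, 2, 1, 2]) (.leaf [1, 1, 0, 2, 2, 1, 1, 1, 1, 1, 1, 2, 1, 1]))))) (.node (.node (.node (.node (.node (.leaf []) (.leaf [0, 1, 1, 2, 2, 1, 1, 0, 1, 0, 2, 2, 1])) (.leaf [0, 2, 0, 2, 0, 0, 0, 1, 1, 1, 1, 2, 2])) (.node (.leaf []) (.leaf [0, 0, 2, 1, 2, 1, 1, 1, 1, 2, 0, 0, 1, 1]))) (.node (.node (.leaf []) (.leaf [0, 1, 2, 2, 0, 2, 0, 0, 0, 0, 1, 0, 1, 2])) (.node (.leaf []) (.leaf [0, 0, 1])))) (.node (.node (.node (.leaf []) (.leaf [1, 2, 0, 0, 2, 1, 2, 0, 1, 1, 2, 0, 2, 2])) (.node (.leaf [0, 1, 2, 2, 2, 0, 0, 0, 1, 2, 2, 2]) (.leaf [1, 1, 1, 2, 0, 2, 2, 2, 1, 1, 2, 1, 0, 2]))) (.node (.node (.leaf [0, 0, 2, 0, 2, 0, 2, 1, 2, 1, 1, 1, 0, 1]) (.leaf [])) (.node (.leaf [0, 1, 1, 2, 2, 2,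 0, 1, 0, 1, 1, 1, 0, 1]) (.leaf [0, 1, 2, 1, 0, 0, 1, 2, 2])))))) (.node (.node (.node (.node (.node (.node (.leaf [1, 1, 1, 0, 0, 0, 0, 2]) (.leaf [2, 2, 0, 1, 1, 1, 1, 2, 2, 1, 1])) (.leaf [2, 1, 1, 0, 1, 0, 1, 0, 0, 1, 0, 2])) (.node (.leaf []) (.leaf [2, 0, 2, 2, 1, 2, 0, 0, 0, 1, 1, 1, 0, 1]))) (.node (.node (.leaf []) (.leaf [2, 1, 2, 2, 0, 1, 1, 0, 0, 2, 0, 1, 2])) (.node (.leaf [1, 1, 1, 0, 0, 0, 0, 2]) (.leaf [2, 1, 0, 1, 0, 0, 1, 2, 0, 0, 2, 1])))) (.node (.node (.node (.leaf []) (.leaf [1, 1, 0, 0, 2])) (.node (.leaf [0, 1, 1, 1, 1, 2, 1, 2, 1, 0, 0, 1]) (.leaf [1, 2, 2, 0, 1, 1, 1, 0, 1, 2, 2, 1, 1]))) (.node (.node (.leaf [0, 0, 1]) (.leaf [1, 1, 0, 0, 0, 1, 0, 1, 0, 2, 0, 2, 2])) (.node (.leaf [1, 2, 1, 2, 2, 1, 1, 0, 2, 2, 1, 1, 1, 2]) (.leaf [2, 2, 2, 0, 0, 2, 0, 0, 1, 2, 1, 2, 2, 1]))))) (.node (.node (.node (.node (.node (.leaf []) (.leaf [0, 1, 1, 0, 2, 2, 1, 1, 0, 1, 2, 0, 0,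 1])) (.leaf [1, 0, 1, 0, 0, 2, 1, 1, 0, 1, 2, 1, 2])) (.node (.leaf [1, 2, 2, 2, 2, 2, 0, 1, 0, 1, 0, 1, 2]) (.leaf [1, 1, 2, 0, 0, 0, 0, 2]))) (.node (.node (.leaf []) (.leaf [0, 2, 1, 0, 2, 1, 0, 0, 1, 1, 1, 2, 2, 2])) (.node (.leaf [0, 1, 2, 0, 0, 0, 0, 2]) (.leaf [0, 1, 0, 2, 2, 0, 0, 0, 0, 0, 0, 1])))) (.node (.node (.node (.leaf []) (.leaf [2, 2, 0, 0, 1, 0, 2, 1])) (.node (.leaf [0, 1, 1, 2, 2, 2, 0, 2, 2, 0, 0, 1, 2]) (.leaf []))) (.node (.node (.leaf [1, 0, 2, 0, 0, 0, 1, 1, 2, 1, 2, 0, 2, 2]) (.leaf [0, 0, 1])) (.node (.leaf []) (.leaf [0, 1, 2, 0, 0, 2, 2, 2, 0, 1, 0, 1, 1, 2]))))))) (.node (.node (.node (.node (.node (.node (.node (.leaf []) (.leaf [2, 1, 0, 2, 2, 2, 0, 2, 0, 1, 0, 1, 2])) (.leaf [2, 2, 1, 0, 2, 0, 1, 2, 1, 2, 1, 2])) (.node (.leaf [1, 2, 0, 2, 2, 0, 2, 0, 1, 1, 2, 1, 1, 1]) (.leaf []))) (.node (.node (.leaf [0, 0, 1]) (.leaf [0, 1, 0, 1, 1, 1, 1, 1, 1, 0, 1, 1, 2]))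 (.node (.leaf []) (.leaf [2, 0, 2, 1, 0, 2, 2, 0, 2, 2, 1, 1, 1, 2])))) (.node (.node (.node (.node (.leaf []) (.leaf [2, 2, 1, 0, 1, 0, 0, 1, 1, 0, 2, 0, 2, 2])) (.leaf [1, 1, 2, 0, 2, 2, 2, 1, 1, 0, 1, 0, 0, 1])) (.node (.leaf [0, 0, 1, 2, 2, 1, 2, 2, 2, 0, 0, 1, 2, 2]) (.leaf [2, 1, 0, 2, 1, 0, 1, 0, 0, 0, 0, 1]))) (.node (.node (.leaf [0, 0, 2, 0, 0, 2, 0, 1, 2, 1, 1, 2, 2, 1]) (.leaf [2, 1, 2, 1, 2, 1, 2, 1, 2, 2, 1, 0, 1, 1])) (.node (.leaf []) (.leaf [0, 2, 1, 1, 1, 2, 0, 1, 2, 0, 2, 1, 2, 1]))))) (.node (.node (.node (.node (.node (.leaf []) (.leaf [0, 1, 2, 1, 1, 2, 0, 0, 0, 2, 2, 2, 0, 2])) (.leaf [1, 2, 1, 1, 2, 0, 2, 0, 0, 0, 0, 2])) (.node (.leaf []) (.leaf [0, 2, 1, 1, 2, 2, 1, 2, 1, 2, 0, 1, 0, 1]))) (.node (.node (.leaf []) (.leaf [1, 0, 2, 0, 2, 1, 1, 1, 1, 1, 1, 1, 1, 1])) (.node (.leaf [0, 2, 2, 0, 1, 2, 1, 0, 0, 2, 1, 2, 0, 1]) (.leaf [2, 0, 2, 2, 1, 2, 1, 1, 2, 2, 1, 2])))) (.node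 (.node (.node (.leaf []) (.leaf [1, 2, 2, 1, 1, 2, 2, 1, 0, 0, 0, 2, 2, 2])) (.node (.leaf [2, 1, 2, 2, 2, 2, 1, 0, 1, 1, 2, 2, 0, 2]) (.leaf [2, 1, 0, 2, 0, 1, 0, 0, 2, 2, 0, 2, 2, 2]))) (.node (.node (.leaf [1, 0, 1, 2, 2, 2, 2, 2, 1, 2, 2, 2]) (.leaf [2, 2, 2, 1, 2, 1, 1, 0, 0, 0, 1, 2, 1, 1])) (.node (.leaf [0, 0, 0, 2, 0, 2, 0, 0, 2, 2, 1, 2]) (.leaf [0, 0, 0, 0, 1, 1, 1, 2])))))) (.node (.node (.node (.node (.node (.node (.leaf [0, 1, 2, 0, 0, 0, 0, 2]) (.leaf [1, 0, 1, 1, 0, 2, 1, 1, 0, 1, 2, 0, 0, 2])) (.leaf [1, 1, 2, 1, 1, 1, 0, 2, 2, 2, 2, 1, 2, 2])) (.node (.leaf [2, 2, 0, 1, 1, 1, 0, 1, 0, 2, 0, 2, 1]) (.leaf [2, 0, 0, 2, 1, 2, 1, 2, 1, 2, 0, 1, 1, 2]))) (.node (.node (.leaf [0, 0, 0, 1, 0, 1, 0, 0, 0, 2]) (.leaf [0, 1, 2, 0, 2, 0, 1, 2])) (.node (.leaf []) (.leaf [0, 2, 2, 2, 2, 1, 0, 2, 0, 2, 0, 2])))) (.node (.node (.node (.leaf []) (.leaf [1, 1, 1, 0, 2, 1, 1, 1, 2, 0, 2, 0, 1, 1]))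 (.node (.leaf [2, 2, 1, 2, 0, 1, 1, 2, 0, 2, 1, 2, 1, 1]) (.leaf [2, 2, 2, 0, 1, 1, 2, 2, 2, 2, 2, 0, 1, 2]))) (.node (.node (.leaf []) (.leaf [])) (.node (.leaf [2, 2, 2, 0, 0, 2, 2, 2, 1, 2, 0, 2]) (.leaf [0, 2, 2, 1, 0, 1, 1, 2, 2, 2, 1, 2, 1]))))) (.node (.node (.node (.node (.node (.leaf []) (.leaf [1, 1, 2, 1, 2, 2, 1, 2, 1, 2, 2, 2])) (.leaf [2, 2, 1, 2, 1, 2, 0, 1, 0, 1, 1, 1, 0, 1])) (.node (.leaf [0, 0, 1]) (.leaf [0, 2, 2, 1, 1, 1, 2, 2, 2, 0, 2, 2, 1, 2]))) (.node (.node (.leaf [2, 0, 2, 2, 1, 2, 0, 0, 0, 1, 1, 1, 0, 1]) (.leaf [0, 2, 1, 2, 0, 2, 0, 2, 1, 2, 0, 2])) (.node (.leaf [2, 2, 2, 1, 1, 0, 2, 0, 2, 0, 1, 1, 2]) (.leaf [2, 1, 2, 1, 1, 2, 2, 1, 0, 1, 0, 1, 1, 2])))) (.node (.node (.node (.leaf []) (.leaf [0, 1, 2, 2, 1, 1, 1, 2, 2, 1, 1, 1, 2])) (.node (.leaf []) (.leaf [0, 1, 1, 0, 0, 1, 0, 1, 2, 1, 0, 1, 0, 2]))) (.node (.node (.leaf [1, 1, 1, 0, 0, 0, 0, 2]) (.leaf [0, 1, 1,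 2, 2, 1, 2, 0, 0, 2, 0, 1, 0, 1])) (.node (.leaf [0, 1, 1, 0, 2, 0, 2]) (.leaf [1, 2, 2, 1, 2, 0, 1, 1, 2, 1, 1, 2, 1, 1])))))))) (.node (.node (.node (.node (.node (.node (.node (.node (.leaf [0, 0, 1]) (.leaf [2, 2, 2, 1, 2, 1, 1, 2, 1, 0, 1, 2, 2, 2])) (.leaf [2, 1, 0, 1, 1, 0, 0, 0, 1, 0, 2, 0, 2])) (.node (.leaf []) (.leaf [0, 2, 2, 2, 0, 2, 2, 0, 2, 0, 1, 0, 1]))) (.node (.node (.leaf []) (.leaf [1, 1, 1, 1, 2, 2, 2, 0, 1, 0, 2, 0, 2])) (.node (.leaf []) (.leaf [1, 1, 1, 2, 0, 1, 0, 0, 1, 2, 1])))) (.node (.node (.node (.node (.leaf []) (.leaf [0, 0, 0, 0, 0, 0, 2])) (.leaf [1, 1, 1, 0, 1, 1, 1, 2, 2, 1, 1, 1, 0, 1])) (.node (.leaf [1, 2, 2, 2, 2, 2, 0, 1, 2, 0, 0, 0, 0, 2]) (.leaf [0, 2, 2, 0, 1, 0, 1, 0, 0, 0, 0, 0, 2, 1]))) (.node (.node (.leaf []) (.leaf [])) (.node (.leaf [2, 2, 2, 0, 0, 0, 0, 1]) (.leaf [0, 1, 2, 0, 2, 0, 1, 2]))))) (.node (.node (.node (.node (.node (.leaf [0, 2, 2,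 0, 0, 0, 0, 1]) (.leaf [0, 0, 1])) (.leaf [2, 2, 1, 2, 1, 0, 0, 0, 2, 2, 1])) (.node (.leaf []) (.leaf [2, 0, 0, 1, 0, 2, 0, 0, 0, 0, 0, 2]))) (.node (.node (.leaf [0, 1, 2, 0, 2, 0, 1, 2]) (.leaf [1, 0, 2, 1, 2, 2, 0, 1, 1, 1, 2, 1])) (.node (.leaf []) (.leaf [2, 0, 0, 1, 2, 1, 1, 0, 2, 2, 1, 0, 1, 1])))) (.node (.node (.node (.leaf []) (.leaf [1, 1, 0, 0, 1, 1, 2, 2, 1, 1, 2, 2, 1, 1])) (.node (.leaf [1, 2, 1, 1, 0, 2, 2, 2, 0, 1, 1, 1, 0, 2]) (.leaf [0, 1, 1, 0, 1, 1, 0, 0, 0, 0, 0, 1, 0, 1]))) (.node (.node (.leaf [0, 0, 1]) (.leaf [1, 0, 1, 2, 0, 0, 0, 2, 1])) (.node (.leaf [2, 2, 1, 1, 2, 1, 0, 0, 0, 0, 1, 0, 0, 1]) (.leaf [2, 1, 2, 1, 1, 1, 0, 0, 1, 0, 2, 0, 2])))))) (.node (.node (.node (.node (.node (.node (.leaf []) (.leaf [1, 1, 1, 1, 1, 2, 1, 0, 0, 1])) (.leaf [2, 1, 0, 2, 0, 1, 1, 0, 0, 2, 0, 2, 1, 2])) (.node (.leaf [0, 2, 2, 0, 0, 0, 0, 1]) (.leaf [0, 2, 0, 1, 0, 2, 0, 0, 1, 0, 0,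 0, 2, 2]))) (.node (.node (.leaf [2, 2, 2, 0, 0, 0, 0, 1]) (.leaf [2, 2, 2, 2, 2, 0, 1, 0, 0, 1, 0, 2, 1, 2])) (.node (.leaf []) (.leaf [1, 1, 0, 2, 2, 2, 0, 1, 0, 1, 0, 2, 2, 1])))) (.node (.node (.node (.leaf []) (.leaf [0, 0, 1])) (.node (.leaf [0, 0, 0, 2, 0, 2, 0, 0, 0, 0, 0, 1]) (.leaf [0, 2, 1, 0, 2, 1, 1, 2, 1, 2, 2, 0, 1]))) (.node (.node (.leaf [2, 0, 2, 2, 0, 0, 0, 0, 1, 0, 2, 1]) (.leaf [0, 2, 2, 0, 1, 0, 2, 1])) (.node (.leaf []) (.leaf [2, 0, 2, 2, 0, 2, 0, 0, 0, 1, 2, 2, 0, 2]))))) (.node (.node (.node (.node (.node (.leaf []) (.leaf [2, 2, 0, 2, 0, 2, 2, 1, 1])) (.leaf [0, 0, 0, 2, 0, 2, 0, 0, 0, 1])) (.node (.leaf []) (.leaf [0, 1, 1, 1, 2, 0, 2, 1, 2, 0, 1, 0, 1, 1]))) (.node (.node (.leaf [2, 2, 2, 2, 1, 1, 1, 1, 2, 1, 1, 1, 2]) (.leaf [0, 0, 1])) (.node (.leaf [2, 0, 2, 1, 1, 0, 2, 1, 2]) (.leaf [0, 2, 2, 2, 1, 1, 0, 0, 0, 0, 0, 1])))) (.node (.node (.node (.leaf [0, 2, 2, 0,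 0, 1, 0, 0, 2, 2, 2, 2, 2, 2]) (.leaf [1, 1, 1, 1, 2, 2, 2, 2, 2, 0, 1, 1, 2, 1])) (.node (.leaf []) (.leaf [0, 2, 1, 2, 1, 1, 0, 2, 2, 2, 1, 0, 0, 1]))) (.node (.node (.leaf [2, 1, 1, 2, 2, 1, 0, 1, 1, 0, 2, 0, 1]) (.leaf [])) (.node (.leaf []) (.leaf [1, 0, 2, 1, 1, 2, 2, 0, 1, 2, 2, 2, 2, 2]))))))) (.node (.node (.node (.node (.node (.node (.node (.leaf []) (.leaf [1, 1, 2, 0, 1, 2, 1, 2, 1, 2, 0, 2])) (.leaf [0, 2, 0, 0, 1, 1, 1, 0, 0, 1, 0, 1, 2, 1])) (.node (.leaf [1, 2, 2, 1, 0, 0, 0, 2, 2]) (.leaf [0, 2, 2, 0, 0, 1, 0, 1, 0, 2, 1, 1, 1]))) (.node (.node (.leaf []) (.leaf [0, 0, 0, 2, 2, 2, 0, 0, 2, 1, 0, 2, 2, 1])) (.node (.leaf [0, 0, 1]) (.leaf [2, 0, 1, 1, 1, 2, 2, 2, 1, 2, 2, 2, 0, 1])))) (.node (.node (.node (.leaf []) (.leaf [2, 1, 0, 1, 0, 1, 1, 0, 1, 2, 2, 2, 0, 1])) (.node (.leaf [0, 0, 1]) (.leaf [2, 1, 0, 2, 1, 1, 1, 0, 2, 1, 0, 0, 0, 1]))) (.node (.node (.leaf []) (.leaf [1, 2,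 1, 1, 2, 2, 1, 2, 0, 0, 1, 2, 0, 2])) (.node (.leaf []) (.leaf [0, 2, 1, 1, 0, 0, 2, 1, 1, 1, 2, 1, 1, 2]))))) (.node (.node (.node (.node (.node (.leaf []) (.leaf [0, 2, 0, 1, 0, 2, 1, 0, 2, 2, 1, 1, 1, 1])) (.leaf [1, 2, 1, 1, 2, 0, 2, 0, 1, 1, 2, 2, 0, 2])) (.node (.leaf [2, 2, 1, 1, 1, 2, 2, 0, 0, 2, 1, 0, 1, 1]) (.leaf [2, 2, 1, 0, 2, 0, 1, 0, 1, 2, 2, 1, 1, 2]))) (.node (.node (.leaf []) (.leaf [0, 2, 0, 2, 1, 0, 0, 0, 0, 1])) (.node (.leaf [0, 2, 1, 0, 0, 0, 1, 0, 2, 2, 1, 2, 1, 1]) (.leaf [0, 2, 0, 1, 2, 0, 1, 0, 1, 2, 2, 0, 1, 2])))) (.node (.node (.node (.leaf [1, 0, 1, 2, 2, 2, 2, 0, 1, 0, 1, 1, 2, 2]) (.leaf [0, 2, 2, 0, 0, 0, 0, 1])) (.node (.leaf [1, 0, 0, 2, 0, 0, 2, 1, 0, 2, 2, 2, 0, 1]) (.leaf [2, 1, 2, 0, 1, 0, 2, 1, 0, 0, 1, 0, 1, 1]))) (.node (.node (.leaf [1, 0, 1, 1, 0, 0, 2, 1, 2, 2, 2, 2, 2, 1]) (.leaf [2, 1, 2, 2, 0, 0, 0, 1, 1, 1, 0, 2])) (.node (.leaf [0, 2, 2, 1, 2, 2,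 2, 1, 1, 1, 2, 2, 2, 1]) (.leaf [0, 2, 1, 2, 2, 2, 2, 1, 2, 0, 0, 1, 2, 2])))))) (.node (.node (.node (.node (.node (.node (.leaf []) (.leaf [1, 0, 0, 2, 0, 2, 2, 2, 2, 0, 1, 0, 1])) (.leaf [1, 0, 0, 1, 2, 2, 0, 0, 1, 2, 2, 2, 0, 1])) (.node (.leaf []) (.leaf [2, 2, 2, 1, 1, 0, 1, 1, 1, 0, 1, 1, 0, 2]))) (.node (.node (.leaf []) (.leaf [2, 2, 0, 0, 0, 0, 0, 1])) (.node (.leaf []) (.leaf [1, 0, 0, 2, 2, 0, 2, 0, 1, 0, 1, 0, 1, 1])))) (.node (.node (.node (.leaf [1, 2, 0, 0, 0, 0, 0, 1]) (.leaf [2, 0, 0, 2, 2, 2, 2, 2, 0, 2])) (.node (.leaf [0, 2, 2, 1, 2, 0, 1, 1, 1, 0, 0, 0, 1]) (.leaf [0, 2, 2, 0, 2, 1, 2, 1, 2, 1, 0, 1]))) (.node (.node (.leaf []) (.leaf [0, 0, 0, 2, 0, 1, 2, 2, 0, 0, 2, 0, 1, 1])) (.node (.leaf [0, 1, 1, 2, 0, 1, 0, 1, 1, 2, 0, 1]) (.leaf [0, 1, 2, 2, 2, 2, 2, 2, 1, 1, 2, 1, 0, 2]))))) (.node (.node (.node (.node (.node (.leaf []) (.leaf [1, 0, 1, 1, 2, 0, 2, 1, 1, 2, 0, 2]))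 (.leaf [1, 1, 0, 1, 1, 2, 1, 2, 2, 2, 1, 1, 1, 2])) (.node (.leaf [1, 2, 0, 1, 2, 2, 0, 2, 0, 2, 1, 2, 1, 2]) (.leaf [2, 1, 1, 0, 0, 1, 0, 0, 1, 0, 2, 0, 2, 1]))) (.node (.node (.leaf [0, 1, 2, 0, 0, 0, 0, 2]) (.leaf [0, 0, 0, 1, 0, 0, 0, 0, 0, 0, 0, 1, 2, 2])) (.node (.leaf [1, 0, 2, 2, 2, 0, 2, 1, 1]) (.leaf [1, 0, 2, 1, 1, 2, 1, 1, 2, 0, 0, 1])))) (.node (.node (.node (.leaf []) (.leaf [2, 1, 1, 2, 0, 0, 1, 0, 1, 0, 2, 1, 1, 2])) (.node (.leaf []) (.leaf [0, 1, 2, 0, 1, 1, 1, 0, 1, 1, 1, 2, 0, 1]))) (.node (.node (.leaf []) (.leaf [1, 2, 0, 0, 2, 0, 2, 0, 1, 0, 2])) (.node (.leaf [1, 2, 2, 0, 2, 0, 1, 1]) (.leaf [0, 0, 1, 0, 0, 0, 0, 1, 0, 0, 0, 2, 0, 2])))))))))))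

def threeL7 : Janko.Tree (List ℤ) :=
  (.node (.node (.node (.node (.node (.node (.node (.node (.node (.node (.node (.leaf []) (.leaf [1, 0, 1, 0, 0, 1, 1, 1, 1, 0, 2, 2, 0, 1])) (.leaf [1, 2, 0, 1, 0, 0, 0, 0, 2])) (.node (.leaf [0, 1, 1, 2, 0, 1, 1, 2, 2, 0, 1, 1, 2, 1]) (.leaf []))) (.node (.node (.leaf [1, 1, 2, 2, 2, 1, 2, 0, 2, 2, 1, 2, 1, 2]) (.leaf [1, 2, 0, 2, 0, 2, 1, 2, 1, 0, 2, 1, 0, 1])) (.node (.leaf [2, 0, 2, 2, 0, 0, 0, 0, 0, 1]) (.leaf [0, 0, 2, 2, 1, 0, 1, 1, 0, 0, 1, 1, 0, 2])))) (.node (.node (.node (.node (.leaf []) (.leaf [1, 0, 1, 1, 1, 1, 1, 1, 2, 0, 0, 1, 1, 2])) (.leaf [2, 2, 2, 2, 2, 0, 0, 1, 2, 0, 0, 2, 2, 1])) (.node (.leaf []) (.leaf [0, 0, 1, 1, 2, 0, 2, 0, 0, 2, 0, 0, 1]))) (.node (.node (.leaf []) (.leaf [])) (.node (.leaf []) (.leaf [1, 2, 0, 0, 0, 0, 2, 1, 0, 1, 2, 0, 0, 1]))))) (.node (.node (.node (.node (.node (.leaf []) (.leaf [1, 1, 2, 0, 1, 2, 2, 1, 2, 1]))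 (.leaf [2, 0, 0, 2, 0, 0, 0, 0, 0, 0, 0, 1])) (.node (.leaf [0, 2, 2, 1, 1, 1, 2, 0, 0, 1, 0, 2, 2]) (.leaf [0, 2, 2, 1, 0, 1, 1, 1, 0, 2, 1, 2, 1, 2]))) (.node (.node (.leaf [1, 2, 0, 1, 0, 0, 0, 0, 2]) (.leaf [1, 1, 1, 1, 1, 0, 1, 0, 1, 0, 2, 2])) (.node (.leaf []) (.leaf [0, 0, 0, 1, 0, 1, 2, 1, 2, 0, 1, 2, 2, 2])))) (.node (.node (.node (.leaf [2, 1, 2, 2, 2, 2, 1, 1, 1, 2, 2, 1, 0, 1]) (.leaf [1, 0, 0, 0, 0, 0, 0, 0, 2, 0, 0, 0, 1])) (.node (.leaf [2, 0, 0, 2, 1, 0, 0, 0, 2, 0, 1, 0, 1]) (.leaf [0, 1, 0, 2, 0, 0, 0, 0, 0, 0, 0, 0, 1]))) (.node (.node (.leaf []) (.leaf [0, 0, 0, 1])) (.node (.leaf [1, 0, 1, 1, 0, 0, 2, 0, 2, 2, 1, 1, 1, 2]) (.leaf [1, 0, 2, 2, 0, 1, 2, 2, 1, 0, 0, 0, 1, 2])))))) (.node (.node (.node (.node (.node (.node (.leaf []) (.leaf [1, 2, 0, 1, 1, 2, 2, 1, 1, 0, 2, 1, 2, 2])) (.leaf [1, 2, 1, 1, 1, 1, 0, 1, 0, 1, 0, 1, 2, 1])) (.node (.leaf [0, 0, 0, 2, 0, 2, 1, 0, 2, 1,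 1, 1, 0, 2]) (.leaf [1, 1, 1, 0, 1, 1, 2, 1, 0, 1, 1, 2, 1, 1]))) (.node (.node (.leaf []) (.leaf [2, 2, 1, 0, 0, 2, 0, 1, 0, 1, 2, 0, 0, 1])) (.node (.leaf [2, 1, 1, 2, 2, 1, 2, 1, 1, 2, 0, 2, 0, 2]) (.leaf [2, 0, 1, 2, 0, 2, 1, 2, 0, 1, 2, 1, 0, 1])))) (.node (.node (.node (.leaf []) (.leaf [2, 0, 1, 1, 2, 2, 2, 0, 1, 1, 2, 1, 0, 1])) (.node (.leaf [0, 1, 2, 2, 1, 1, 2, 2, 2, 2, 0, 0, 0, 1]) (.leaf [0, 1, 0, 0, 1, 2, 1, 0, 0, 0, 0, 1]))) (.node (.node (.leaf []) (.leaf [0, 0, 0, 2, 0, 1, 2, 1, 2, 2, 2, 1, 2, 1])) (.node (.leaf []) (.leaf [2, 1, 0, 0, 0, 2, 1, 1, 2, 2, 0, 2, 2, 1]))))) (.node (.node (.node (.node (.node (.leaf [0, 1, 1, 1, 2, 1, 0, 1, 1, 0, 2, 2, 2, 1]) (.leaf [1, 0, 0, 2, 0, 0, 0, 0, 0, 0, 1, 0, 1])) (.leaf [0, 2, 0, 1, 2, 1, 2, 0, 0, 0, 0, 2])) (.node (.leaf [2, 0, 1, 0, 1, 2, 0, 1, 1, 2, 0, 2, 2, 2]) (.leaf [2, 0, 1, 1, 1, 0, 0, 0, 0, 1, 0, 2, 0, 2]))) (.node (.node (.leaf [])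 (.leaf [2, 2, 1, 2, 2, 2, 2, 0, 0, 0, 0, 1])) (.node (.leaf [0, 0, 0, 1, 0, 1, 0, 0, 0, 2]) (.leaf [0, 1, 0, 1, 1, 1, 2, 2, 0, 1, 0, 2])))) (.node (.node (.node (.leaf [2, 1, 0, 2, 2, 0, 0, 0, 2]) (.leaf [2, 2, 1, 1, 0, 2, 2, 0, 0, 0, 0, 2, 2, 1])) (.node (.leaf [1, 2, 2, 1, 0, 0, 1, 1, 1, 2, 1, 1, 2, 2]) (.leaf [0, 2, 0, 2, 0, 0, 0, 0, 0, 0, 0, 0, 2]))) (.node (.node (.leaf []) (.leaf [1, 1, 0, 1, 0, 2, 0, 2, 2, 0, 0, 0, 0, 1])) (.node (.leaf [2, 0, 0, 0, 1, 1, 0, 1, 1, 2, 2, 1, 0, 1]) (.leaf [2, 1, 1, 2, 0, 2, 2, 0, 1, 2, 2, 2, 1, 2]))))))) (.node (.node (.node (.node (.node (.node (.node (.leaf []) (.leaf [1, 1, 2, 0, 0, 0, 0, 0, 1, 0, 2, 2, 2, 2])) (.leaf [1, 1, 0, 1, 1, 2, 1, 1, 1, 0, 1, 2, 0, 1])) (.node (.leaf [1, 0, 2, 1, 0, 1, 2, 1, 0, 0, 0, 1, 1, 1]) (.leaf [0, 2, 0, 0, 1, 1, 0, 0, 1, 2, 2, 2, 1, 1]))) (.node (.node (.leaf []) (.leaf [2, 2, 0, 2, 0, 0, 2, 0, 2])) (.node (.leaf []) (.leaf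 [0, 0, 0, 1])))) (.node (.node (.node (.node (.leaf []) (.leaf [0, 1, 0, 1, 0, 2, 2, 0, 1, 0, 2, 0, 1, 2])) (.leaf [0, 2, 0, 1, 0, 0, 2, 0, 1, 0, 1, 0, 1])) (.node (.leaf [2, 0, 0, 2, 1, 0, 2, 0, 2, 0, 1, 1, 2, 2]) (.leaf [0, 0, 0, 1]))) (.node (.node (.leaf [2, 2, 2, 0, 1, 2, 1, 0, 1, 0, 2, 1, 2, 1]) (.leaf [2, 1, 0, 1, 2, 1, 0, 0, 0, 2])) (.node (.leaf [0, 2, 1, 2, 1, 0, 1, 2, 1, 1, 0, 2]) (.leaf [1, 2, 2, 0, 1, 0, 2, 0, 2, 1]))))) (.node (.node (.node (.node (.node (.leaf []) (.leaf [1, 0, 1, 2, 0, 0, 0, 0, 0, 2])) (.leaf [2, 0, 0, 0, 2, 0, 0, 0, 2, 0, 0, 0, 1])) (.node (.leaf []) (.leaf [0, 1, 1, 2, 2, 1, 2, 1, 2, 1, 0, 2]))) (.node (.node (.leaf [0, 2, 0, 1, 0, 0, 0, 1, 0, 2]) (.leaf [1, 1, 0, 2, 1, 0, 1, 1, 1, 2, 0, 0, 0, 1])) (.node (.leaf []) (.leaf [1, 1, 1, 0, 2, 1, 0, 2, 0, 1, 0, 1, 0, 1])))) (.node (.node (.node (.leaf [0, 2, 0, 1, 2, 1, 2, 0, 0, 0, 0, 2]) (.leaf [0, 0, 0, 1])) (.node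 (.leaf [2, 0, 0, 2, 2, 2, 1, 1, 0, 1, 1, 1, 0, 1]) (.leaf [0, 1, 2, 0, 2, 0, 1, 2, 0, 0, 1, 2]))) (.node (.node (.leaf []) (.leaf [1, 0, 0, 0, 0, 0, 2, 1, 1, 1, 2, 2, 2, 2])) (.node (.leaf [1, 2, 2, 1, 0, 0, 0, 0, 1, 1]) (.leaf [1, 0, 2, 2, 0, 1, 0, 0, 1])))))) (.node (.node (.node (.node (.node (.node (.leaf [0, 0, 0, 1, 0, 1, 0, 0, 0, 2]) (.leaf [1, 2, 2, 2, 2, 1, 1, 2, 1, 1])) (.leaf [1, 2, 1, 2, 2, 1, 2, 0, 0, 2, 0, 2])) (.node (.leaf [0, 0, 2, 2, 0, 1, 2, 1, 1, 1, 1, 0, 0, 1]) (.leaf [0, 0, 2, 2, 0, 0, 2, 0, 2, 0, 1, 2, 2]))) (.node (.node (.leaf []) (.leaf [1, 1, 0, 2, 1, 0, 0, 2, 2, 2, 0, 1, 1, 1])) (.node (.leaf [1, 2, 2, 0, 0, 2, 2, 1, 1, 0, 2, 1, 1, 1]) (.leaf [1, 1, 0, 0, 2, 0, 1, 0, 2, 0, 0, 2, 1, 1])))) (.node (.node (.node (.leaf [0, 1, 0, 2, 1, 2, 0, 1, 1, 2, 2, 0, 1, 1]) (.leaf [])) (.node (.leaf [0, 0, 0, 1]) (.leaf [2, 1, 0, 2, 1, 0, 0, 0, 0, 0, 1]))) (.node (.node (.leaf []) (.leaf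 [2, 1, 0, 0, 1, 1, 0, 0, 1, 2, 2, 1, 1, 2])) (.node (.leaf []) (.leaf [0, 0, 1, 2, 2, 0, 2, 2, 1, 1, 2, 1, 1, 1]))))) (.node (.node (.node (.node (.node (.leaf []) (.leaf [2, 0, 2, 1, 1, 0, 1, 1, 1, 0, 1, 1, 1, 2])) (.leaf [2, 1, 0, 1, 0, 1, 2, 0, 1, 2, 0, 2])) (.node (.leaf [2, 1, 0, 0, 2, 1, 1, 2, 0, 2, 1, 0, 1, 2]) (.leaf [1, 1, 1, 1, 2, 1, 0, 2, 1, 0, 0, 0, 2, 2]))) (.node (.node (.leaf [0, 0, 1, 1, 0, 2, 0, 2, 1, 2, 0, 2]) (.leaf [0, 0, 2, 0, 1, 1, 0, 2, 2, 0, 1, 2, 1, 1])) (.node (.leaf []) (.leaf [1, 2, 0, 1, 0, 0, 0, 0, 2])))) (.node (.node (.node (.leaf [2, 1, 1, 2, 0, 0, 0, 0, 1, 2, 2, 2, 2, 1]) (.leaf [2, 2, 1, 1, 2, 1, 2, 1, 2, 0, 2, 1, 1, 2])) (.node (.leaf [1, 2, 0, 2, 1, 0, 0, 0, 1]) (.leaf [0, 1, 1, 2, 1, 2, 2, 1, 2, 2]))) (.node (.node (.leaf []) (.leaf [])) (.node (.leaf [2, 1, 0, 2, 0, 2, 2, 0, 2, 1, 1]) (.leaf [2, 1, 0, 1, 0, 0, 0, 2, 0, 2, 0, 0, 2, 2])))))))) (.node (.node (.node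 (.node (.node (.node (.node (.node (.leaf []) (.leaf [1, 0, 1, 2, 2, 1, 0, 1, 2, 2, 2, 2, 2, 1])) (.leaf [1, 2, 1, 0, 0, 1, 1, 1, 2, 0, 1, 1, 0, 2])) (.node (.leaf [2, 1, 0, 0, 0, 0, 0, 0, 1]) (.leaf [0, 2, 2, 2, 0, 0, 0, 0, 1, 0, 2, 0, 0, 1]))) (.node (.node (.leaf [0, 1, 0, 2, 0, 0, 0, 0, 0, 0, 0, 0, 1]) (.leaf [2, 0, 1, 0, 2, 1, 0, 2, 0, 0, 2, 2])) (.node (.leaf []) (.leaf [1, 1, 1, 0, 0, 2, 1, 0, 0, 2, 0, 2, 1, 2])))) (.node (.node (.node (.node (.leaf []) (.leaf [0, 2, 0, 0, 0, 1, 1, 2, 0, 0, 2, 2, 0, 2])) (.leaf [2, 2, 1, 0, 1, 1, 1, 2, 1, 0, 2, 0, 2, 2])) (.node (.leaf []) (.leaf [1, 0, 2, 2, 1, 1, 0, 2, 1, 0, 0, 0, 0, 1]))) (.node (.node (.leaf []) (.leaf [])) (.node (.leaf []) (.leaf [2, 2, 0, 0, 2, 2, 0, 2, 0, 0, 2, 2, 1, 2]))))) (.node (.node (.node (.node (.node (.leaf []) (.leaf [0, 1, 2, 1, 0, 0, 2, 0, 1, 1, 0, 0, 2, 1])) (.leaf [0, 1, 2, 2, 2, 0, 2, 1, 2, 2, 0, 1])) (.node (.leaf [2,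 2, 1, 2, 1, 0, 0, 0, 2, 2, 1]) (.leaf [1, 2, 2, 1, 1, 2, 0, 0, 0, 1, 0, 1]))) (.node (.node (.leaf [0, 0, 0, 1]) (.leaf [2, 0, 0, 2, 0, 0, 0, 2, 2, 2, 1, 0, 1, 2])) (.node (.leaf [0, 2, 0, 1, 2, 1, 2, 0, 0, 0, 0, 2]) (.leaf [2, 2, 1, 2, 1, 0, 1, 0, 0, 2, 0, 2, 1])))) (.node (.node (.node (.leaf [1, 1, 2, 1, 1, 1, 2, 1, 2, 0, 1, 1, 0, 1]) (.leaf [2, 2, 0, 0, 1, 0, 2, 0, 0, 2, 2, 0, 1, 1])) (.node (.leaf [2, 0, 2, 0, 2, 2, 0, 0, 0, 1, 0, 1, 2]) (.leaf [1, 0, 2, 0, 0, 2, 2, 1, 0, 1]))) (.node (.node (.leaf [0, 0, 0, 1]) (.leaf [1, 0, 2, 0, 0, 0, 0, 0, 0, 1])) (.node (.leaf []) (.leaf [1, 1, 2, 2, 1, 1, 0, 0, 0, 0, 0, 0, 2])))))) (.node (.node (.node (.node (.node (.node (.leaf []) (.leaf [2, 2, 1, 0, 1, 0, 0, 0, 2, 1, 1, 0, 1, 1])) (.leaf [2, 0, 0, 0, 0, 1, 0, 2, 2, 0, 2, 0, 1, 1])) (.node (.leaf [0, 1, 0, 2, 0, 0, 0, 0, 0, 0, 0, 0, 1]) (.leaf [0, 0, 0, 1]))) (.node (.node (.leaf []) (.leaf [2, 0, 0,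 2, 0, 0, 0, 1, 1, 1, 2, 0, 2, 1])) (.node (.leaf []) (.leaf [2, 2, 2, 1, 0, 1, 0, 1, 0, 2, 0, 2, 1, 1])))) (.node (.node (.node (.leaf []) (.leaf [1, 0, 0, 2, 0, 0, 1, 0, 0, 0, 0, 0, 1])) (.node (.leaf [0, 0, 0, 1]) (.leaf [1, 0, 0, 1, 0, 1, 0, 0, 0, 2]))) (.node (.node (.leaf []) (.leaf [2, 2, 2, 0, 2, 0, 2, 0, 2, 0, 1, 2, 2, 2])) (.node (.leaf [2, 0, 1, 1, 0, 1, 1, 2, 0, 2]) (.leaf [1, 0, 2, 2, 1, 0, 2, 1, 2, 0, 0, 1, 1, 1]))))) (.node (.node (.node (.node (.node (.leaf []) (.leaf [2, 0, 1, 2, 1, 0, 0, 1, 0, 2, 0, 0, 1, 2])) (.leaf [2, 1, 0, 0, 0, 0, 0, 0, 1])) (.node (.leaf [0, 2, 0, 2, 1, 0, 0, 2, 0, 0, 2, 1, 1]) (.leaf [1, 2, 0, 1, 1, 0, 0, 1, 1, 2]))) (.node (.node (.leaf []) (.leaf [1, 2, 1, 1, 2, 0, 1, 0, 0, 1, 2, 0, 2, 1])) (.node (.leaf [1, 0, 1, 1, 0, 0, 0, 0, 0, 2]) (.leaf [2, 0, 0, 0, 2, 2, 2, 0, 1, 1, 2, 1, 0, 2])))) (.node (.node (.node (.leaf []) (.leaf [1, 2, 0, 1, 0, 0, 0, 0, 2]))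 (.node (.leaf [1, 1, 1, 0, 1, 2, 1, 1, 1, 2, 2, 2, 2, 1]) (.leaf [0, 0, 0, 1]))) (.node (.node (.leaf []) (.leaf [1, 1, 0, 0, 1, 0, 2, 1, 2, 0, 0, 1, 2, 1])) (.node (.leaf [0, 1, 2, 2, 2, 0, 0, 0, 1, 1, 2]) (.leaf [0, 0, 0, 1]))))))) (.node (.node (.node (.node (.node (.node (.node (.leaf []) (.leaf [2, 0, 2, 0, 0, 0, 1, 0, 2, 0, 2, 1, 0, 1])) (.leaf [0, 0, 0, 2, 2, 0, 0, 1, 0, 0, 2, 1, 0, 1])) (.node (.leaf [0, 0, 0, 1]) (.leaf [2, 1, 2, 1, 2, 0, 0, 0, 0, 2, 1, 0, 0, 2]))) (.node (.node (.leaf []) (.leaf [2, 1, 2, 2, 2, 1, 1, 0, 2, 1, 1, 1, 1, 1])) (.node (.leaf []) (.leaf [2, 2, 2, 1, 0, 0, 0, 2, 2, 2, 2, 2, 0, 1])))) (.node (.node (.node (.node (.leaf []) (.leaf [2, 1, 1, 2, 2, 0, 2, 2, 1, 2, 2, 1, 1, 1])) (.leaf [0, 0, 0, 1, 0, 1, 0, 0, 0, 2])) (.node (.leaf [0, 2, 0, 1, 1, 2, 2, 0, 2, 1, 1, 0, 2]) (.leaf [1, 1, 0, 0, 0, 2, 2, 1, 2, 2]))) (.node (.node (.leaf []) (.leaf [])) (.node (.leaf [0,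 2, 0, 2, 0, 0, 0, 0, 0, 0, 0, 0, 1]) (.leaf [2, 2, 2, 2, 0, 1, 2, 0, 1, 0, 2, 0, 1]))))) (.node (.node (.node (.node (.node (.leaf []) (.leaf [0, 0, 0, 1, 1, 2, 0, 2, 2, 1, 0, 2, 0, 1])) (.leaf [0, 1, 0, 0, 0, 1, 2, 2, 2, 2, 0, 1, 0, 2])) (.node (.leaf [2, 0, 1, 1, 2, 2, 2, 0, 0, 0, 1, 1, 1, 2]) (.leaf [1, 2, 0, 1, 2, 1, 2, 0, 0, 0, 0, 2]))) (.node (.node (.leaf [0, 1, 0, 2, 0, 0, 0, 0, 0, 0, 0, 0, 1]) (.leaf [0, 0, 1, 1, 0, 2, 1, 0, 2, 0, 1, 1, 1])) (.node (.leaf []) (.leaf [1, 2, 1, 1, 2, 2, 1, 0, 1, 2, 2, 0, 0, 1])))) (.node (.node (.node (.leaf []) (.leaf [2, 0, 1, 1, 2, 2, 1, 1, 0, 1, 2, 2, 1, 2])) (.node (.leaf [0, 1, 2, 1, 2, 2, 2, 1, 2, 0, 0, 1]) (.leaf [0, 0, 1, 0, 0, 0, 2, 1, 0, 1]))) (.node (.node (.leaf [2, 0, 2, 2, 0, 0, 0, 0, 0, 1]) (.leaf [])) (.node (.leaf [1, 0, 0, 1, 1, 1, 2, 0, 1, 1, 2, 1, 1]) (.leaf [0, 1, 2, 1, 1, 2, 1, 0, 1, 2, 2, 2, 0, 1])))))) (.node (.node (.node (.node (.node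 (.node (.leaf [1, 0, 1, 1, 0, 0, 0, 0, 0, 2]) (.leaf [0, 0, 1, 1, 2, 2, 2, 2, 1, 1])) (.leaf [2, 1, 1, 1, 1, 1, 0, 2, 1, 2])) (.node (.leaf [1, 0, 0, 0, 0, 1, 0, 1, 1, 0, 2, 0, 2, 1]) (.leaf [1, 0, 0, 0, 1, 2, 1, 0, 2, 1, 1, 0, 2]))) (.node (.node (.leaf []) (.leaf [2, 0, 0, 2, 2, 2, 2, 1, 0, 0, 1, 2, 2, 2])) (.node (.leaf [0, 0, 0, 1]) (.leaf [2, 0, 0, 0, 2, 2, 2, 2, 1, 2])))) (.node (.node (.node (.leaf [2, 0, 1, 1, 0, 1, 1, 0, 0, 1, 0, 0, 1]) (.leaf [0, 2, 0, 2, 1, 0, 0, 0, 0, 0, 2, 0, 2])) (.node (.leaf [1, 1, 0, 2, 2, 2, 1, 0, 1, 1]) (.leaf [1, 0, 1, 0, 0, 1, 1, 2, 2, 1, 1, 2, 2, 2]))) (.node (.node (.leaf []) (.leaf [0, 0, 0, 1])) (.node (.leaf []) (.leaf [1, 2, 0, 2, 0, 1, 0, 0, 2, 2, 1, 2, 2, 1]))))) (.node (.node (.node (.node (.node (.leaf []) (.leaf [2, 2, 1, 1, 0, 2, 2, 2, 0, 2, 2, 1, 1, 2])) (.leaf [2, 2, 2, 1, 2, 2, 0, 0, 1, 2, 1, 2])) (.node (.leaf [0, 2, 2, 0, 0, 1, 0, 1, 2, 1, 0,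 1]) (.leaf [0, 2, 1, 1, 0, 1, 1, 1, 1, 0, 0, 1, 0, 1]))) (.node (.node (.leaf []) (.leaf [1, 1, 0, 2, 1, 0, 1, 1, 2, 1, 1, 2, 0, 2])) (.node (.leaf [2, 1, 0, 2, 1, 1, 1, 2, 0, 0, 2, 2, 2, 1]) (.leaf [1, 0, 2, 0, 2, 0, 0, 0, 2, 1, 1, 2, 0, 1])))) (.node (.node (.node (.leaf []) (.leaf [2, 1, 2, 2, 0, 1, 2, 2, 0, 0, 0, 0, 0, 1])) (.node (.leaf []) (.leaf [0, 0, 1, 1, 2, 0, 0, 1, 0, 2, 1, 0, 0, 2]))) (.node (.node (.leaf []) (.leaf [1, 2, 0, 2, 2, 0, 0, 2, 0, 1])) (.node (.leaf [2, 1, 0, 0, 0, 0, 0, 0, 1]) (.leaf [2, 2, 2, 2, 1, 0, 0, 1, 0, 0, 0, 2, 2, 1]))))))))) (.node (.node (.node (.node (.node (.node (.node (.node (.node (.leaf []) (.leaf [1, 1, 0, 1, 0, 2, 1, 2, 2, 0, 1, 2, 1])) (.leaf [])) (.node (.leaf []) (.leaf [0, 2, 2, 2, 2, 1, 0, 1, 1, 0, 1, 0, 0, 2]))) (.node (.node (.leaf []) (.leaf [2, 0, 0, 2, 2, 2, 1, 0, 0, 1, 0, 2, 0, 1])) (.node (.leaf []) (.leaf [1, 2, 2, 1, 2, 0, 0, 0, 2, 2, 0,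 2])))) (.node (.node (.node (.node (.leaf []) (.leaf [2, 0, 0, 2, 0, 0, 2, 0, 0, 0, 0, 0, 2])) (.leaf [0, 0, 0, 1])) (.node (.leaf [1, 0, 1, 0, 1, 1, 1, 2, 1, 2, 0, 1, 1, 2]) (.leaf [0, 1, 2, 1, 2, 1, 2, 0, 2, 1, 0, 2, 1]))) (.node (.node (.leaf [0, 2, 0, 1, 2, 1, 2, 0, 0, 0, 0, 2]) (.leaf [0, 1, 0, 2, 2, 0, 2, 1, 2, 0, 1, 0, 0, 1])) (.node (.leaf [2, 0, 0, 0, 0, 2, 0, 0, 0, 1]) (.leaf [0, 0, 0, 1]))))) (.node (.node (.node (.node (.node (.leaf [0, 1, 0, 2, 0, 0, 0, 0, 0, 0, 0, 0, 1]) (.leaf [1, 0, 2, 1, 2, 1, 0, 1, 2, 1, 1, 0, 1, 1])) (.leaf [1, 2, 2, 2, 2, 2, 2, 0, 2, 0, 1, 0, 2, 2])) (.node (.leaf [0, 0, 0, 0, 2, 1, 1, 1, 2, 2, 1, 1, 2, 1]) (.leaf [1, 2, 0, 2, 2, 2, 2, 0, 0, 2, 0, 2]))) (.node (.node (.leaf []) (.leaf [0, 2, 0, 0, 2, 0, 0, 0, 0, 2, 2, 0, 1, 1])) (.node (.leaf [0, 2, 2, 0, 0, 1, 0, 1, 2, 1, 0, 1]) (.leaf [2, 1, 2, 1, 0, 2, 2, 0, 1, 0, 2, 2])))) (.node (.node (.node (.leaf []) (.leaf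 [])) (.node (.leaf [0, 2, 0, 1, 0, 0, 0, 0, 0, 0, 0, 0, 2]) (.leaf [0, 0, 0, 2, 2, 0, 0, 0, 0, 0, 1]))) (.node (.node (.leaf []) (.leaf [])) (.node (.leaf [0, 0, 2, 0, 0, 1, 0, 1, 2, 1, 0, 1]) (.leaf [0, 0, 0, 1])))))) (.node (.node (.node (.node (.node (.node (.leaf []) (.leaf [2, 0, 1, 2, 1, 0, 0, 2, 0, 0, 2, 2, 1, 2])) (.leaf [0, 0, 0, 2, 1, 1, 1, 0, 1, 1, 2, 1, 2])) (.node (.leaf []) (.leaf [2, 2, 2, 1, 1, 0, 2, 0, 0, 1, 0, 1, 1, 2]))) (.node (.node (.leaf []) (.leaf [0, 2, 2, 2, 0, 2, 0, 2, 2, 2, 0, 1])) (.node (.leaf []) (.leaf [1, 2, 0, 2, 2, 2, 0, 1, 0, 1, 2, 0, 1, 1])))) (.node (.node (.node (.leaf [0, 1, 0, 2, 0, 0, 0, 0, 0, 0, 0, 0, 1]) (.leaf [1, 1, 1, 1, 1, 0, 0, 2, 2])) (.node (.leaf [0, 0, 0, 2, 2, 0, 2, 0, 0, 0, 0, 0, 1]) (.leaf [0, 1, 2, 2, 0, 2, 0, 2, 2, 2, 0, 1]))) (.node (.node (.leaf [1, 1, 1, 1, 0, 1, 2, 0, 0, 0, 0, 0, 1, 1]) (.leaf [])) (.node (.leaf [1, 0, 2, 2, 2, 0, 0, 1,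 2, 0, 1, 2, 1, 1]) (.leaf [1, 0, 1, 2, 0, 0, 0, 0, 0, 2]))))) (.node (.node (.node (.node (.node (.leaf []) (.leaf [2, 1, 1, 2, 0, 2, 2, 1, 2, 0, 2, 0, 2, 2])) (.leaf [2, 2, 0, 0, 0, 1, 0, 2, 1])) (.node (.leaf []) (.leaf [1, 2, 0, 0, 2, 0, 2, 0, 0, 1, 0, 2]))) (.node (.node (.leaf [0, 0, 2, 1, 2, 0, 1, 1, 2, 2, 1, 0, 2, 1]) (.leaf [1, 2, 0, 1, 1, 0, 2, 0, 1, 1, 2, 2, 2])) (.node (.leaf [1, 1, 2, 2, 1, 2, 1, 1, 0, 0, 2, 0, 1, 1]) (.leaf [0, 0, 1, 0, 2, 1, 0, 2, 2, 2, 1, 2, 0, 2])))) (.node (.node (.node (.leaf []) (.leaf [2, 1, 0, 0, 2, 0, 0, 2, 2, 1])) (.node (.leaf []) (.leaf [0, 2, 2, 2, 1, 1, 0, 2, 2, 1, 1, 2, 0, 1]))) (.node (.node (.leaf [0, 2, 2, 1, 0, 2, 1, 2, 2, 0, 2, 1, 1, 2]) (.leaf [])) (.node (.leaf [2, 1, 0, 0, 2, 0, 2, 0, 2, 2, 1, 0, 0, 1]) (.leaf [1, 1, 2, 1, 1, 0, 1, 2, 1, 2, 0, 0, 1, 1]))))))) (.node (.node (.node (.node (.node (.node (.node (.leaf []) (.leaf [2, 1, 1, 0, 0, 0,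 0, 0, 2, 2])) (.leaf [2, 0, 1, 2, 2, 0, 2, 0, 2, 2, 1, 2, 2, 1])) (.node (.leaf []) (.leaf [0, 0, 0, 1]))) (.node (.node (.leaf [1, 2, 0, 0, 1, 1, 0, 1, 0, 2, 0, 1, 2, 1]) (.leaf [0, 2, 1, 1, 0, 1, 0, 2, 2, 1, 2, 0, 2, 1])) (.node (.leaf []) (.leaf [0, 1, 2, 0, 2, 0, 0, 2, 2, 1, 0, 2, 0, 2])))) (.node (.node (.node (.node (.leaf [0, 0, 0, 1]) (.leaf [0, 0, 2, 1, 0, 2, 2, 1, 1, 0, 2, 0, 1, 2])) (.leaf [0, 1, 0, 0, 1, 2, 1, 0, 0, 0, 0, 1])) (.node (.leaf [1, 2, 2, 1, 2, 1, 1]) (.leaf [0, 1, 1, 1, 1, 1, 0, 2, 1, 0, 0, 2]))) (.node (.node (.leaf [2, 1, 0, 2, 2, 0, 0, 0, 2]) (.leaf [])) (.node (.leaf [0, 2, 2, 0, 0, 1, 2, 1, 1, 0, 0, 2]) (.leaf [1, 1, 0, 2, 1, 2, 0, 2, 1, 2, 2, 2, 2, 1]))))) (.node (.node (.node (.node (.node (.leaf []) (.leaf [0, 2, 0, 1, 0, 2, 2, 0, 0, 2, 0, 1, 2, 1])) (.leaf [0, 1, 0, 1, 1, 1, 0, 2, 1, 1, 0, 1])) (.node (.leaf [2, 2, 2, 1, 2, 2, 1, 0, 1, 2, 0, 0, 1, 1]) (.leaf [1,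 1, 0, 2, 1, 0, 2, 1, 1, 0, 2, 0, 0, 1]))) (.node (.node (.leaf []) (.leaf [2, 2, 2, 1, 2, 1, 1, 0, 2, 1, 1, 1, 1, 2])) (.node (.leaf []) (.leaf [0, 0, 1, 0, 0, 1, 1, 1, 1, 0, 2, 2, 2, 2])))) (.node (.node (.node (.leaf []) (.leaf [2, 1, 2, 1, 2, 1, 0, 0, 0, 1, 0, 2])) (.node (.leaf []) (.leaf [1, 1, 0, 0, 2, 2, 1, 1, 0, 1, 2, 1, 1, 1]))) (.node (.node (.leaf []) (.leaf [0, 2, 1, 2, 1, 0, 1, 0, 0, 2, 1, 1, 1, 2])) (.node (.leaf [0, 2, 1, 2, 2, 2, 2, 0, 1, 0, 2, 1, 2, 2]) (.leaf [0, 1, 2, 2, 2, 2, 1, 1, 0, 2, 0, 1, 0, 1])))))) (.node (.node (.node (.node (.node (.node (.leaf []) (.leaf [1, 0, 0, 2, 1, 1, 1, 1, 0, 0, 2, 2, 1, 2])) (.leaf [2, 2, 0, 1, 2, 0, 1, 0, 0, 0, 2, 1, 0, 2])) (.node (.leaf [2, 1, 1, 2, 2, 1, 2, 2, 2, 2]) (.leaf [0, 1, 0, 2, 2, 0, 2, 0, 0, 1, 0, 2, 2]))) (.node (.node (.leaf []) (.leaf [2, 2, 0, 2, 2, 1, 0, 2, 2, 1, 1, 1, 1, 1])) (.node (.leaf []) (.leaf [1, 2, 2, 0, 1, 1, 0, 2,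 1, 1, 0, 2, 0, 2])))) (.node (.node (.node (.leaf []) (.leaf [0, 0, 0, 1])) (.node (.leaf [1, 2, 2, 0, 0, 2, 0, 1, 0, 2, 0, 0, 1, 1]) (.leaf [1, 1, 1, 0, 1, 1, 1, 1, 2, 1, 0, 1]))) (.node (.node (.leaf [2, 2, 0, 0, 1, 0, 1, 0, 1, 2, 2, 2, 0, 2]) (.leaf [0, 2, 0, 0, 0, 1, 0, 0, 0, 2, 0, 0, 1])) (.node (.leaf [0, 0, 2, 2, 0, 1, 2, 1, 2, 1, 1, 2, 2, 2]) (.leaf [0, 0, 1, 1, 1, 0, 1, 1, 1, 1]))))) (.node (.node (.node (.node (.node (.leaf []) (.leaf [2, 0, 0, 2, 0, 0, 2, 0, 0, 0, 0, 0, 2])) (.leaf [0, 1, 1, 2, 0, 1, 1, 2, 1, 1, 2, 0, 2, 1])) (.node (.leaf [0, 2, 1, 2, 2, 0, 0, 2, 0, 1, 0, 0, 2, 2]) (.leaf [2, 1, 0, 1, 2, 2, 0, 0, 1, 1, 1, 0, 1, 2]))) (.node (.node (.leaf [1, 1, 1, 2, 2, 0, 1, 1, 2, 2, 1, 1, 0, 1]) (.leaf [0, 0, 0, 1])) (.node (.leaf []) (.leaf [1, 2, 0, 2, 2, 0, 0, 0, 0, 0, 0, 0, 1])))) (.node (.node (.node (.leaf []) (.leaf [1, 1, 1, 0, 0, 0, 1, 1, 0, 1])) (.node (.leaf [0, 0, 0, 1])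 (.leaf [0, 0, 1, 2, 1, 1, 0, 0, 2, 1, 0, 1]))) (.node (.node (.leaf []) (.leaf [1, 2, 2, 1, 1, 1, 1, 0, 0, 0, 0, 2, 2, 1])) (.node (.leaf [0, 1, 1, 2, 0, 1, 0, 1, 1, 1, 0, 2]) (.leaf [0, 1, 2, 0, 2, 0, 1, 2, 0, 1, 0, 2, 2, 2])))))))) (.node (.node (.node (.node (.node (.node (.node (.node (.leaf []) (.leaf [2, 1, 0, 1, 0, 0, 0, 0, 1, 0, 0, 0, 2])) (.leaf [2, 2, 2, 0, 1, 2, 0, 0, 2, 2, 1, 2, 1, 1])) (.node (.leaf []) (.leaf [2, 1, 1, 2, 0, 2, 0, 2, 0, 1]))) (.node (.node (.leaf []) (.leaf [0, 2, 0, 2, 0, 1, 2, 1, 0, 2, 1, 0, 1, 1])) (.node (.leaf []) (.leaf [0, 1, 1, 2, 0, 1, 1, 2, 1, 2, 1, 2, 2, 2])))) (.node (.node (.node (.node (.leaf [1, 2, 0, 1, 0, 0, 0, 0, 2]) (.leaf [0, 0, 0, 0, 0, 0, 0, 0, 0, 1, 0, 0, 0, 0])) (.leaf [2, 0, 1, 0, 2, 1, 2, 0, 1, 0, 2, 0, 2, 1])) (.node (.leaf []) (.leaf []))) (.node (.node (.leaf []) (.leaf [])) (.node (.leaf [2, 1, 2, 2, 2, 2, 1, 2, 2, 0, 1, 2, 2]) (.leaf [1,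 1, 2, 0, 1, 0, 1, 0, 0, 1]))))) (.node (.node (.node (.node (.node (.leaf []) (.leaf [2, 1, 1, 1, 2, 0, 2, 0, 2, 2, 0, 0, 2])) (.leaf [])) (.node (.leaf [1, 2, 2, 1, 0, 0, 2, 2, 0, 2]) (.leaf [0, 0, 1, 2, 0, 0, 0, 0, 0, 2]))) (.node (.node (.leaf []) (.leaf [2, 2, 1, 1, 1, 2, 0, 2, 0, 1, 1])) (.node (.leaf [0, 1, 1, 1, 0, 2, 1, 2, 1, 0, 0, 0, 0, 1]) (.leaf [0, 1, 1, 1, 2, 1, 2, 0, 2, 0, 1, 2, 1, 2])))) (.node (.node (.node (.leaf []) (.leaf [])) (.node (.leaf [0, 2, 0, 1, 0, 0, 0, 2, 0, 2, 1, 0, 1, 2]) (.leaf [0, 1, 1, 0, 0, 1, 0, 2, 1, 2]))) (.node (.node (.leaf []) (.leaf [2, 2, 0, 0, 0, 0, 1, 0, 2, 0, 1])) (.node (.leaf []) (.leaf [2, 2, 0, 1, 2, 2, 0, 1, 2, 0, 2, 2, 1, 1])))))) (.node (.node (.node (.node (.node (.node (.leaf []) (.leaf [0, 0, 2, 1, 2, 0, 1, 1, 1, 0, 1, 2, 2, 2])) (.leaf [1, 0, 2, 0, 0, 0, 0, 0, 0, 1])) (.node (.leaf []) (.leaf [0, 0, 2, 1, 1, 1, 0, 0, 1, 0, 0, 1, 1, 2]))) (.node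 (.node (.leaf []) (.leaf [0, 0, 2, 2, 0, 0, 0, 0, 0, 1])) (.node (.leaf []) (.leaf [1, 1, 2, 2, 0, 2, 2, 0, 1, 0, 1, 1, 0, 1])))) (.node (.node (.node (.leaf []) (.leaf [0, 0, 0, 1, 1, 0, 0, 0, 1, 0, 0, 0, 1])) (.node (.leaf [0, 0, 2, 1, 1, 2, 2, 2, 2, 1, 2, 1, 1, 1]) (.leaf [0, 2, 0, 2, 0, 0, 0, 0, 0, 0, 1]))) (.node (.node (.leaf []) (.leaf [0, 2, 1, 2, 1, 1, 2, 2, 1, 1, 2, 0, 1, 2])) (.node (.leaf [1, 0, 1, 1, 2, 0, 1, 1, 2, 0, 0, 1, 2]) (.leaf [1, 2, 1, 0, 0, 0, 1, 2, 1, 1, 1, 1, 2, 1]))))) (.node (.node (.node (.node (.node (.leaf []) (.leaf [2, 0, 2, 2, 2, 0, 2, 1, 1, 2, 2, 2, 2, 1])) (.leaf [1, 1, 0, 0, 2, 0, 0, 0, 1, 0, 2])) (.node (.leaf [2, 0, 0, 2, 0, 1, 0, 1, 2, 1, 0, 1]) (.leaf [1, 2, 1, 2, 2, 1, 0, 1, 2, 0, 1, 1, 0, 1]))) (.node (.node (.leaf [2, 2, 2, 2, 1, 1, 1, 0, 1, 2, 2, 1, 1]) (.leaf [1, 0, 0, 0, 2, 2, 2, 2, 2, 2, 1, 2])) (.node (.leaf [1, 2, 2, 1, 2, 1, 1]) (.leaf [2, 2, 0, 1,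 2, 2, 1, 2, 1, 0, 0, 2])))) (.node (.node (.node (.leaf []) (.leaf [0, 0, 0, 1])) (.node (.leaf [2, 2, 1, 0, 1, 1, 0, 0, 2, 1, 1, 1, 0, 2]) (.leaf [0, 0, 1, 1, 1, 1, 0, 2, 0, 0, 0, 2]))) (.node (.node (.leaf [0, 2, 2, 2, 2, 1, 0, 0, 0, 1, 2, 0, 2, 2]) (.leaf [2, 2, 1, 2, 0, 0, 2, 1, 2, 0, 0, 1, 0, 1])) (.node (.leaf [2, 1, 1, 2, 2, 1, 2, 2, 2, 2]) (.leaf [1, 0, 2, 1, 1, 2, 0, 0, 0, 0, 0, 2, 1]))))))) (.node (.node (.node (.node (.node (.node (.node (.leaf []) (.leaf [2, 1, 0, 1, 1, 2, 2, 0, 1, 0, 2, 1, 1])) (.leaf [1, 0, 1, 0, 2, 0, 2, 0, 2, 2, 1, 0, 0, 1])) (.node (.leaf [0, 2, 2, 2, 1, 2, 1, 1, 1, 1]) (.leaf [1, 1, 2, 2, 1, 1, 0, 0, 0, 1, 0, 2, 2]))) (.node (.node (.leaf []) (.leaf [0, 2, 1, 2, 1, 1, 0, 2, 1, 1, 2, 0, 0, 1])) (.node (.leaf []) (.leaf [2, 1, 2, 0, 1, 1, 0, 0, 1, 1, 2, 0, 1, 2])))) (.node (.node (.node (.leaf [0, 2, 0, 1, 0, 0, 0, 1, 0, 2]) (.leaf [1, 0, 2, 1, 2, 2, 0, 2, 2, 2, 1,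 2, 0, 2])) (.node (.leaf [1, 0, 2, 2, 2, 0, 0, 0, 1, 1, 1, 0, 0, 2]) (.leaf [0, 1, 0, 0, 0, 0, 1, 0, 0, 0, 1]))) (.node (.node (.leaf []) (.leaf [0, 1, 0, 0, 0, 0, 0, 2, 1, 2, 0, 2, 2, 2])) (.node (.leaf [1, 1, 0, 1, 1, 1, 2, 1, 0, 1, 2, 1, 2, 2]) (.leaf [2, 0, 0, 2, 0, 0, 2, 1, 0, 0, 0, 0, 2, 2]))))) (.node (.node (.node (.node (.node (.leaf []) (.leaf [2, 1, 0, 2, 1, 0, 2, 2, 1, 0, 0, 0, 1, 2])) (.leaf [1, 1, 0, 1, 0, 0, 0, 0, 1, 0, 1])) (.node (.leaf [2, 2, 2, 0, 1, 2, 2, 0, 2, 0, 1, 0, 1, 2]) (.leaf []))) (.node (.node (.leaf []) (.leaf [1, 0, 0, 2, 2, 1, 2, 2, 0, 2, 2, 0, 1, 2])) (.node (.leaf [1, 2, 2, 1, 1, 1, 1, 2, 0, 2, 0, 0, 2, 2]) (.leaf [0, 1, 0, 0, 0, 1, 1, 0, 0, 1, 0, 2, 1, 2])))) (.node (.node (.node (.leaf [1, 2, 0, 1, 1, 0, 2, 0, 1, 2, 2, 0, 0, 1]) (.leaf [1, 2, 2, 0, 2, 0, 2, 2, 0, 0, 0, 2, 2])) (.node (.leaf [1, 2, 0, 0, 1, 2, 1, 2, 2, 1, 0, 1]) (.leaf [1, 2, 2, 2, 1, 2, 2, 1,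 0, 1, 1, 1, 2, 2]))) (.node (.node (.leaf [2, 1, 2, 1, 0, 0, 0, 2, 0, 2]) (.leaf [1, 1, 0, 2, 0, 0, 0, 0, 2, 2, 0, 1])) (.node (.leaf []) (.leaf [2, 2, 1, 1, 1, 1, 2, 0, 0, 0, 0, 1, 0, 1])))))) (.node (.node (.node (.node (.node (.node (.leaf []) (.leaf [1, 2, 1, 0, 0, 0, 0, 1, 0, 1])) (.leaf [1, 1, 1, 2, 2, 0, 1, 2, 0, 0, 0, 1, 2, 2])) (.node (.leaf []) (.leaf [2, 2, 0, 2, 1, 1, 1, 0, 1, 2, 2, 2, 1]))) (.node (.node (.leaf []) (.leaf [2, 1, 0, 1, 0, 1, 2, 0, 2, 0, 2, 1, 2, 1])) (.node (.leaf [2, 1, 0, 0, 0, 0, 0, 0, 1]) (.leaf [1, 0, 1, 1, 1, 2, 0, 1, 2, 2, 1, 2, 0, 1])))) (.node (.node (.node (.leaf [0, 0, 1, 1, 0, 2, 0, 2, 1, 2, 0, 2]) (.leaf [0, 0, 0, 1, 1, 0, 0, 0, 1, 0, 0, 0, 2])) (.node (.leaf [0, 0, 0, 1]) (.leaf [1, 0, 0, 2, 0, 2, 0, 2, 1, 2, 0, 2]))) (.node (.node (.leaf [0, 1, 0, 2, 0, 0, 0, 0, 0, 0, 0, 0, 1]) (.leaf [])) (.node (.leaf [0, 2, 1, 0, 1, 1, 2, 0, 1, 2, 1, 0, 0, 2]) (.leaf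 [0, 2, 2, 1, 1, 0, 1, 1, 2]))))) (.node (.node (.node (.node (.node (.leaf []) (.leaf [2, 1, 0, 2, 1, 0, 0, 1, 2, 0, 1, 0, 0, 1])) (.leaf [0, 2, 1, 2, 1, 0, 2, 1, 0, 0, 2, 1, 2])) (.node (.leaf [2, 0, 1, 0, 1, 2, 0, 2, 1, 1, 0, 0, 1]) (.leaf [1, 1, 0, 2, 0, 0, 1, 2, 2, 1, 1, 0, 1]))) (.node (.node (.leaf [2, 0, 1, 2, 2, 0, 2, 1, 2, 1, 1, 2, 0, 1]) (.leaf [1, 2, 0, 1, 0, 0, 1, 1, 0, 1, 2, 0, 1, 1])) (.node (.leaf [2, 0, 2, 2, 2, 1, 2, 1, 1, 1, 2, 1, 2]) (.leaf [0, 0, 1, 1, 2, 0, 1, 0, 1, 1, 1, 1, 2])))) (.node (.node (.node (.leaf []) (.leaf [1, 1, 0, 2, 2, 2, 2, 0, 1, 0, 2, 2, 1, 2])) (.node (.leaf []) (.leaf [1, 0, 0, 0, 0, 0, 2, 1, 2, 1, 1, 0, 1, 1]))) (.node (.node (.leaf [2, 1, 1, 2, 0, 0, 0, 0, 1, 2, 2, 1, 2, 2]) (.leaf [])) (.node (.leaf [0, 0, 2, 0, 1, 1, 1, 1, 2, 1, 0, 1]) (.leaf [1, 2, 0, 2, 0, 1, 1, 1, 2, 0, 1, 1, 1])))))))))) (.node (.node (.node (.node (.node (.node (.node (.node (.node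 (.node (.leaf []) (.leaf [0, 2, 1, 0, 0, 2, 2, 2, 1, 2, 0, 1, 1, 1])) (.leaf [2, 0, 1, 1, 2, 2, 2, 2, 1, 1])) (.node (.leaf []) (.leaf [2, 1, 1, 0, 2, 1, 0, 0, 1, 0, 2, 1]))) (.node (.node (.leaf [0, 1, 2, 2, 2, 0, 2, 1, 2, 2, 0, 1]) (.leaf [0, 0, 1, 1, 1, 1, 2, 2, 0, 1, 0, 2, 1, 2])) (.node (.leaf []) (.leaf [2, 1, 2, 0, 1, 0, 2, 1, 0, 0, 1, 0, 1, 1])))) (.node (.node (.node (.node (.leaf []) (.leaf [0, 2, 0, 0, 1, 0, 0, 0, 0, 0, 2, 0, 2])) (.leaf [2, 0, 2, 2, 0, 0, 0, 1, 0, 2, 0, 1, 2])) (.node (.leaf [0, 2, 1, 0, 1, 2, 2, 0, 1, 1, 2, 1, 2]) (.leaf [2, 0, 2, 2, 2, 0, 2, 0, 2, 2, 1, 2, 1]))) (.node (.node (.leaf []) (.leaf [0, 0, 0, 1])) (.node (.leaf [0, 0, 1, 2, 1, 2, 1, 1, 1, 0, 2, 0, 2, 2]) (.leaf [2, 1, 1, 0, 0, 0, 2, 0, 1, 0, 2, 1, 1, 1]))))) (.node (.node (.node (.node (.node (.leaf [2, 1, 0, 0, 0, 0, 0, 0, 1]) (.leaf [1, 2, 2, 0, 2, 2, 0, 0, 1, 2, 2, 2, 0, 2])) (.leaf [0, 1, 0, 1, 1, 1,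 1, 0, 1, 0, 0, 1, 2, 1])) (.node (.leaf []) (.leaf []))) (.node (.node (.leaf [2, 1, 2, 2, 2, 2, 1, 1, 1, 2, 2, 1, 0, 1]) (.leaf [0, 2, 2, 2, 2, 1, 1, 2, 1, 1])) (.node (.leaf []) (.leaf [2, 1, 0, 1, 0, 0, 1, 0, 0, 2, 0, 0, 0, 1])))) (.node (.node (.node (.leaf []) (.leaf [0, 0, 2, 2, 2, 2, 2, 2, 0, 1, 0, 1, 1, 1])) (.node (.leaf [2, 2, 1, 1, 2, 1, 1, 2, 2, 0, 1, 2, 1]) (.leaf [1, 0, 0, 0, 0, 0, 0, 2, 0, 2, 0, 1, 0, 1]))) (.node (.node (.leaf [1, 0, 2, 1, 2, 2, 2, 1, 0, 2, 2, 1, 2, 1]) (.leaf [2, 1, 0, 0, 0, 0, 0, 0, 1])) (.node (.leaf [2, 1, 1, 1, 2, 0, 0, 2, 0, 1, 0, 1, 1, 2]) (.leaf [0, 2, 0, 1, 1, 1, 1, 0, 1, 2, 2, 0, 1])))))) (.node (.node (.node (.node (.node (.node (.leaf [0, 0, 0, 1]) (.leaf [1, 0, 2, 2, 1, 0, 1, 2, 2, 2, 1, 2, 2, 1])) (.leaf [0, 0, 1, 0, 0, 1, 2, 0, 0, 2, 0, 2, 2])) (.node (.leaf [0, 1, 0, 2, 0, 0, 0, 0, 2, 2, 0, 1]) (.leaf [2, 2, 1, 2, 1, 2, 0, 2, 2, 0, 0, 1, 1]))) (.node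 (.node (.leaf []) (.leaf [1, 2, 0, 1, 2, 2, 2, 0, 0, 0, 0, 2, 1, 2])) (.node (.leaf [0, 0, 0, 1]) (.leaf [1, 0, 0, 2, 0, 0, 0, 0, 1, 0, 1, 0, 2])))) (.node (.node (.node (.leaf [0, 0, 0, 1]) (.leaf [0, 0, 0, 2, 0, 2, 1, 2, 0, 2, 2, 2, 1, 1])) (.node (.leaf []) (.leaf [0, 1, 2, 1, 1, 0, 2, 1, 1, 1, 2, 1, 0, 1]))) (.node (.node (.leaf []) (.leaf [])) (.node (.leaf [0, 0, 1, 0, 1, 0, 1, 0, 1, 1, 1, 0, 2, 1]) (.leaf [0, 0, 0, 1]))))) (.node (.node (.node (.node (.node (.leaf []) (.leaf [0, 0, 0, 1])) (.leaf [0, 2, 0, 2, 2, 2, 2, 0, 0, 2, 0, 2])) (.node (.leaf [2, 2, 2, 2, 0, 2, 1, 0, 2, 2, 1]) (.leaf [0, 0, 0, 1]))) (.node (.node (.leaf [1, 0, 1, 0, 1, 1, 2, 1, 0, 0, 2, 2, 1, 1]) (.leaf [0, 0, 2, 1, 0, 0, 2, 0, 1, 0, 2, 1, 2])) (.node (.leaf [2, 0, 2, 2, 0, 0, 0, 0, 0, 1]) (.leaf [1, 1, 1, 1, 2, 1, 0, 0, 1, 2, 2, 0, 2, 2])))) (.node (.node (.node (.leaf []) (.leaf [0, 0, 2, 2, 0, 1, 0, 0, 1])) (.node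 (.leaf [2, 1, 0, 0, 0, 0, 1, 0, 0, 0, 1]) (.leaf [1, 1, 0, 0, 1, 0, 1, 2, 1, 0, 2, 0, 0, 1]))) (.node (.node (.leaf [1, 1, 2, 0, 0, 1, 0, 2, 2, 2, 2, 2, 2, 2]) (.leaf [0, 1, 0, 2, 0, 0, 0, 0, 0, 0, 0, 0, 1])) (.node (.leaf [1, 2, 0, 2, 0, 2, 0, 0, 1, 1]) (.leaf [2, 1, 1, 0, 0, 0, 1, 1, 0, 1]))))))) (.node (.node (.node (.node (.node (.node (.node (.leaf []) (.leaf [0, 2, 2, 2, 0, 2, 0, 2, 2, 2, 0, 1])) (.leaf [])) (.node (.leaf [1, 2, 0, 0, 0, 0, 1, 0, 2, 0, 1]) (.leaf [0, 0, 1, 1, 2, 2, 2, 0, 0, 0, 1, 1, 1, 2]))) (.node (.node (.leaf []) (.leaf [1, 1, 0, 0, 2, 0, 2, 1, 1, 1, 2, 0, 1, 1])) (.node (.leaf []) (.leaf [1, 0, 1, 1, 1, 2, 0, 1, 2, 0, 1, 0, 1, 2])))) (.node (.node (.node (.node (.leaf []) (.leaf [2, 1, 0, 1, 0, 0, 0, 0, 2, 0, 1])) (.leaf [1, 0, 0, 2, 0, 0, 0, 0, 0, 0, 0, 2])) (.node (.leaf [0, 0, 1, 2, 0, 0, 0, 0, 0, 2]) (.leaf [1, 1, 2, 1, 2, 2, 2, 1, 2, 0, 0, 1]))) (.node (.node (.leaf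 []) (.leaf [2, 0, 2, 2, 0, 0, 0, 0, 0, 1])) (.node (.leaf [0, 1, 2, 0, 0, 2, 0, 1, 2, 1]) (.leaf [1, 2, 0, 2, 0, 1, 2, 2, 0, 0, 2, 0, 2]))))) (.node (.node (.node (.node (.node (.leaf []) (.leaf [0, 2, 2, 0, 1, 2, 1, 0, 1, 2, 2, 0, 1])) (.leaf [1, 2, 2, 2, 1, 0, 0, 0, 0, 1])) (.node (.leaf [1, 1, 1, 2, 0, 2, 0, 2, 0, 1]) (.leaf [1, 0, 1, 1, 0, 2, 0, 0, 0, 2, 0, 1]))) (.node (.node (.leaf []) (.leaf [0, 1, 2, 0, 1, 2, 2, 1, 2, 1])) (.node (.leaf []) (.leaf [0, 1, 2, 1, 2, 2, 2, 1, 2, 0, 1, 2, 2, 2])))) (.node (.node (.node (.leaf []) (.leaf [2, 0, 1, 2, 0, 2, 2, 2, 2, 0, 2, 0, 1, 2])) (.node (.leaf []) (.leaf [2, 2, 0, 1, 0, 1, 0, 1, 1, 1]))) (.node (.node (.leaf []) (.leaf [0, 0, 0, 1])) (.node (.leaf []) (.leaf [2, 1, 0, 0, 2, 0, 0, 2, 2, 1])))))) (.node (.node (.node (.node (.node (.node (.leaf [2, 0, 2, 2, 0, 0, 0, 0, 0, 1]) (.leaf [1, 0, 0, 1, 1, 0, 2, 0, 0, 2, 2, 0, 0, 1])) (.leaf [2, 2, 1,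 1, 2, 1, 0, 2, 0, 1, 1, 0, 2, 1])) (.node (.leaf [1, 0, 1, 0, 2, 0, 1, 1, 2, 0, 0, 1, 2, 1]) (.leaf [0, 2, 2, 0, 0, 1, 0, 1, 2, 1, 0, 1]))) (.node (.node (.leaf []) (.leaf [1, 0, 2, 1, 0, 1, 0, 1, 1, 1, 2, 2, 0, 2])) (.node (.leaf []) (.leaf [2, 0, 1, 1, 0, 0, 0, 0, 0, 2])))) (.node (.node (.node (.leaf []) (.leaf [2, 1, 2, 2, 0, 1, 0, 1, 2, 0, 0, 0, 1, 1])) (.node (.leaf [0, 2, 0, 2, 2, 2, 0, 1, 0, 0, 0, 1, 0, 1]) (.leaf []))) (.node (.node (.leaf []) (.leaf [])) (.node (.leaf []) (.leaf []))))) (.node (.node (.node (.node (.node (.leaf []) (.leaf [0, 2, 0, 0, 1, 0, 0, 0, 0, 0, 2, 0, 2])) (.leaf [1, 2, 0, 1, 0, 0, 0, 0, 2])) (.node (.leaf [1, 1, 2, 1, 0, 2, 1, 0, 0, 1, 1, 2, 2, 2]) (.leaf [1, 1, 0, 2, 2, 2, 1, 0, 1, 1]))) (.node (.node (.leaf []) (.leaf [1, 0, 0, 2, 0, 0, 0, 0, 0, 0, 1, 0, 1])) (.node (.leaf [0, 1, 0, 2, 0, 0, 0, 0, 0, 0, 0, 0, 2]) (.leaf [1, 0, 2, 2, 1, 0, 2, 0, 0, 0, 2, 1, 2]))))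 (.node (.node (.node (.leaf []) (.leaf [0, 0, 0, 0, 1, 1, 2, 0, 1, 0, 2, 0, 1, 2])) (.node (.leaf []) (.leaf [0, 2, 1, 0, 1, 1, 2, 0, 2, 1]))) (.node (.node (.leaf [2, 1, 0, 1, 2, 2, 0, 2, 2, 1, 1, 0, 2, 2]) (.leaf [0, 1, 2, 0, 2, 0, 1, 1, 1, 1, 2, 1, 0, 1])) (.node (.leaf [0, 0, 0, 1]) (.leaf [0, 1, 0, 0, 1, 2, 0, 0, 0, 1, 0, 2, 2, 1])))))))) (.node (.node (.node (.node (.node (.node (.node (.node (.leaf []) (.leaf [2, 1, 0, 0, 2, 0, 0, 2, 1, 2, 2, 1, 0, 1])) (.leaf [1, 0, 0, 2, 0, 0, 0, 1, 0, 1, 2, 1])) (.node (.leaf []) (.leaf []))) (.node (.node (.leaf []) (.leaf [0, 1, 2, 0, 2, 1, 0, 1, 2, 1, 1, 0, 2, 1])) (.node (.leaf []) (.leaf [2, 0, 2, 1, 2, 2, 2, 0, 0, 2, 1, 2, 1, 2])))) (.node (.node (.node (.node (.leaf []) (.leaf [0, 0, 0, 1, 0, 0, 0, 0, 0, 0, 0, 0, 0, 0])) (.leaf [2, 0, 0, 0, 2, 2, 2, 0, 1, 0, 2, 2, 0, 2])) (.node (.leaf [0, 2, 0, 2, 2, 2, 2, 0, 0, 2, 0, 2]) (.leaf [2, 0, 1, 1, 2,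 2, 0, 1, 1, 2, 0, 2, 2, 1]))) (.node (.node (.leaf [2, 1, 0, 1, 0, 1, 1, 2, 2, 1, 1, 0, 0, 2]) (.leaf [])) (.node (.leaf [0, 0, 0, 1]) (.leaf [0, 0, 0, 0, 0, 0, 0, 0, 2, 0, 1]))))) (.node (.node (.node (.node (.node (.leaf [2, 0, 0, 0, 0, 2, 0, 0, 0, 1]) (.leaf [1, 0, 0, 1, 2, 2, 1, 2, 2, 0, 0, 1, 0, 2])) (.leaf [2, 2, 1, 0, 2, 2, 1, 0, 0, 2, 2, 0, 2, 1])) (.node (.leaf [0, 2, 1, 0, 2, 1, 1, 1, 0, 2, 2, 2, 1, 2]) (.leaf [1, 0, 1, 0, 1, 1, 0, 0, 2, 2, 1, 0, 0, 2]))) (.node (.node (.leaf []) (.leaf [2, 0, 1, 1, 2, 2, 2, 2, 1, 1])) (.node (.leaf []) (.leaf [2, 2, 2, 2, 0, 1, 0, 1, 2, 1, 1, 2, 2, 2])))) (.node (.node (.node (.leaf []) (.leaf [1, 1, 2, 2, 1, 1, 2, 0, 1, 1, 2, 1, 1, 1])) (.node (.leaf [2, 0, 2, 0, 0, 1, 0, 0, 2, 1, 0, 2, 2]) (.leaf [0, 2, 0, 0, 0, 2, 1, 1, 2, 1, 1, 0, 0, 2]))) (.node (.node (.leaf [2, 1, 0, 2, 2, 0, 2, 1, 2, 0, 1, 0, 0, 1]) (.leaf [2, 1, 1, 0, 2, 1, 2, 1, 2, 2, 1, 0, 1,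 1])) (.node (.leaf []) (.leaf [0, 1, 2, 0, 0, 2, 1, 2, 1, 2, 2, 1, 1])))))) (.node (.node (.node (.node (.node (.node (.leaf []) (.leaf [1, 2, 1, 2, 2, 0, 1, 0, 1, 0, 0, 1, 1, 1])) (.leaf [])) (.node (.leaf []) (.leaf [1, 0, 1, 2, 0, 0, 2, 2, 2, 2, 2, 0, 2, 2]))) (.node (.node (.leaf []) (.leaf [0, 0, 2, 1, 0, 2, 2, 0, 0, 2, 1, 0, 1, 1])) (.node (.leaf [2, 1, 2, 1, 0, 0, 2, 0, 2, 0, 1, 0, 1, 1]) (.leaf [1, 0, 1, 2, 0, 0, 2, 0, 0, 2, 0, 2, 0, 1])))) (.node (.node (.node (.leaf [1, 2, 2, 0, 0, 2, 0, 1, 0, 1]) (.leaf [1, 0, 0, 2, 2, 1, 0, 0, 2, 1, 1, 1, 2])) (.node (.leaf [0, 2, 0, 0, 2, 0, 2, 0, 0, 1, 0, 2]) (.leaf [2, 0, 1, 1, 0, 0, 0, 0, 0, 2]))) (.node (.node (.leaf [0, 0, 0, 1]) (.leaf [])) (.node (.leaf [1, 2, 2, 1, 1, 2, 1, 2, 1, 1, 2, 0, 2, 2]) (.leaf [1, 0, 0, 1, 1, 0, 0, 0, 1, 0, 0, 0, 2]))))) (.node (.node (.node (.node (.node (.leaf []) (.leaf [0, 0, 2, 1, 0, 2, 1, 2, 0, 2, 2, 0, 0, 1]))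 (.leaf [2, 2, 0, 2, 0, 0, 0, 0, 2, 0, 2])) (.node (.leaf [1, 0, 2, 1, 0, 1, 0, 0, 2, 2, 1, 2, 2, 2]) (.leaf [0, 0, 0, 1]))) (.node (.node (.leaf []) (.leaf [1, 2, 1, 1, 2, 0, 2, 2, 2, 0, 0, 1, 2, 1])) (.node (.leaf [1, 0, 1, 2, 0, 0, 0, 0, 0, 2]) (.leaf [0, 0, 0, 1])))) (.node (.node (.node (.leaf [2, 1, 0, 1, 2, 2, 0, 1, 1, 0, 0, 1, 0, 1]) (.leaf [0, 1, 2, 1, 1, 2, 1, 0, 1, 2, 2, 2, 0, 1])) (.node (.leaf [0, 1, 2, 2, 0, 2, 0, 2, 2, 2, 0, 1]) (.leaf [1, 1, 2, 0, 1, 0, 1, 2, 2, 1, 0, 0, 1, 2]))) (.node (.node (.leaf []) (.leaf [0, 2, 0, 2, 1, 2, 1, 1, 1, 0, 1, 2, 2, 1])) (.node (.leaf [2, 1, 2, 1, 1, 1, 0, 1, 0, 2]) (.leaf [1, 2, 0, 2, 1, 0, 0, 0, 0, 1, 0, 0, 2, 2]))))))) (.node (.node (.node (.node (.node (.node (.node (.leaf []) (.leaf [0, 0, 2, 2, 0, 0, 0, 0, 0, 1])) (.leaf [0, 0, 1, 2, 1, 2, 2, 0, 2, 2, 1, 0, 1, 1])) (.node (.leaf [1, 1, 1, 0, 2, 1, 1, 0, 2, 0, 2, 2, 1, 2]) (.leaf [2, 1, 1, 0,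 0, 0, 1, 1, 0, 0, 1, 0, 0, 2]))) (.node (.node (.leaf [0, 0, 0, 1]) (.leaf [2, 2, 0, 1, 0, 2, 1, 1, 0, 2, 1, 2, 0, 1])) (.node (.leaf [1, 2, 1, 1, 0, 1, 1, 0, 1, 2, 2, 1, 1, 1]) (.leaf [1, 2, 2, 2, 0, 1, 1, 1, 1, 0, 2, 0, 0, 2])))) (.node (.node (.node (.leaf []) (.leaf [0, 1, 1, 2, 0, 1, 1, 1, 2, 2, 0, 1])) (.node (.leaf [0, 2, 1, 1, 0, 1, 2, 1, 1, 2, 2, 2, 0, 1]) (.leaf [0, 2, 2, 0, 0, 1, 0, 1, 0, 0, 2, 2, 1, 2]))) (.node (.node (.leaf [2, 2, 1, 0, 2, 0, 2, 1, 1, 1, 0, 1, 1, 2]) (.leaf [])) (.node (.leaf []) (.leaf [1, 0, 0, 1, 1, 0, 0, 0, 1, 0, 0, 0, 1]))))) (.node (.node (.node (.node (.node (.leaf []) (.leaf [2, 0, 0, 0, 2, 2, 2, 2, 2, 2, 1, 2])) (.leaf [2, 0, 1, 2, 1, 1, 1, 2, 1, 1, 0, 2, 0, 1])) (.node (.leaf [0, 0, 0, 1]) (.leaf [1, 1, 2, 0, 1, 0, 0, 2, 0, 1, 2, 2, 1, 1]))) (.node (.node (.leaf []) (.leaf [0, 2, 2, 0, 2, 2, 2, 0, 2, 0, 2, 2, 2, 1])) (.node (.leaf [2, 1, 2, 2, 2, 2, 1, 1,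 1, 2, 2, 1, 0, 1]) (.leaf [0, 0, 0, 1])))) (.node (.node (.node (.leaf [1, 0, 2, 0, 0, 0, 0, 0, 0, 1]) (.leaf [1, 2, 0, 2, 0, 1, 1, 0, 1, 1, 2, 1])) (.node (.leaf [2, 1, 1, 1, 1, 1, 0, 2, 1, 0, 0, 2]) (.leaf [0, 0, 0, 1, 0, 0, 1, 0, 1, 0, 0, 0, 1]))) (.node (.node (.leaf []) (.leaf [1, 1, 2, 2, 2, 1, 2, 0, 2, 2, 1, 2, 1, 2])) (.node (.leaf [2, 0, 2, 1, 1, 1, 1, 1, 0, 1, 2, 2, 0, 1]) (.leaf [0, 0, 0, 1])))))) (.node (.node (.node (.node (.node (.node (.leaf []) (.leaf [0, 2, 1, 1, 1, 2, 0, 2, 0, 1, 1])) (.leaf [0, 0, 2, 2, 1, 0, 0, 0, 2, 0, 2, 1, 2])) (.node (.leaf [1, 1, 2, 1, 2, 0, 0, 0, 1, 2, 2, 1, 1, 1]) (.leaf []))) (.node (.node (.leaf []) (.leaf [2, 0, 0, 0, 0, 2, 1, 0, 2, 2, 1, 1, 2, 1])) (.node (.leaf [2, 1, 1, 1, 2, 2, 0, 2, 0, 1, 1]) (.leaf [0, 1, 1, 2, 1, 2, 2, 1, 2, 2])))) (.node (.node (.node (.leaf [1, 1, 1, 1, 0, 1, 0, 2, 0, 2]) (.leaf [0, 0, 0, 1, 1, 0, 1, 1, 0, 1, 2, 2, 0, 1])) (.node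 (.leaf [1, 1, 0, 0, 2, 0, 2, 0, 0, 2, 2, 1, 0, 2]) (.leaf [0, 2, 2, 2, 0, 2, 2, 2, 2, 0, 0, 2, 2, 1]))) (.node (.node (.leaf [2, 1, 0, 0, 0, 0, 0, 0, 1]) (.leaf [2, 2, 0, 2, 2, 0, 2, 2, 2, 1, 1, 2, 0, 1])) (.node (.leaf []) (.leaf []))))) (.node (.node (.node (.node (.node (.leaf []) (.leaf [0, 0, 1, 2, 0, 2, 2, 2, 2, 1, 0, 2, 1, 1])) (.leaf [0, 1, 0, 0, 1, 0, 2, 0, 2, 2, 1, 2, 2, 1])) (.node (.leaf [2, 1, 2, 0, 2, 0, 0, 0, 2, 0, 1, 1]) (.leaf [2, 0, 0, 2, 1, 0, 0, 0, 2, 0, 1, 0, 1]))) (.node (.node (.leaf []) (.leaf [0, 1, 0, 0, 0, 1, 2, 1, 1, 2, 2, 0, 0, 2])) (.node (.leaf [0, 0, 0, 1]) (.leaf [2, 2, 2, 1, 1, 2, 2, 0, 1, 0, 1, 1, 2, 1])))) (.node (.node (.node (.leaf []) (.leaf [0, 0, 0, 1])) (.node (.leaf []) (.leaf [0, 0, 0, 0, 2, 1, 0, 0, 1, 2, 2, 0, 2]))) (.node (.node (.leaf [1, 0, 0, 0, 2, 2, 1, 0, 2, 0, 1, 1, 2]) (.leaf [2, 1, 2, 2, 2, 2, 2, 0, 2, 2, 1, 0, 2])) (.node (.leaf [2, 0, 1, 2,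 1, 1, 2, 0, 0, 2, 0, 2]) (.leaf [2, 2, 1, 0, 0, 2, 0, 1, 0, 1, 1, 2, 2, 1]))))))))) (.node (.node (.node (.node (.node (.node (.node (.node (.node (.leaf []) (.leaf [0, 1, 1, 1, 2, 0, 0, 0, 2, 2, 1, 2, 0, 1])) (.leaf [0, 0, 0, 1])) (.node (.leaf [0, 0, 0, 1]) (.leaf [2, 2, 2, 1, 0, 0, 2, 2, 0, 2]))) (.node (.node (.leaf [2, 1, 0, 0, 0, 0, 0, 0, 1]) (.leaf [2, 2, 1, 2, 1, 0, 1, 2, 2, 0, 1, 1, 2, 2])) (.node (.leaf []) (.leaf [1, 1, 0, 0, 1, 0, 0, 1, 1, 2, 1, 2, 1, 2])))) (.node (.node (.node (.node (.leaf []) (.leaf [1, 0, 1, 2, 1, 2, 1, 2, 0, 1, 0, 1, 0, 2])) (.leaf [1, 2, 0, 0, 0, 0, 1, 2, 1, 2, 0, 1, 1, 1])) (.node (.leaf [0, 1, 2, 1, 1, 0, 0, 1, 1, 1, 0, 1, 0, 2]) (.leaf [2, 2, 1, 1, 0, 2, 0, 2, 2, 2, 2, 0, 1, 2]))) (.node (.node (.leaf []) (.leaf [])) (.node (.leaf []) (.leaf [1, 1, 2, 1, 2, 2, 1, 1, 1, 2, 1, 0, 1, 1]))))) (.node (.node (.node (.node (.node (.leaf []) (.leaf [1, 0, 1, 1, 0, 2,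 1, 0, 2, 0, 1, 1, 1])) (.leaf [2, 1, 2, 0, 0, 2, 2, 2, 1, 1, 1, 1, 0, 2])) (.node (.leaf []) (.leaf []))) (.node (.node (.leaf []) (.leaf [1, 0, 2, 1, 1, 0, 0, 1, 0, 1, 2, 0, 0, 2])) (.node (.leaf []) (.leaf [0, 1, 1, 0, 1, 0, 1, 0, 0, 1, 0, 2])))) (.node (.node (.node (.leaf []) (.leaf [2, 0, 1, 1, 1, 0, 1, 1, 1, 1])) (.node (.leaf [1, 1, 2, 2, 1, 2, 1, 0, 2, 2, 1]) (.leaf [0, 2, 1, 0, 2, 0, 1, 2, 0, 2, 0, 1, 2, 2]))) (.node (.node (.leaf []) (.leaf [])) (.node (.leaf [2, 2, 1, 2, 1, 0, 0, 2, 1, 1, 2, 2, 2]) (.leaf [0, 2, 2, 2, 0, 2, 1, 1, 1, 2, 1, 0, 1, 2])))))) (.node (.node (.node (.node (.node (.node (.leaf []) (.leaf [1, 2, 0, 2, 0, 1, 1, 1, 1, 2, 0, 1, 1, 2])) (.leaf [0, 1, 1, 0, 2, 0, 2, 2, 1])) (.node (.leaf [1, 0, 2, 2, 1, 1, 0, 2, 2, 1, 0, 1, 0, 1]) (.leaf [2, 0, 0, 2, 0, 1, 0, 1, 2, 1, 0, 1]))) (.node (.node (.leaf []) (.leaf [1, 1, 1, 0, 0, 0, 0, 0, 2, 2])) (.node (.leaf [2, 2, 1, 1,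 1, 1, 0, 2, 2, 1, 1, 0, 0, 1]) (.leaf [0, 1, 0, 2, 0, 0, 0, 2, 2, 2, 1, 1, 1, 1])))) (.node (.node (.node (.leaf []) (.leaf [2, 2, 2, 0, 0, 0, 2, 2, 2, 2, 1, 2, 1, 1])) (.node (.leaf [0, 2, 2, 0, 2, 2, 1, 0, 2, 1, 1, 2, 1, 2]) (.leaf [2, 2, 0, 1, 1, 1, 1, 0, 1, 0, 2, 0, 1, 2]))) (.node (.node (.leaf []) (.leaf [1, 0, 0, 2, 1, 1, 1, 0, 1, 2, 1, 1, 0, 2])) (.node (.leaf [2, 1, 1, 2, 0, 0, 1, 1, 0, 1]) (.leaf [1, 2, 0, 2, 1, 0, 0, 0, 0, 0, 2, 0, 2]))))) (.node (.node (.node (.node (.node (.leaf [0, 0, 0, 1]) (.leaf [2, 0, 1, 0, 2, 0, 1, 1, 0, 2, 0, 0, 0, 2])) (.leaf [1, 1, 1, 1, 2, 2, 2, 1, 2, 2, 0, 2])) (.node (.leaf [2, 0, 0, 2, 2, 2, 0, 1, 1, 1, 0, 2, 2, 1]) (.leaf [0, 0, 0, 2, 1, 0, 0, 2, 2, 0, 2, 0, 2, 1]))) (.node (.node (.leaf []) (.leaf [2, 2, 0, 1, 0, 2, 2, 0, 0, 2, 0, 1, 2, 1])) (.node (.leaf []) (.leaf [2, 1, 1, 1, 2, 0, 1, 0, 1, 2])))) (.node (.node (.node (.leaf [1, 0, 2, 2, 1, 1, 2, 1,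 1, 0, 0, 0, 1, 2]) (.leaf [0, 2, 2, 1, 1, 1, 1, 1, 1, 1, 2, 0, 0, 1])) (.node (.leaf [2, 1, 0, 0, 1, 2, 1, 0, 0, 0, 0, 1]) (.leaf [1, 0, 2, 2, 0, 1, 0, 2, 1, 1, 2, 2, 0, 1]))) (.node (.node (.leaf [1, 1, 0, 2, 2, 2, 0, 1, 1, 0, 0, 2, 0, 1]) (.leaf [])) (.node (.leaf [2, 2, 1, 2, 2, 2, 1, 0, 0, 0, 0, 2, 1, 1]) (.leaf [0, 1, 1, 0, 0, 1, 0, 2, 2, 2, 1, 2, 1, 1]))))))) (.node (.node (.node (.node (.node (.node (.node (.leaf []) (.leaf [0, 1, 0, 1, 2, 2, 0, 1, 2, 0, 1, 2, 2, 1])) (.leaf [0, 1, 0, 0, 0, 0, 0, 2, 0, 1])) (.node (.leaf [1, 0, 2, 2, 0, 2, 1, 1, 1, 2, 2, 0, 1, 2]) (.leaf [2, 2, 1, 1, 1, 2, 0, 0, 1, 2, 2, 2, 2, 2]))) (.node (.node (.leaf []) (.leaf [1, 2, 1, 2, 2, 1, 0, 2, 1, 0, 2, 2])) (.node (.leaf []) (.leaf [1, 1, 0, 0, 2, 0, 0, 0, 0, 0, 2, 0, 2])))) (.node (.node (.node (.node (.leaf []) (.leaf [0, 1, 2, 0, 0, 2, 0, 1, 0, 2, 0, 2, 2, 1])) (.leaf [2, 2, 1, 0, 0, 2, 1, 2, 0, 1, 2, 1, 2,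 1])) (.node (.leaf [1, 1, 0, 2, 2, 2, 2, 1, 0, 1, 2, 2]) (.leaf [1, 2, 0, 0, 1, 2, 1, 2, 2, 1, 0, 1]))) (.node (.node (.leaf []) (.leaf [0, 1, 2, 1, 0, 0, 0, 2, 0, 2])) (.node (.leaf [0, 0, 0, 1]) (.leaf [2, 0, 0, 2, 0, 0, 1, 0, 0, 0, 0, 0, 1]))))) (.node (.node (.node (.node (.node (.leaf []) (.leaf [0, 1, 0, 2, 0, 2, 1, 0, 0, 2, 2, 1, 2, 1])) (.leaf [2, 1, 0, 0, 2, 1, 0, 0, 2, 2])) (.node (.leaf [2, 0, 2, 1, 0, 2, 2, 0, 2, 2, 1, 2, 0, 1]) (.leaf [2, 0, 0, 1, 2, 0, 2, 0, 2, 2, 0, 1, 2, 2]))) (.node (.node (.leaf [0, 0, 0, 1]) (.leaf [2, 1, 2, 1, 1, 2, 1, 1, 1, 2, 2, 1, 2, 1])) (.node (.leaf [1, 2, 0, 0, 0, 0, 0, 0, 2, 0, 0, 0, 1]) (.leaf [1, 2, 0, 1, 0, 0, 2, 1, 2, 1, 1, 0, 0, 1])))) (.node (.node (.node (.leaf [1, 1, 0, 0, 0, 2, 0, 2, 1, 2, 2, 1, 2, 2]) (.leaf [0, 0, 0, 1])) (.node (.leaf [0, 0, 0, 1]) (.leaf [1, 2, 0, 0, 0, 0, 0, 0, 0, 2, 0, 2, 0, 2]))) (.node (.node (.leaf [1, 1, 0, 1, 2, 1,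 0, 0, 0, 2]) (.leaf [1, 2, 2, 2, 1, 2, 1, 1, 1, 1])) (.node (.leaf [1, 2, 2, 2, 0, 1, 0, 1, 0, 2]) (.leaf [1, 2, 0, 1, 0, 0, 0, 0, 2])))))) (.node (.node (.node (.node (.node (.node (.leaf []) (.leaf [0, 1, 2, 2, 2, 2, 1, 2, 2, 0, 1, 1, 2, 2])) (.leaf [0, 0, 0, 0, 1, 2, 2, 2, 0, 0, 1, 2, 1])) (.node (.leaf []) (.leaf [0, 0, 1, 0, 1, 2, 0, 2, 1, 1, 0, 0, 1]))) (.node (.node (.leaf []) (.leaf [2, 0, 1, 2, 1, 0, 0, 2, 0, 0, 2, 2, 1, 2])) (.node (.leaf []) (.leaf [1, 2, 0, 1, 0, 0, 0, 0, 2])))) (.node (.node (.node (.leaf []) (.leaf [1, 0, 1, 2, 0, 0, 0, 0, 0, 2])) (.node (.leaf [1, 2, 0, 1, 1, 0, 1, 2, 1, 1, 0, 1, 0, 2]) (.leaf []))) (.node (.node (.leaf [0, 1, 2, 2, 2, 0, 2, 1, 2, 2, 0, 1]) (.leaf [2, 1, 0, 2, 0, 1, 0, 0, 2, 2, 1, 1, 2, 2])) (.node (.leaf [2, 0, 2, 0, 1, 0, 0, 2, 1, 2]) (.leaf [1, 1, 0, 0, 2, 2, 1, 0, 1, 1, 1, 2, 0, 1]))))) (.node (.node (.node (.node (.node (.leaf []) (.leaf [2, 0,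 0, 1, 1, 1, 0, 2, 0, 2, 0, 2, 2, 2])) (.leaf [2, 2, 0, 0, 2, 2, 2, 0, 0, 1, 0, 1, 0, 2])) (.node (.leaf [2, 0, 0, 1, 0, 0, 1, 0, 0, 1, 0, 0, 1]) (.leaf [0, 0, 0, 1]))) (.node (.node (.leaf []) (.leaf [2, 1, 0, 1, 0, 1, 1, 1, 2, 1, 2, 1, 1, 2])) (.node (.leaf [2, 0, 0, 0, 0, 2, 0, 0, 0, 1]) (.leaf [0, 0, 2, 2, 2, 2, 0, 1, 0, 2, 0, 2, 2, 2])))) (.node (.node (.node (.leaf [0, 0, 0, 1]) (.leaf [2, 0, 1, 0, 2, 1, 2, 2, 2, 2, 2, 0, 2, 1])) (.node (.leaf []) (.leaf [0, 0, 0, 1]))) (.node (.node (.leaf [0, 2, 0, 0, 0, 2, 1, 0, 0, 0, 0, 2, 2, 2]) (.leaf [])) (.node (.leaf [0, 2, 2, 2, 0, 0, 0, 0, 0, 2, 0, 1, 0, 1]) (.leaf [1, 0, 2, 0, 2, 0, 0, 2, 2, 0, 0, 2])))))))) (.node (.node (.node (.node (.node (.node (.node (.node (.leaf []) (.leaf [1, 0, 0, 0, 2, 1, 1, 1, 0, 2, 2, 1, 1, 1])) (.leaf [1, 1, 2, 2, 1, 2, 2, 0, 0, 2, 0, 2, 2, 1])) (.node (.leaf [1, 0, 2, 0, 0, 0, 0, 0, 0, 1]) (.leaf [1, 0, 1, 1, 1, 1,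 2, 0, 1, 0, 0, 1, 2, 1]))) (.node (.node (.leaf []) (.leaf [2, 1, 2, 1, 1, 2, 2, 1, 0, 0, 0, 1, 2])) (.node (.leaf []) (.leaf [0, 1, 0, 2, 1, 1, 1, 2, 0, 0, 0, 0, 2])))) (.node (.node (.node (.node (.leaf [0, 0, 0, 1, 0, 1, 2, 1, 0, 2, 0, 1, 1, 1]) (.leaf [2, 1, 0, 0, 0, 0, 2, 0, 1])) (.leaf [0, 2, 1, 1, 0, 1, 2, 0, 0, 2, 0, 1, 2, 1])) (.node (.leaf [2, 2, 0, 1, 1, 1, 0, 0, 2, 1, 1, 1]) (.leaf []))) (.node (.node (.leaf [2, 0, 2, 0, 0, 0, 0, 0, 0, 1]) (.leaf [])) (.node (.leaf [2, 2, 0, 2, 0, 0, 1, 0, 0, 0, 0, 2, 1, 1]) (.leaf [1, 2, 2, 2, 2, 1, 2, 2, 0, 2, 2, 1, 0, 2]))))) (.node (.node (.node (.node (.node (.leaf []) (.leaf [0, 2, 1, 2, 2, 2, 2, 0, 0, 0, 0, 1])) (.leaf [2, 0, 1, 2, 2, 0, 2, 0, 2, 2, 1, 2, 0, 1])) (.node (.leaf [0, 0, 0, 2, 2, 0, 1, 0, 2, 1, 1, 1, 1, 1]) (.leaf [1, 2, 2, 1, 2, 1, 1]))) (.node (.node (.leaf []) (.leaf [0, 2, 1, 0, 0, 0, 0, 1, 0, 1])) (.node (.leaf []) (.leaf [1,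 1, 0, 0, 2, 2, 1, 2, 2, 2, 2])))) (.node (.node (.node (.leaf []) (.leaf [0, 2, 2, 1, 1, 0, 1, 1, 2])) (.node (.leaf [1, 1, 0, 2, 0, 1, 1, 2, 2, 1, 2, 1, 1, 1]) (.leaf [1, 2, 1, 1, 2, 0, 2, 0, 0, 2]))) (.node (.node (.leaf []) (.leaf [])) (.node (.leaf [2, 1, 0, 2, 0, 1, 0, 0, 2, 2]) (.leaf [0, 0, 0, 1, 2, 1, 0, 0, 0, 1, 0, 0, 0, 1])))))) (.node (.node (.node (.node (.node (.node (.leaf []) (.leaf [2, 2, 2, 1, 0, 0, 2, 0, 2, 1, 1, 0, 1])) (.leaf [1, 2, 1, 0, 1, 0, 1, 1, 0, 1, 0, 2, 0, 1])) (.node (.leaf [2, 2, 0, 0, 0, 1, 0, 1, 1, 1, 1, 2, 0, 1]) (.leaf [1, 1, 2, 0, 0, 0, 0, 2, 1, 2, 2, 1, 2, 2]))) (.node (.node (.leaf []) (.leaf [0, 0, 0, 2, 2, 0, 2, 0, 0, 1, 0, 2, 1])) (.node (.leaf [0, 0, 0, 1]) (.leaf [1, 2, 2, 2, 1, 2, 1, 0, 0, 0, 0, 1, 2, 1])))) (.node (.node (.node (.leaf [1, 0, 1, 0, 1, 1, 2, 1, 0, 0, 2, 2, 1, 1]) (.leaf [2, 2, 2, 0, 1, 2, 2, 1, 0, 1, 0, 1, 2, 2])) (.node (.leaf [1, 2, 0,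 1, 1, 0, 0, 1, 1, 2]) (.leaf [0, 1, 2, 2, 2, 0, 0, 0, 2, 1, 1, 0, 2, 2]))) (.node (.node (.leaf []) (.leaf [])) (.node (.leaf [0, 0, 2, 1, 0, 0, 1, 2, 0, 2]) (.leaf [1, 0, 0, 0, 0, 0, 0, 0, 2, 0, 0, 0, 1]))))) (.node (.node (.node (.node (.node (.leaf []) (.leaf [0, 1, 0, 2, 0, 2, 2, 2, 1, 2, 0, 2])) (.leaf [1, 1, 1, 0, 0, 0, 0, 2, 0, 1, 1, 1, 0, 1])) (.node (.leaf [0, 0, 0, 1]) (.leaf [1, 1, 2, 2, 1, 2, 1, 1, 0, 2, 0, 0, 2, 1]))) (.node (.node (.leaf [2, 1, 1, 1, 0, 1, 0, 2, 0, 2]) (.leaf [1, 0, 1, 0, 2, 0, 2, 2, 2, 1, 2, 1, 1, 2])) (.node (.leaf [2, 1, 2, 2, 0, 1, 0, 1, 0, 1, 2, 2, 2, 1]) (.leaf [2, 2, 2, 0, 2, 1, 0, 0, 1, 0, 2, 1, 1, 2])))) (.node (.node (.node (.leaf []) (.leaf [0, 0, 2, 0, 0, 2, 2, 0, 0, 2, 0, 0, 0, 1])) (.node (.leaf [0, 2, 2, 0, 0, 0, 2, 2, 2, 0, 1, 1, 1, 1]) (.leaf [1, 1, 1, 1, 1, 0, 1, 0, 0, 2]))) (.node (.node (.leaf [0, 1, 2, 1, 0, 1, 2, 0, 1, 1, 2, 0, 2, 2]) (.leaf [0,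 1, 1, 2, 2, 1, 2, 2, 2, 2])) (.node (.leaf [1, 2, 0, 1, 1, 0, 1, 0, 2, 0, 1, 2, 2, 1]) (.leaf [0, 2, 0, 0, 0, 1, 2, 2, 2, 2, 1, 0, 1, 1]))))))) (.node (.node (.node (.node (.node (.node (.node (.leaf []) (.leaf [1, 2, 0, 2, 0, 1, 1, 2, 1, 0, 1, 2, 2, 1])) (.leaf [])) (.node (.leaf []) (.leaf []))) (.node (.node (.leaf []) (.leaf [2, 1, 0, 1, 0, 0, 0, 0, 1, 0, 0, 0, 2])) (.node (.leaf [0, 2, 2, 1, 1, 1, 1, 2, 2, 2, 1, 1, 0, 2]) (.leaf [0, 1, 0, 1, 2, 2, 1, 2, 0, 1, 0, 0, 1, 1])))) (.node (.node (.node (.leaf []) (.leaf [0, 2, 1, 0, 1, 2, 1, 0, 1, 0, 0, 2, 0, 1])) (.node (.leaf [0, 2, 0, 1, 2, 1, 2, 0, 0, 0, 0, 2]) (.leaf []))) (.node (.node (.leaf [0, 1, 0, 2, 2, 1, 1, 1, 2, 2, 2, 0, 1, 1]) (.leaf [2, 1, 1, 2, 1, 1, 1, 2, 2, 1, 2, 2, 1, 2])) (.node (.leaf [1, 2, 1, 0, 2, 2, 0, 2, 0, 1]) (.leaf []))))) (.node (.node (.node (.node (.node (.leaf []) (.leaf [2, 1, 2, 2, 0, 0, 0, 2, 0, 2, 0, 1, 1, 1]))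 (.leaf [1, 0, 0, 1, 0, 1, 0, 0, 0, 2])) (.node (.leaf [1, 2, 1, 0, 1, 0, 0, 0, 2, 1, 2, 2, 0, 2]) (.leaf [0, 0, 0, 2, 2, 0, 2, 0, 0, 0, 0, 0, 1]))) (.node (.node (.leaf [1, 2, 2, 0, 0, 2, 0, 1, 0, 1]) (.leaf [1, 0, 1, 2, 0, 1, 2, 0, 1, 0, 1, 1, 2])) (.node (.leaf []) (.leaf [2, 2, 2, 1, 2, 2, 2, 2, 1, 2, 0, 2])))) (.node (.node (.node (.leaf []) (.leaf [2, 0, 0, 0, 1, 1, 0, 1, 0, 2, 1, 1, 1, 1])) (.node (.leaf [0, 1, 2, 0, 0, 0, 2, 1, 0, 2, 2]) (.leaf [1, 2, 2, 2, 0, 0, 2, 2, 0, 2]))) (.node (.node (.leaf []) (.leaf [])) (.node (.leaf [0, 2, 0, 2, 0, 0, 0, 0, 0, 0, 0, 0, 2]) (.leaf [0, 0, 1, 2, 1, 1, 1, 1, 2, 0, 2, 1, 0, 2])))))) (.node (.node (.node (.node (.node (.node (.leaf [0, 0, 0, 1]) (.leaf [2, 2, 0, 0, 0, 0, 0, 1, 1, 2, 0, 0, 2, 1])) (.leaf [0, 2, 0, 1, 1, 2, 0, 1, 0, 2, 0, 2, 0, 2])) (.node (.leaf [1, 2, 0, 2, 2, 0, 0, 2, 0, 1]) (.leaf [1, 2, 0, 2, 2, 2, 2, 2, 2, 2, 2, 1, 2, 2]))) (.node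 (.node (.leaf []) (.leaf [2, 0, 1, 1, 2, 1, 1, 1, 2, 0, 0, 2, 2, 2])) (.node (.leaf []) (.leaf [1, 0, 1, 0, 0, 2, 0, 2, 1, 0, 0, 2])))) (.node (.node (.node (.leaf []) (.leaf [1, 0, 2, 0, 2, 0, 2, 2, 2, 2, 0, 2, 0, 1])) (.node (.leaf [1, 1, 2, 0, 1, 0, 2, 1, 0, 0, 1, 1, 1, 1]) (.leaf [1, 2, 1, 0, 2, 2, 1, 1, 1, 2, 0, 1, 2, 1]))) (.node (.node (.leaf []) (.leaf [])) (.node (.leaf [1, 2, 2, 1, 1, 2, 1, 1, 0, 1, 1]) (.leaf [0, 0, 0, 1]))))) (.node (.node (.node (.node (.node (.leaf []) (.leaf [0, 1, 0, 2, 0, 2, 2, 2, 1, 2, 0, 2])) (.leaf [0, 0, 0, 0, 0, 0, 0, 0, 0, 0, 2, 0, 2])) (.node (.leaf [0, 0, 1, 2, 1, 2, 0, 0, 0, 2, 0, 1, 1]) (.leaf [0, 2, 0, 1, 0, 0, 0, 0, 0, 0, 0, 0, 2]))) (.node (.node (.leaf []) (.leaf [])) (.node (.leaf [1, 2, 0, 0, 0, 0, 1, 0, 2, 0, 1]) (.leaf [2, 1, 2, 2, 0, 0, 2, 1, 0, 0, 2, 1, 0, 2])))) (.node (.node (.node (.leaf []) (.leaf [1, 1, 0, 2, 0, 1, 2, 0, 2, 0, 1, 2])) (.node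 (.leaf [0, 2, 1, 2, 1, 0, 0, 2, 0, 0, 2, 2, 2, 1]) (.leaf [1, 0, 0, 1, 1, 1, 1, 1, 1, 1, 2, 1]))) (.node (.node (.leaf [0, 0, 0, 1]) (.leaf [2, 0, 2, 2, 2, 0, 0, 1, 2, 0, 1, 2, 1, 1])) (.node (.leaf [1, 2, 0, 0, 1, 1, 0, 0, 1, 2]) (.leaf [0, 2, 0, 2, 0, 0, 2, 0, 2])))))))))))

def threeL : Janko.Tree (List ℤ) := (.node (.node (.node threeL0 threeL4) (.node threeL2 threeL6)) (.node (.node threeL1 threeL5) (.node threeL3 threeL7)))

def threeKind0 : Janko.Tree (ℕ) :=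
  (.node (.node (.node (.node (.node (.node (.node (.node (.node (.node (.node (.leaf 0) (.leaf 3)) (.leaf 3)) (.node (.leaf 3) (.leaf 3))) (.node (.node (.leaf 3) (.leaf 3)) (.node (.leaf 0) (.leaf 3)))) (.node (.node (.node (.node (.leaf 0) (.leaf 3)) (.leaf 3)) (.node (.leaf 3) (.leaf 3))) (.node (.node (.leaf 3) (.leaf 0)) (.node (.leaf 3) (.leaf 3))))) (.node (.node (.node (.node (.node (.leaf 3) (.leaf 3)) (.leaf 3)) (.node (.leaf 3) (.leaf 3))) (.node (.node (.leaf 0) (.leaf 3)) (.node (.leaf 3) (.leaf 3)))) (.node (.node (.node (.leaf 3) (.leaf 0)) (.node (.leaf 3) (.leaf 3))) (.node (.node (.leaf 3) (.leaf 3)) (.node (.leaf 3) (.leaf 3)))))) (.node (.node (.node (.node (.node (.node (.leaf 0) (.leaf 3)) (.leaf 3)) (.node (.leaf 3) (.leaf 3))) (.node (.node (.leaf 0) (.leaf 3)) (.node (.leaf 3) (.leaf 3)))) (.node (.node (.node (.leaf 0) (.leaf 3)) (.node (.leaf 3) (.leaf 3))) (.node (.node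 (.leaf 0) (.leaf 3)) (.node (.leaf 3) (.leaf 3))))) (.node (.node (.node (.node (.node (.leaf 3) (.leaf 3)) (.leaf 3)) (.node (.leaf 3) (.leaf 3))) (.node (.node (.leaf 0) (.leaf 3)) (.node (.leaf 0) (.leaf 3)))) (.node (.node (.node (.leaf 0) (.leaf 3)) (.node (.leaf 3) (.leaf 3))) (.node (.node (.leaf 3) (.leaf 3)) (.node (.leaf 3) (.leaf 3))))))) (.node (.node (.node (.node (.node (.node (.node (.leaf 0) (.leaf 3)) (.leaf 3)) (.node (.leaf 3) (.leaf 0))) (.node (.node (.leaf 3) (.leaf 3)) (.node (.leaf 3) (.leaf 3)))) (.node (.node (.node (.node (.leaf 0) (.leaf 3)) (.leaf 3)) (.node (.leaf 3) (.leaf 3))) (.node (.node (.leaf 3) (.leaf 3)) (.node (.leaf 0) (.leaf 3))))) (.node (.node (.node (.node (.node (.leaf 0) (.leaf 3)) (.leaf 3)) (.node (.leaf 0) (.leaf 3))) (.node (.node (.leaf 3) (.leaf 3)) (.node (.leaf 3) (.leaf 3)))) (.node (.node (.node (.leaf 0) (.leaf 3)) (.node (.leaf 3) (.leaf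 3))) (.node (.node (.leaf 3) (.leaf 3)) (.node (.leaf 3) (.leaf 3)))))) (.node (.node (.node (.node (.node (.node (.leaf 0) (.leaf 3)) (.leaf 0)) (.node (.leaf 3) (.leaf 3))) (.node (.node (.leaf 0) (.leaf 3)) (.node (.leaf 0) (.leaf 3)))) (.node (.node (.node (.leaf 0) (.leaf 0)) (.node (.leaf 3) (.leaf 3))) (.node (.node (.leaf 0) (.leaf 3)) (.node (.leaf 3) (.leaf 3))))) (.node (.node (.node (.node (.node (.leaf 3) (.leaf 3)) (.leaf 3)) (.node (.leaf 3) (.leaf 3))) (.node (.node (.leaf 3) (.leaf 3)) (.node (.leaf 3) (.leaf 3)))) (.node (.node (.node (.leaf 3) (.leaf 3)) (.node (.leaf 3) (.leaf 3))) (.node (.node (.leaf 3) (.leaf 3)) (.node (.leaf 0) (.leaf 3)))))))) (.node (.node (.node (.node (.node (.node (.node (.node (.leaf 0) (.leaf 3)) (.leaf 3)) (.node (.leaf 3) (.leaf 0))) (.node (.node (.leaf 3) (.leaf 3)) (.node (.leaf 3) (.leaf 3)))) (.node (.node (.node (.node (.leaf 3) (.leaf 3))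 (.leaf 3)) (.node (.leaf 3) (.leaf 3))) (.node (.node (.leaf 0) (.leaf 3)) (.node (.leaf 3) (.leaf 3))))) (.node (.node (.node (.node (.node (.leaf 0) (.leaf 3)) (.leaf 3)) (.node (.leaf 3) (.leaf 3))) (.node (.node (.leaf 0) (.leaf 3)) (.node (.leaf 0) (.leaf 3)))) (.node (.node (.node (.leaf 3) (.leaf 3)) (.node (.leaf 3) (.leaf 3))) (.node (.node (.leaf 3) (.leaf 3)) (.node (.leaf 3) (.leaf 3)))))) (.node (.node (.node (.node (.node (.node (.leaf 0) (.leaf 3)) (.leaf 3)) (.node (.leaf 3) (.leaf 3))) (.node (.node (.leaf 0) (.leaf 3)) (.node (.leaf 0) (.leaf 3)))) (.node (.node (.node (.leaf 0) (.leaf 3)) (.node (.leaf 0) (.leaf 0))) (.node (.node (.leaf 3) (.leaf 0)) (.node (.leaf 0) (.leaf 3))))) (.node (.node (.node (.node (.node (.leaf 3) (.leaf 3)) (.leaf 3)) (.node (.leaf 0) (.leaf 3))) (.node (.node (.leaf 3) (.leaf 3)) (.node (.leaf 3) (.leaf 3)))) (.node (.node (.node (.leaf 0) (.leaf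 3)) (.node (.leaf 3) (.leaf 3))) (.node (.node (.leaf 3) (.leaf 3)) (.node (.leaf 0) (.leaf 3))))))) (.node (.node (.node (.node (.node (.node (.node (.leaf 0) (.leaf 3)) (.leaf 3)) (.node (.leaf 3) (.leaf 3))) (.node (.node (.leaf 0) (.leaf 3)) (.node (.leaf 0) (.leaf 3)))) (.node (.node (.node (.node (.leaf 3) (.leaf 3)) (.leaf 3)) (.node (.leaf 3) (.leaf 3))) (.node (.node (.leaf 0) (.leaf 0)) (.node (.leaf 3) (.leaf 3))))) (.node (.node (.node (.node (.node (.leaf 0) (.leaf 3)) (.leaf 3)) (.node (.leaf 3) (.leaf 3))) (.node (.node (.leaf 0) (.leaf 3)) (.node (.leaf 3) (.leaf 3)))) (.node (.node (.node (.leaf 0) (.leaf 3)) (.node (.leaf 3) (.leaf 3))) (.node (.node (.leaf 3) (.leaf 3)) (.node (.leaf 3) (.leaf 3)))))) (.node (.node (.node (.node (.node (.node (.leaf 3) (.leaf 3)) (.leaf 3)) (.node (.leaf 3) (.leaf 3))) (.node (.node (.leaf 0) (.leaf 3)) (.node (.leaf 3) (.leaf 3)))) (.node (.node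 (.node (.leaf 0) (.leaf 3)) (.node (.leaf 3) (.leaf 3))) (.node (.node (.leaf 0) (.leaf 0)) (.node (.leaf 0) (.leaf 3))))) (.node (.node (.node (.node (.node (.leaf 0) (.leaf 3)) (.leaf 3)) (.node (.leaf 3) (.leaf 3))) (.node (.node (.leaf 3) (.leaf 3)) (.node (.leaf 0) (.leaf 3)))) (.node (.node (.node (.leaf 3) (.leaf 3)) (.node (.leaf 0) (.leaf 3))) (.node (.node (.leaf 0) (.leaf 0)) (.node (.leaf 3) (.leaf 3))))))))) (.node (.node (.node (.node (.node (.node (.node (.node (.node (.leaf 0) (.leaf 3)) (.leaf 3)) (.node (.leaf 3) (.leaf 3))) (.node (.node (.leaf 0) (.leaf 3)) (.node (.leaf 0) (.leaf 3)))) (.node (.node (.node (.node (.leaf 0) (.leaf 3)) (.leaf 3)) (.node (.leaf 0) (.leaf 3))) (.node (.node (.leaf 0) (.leaf 0)) (.node (.leaf 3) (.leaf 3))))) (.node (.node (.node (.node (.node (.leaf 0) (.leaf 3)) (.leaf 3)) (.node (.leaf 0) (.leaf 3))) (.node (.node (.leaf 0) (.leaf 3)) (.node (.leaf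 0) (.leaf 3)))) (.node (.node (.node (.leaf 3) (.leaf 3)) (.node (.leaf 3) (.leaf 3))) (.node (.node (.leaf 0) (.leaf 3)) (.node (.leaf 0) (.leaf 3)))))) (.node (.node (.node (.node (.node (.node (.leaf 3) (.leaf 3)) (.leaf 3)) (.node (.leaf 3) (.leaf 3))) (.node (.node (.leaf 3) (.leaf 3)) (.node (.leaf 3) (.leaf 3)))) (.node (.node (.node (.leaf 0) (.leaf 3)) (.node (.leaf 3) (.leaf 3))) (.node (.node (.leaf 3) (.leaf 3)) (.node (.leaf 0) (.leaf 3))))) (.node (.node (.node (.node (.node (.leaf 0) (.leaf 3)) (.leaf 3)) (.node (.leaf 3) (.leaf 3))) (.node (.node (.leaf 0) (.leaf 3)) (.node (.leaf 0) (.leaf 3)))) (.node (.node (.node (.leaf 0) (.leaf 3)) (.node (.leaf 3) (.leaf 3))) (.node (.node (.leaf 0) (.leaf 3)) (.node (.leaf 3) (.leaf 3))))))) (.node (.node (.node (.node (.node (.node (.node (.leaf 0) (.leaf 3)) (.leaf 3)) (.node (.leaf 3) (.leaf 3))) (.node (.node (.leaf 3) (.leaf 3)) (.node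 (.leaf 0) (.leaf 3)))) (.node (.node (.node (.node (.leaf 0) (.leaf 3)) (.leaf 3)) (.node (.leaf 0) (.leaf 3))) (.node (.node (.leaf 0) (.leaf 0)) (.node (.leaf 3) (.leaf 3))))) (.node (.node (.node (.node (.node (.leaf 0) (.leaf 3)) (.leaf 3)) (.node (.leaf 3) (.leaf 0))) (.node (.node (.leaf 0) (.leaf 3)) (.node (.leaf 0) (.leaf 3)))) (.node (.node (.node (.leaf 0) (.leaf 3)) (.node (.leaf 3) (.leaf 3))) (.node (.node (.leaf 0) (.leaf 3)) (.node (.leaf 3) (.leaf 3)))))) (.node (.node (.node (.node (.node (.node (.leaf 0) (.leaf 3)) (.leaf 3)) (.node (.leaf 3) (.leaf 3))) (.node (.node (.leaf 0) (.leaf 3)) (.node (.leaf 0) (.leaf 3)))) (.node (.node (.node (.leaf 3) (.leaf 3)) (.node (.leaf 3) (.leaf 3))) (.node (.node (.leaf 3) (.leaf 3)) (.node (.leaf 3) (.leaf 3))))) (.node (.node (.node (.node (.node (.leaf 0) (.leaf 3)) (.leaf 3)) (.node (.leaf 3) (.leaf 3))) (.node (.node (.leaf 3) (.leaf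 3)) (.node (.leaf 0) (.leaf 3)))) (.node (.node (.node (.leaf 3) (.leaf 3)) (.node (.leaf 3) (.leaf 3))) (.node (.node (.leaf 3) (.leaf 0)) (.node (.leaf 3) (.leaf 3)))))))) (.node (.node (.node (.node (.node (.node (.node (.node (.leaf 3) (.leaf 3)) (.leaf 3)) (.node (.leaf 3) (.leaf 3))) (.node (.node (.leaf 3) (.leaf 3)) (.node (.leaf 0) (.leaf 3)))) (.node (.node (.node (.node (.leaf 0) (.leaf 2)) (.leaf 3)) (.node (.leaf 3) (.leaf 3))) (.node (.node (.leaf 0) (.leaf 0)) (.node (.leaf 3) (.leaf 3))))) (.node (.node (.node (.node (.node (.leaf 0) (.leaf 3)) (.leaf 3)) (.node (.leaf 3) (.leaf 3))) (.node (.node (.leaf 3) (.leaf 3)) (.node (.leaf 0) (.leaf 3)))) (.node (.node (.node (.leaf 3) (.leaf 3)) (.node (.leaf 3) (.leaf 3))) (.node (.node (.leaf 3) (.leaf 3)) (.node (.leaf 3) (.leaf 3)))))) (.node (.node (.node (.node (.node (.node (.leaf 0) (.leaf 3)) (.leaf 3)) (.node (.leaf 3) (.leaf 3)))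 (.node (.node (.leaf 0) (.leaf 3)) (.node (.leaf 0) (.leaf 3)))) (.node (.node (.node (.leaf 0) (.leaf 3)) (.node (.leaf 3) (.leaf 3))) (.node (.node (.leaf 3) (.leaf 3)) (.node (.leaf 3) (.leaf 3))))) (.node (.node (.node (.node (.node (.leaf 0) (.leaf 3)) (.leaf 3)) (.node (.leaf 3) (.leaf 3))) (.node (.node (.leaf 0) (.leaf 3)) (.node (.leaf 0) (.leaf 3)))) (.node (.node (.node (.leaf 0) (.leaf 3)) (.node (.leaf 3) (.leaf 3))) (.node (.node (.leaf 3) (.leaf 3)) (.node (.leaf 3) (.leaf 3))))))) (.node (.node (.node (.node (.node (.node (.node (.leaf 0) (.leaf 3)) (.leaf 3)) (.node (.leaf 3) (.leaf 3))) (.node (.node (.leaf 3) (.leaf 3)) (.node (.leaf 0) (.leaf 3)))) (.node (.node (.node (.leaf 3) (.leaf 0)) (.node (.leaf 3) (.leaf 3))) (.node (.node (.leaf 0) (.leaf 3)) (.node (.leaf 3) (.leaf 3))))) (.node (.node (.node (.node (.node (.leaf 3) (.leaf 3)) (.leaf 3)) (.node (.leaf 3) (.leaf 3)))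 (.node (.node (.leaf 0) (.leaf 3)) (.node (.leaf 3) (.leaf 3)))) (.node (.node (.node (.leaf 3) (.leaf 3)) (.node (.leaf 3) (.leaf 3))) (.node (.node (.leaf 3) (.leaf 3)) (.node (.leaf 3) (.leaf 3)))))) (.node (.node (.node (.node (.node (.node (.leaf 0) (.leaf 3)) (.leaf 3)) (.node (.leaf 3) (.leaf 3))) (.node (.node (.leaf 3) (.leaf 3)) (.node (.leaf 0) (.leaf 3)))) (.node (.node (.node (.leaf 3) (.leaf 3)) (.node (.leaf 3) (.leaf 3))) (.node (.node (.leaf 3) (.leaf 3)) (.node (.leaf 0) (.leaf 3))))) (.node (.node (.node (.node (.node (.leaf 0) (.leaf 3)) (.leaf 3)) (.node (.leaf 3) (.leaf 3))) (.node (.node (.leaf 3) (.leaf 3)) (.node (.leaf 0) (.leaf 3)))) (.node (.node (.node (.leaf 0) (.leaf 3)) (.node (.leaf 0) (.leaf 3))) (.node (.node (.leaf 0) (.leaf 3)) (.node (.leaf 0) (.leaf 3)))))))))) (.node (.node (.node (.node (.node (.node (.node (.node (.node (.node (.leaf 0) (.leaf 3)) (.leaf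 3)) (.node (.leaf 3) (.leaf 3))) (.node (.node (.leaf 0) (.leaf 3)) (.node (.leaf 0) (.leaf 3)))) (.node (.node (.node (.node (.leaf 0) (.leaf 3)) (.leaf 3)) (.node (.leaf 3) (.leaf 3))) (.node (.node (.leaf 0) (.leaf 3)) (.node (.leaf 3) (.leaf 3))))) (.node (.node (.node (.node (.node (.leaf 0) (.leaf 3)) (.leaf 0)) (.node (.leaf 3) (.leaf 3))) (.node (.node (.leaf 3) (.leaf 3)) (.node (.leaf 0) (.leaf 3)))) (.node (.node (.node (.leaf 0) (.leaf 3)) (.node (.leaf 3) (.leaf 3))) (.node (.node (.leaf 0) (.leaf 3)) (.node (.leaf 3) (.leaf 3)))))) (.node (.node (.node (.node (.node (.node (.leaf 0) (.leaf 3)) (.leaf 3)) (.node (.leaf 3) (.leaf 0))) (.node (.node (.leaf 0) (.leaf 3)) (.node (.leaf 3) (.leaf 3)))) (.node (.node (.node (.leaf 3) (.leaf 3)) (.node (.leaf 3) (.leaf 3))) (.node (.node (.leaf 3) (.leaf 3)) (.node (.leaf 0) (.leaf 3))))) (.node (.node (.node (.node (.node (.leaf 0) (.leaf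 3)) (.leaf 3)) (.node (.leaf 3) (.leaf 0))) (.node (.node (.leaf 0) (.leaf 3)) (.node (.leaf 3) (.leaf 3)))) (.node (.node (.node (.leaf 3) (.leaf 3)) (.node (.leaf 3) (.leaf 3))) (.node (.node (.leaf 3) (.leaf 3)) (.node (.leaf 0) (.leaf 3))))))) (.node (.node (.node (.node (.node (.node (.node (.leaf 0) (.leaf 3)) (.leaf 3)) (.node (.leaf 3) (.leaf 3))) (.node (.node (.leaf 3) (.leaf 3)) (.node (.leaf 3) (.leaf 3)))) (.node (.node (.node (.node (.leaf 0) (.leaf 3)) (.leaf 3)) (.node (.leaf 3) (.leaf 3))) (.node (.node (.leaf 0) (.leaf 3)) (.node (.leaf 3) (.leaf 3))))) (.node (.node (.node (.node (.node (.leaf 3) (.leaf 3)) (.leaf 3)) (.node (.leaf 3) (.leaf 3))) (.node (.node (.leaf 0) (.leaf 3)) (.node (.leaf 3) (.leaf 3)))) (.node (.node (.node (.leaf 3) (.leaf 3)) (.node (.leaf 3) (.leaf 3))) (.node (.node (.leaf 0) (.leaf 3)) (.node (.leaf 3) (.leaf 3)))))) (.node (.node (.node (.node (.node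 (.node (.leaf 0) (.leaf 3)) (.leaf 3)) (.node (.leaf 3) (.leaf 3))) (.node (.node (.leaf 3) (.leaf 3)) (.node (.leaf 0) (.leaf 3)))) (.node (.node (.node (.leaf 0) (.leaf 3)) (.node (.leaf 3) (.leaf 3))) (.node (.node (.leaf 3) (.leaf 0)) (.node (.leaf 3) (.leaf 3))))) (.node (.node (.node (.node (.node (.leaf 0) (.leaf 3)) (.leaf 3)) (.node (.leaf 3) (.leaf 3))) (.node (.node (.leaf 3) (.leaf 3)) (.node (.leaf 3) (.leaf 3)))) (.node (.node (.node (.leaf 0) (.leaf 3)) (.node (.leaf 3) (.leaf 3))) (.node (.node (.leaf 3) (.leaf 3)) (.node (.leaf 3) (.leaf 3)))))))) (.node (.node (.node (.node (.node (.node (.node (.node (.leaf 0) (.leaf 3)) (.leaf 3)) (.node (.leaf 3) (.leaf 0))) (.node (.node (.leaf 3) (.leaf 3)) (.node (.leaf 0) (.leaf 3)))) (.node (.node (.node (.node (.leaf 0) (.leaf 3)) (.leaf 3)) (.node (.leaf 3) (.leaf 3))) (.node (.node (.leaf 0) (.leaf 3)) (.node (.leaf 3) (.leaf 3))))) (.node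 (.node (.node (.node (.node (.leaf 0) (.leaf 3)) (.leaf 3)) (.node (.leaf 3) (.leaf 3))) (.node (.node (.leaf 3) (.leaf 3)) (.node (.leaf 0) (.leaf 3)))) (.node (.node (.node (.leaf 3) (.leaf 3)) (.node (.leaf 3) (.leaf 3))) (.node (.node (.leaf 0) (.leaf 3)) (.node (.leaf 3) (.leaf 3)))))) (.node (.node (.node (.node (.node (.node (.leaf 0) (.leaf 3)) (.leaf 3)) (.node (.leaf 3) (.leaf 3))) (.node (.node (.leaf 0) (.leaf 3)) (.node (.leaf 0) (.leaf 3)))) (.node (.node (.node (.leaf 3) (.leaf 3)) (.node (.leaf 3) (.leaf 3))) (.node (.node (.leaf 3) (.leaf 3)) (.node (.leaf 3) (.leaf 3))))) (.node (.node (.node (.node (.node (.leaf 3) (.leaf 3)) (.leaf 3)) (.node (.leaf 3) (.leaf 3))) (.node (.node (.leaf 0) (.leaf 3)) (.node (.leaf 3) (.leaf 3)))) (.node (.node (.node (.leaf 0) (.leaf 3)) (.node (.leaf 3) (.leaf 3))) (.node (.node (.leaf 3) (.leaf 3)) (.node (.leaf 3) (.leaf 3))))))) (.node (.node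 (.node (.node (.node (.node (.node (.leaf 0) (.leaf 3)) (.leaf 3)) (.node (.leaf 3) (.leaf 3))) (.node (.node (.leaf 0) (.leaf 3)) (.node (.leaf 0) (.leaf 3)))) (.node (.node (.node (.leaf 0) (.leaf 3)) (.node (.leaf 0) (.leaf 3))) (.node (.node (.leaf 0) (.leaf 3)) (.node (.leaf 3) (.leaf 3))))) (.node (.node (.node (.node (.node (.leaf 0) (.leaf 3)) (.leaf 3)) (.node (.leaf 3) (.leaf 3))) (.node (.node (.leaf 3) (.leaf 3)) (.node (.leaf 3) (.leaf 3)))) (.node (.node (.node (.leaf 3) (.leaf 3)) (.node (.leaf 3) (.leaf 3))) (.node (.node (.leaf 0) (.leaf 3)) (.node (.leaf 3) (.leaf 3)))))) (.node (.node (.node (.node (.node (.node (.leaf 0) (.leaf 3)) (.leaf 3)) (.node (.leaf 0) (.leaf 3))) (.node (.node (.leaf 0) (.leaf 3)) (.node (.leaf 3) (.leaf 3)))) (.node (.node (.node (.leaf 0) (.leaf 3)) (.node (.leaf 3) (.leaf 3))) (.node (.node (.leaf 3) (.leaf 3)) (.node (.leaf 0) (.leaf 3))))) (.node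 (.node (.node (.node (.node (.leaf 0) (.leaf 3)) (.leaf 3)) (.node (.leaf 3) (.leaf 3))) (.node (.node (.leaf 3) (.leaf 3)) (.node (.leaf 0) (.leaf 3)))) (.node (.node (.node (.leaf 3) (.leaf 3)) (.node (.leaf 0) (.leaf 3))) (.node (.node (.leaf 3) (.leaf 3)) (.node (.leaf 0) (.leaf 3))))))))) (.node (.node (.node (.node (.node (.node (.node (.node (.node (.leaf 0) (.leaf 3)) (.leaf 3)) (.node (.leaf 3) (.leaf 3))) (.node (.node (.leaf 3) (.leaf 3)) (.node (.leaf 3) (.leaf 3)))) (.node (.node (.node (.node (.leaf 0) (.leaf 3)) (.leaf 3)) (.node (.leaf 3) (.leaf 3))) (.node (.node (.leaf 3) (.leaf 3)) (.node (.leaf 0) (.leaf 3))))) (.node (.node (.node (.node (.node (.leaf 0) (.leaf 3)) (.leaf 3)) (.node (.leaf 3) (.leaf 3))) (.node (.node (.leaf 0) (.leaf 3)) (.node (.leaf 0) (.leaf 3)))) (.node (.node (.node (.leaf 3) (.leaf 3)) (.node (.leaf 3) (.leaf 3))) (.node (.node (.leaf 0) (.leaf 3)) (.node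 (.leaf 3) (.leaf 3)))))) (.node (.node (.node (.node (.node (.node (.leaf 3) (.leaf 3)) (.leaf 3)) (.node (.leaf 3) (.leaf 3))) (.node (.node (.leaf 0) (.leaf 3)) (.node (.leaf 3) (.leaf 3)))) (.node (.node (.node (.leaf 3) (.leaf 3)) (.node (.leaf 3) (.leaf 3))) (.node (.node (.leaf 0) (.leaf 3)) (.node (.leaf 3) (.leaf 3))))) (.node (.node (.node (.node (.node (.leaf 0) (.leaf 3)) (.leaf 3)) (.node (.leaf 3) (.leaf 3))) (.node (.node (.leaf 0) (.leaf 3)) (.node (.leaf 3) (.leaf 3)))) (.node (.node (.node (.leaf 0) (.leaf 3)) (.node (.leaf 3) (.leaf 3))) (.node (.node (.leaf 3) (.leaf 3)) (.node (.leaf 0) (.leaf 3))))))) (.node (.node (.node (.node (.node (.node (.node (.leaf 0) (.leaf 3)) (.leaf 3)) (.node (.leaf 3) (.leaf 3))) (.node (.node (.leaf 0) (.leaf 3)) (.node (.leaf 0) (.leaf 3)))) (.node (.node (.node (.node (.leaf 3) (.leaf 3)) (.leaf 3)) (.node (.leaf 3) (.leaf 3))) (.node (.node (.leaf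 3) (.leaf 3)) (.node (.leaf 3) (.leaf 3))))) (.node (.node (.node (.node (.node (.leaf 0) (.leaf 3)) (.leaf 3)) (.node (.leaf 0) (.leaf 3))) (.node (.node (.leaf 3) (.leaf 3)) (.node (.leaf 3) (.leaf 3)))) (.node (.node (.node (.leaf 0) (.leaf 3)) (.node (.leaf 3) (.leaf 3))) (.node (.node (.leaf 3) (.leaf 3)) (.node (.leaf 3) (.leaf 3)))))) (.node (.node (.node (.node (.node (.node (.leaf 0) (.leaf 3)) (.leaf 3)) (.node (.leaf 3) (.leaf 3))) (.node (.node (.leaf 0) (.leaf 3)) (.node (.leaf 0) (.leaf 3)))) (.node (.node (.node (.leaf 0) (.leaf 3)) (.node (.leaf 3) (.leaf 3))) (.node (.node (.leaf 0) (.leaf 0)) (.node (.leaf 0) (.leaf 3))))) (.node (.node (.node (.node (.node (.leaf 0) (.leaf 3)) (.leaf 3)) (.node (.leaf 3) (.leaf 3))) (.node (.node (.leaf 0) (.leaf 3)) (.node (.leaf 0) (.leaf 3)))) (.node (.node (.node (.leaf 3) (.leaf 3)) (.node (.leaf 3) (.leaf 3))) (.node (.node (.leaf 3) (.leaf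 3)) (.node (.leaf 3) (.leaf 3)))))))) (.node (.node (.node (.node (.node (.node (.node (.node (.leaf 0) (.leaf 3)) (.leaf 3)) (.node (.leaf 3) (.leaf 3))) (.node (.node (.leaf 0) (.leaf 3)) (.node (.leaf 0) (.leaf 3)))) (.node (.node (.node (.node (.leaf 3) (.leaf 3)) (.leaf 3)) (.node (.leaf 3) (.leaf 3))) (.node (.node (.leaf 3) (.leaf 0)) (.node (.leaf 3) (.leaf 3))))) (.node (.node (.node (.node (.node (.leaf 0) (.leaf 3)) (.leaf 3)) (.node (.leaf 0) (.leaf 0))) (.node (.node (.leaf 0) (.leaf 3)) (.node (.leaf 3) (.leaf 3)))) (.node (.node (.node (.leaf 0) (.leaf 3)) (.node (.leaf 3) (.leaf 3))) (.node (.node (.leaf 3) (.leaf 3)) (.node (.leaf 0) (.leaf 3)))))) (.node (.node (.node (.node (.node (.node (.leaf 0) (.leaf 3)) (.leaf 3)) (.node (.leaf 3) (.leaf 3))) (.node (.node (.leaf 0) (.leaf 3)) (.node (.leaf 0) (.leaf 3)))) (.node (.node (.node (.leaf 0) (.leaf 3)) (.node (.leaf 3) (.leaf 3)))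 (.node (.node (.leaf 3) (.leaf 3)) (.node (.leaf 3) (.leaf 0))))) (.node (.node (.node (.node (.node (.leaf 0) (.leaf 3)) (.leaf 3)) (.node (.leaf 3) (.leaf 3))) (.node (.node (.leaf 0) (.leaf 3)) (.node (.leaf 3) (.leaf 3)))) (.node (.node (.node (.leaf 3) (.leaf 3)) (.node (.leaf 0) (.leaf 3))) (.node (.node (.leaf 0) (.leaf 3)) (.node (.leaf 3) (.leaf 3))))))) (.node (.node (.node (.node (.node (.node (.node (.leaf 0) (.leaf 3)) (.leaf 3)) (.node (.leaf 3) (.leaf 3))) (.node (.node (.leaf 3) (.leaf 3)) (.node (.leaf 3) (.leaf 3)))) (.node (.node (.node (.leaf 0) (.leaf 3)) (.node (.leaf 3) (.leaf 3))) (.node (.node (.leaf 0) (.leaf 0)) (.node (.leaf 3) (.leaf 0))))) (.node (.node (.node (.node (.node (.leaf 3) (.leaf 3)) (.leaf 3)) (.node (.leaf 3) (.leaf 3))) (.node (.node (.leaf 3) (.leaf 3)) (.node (.leaf 0) (.leaf 3)))) (.node (.node (.node (.leaf 0) (.leaf 3)) (.node (.leaf 3) (.leaf 3)))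 (.node (.node (.leaf 0) (.leaf 3)) (.node (.leaf 3) (.leaf 3)))))) (.node (.node (.node (.node (.node (.node (.leaf 0) (.leaf 3)) (.leaf 3)) (.node (.leaf 0) (.leaf 0))) (.node (.node (.leaf 0) (.leaf 3)) (.node (.leaf 3) (.leaf 3)))) (.node (.node (.node (.leaf 3) (.leaf 3)) (.node (.leaf 3) (.leaf 3))) (.node (.node (.leaf 3) (.leaf 3)) (.node (.leaf 3) (.leaf 3))))) (.node (.node (.node (.node (.node (.leaf 3) (.leaf 3)) (.leaf 3)) (.node (.leaf 3) (.leaf 3))) (.node (.node (.leaf 3) (.leaf 0)) (.node (.leaf 0) (.leaf 3)))) (.node (.node (.node (.leaf 3) (.leaf 3)) (.node (.leaf 3) (.leaf 3))) (.node (.node (.leaf 0) (.leaf 0)) (.node (.leaf 3) (.leaf 3)))))))))))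

def threeKind1 : Janko.Tree (ℕ) :=
  (.node (.node (.node (.node (.node (.node (.node (.node (.node (.node (.node (.leaf 0) (.leaf 3)) (.leaf 3)) (.node (.leaf 3) (.leaf 3))) (.node (.node (.leaf 3) (.leaf 3)) (.node (.leaf 3) (.leaf 3)))) (.node (.node (.node (.node (.leaf 0) (.leaf 3)) (.leaf 3)) (.node (.leaf 3) (.leaf 3))) (.node (.node (.leaf 0) (.leaf 3)) (.node (.leaf 3) (.leaf 3))))) (.node (.node (.node (.node (.node (.leaf 0) (.leaf 3)) (.leaf 3)) (.node (.leaf 3) (.leaf 3))) (.node (.node (.leaf 0) (.leaf 3)) (.node (.leaf 0) (.leaf 3)))) (.node (.node (.node (.leaf 0) (.leaf 3)) (.node (.leaf 3) (.leaf 3))) (.node (.node (.leaf 0) (.leaf 0)) (.node (.leaf 3) (.leaf 3)))))) (.node (.node (.node (.node (.node (.node (.leaf 0) (.leaf 3)) (.leaf 3)) (.node (.leaf 0) (.leaf 3))) (.node (.node (.leaf 0) (.leaf 3)) (.node (.leaf 3) (.leaf 3)))) (.node (.node (.node (.leaf 3) (.leaf 3)) (.node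 (.leaf 3) (.leaf 3))) (.node (.node (.leaf 3) (.leaf 3)) (.node (.leaf 3) (.leaf 3))))) (.node (.node (.node (.node (.node (.leaf 0) (.leaf 3)) (.leaf 3)) (.node (.leaf 3) (.leaf 3))) (.node (.node (.leaf 0) (.leaf 3)) (.node (.leaf 0) (.leaf 3)))) (.node (.node (.node (.leaf 3) (.leaf 3)) (.node (.leaf 3) (.leaf 3))) (.node (.node (.leaf 3) (.leaf 3)) (.node (.leaf 0) (.leaf 3))))))) (.node (.node (.node (.node (.node (.node (.node (.leaf 0) (.leaf 3)) (.leaf 0)) (.node (.leaf 3) (.leaf 3))) (.node (.node (.leaf 0) (.leaf 3)) (.node (.leaf 3) (.leaf 3)))) (.node (.node (.node (.node (.leaf 3) (.leaf 3)) (.leaf 3)) (.node (.leaf 3) (.leaf 3))) (.node (.node (.leaf 3) (.leaf 0)) (.node (.leaf 0) (.leaf 3))))) (.node (.node (.node (.node (.node (.leaf 3) (.leaf 3)) (.leaf 3)) (.node (.leaf 3) (.leaf 3))) (.node (.node (.leaf 0) (.leaf 3)) (.node (.leaf 3) (.leaf 3)))) (.node (.node (.node (.leaf 0)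 (.leaf 3)) (.node (.leaf 3) (.leaf 3))) (.node (.node (.leaf 3) (.leaf 3)) (.node (.leaf 3) (.leaf 3)))))) (.node (.node (.node (.node (.node (.node (.leaf 0) (.leaf 3)) (.leaf 0)) (.node (.leaf 3) (.leaf 3))) (.node (.node (.leaf 3) (.leaf 3)) (.node (.leaf 3) (.leaf 3)))) (.node (.node (.node (.leaf 3) (.leaf 0)) (.node (.leaf 3) (.leaf 3))) (.node (.node (.leaf 0) (.leaf 3)) (.node (.leaf 3) (.leaf 3))))) (.node (.node (.node (.node (.node (.leaf 0) (.leaf 3)) (.leaf 3)) (.node (.leaf 3) (.leaf 3))) (.node (.node (.leaf 0) (.leaf 3)) (.node (.leaf 0) (.leaf 3)))) (.node (.node (.node (.leaf 0) (.leaf 3)) (.node (.leaf 0) (.leaf 3))) (.node (.node (.leaf 0) (.leaf 3)) (.node (.leaf 0) (.leaf 3)))))))) (.node (.node (.node (.node (.node (.node (.node (.node (.leaf 0) (.leaf 3)) (.leaf 3)) (.node (.leaf 3) (.leaf 3))) (.node (.node (.leaf 0) (.leaf 3)) (.node (.leaf 0) (.leaf 3)))) (.node (.node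 (.node (.node (.leaf 3) (.leaf 3)) (.leaf 3)) (.node (.leaf 3) (.leaf 3))) (.node (.node (.leaf 3) (.leaf 0)) (.node (.leaf 0) (.leaf 3))))) (.node (.node (.node (.node (.node (.leaf 0) (.leaf 3)) (.leaf 0)) (.node (.leaf 3) (.leaf 3))) (.node (.node (.leaf 0) (.leaf 3)) (.node (.leaf 0) (.leaf 3)))) (.node (.node (.node (.leaf 0) (.leaf 3)) (.node (.leaf 3) (.leaf 3))) (.node (.node (.leaf 3) (.leaf 0)) (.node (.leaf 3) (.leaf 3)))))) (.node (.node (.node (.node (.node (.node (.leaf 0) (.leaf 3)) (.leaf 3)) (.node (.leaf 0) (.leaf 3))) (.node (.node (.leaf 3) (.leaf 3)) (.node (.leaf 0) (.leaf 3)))) (.node (.node (.node (.leaf 0) (.leaf 0)) (.node (.leaf 3) (.leaf 3))) (.node (.node (.leaf 0) (.leaf 3)) (.node (.leaf 0) (.leaf 3))))) (.node (.node (.node (.node (.node (.leaf 0) (.leaf 3)) (.leaf 3)) (.node (.leaf 3) (.leaf 3))) (.node (.node (.leaf 0) (.leaf 3)) (.node (.leaf 0) (.leaf 3)))) (.node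 (.node (.node (.leaf 3) (.leaf 3)) (.node (.leaf 3) (.leaf 3))) (.node (.node (.leaf 3) (.leaf 3)) (.node (.leaf 0) (.leaf 3))))))) (.node (.node (.node (.node (.node (.node (.node (.leaf 0) (.leaf 3)) (.leaf 0)) (.node (.leaf 0) (.leaf 3))) (.node (.node (.leaf 0) (.leaf 3)) (.node (.leaf 0) (.leaf 3)))) (.node (.node (.node (.node (.leaf 0) (.leaf 3)) (.leaf 0)) (.node (.leaf 3) (.leaf 3))) (.node (.node (.leaf 3) (.leaf 0)) (.node (.leaf 3) (.leaf 3))))) (.node (.node (.node (.node (.node (.leaf 0) (.leaf 3)) (.leaf 3)) (.node (.leaf 3) (.leaf 3))) (.node (.node (.leaf 3) (.leaf 3)) (.node (.leaf 3) (.leaf 3)))) (.node (.node (.node (.leaf 3) (.leaf 3)) (.node (.leaf 3) (.leaf 3))) (.node (.node (.leaf 3) (.leaf 3)) (.node (.leaf 3) (.leaf 3)))))) (.node (.node (.node (.node (.node (.node (.leaf 0) (.leaf 3)) (.leaf 3)) (.node (.leaf 0) (.leaf 3))) (.node (.node (.leaf 0) (.leaf 3)) (.node (.leaf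 0) (.leaf 3)))) (.node (.node (.node (.leaf 0) (.leaf 3)) (.node (.leaf 0) (.leaf 3))) (.node (.node (.leaf 3) (.leaf 3)) (.node (.leaf 3) (.leaf 3))))) (.node (.node (.node (.node (.node (.leaf 0) (.leaf 3)) (.leaf 3)) (.node (.leaf 3) (.leaf 3))) (.node (.node (.leaf 0) (.leaf 3)) (.node (.leaf 0) (.leaf 3)))) (.node (.node (.node (.leaf 0) (.leaf 3)) (.node (.leaf 0) (.leaf 3))) (.node (.node (.leaf 0) (.leaf 0)) (.node (.leaf 3) (.leaf 3))))))))) (.node (.node (.node (.node (.node (.node (.node (.node (.node (.leaf 0) (.leaf 3)) (.leaf 3)) (.node (.leaf 3) (.leaf 3))) (.node (.node (.leaf 3) (.leaf 3)) (.node (.leaf 0) (.leaf 3)))) (.node (.node (.node (.node (.leaf 0) (.leaf 3)) (.leaf 3)) (.node (.leaf 3) (.leaf 0))) (.node (.node (.leaf 0) (.leaf 0)) (.node (.leaf 3) (.leaf 3))))) (.node (.node (.node (.node (.node (.leaf 0) (.leaf 3)) (.leaf 3)) (.node (.leaf 0) (.leaf 3))) (.node (.node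 (.leaf 3) (.leaf 3)) (.node (.leaf 3) (.leaf 3)))) (.node (.node (.node (.leaf 0) (.leaf 3)) (.node (.leaf 3) (.leaf 3))) (.node (.node (.leaf 0) (.leaf 3)) (.node (.leaf 3) (.leaf 3)))))) (.node (.node (.node (.node (.node (.node (.leaf 3) (.leaf 3)) (.leaf 3)) (.node (.leaf 3) (.leaf 3))) (.node (.node (.leaf 0) (.leaf 3)) (.node (.leaf 3) (.leaf 3)))) (.node (.node (.node (.leaf 3) (.leaf 3)) (.node (.leaf 3) (.leaf 3))) (.node (.node (.leaf 0) (.leaf 3)) (.node (.leaf 3) (.leaf 3))))) (.node (.node (.node (.node (.node (.leaf 0) (.leaf 3)) (.leaf 3)) (.node (.leaf 3) (.leaf 3))) (.node (.node (.leaf 3) (.leaf 3)) (.node (.leaf 0) (.leaf 3)))) (.node (.node (.node (.leaf 3) (.leaf 3)) (.node (.leaf 3) (.leaf 3))) (.node (.node (.leaf 3) (.leaf 0)) (.node (.leaf 0) (.leaf 3))))))) (.node (.node (.node (.node (.node (.node (.node (.leaf 0) (.leaf 3)) (.leaf 3)) (.node (.leaf 3) (.leaf 3))) (.node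 (.node (.leaf 0) (.leaf 3)) (.node (.leaf 3) (.leaf 3)))) (.node (.node (.node (.node (.leaf 0) (.leaf 3)) (.leaf 3)) (.node (.leaf 3) (.leaf 3))) (.node (.node (.leaf 3) (.leaf 0)) (.node (.leaf 3) (.leaf 0))))) (.node (.node (.node (.node (.node (.leaf 0) (.leaf 3)) (.leaf 3)) (.node (.leaf 3) (.leaf 3))) (.node (.node (.leaf 3) (.leaf 3)) (.node (.leaf 0) (.leaf 3)))) (.node (.node (.node (.leaf 3) (.leaf 3)) (.node (.leaf 3) (.leaf 3))) (.node (.node (.leaf 0) (.leaf 0)) (.node (.leaf 3) (.leaf 3)))))) (.node (.node (.node (.node (.node (.node (.leaf 0) (.leaf 3)) (.leaf 3)) (.node (.leaf 3) (.leaf 3))) (.node (.node (.leaf 0) (.leaf 3)) (.node (.leaf 3) (.leaf 3)))) (.node (.node (.node (.leaf 0) (.leaf 3)) (.node (.leaf 3) (.leaf 3))) (.node (.node (.leaf 3) (.leaf 0)) (.node (.leaf 3) (.leaf 3))))) (.node (.node (.node (.node (.node (.leaf 3) (.leaf 3)) (.leaf 3)) (.node (.leaf 3) (.leaf 3)))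 (.node (.node (.leaf 0) (.leaf 3)) (.node (.leaf 0) (.leaf 3)))) (.node (.node (.node (.leaf 0) (.leaf 3)) (.node (.leaf 0) (.leaf 3))) (.node (.node (.leaf 3) (.leaf 0)) (.node (.leaf 3) (.leaf 3)))))))) (.node (.node (.node (.node (.node (.node (.node (.node (.leaf 0) (.leaf 3)) (.leaf 3)) (.node (.leaf 3) (.leaf 3))) (.node (.node (.leaf 0) (.leaf 3)) (.node (.leaf 0) (.leaf 3)))) (.node (.node (.node (.node (.leaf 0) (.leaf 2)) (.leaf 3)) (.node (.leaf 3) (.leaf 3))) (.node (.node (.leaf 3) (.leaf 0)) (.node (.leaf 0) (.leaf 3))))) (.node (.node (.node (.node (.node (.leaf 0) (.leaf 3)) (.leaf 3)) (.node (.leaf 3) (.leaf 3))) (.node (.node (.leaf 0) (.leaf 3)) (.node (.leaf 3) (.leaf 3)))) (.node (.node (.node (.leaf 0) (.leaf 3)) (.node (.leaf 3) (.leaf 3))) (.node (.node (.leaf 3) (.leaf 0)) (.node (.leaf 3) (.leaf 3)))))) (.node (.node (.node (.node (.node (.node (.leaf 0) (.leaf 3)) (.leaf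 3)) (.node (.leaf 0) (.leaf 3))) (.node (.node (.leaf 0) (.leaf 3)) (.node (.leaf 0) (.leaf 3)))) (.node (.node (.node (.leaf 0) (.leaf 3)) (.node (.leaf 3) (.leaf 3))) (.node (.node (.leaf 0) (.leaf 0)) (.node (.leaf 0) (.leaf 3))))) (.node (.node (.node (.node (.node (.leaf 0) (.leaf 3)) (.leaf 3)) (.node (.leaf 3) (.leaf 3))) (.node (.node (.leaf 0) (.leaf 3)) (.node (.leaf 3) (.leaf 3)))) (.node (.node (.node (.leaf 3) (.leaf 3)) (.node (.leaf 0) (.leaf 0))) (.node (.node (.leaf 3) (.leaf 0)) (.node (.leaf 0) (.leaf 3))))))) (.node (.node (.node (.node (.node (.node (.node (.leaf 0) (.leaf 3)) (.leaf 3)) (.node (.leaf 3) (.leaf 3))) (.node (.node (.leaf 0) (.leaf 3)) (.node (.leaf 0) (.leaf 3)))) (.node (.node (.node (.leaf 0) (.leaf 3)) (.node (.leaf 3) (.leaf 3))) (.node (.node (.leaf 3) (.leaf 3)) (.node (.leaf 0) (.leaf 3))))) (.node (.node (.node (.node (.node (.leaf 0) (.leaf 3)) (.leaf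 3)) (.node (.leaf 3) (.leaf 3))) (.node (.node (.leaf 0) (.leaf 3)) (.node (.leaf 0) (.leaf 3)))) (.node (.node (.node (.leaf 3) (.leaf 3)) (.node (.leaf 3) (.leaf 3))) (.node (.node (.leaf 3) (.leaf 0)) (.node (.leaf 0) (.leaf 3)))))) (.node (.node (.node (.node (.node (.node (.leaf 0) (.leaf 3)) (.leaf 3)) (.node (.leaf 3) (.leaf 3))) (.node (.node (.leaf 3) (.leaf 3)) (.node (.leaf 0) (.leaf 3)))) (.node (.node (.node (.leaf 0) (.leaf 3)) (.node (.leaf 3) (.leaf 3))) (.node (.node (.leaf 0) (.leaf 3)) (.node (.leaf 0) (.leaf 3))))) (.node (.node (.node (.node (.node (.leaf 3) (.leaf 3)) (.leaf 3)) (.node (.leaf 3) (.leaf 3))) (.node (.node (.leaf 0) (.leaf 3)) (.node (.leaf 0) (.leaf 3)))) (.node (.node (.node (.leaf 0) (.leaf 3)) (.node (.leaf 0) (.leaf 3))) (.node (.node (.leaf 3) (.leaf 0)) (.node (.leaf 3) (.leaf 3)))))))))) (.node (.node (.node (.node (.node (.node (.node (.node (.node (.node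 (.leaf 0) (.leaf 3)) (.leaf 3)) (.node (.leaf 3) (.leaf 3))) (.node (.node (.leaf 0) (.leaf 3)) (.node (.leaf 0) (.leaf 3)))) (.node (.node (.node (.node (.leaf 3) (.leaf 3)) (.leaf 3)) (.node (.leaf 3) (.leaf 3))) (.node (.node (.leaf 3) (.leaf 3)) (.node (.leaf 3) (.leaf 3))))) (.node (.node (.node (.node (.node (.leaf 0) (.leaf 3)) (.leaf 3)) (.node (.leaf 0) (.leaf 3))) (.node (.node (.leaf 0) (.leaf 3)) (.node (.leaf 0) (.leaf 3)))) (.node (.node (.node (.leaf 0) (.leaf 3)) (.node (.leaf 3) (.leaf 3))) (.node (.node (.leaf 3) (.leaf 3)) (.node (.leaf 0) (.leaf 3)))))) (.node (.node (.node (.node (.node (.node (.leaf 0) (.leaf 3)) (.leaf 3)) (.node (.leaf 0) (.leaf 3))) (.node (.node (.leaf 0) (.leaf 3)) (.node (.leaf 3) (.leaf 3)))) (.node (.node (.node (.leaf 0) (.leaf 3)) (.node (.leaf 3) (.leaf 3))) (.node (.node (.leaf 0) (.leaf 3)) (.node (.leaf 0) (.leaf 3))))) (.node (.node (.node (.node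 (.node (.leaf 0) (.leaf 3)) (.leaf 3)) (.node (.leaf 3) (.leaf 3))) (.node (.node (.leaf 0) (.leaf 3)) (.node (.leaf 3) (.leaf 3)))) (.node (.node (.node (.leaf 0) (.leaf 3)) (.node (.leaf 3) (.leaf 3))) (.node (.node (.leaf 3) (.leaf 0)) (.node (.leaf 0) (.leaf 3))))))) (.node (.node (.node (.node (.node (.node (.node (.leaf 0) (.leaf 3)) (.leaf 3)) (.node (.leaf 0) (.leaf 3))) (.node (.node (.leaf 0) (.leaf 3)) (.node (.leaf 0) (.leaf 3)))) (.node (.node (.node (.node (.leaf 3) (.leaf 3)) (.leaf 3)) (.node (.leaf 3) (.leaf 3))) (.node (.node (.leaf 0) (.leaf 3)) (.node (.leaf 0) (.leaf 3))))) (.node (.node (.node (.node (.node (.leaf 0) (.leaf 3)) (.leaf 3)) (.node (.leaf 3) (.leaf 3))) (.node (.node (.leaf 0) (.leaf 3)) (.node (.leaf 3) (.leaf 3)))) (.node (.node (.node (.leaf 0) (.leaf 3)) (.node (.leaf 3) (.leaf 3))) (.node (.node (.leaf 0) (.leaf 0)) (.node (.leaf 0) (.leaf 3)))))) (.node (.node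 (.node (.node (.node (.node (.leaf 0) (.leaf 3)) (.leaf 3)) (.node (.leaf 0) (.leaf 3))) (.node (.node (.leaf 0) (.leaf 3)) (.node (.leaf 3) (.leaf 3)))) (.node (.node (.node (.leaf 3) (.leaf 3)) (.node (.leaf 3) (.leaf 3))) (.node (.node (.leaf 3) (.leaf 0)) (.node (.leaf 3) (.leaf 3))))) (.node (.node (.node (.node (.node (.leaf 0) (.leaf 3)) (.leaf 3)) (.node (.leaf 3) (.leaf 0))) (.node (.node (.leaf 0) (.leaf 3)) (.node (.leaf 3) (.leaf 3)))) (.node (.node (.node (.leaf 3) (.leaf 3)) (.node (.leaf 0) (.leaf 3))) (.node (.node (.leaf 0) (.leaf 0)) (.node (.leaf 0) (.leaf 3)))))))) (.node (.node (.node (.node (.node (.node (.node (.node (.leaf 3) (.leaf 3)) (.leaf 3)) (.node (.leaf 3) (.leaf 3))) (.node (.node (.leaf 0) (.leaf 3)) (.node (.leaf 3) (.leaf 3)))) (.node (.node (.node (.node (.leaf 0) (.leaf 3)) (.leaf 3)) (.node (.leaf 3) (.leaf 3))) (.node (.node (.leaf 3) (.leaf 3)) (.node (.leaf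 3) (.leaf 3))))) (.node (.node (.node (.node (.node (.leaf 0) (.leaf 3)) (.leaf 3)) (.node (.leaf 3) (.leaf 3))) (.node (.node (.leaf 0) (.leaf 3)) (.node (.leaf 0) (.leaf 3)))) (.node (.node (.node (.leaf 3) (.leaf 3)) (.node (.leaf 0) (.leaf 3))) (.node (.node (.leaf 0) (.leaf 3)) (.node (.leaf 3) (.leaf 3)))))) (.node (.node (.node (.node (.node (.node (.leaf 0) (.leaf 3)) (.leaf 3)) (.node (.leaf 0) (.leaf 3))) (.node (.node (.leaf 0) (.leaf 3)) (.node (.leaf 0) (.leaf 3)))) (.node (.node (.node (.leaf 0) (.leaf 3)) (.node (.leaf 3) (.leaf 3))) (.node (.node (.leaf 0) (.leaf 0)) (.node (.leaf 3) (.leaf 3))))) (.node (.node (.node (.node (.node (.leaf 0) (.leaf 3)) (.leaf 0)) (.node (.leaf 3) (.leaf 3))) (.node (.node (.leaf 0) (.leaf 3)) (.node (.leaf 0) (.leaf 3)))) (.node (.node (.node (.leaf 0) (.leaf 3)) (.node (.leaf 3) (.leaf 3))) (.node (.node (.leaf 3) (.leaf 3)) (.node (.leaf 3) (.leaf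 3))))))) (.node (.node (.node (.node (.node (.node (.node (.leaf 0) (.leaf 3)) (.leaf 3)) (.node (.leaf 0) (.leaf 3))) (.node (.node (.leaf 0) (.leaf 3)) (.node (.leaf 0) (.leaf 3)))) (.node (.node (.node (.leaf 3) (.leaf 3)) (.node (.leaf 3) (.leaf 3))) (.node (.node (.leaf 3) (.leaf 3)) (.node (.leaf 3) (.leaf 3))))) (.node (.node (.node (.node (.node (.leaf 0) (.leaf 3)) (.leaf 0)) (.node (.leaf 3) (.leaf 3))) (.node (.node (.leaf 3) (.leaf 3)) (.node (.leaf 3) (.leaf 3)))) (.node (.node (.node (.leaf 0) (.leaf 3)) (.node (.leaf 3) (.leaf 3))) (.node (.node (.leaf 0) (.leaf 0)) (.node (.leaf 3) (.leaf 3)))))) (.node (.node (.node (.node (.node (.node (.leaf 0) (.leaf 3)) (.leaf 3)) (.node (.leaf 0) (.leaf 3))) (.node (.node (.leaf 3) (.leaf 3)) (.node (.leaf 3) (.leaf 3)))) (.node (.node (.node (.leaf 3) (.leaf 3)) (.node (.leaf 3) (.leaf 0))) (.node (.node (.leaf 3) (.leaf 3)) (.node (.leaf 3)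 (.leaf 3))))) (.node (.node (.node (.node (.node (.leaf 0) (.leaf 3)) (.leaf 3)) (.node (.leaf 3) (.leaf 3))) (.node (.node (.leaf 3) (.leaf 3)) (.node (.leaf 0) (.leaf 3)))) (.node (.node (.node (.leaf 3) (.leaf 3)) (.node (.leaf 0) (.leaf 3))) (.node (.node (.leaf 0) (.leaf 3)) (.node (.leaf 3) (.leaf 3))))))))) (.node (.node (.node (.node (.node (.node (.node (.node (.node (.leaf 0) (.leaf 3)) (.leaf 3)) (.node (.leaf 0) (.leaf 3))) (.node (.node (.leaf 3) (.leaf 3)) (.node (.leaf 0) (.leaf 3)))) (.node (.node (.node (.node (.leaf 3) (.leaf 3)) (.leaf 3)) (.node (.leaf 3) (.leaf 3))) (.node (.node (.leaf 0) (.leaf 3)) (.node (.leaf 0) (.leaf 3))))) (.node (.node (.node (.node (.node (.leaf 3) (.leaf 3)) (.leaf 3)) (.node (.leaf 3) (.leaf 3))) (.node (.node (.leaf 3) (.leaf 3)) (.node (.leaf 3) (.leaf 3)))) (.node (.node (.node (.leaf 3) (.leaf 3)) (.node (.leaf 3) (.leaf 3))) (.node (.node (.leaf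 3) (.leaf 3)) (.node (.leaf 3) (.leaf 3)))))) (.node (.node (.node (.node (.node (.node (.leaf 0) (.leaf 3)) (.leaf 0)) (.node (.leaf 3) (.leaf 3))) (.node (.node (.leaf 0) (.leaf 3)) (.node (.leaf 3) (.leaf 3)))) (.node (.node (.node (.leaf 3) (.leaf 0)) (.node (.leaf 3) (.leaf 0))) (.node (.node (.leaf 3) (.leaf 3)) (.node (.leaf 3) (.leaf 3))))) (.node (.node (.node (.node (.node (.leaf 0) (.leaf 3)) (.leaf 3)) (.node (.leaf 3) (.leaf 3))) (.node (.node (.leaf 3) (.leaf 3)) (.node (.leaf 3) (.leaf 3)))) (.node (.node (.node (.leaf 3) (.leaf 3)) (.node (.leaf 3) (.leaf 3))) (.node (.node (.leaf 3) (.leaf 0)) (.node (.leaf 0) (.leaf 3))))))) (.node (.node (.node (.node (.node (.node (.node (.leaf 0) (.leaf 3)) (.leaf 3)) (.node (.leaf 3) (.leaf 3))) (.node (.node (.leaf 0) (.leaf 3)) (.node (.leaf 0) (.leaf 3)))) (.node (.node (.node (.node (.leaf 0) (.leaf 3)) (.leaf 3)) (.node (.leaf 3) (.leaf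 3))) (.node (.node (.leaf 0) (.leaf 3)) (.node (.leaf 0) (.leaf 0))))) (.node (.node (.node (.node (.node (.leaf 0) (.leaf 3)) (.leaf 3)) (.node (.leaf 3) (.leaf 3))) (.node (.node (.leaf 0) (.leaf 3)) (.node (.leaf 3) (.leaf 3)))) (.node (.node (.node (.leaf 3) (.leaf 3)) (.node (.leaf 3) (.leaf 3))) (.node (.node (.leaf 0) (.leaf 3)) (.node (.leaf 0) (.leaf 3)))))) (.node (.node (.node (.node (.node (.node (.leaf 3) (.leaf 3)) (.leaf 3)) (.node (.leaf 3) (.leaf 3))) (.node (.node (.leaf 3) (.leaf 3)) (.node (.leaf 3) (.leaf 3)))) (.node (.node (.node (.leaf 0) (.leaf 3)) (.node (.leaf 3) (.leaf 3))) (.node (.node (.leaf 0) (.leaf 3)) (.node (.leaf 3) (.leaf 3))))) (.node (.node (.node (.node (.node (.leaf 0) (.leaf 3)) (.leaf 3)) (.node (.leaf 3) (.leaf 3))) (.node (.node (.leaf 0) (.leaf 3)) (.node (.leaf 0) (.leaf 3)))) (.node (.node (.node (.leaf 0) (.leaf 3)) (.node (.leaf 3) (.leaf 3))) (.node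 (.node (.leaf 3) (.leaf 3)) (.node (.leaf 0) (.leaf 3)))))))) (.node (.node (.node (.node (.node (.node (.node (.node (.leaf 0) (.leaf 3)) (.leaf 3)) (.node (.leaf 0) (.leaf 3))) (.node (.node (.leaf 3) (.leaf 3)) (.node (.leaf 3) (.leaf 3)))) (.node (.node (.node (.node (.leaf 0) (.leaf 2)) (.leaf 3)) (.node (.leaf 3) (.leaf 3))) (.node (.node (.leaf 0) (.leaf 0)) (.node (.leaf 0) (.leaf 3))))) (.node (.node (.node (.node (.node (.leaf 0) (.leaf 3)) (.leaf 3)) (.node (.leaf 3) (.leaf 3))) (.node (.node (.leaf 3) (.leaf 3)) (.node (.leaf 0) (.leaf 3)))) (.node (.node (.node (.leaf 3) (.leaf 3)) (.node (.leaf 3) (.leaf 3))) (.node (.node (.leaf 0) (.leaf 3)) (.node (.leaf 0) (.leaf 3)))))) (.node (.node (.node (.node (.node (.node (.leaf 0) (.leaf 3)) (.leaf 3)) (.node (.leaf 3) (.leaf 3))) (.node (.node (.leaf 0) (.leaf 3)) (.node (.leaf 0) (.leaf 3)))) (.node (.node (.node (.leaf 0) (.leaf 3)) (.node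 (.leaf 3) (.leaf 3))) (.node (.node (.leaf 3) (.leaf 3)) (.node (.leaf 3) (.leaf 3))))) (.node (.node (.node (.node (.node (.leaf 0) (.leaf 3)) (.leaf 3)) (.node (.leaf 3) (.leaf 3))) (.node (.node (.leaf 3) (.leaf 3)) (.node (.leaf 3) (.leaf 3)))) (.node (.node (.node (.leaf 0) (.leaf 3)) (.node (.leaf 3) (.leaf 3))) (.node (.node (.leaf 3) (.leaf 3)) (.node (.leaf 3) (.leaf 3))))))) (.node (.node (.node (.node (.node (.node (.node (.leaf 0) (.leaf 3)) (.leaf 3)) (.node (.leaf 3) (.leaf 3))) (.node (.node (.leaf 0) (.leaf 3)) (.node (.leaf 0) (.leaf 3)))) (.node (.node (.node (.leaf 0) (.leaf 3)) (.node (.leaf 3) (.leaf 3))) (.node (.node (.leaf 0) (.leaf 3)) (.node (.leaf 3) (.leaf 0))))) (.node (.node (.node (.node (.node (.leaf 0) (.leaf 3)) (.leaf 3)) (.node (.leaf 3) (.leaf 3))) (.node (.node (.leaf 0) (.leaf 3)) (.node (.leaf 0) (.leaf 3)))) (.node (.node (.node (.leaf 0) (.leaf 3)) (.node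 (.leaf 3) (.leaf 3))) (.node (.node (.leaf 0) (.leaf 3)) (.node (.leaf 3) (.leaf 3)))))) (.node (.node (.node (.node (.node (.node (.leaf 0) (.leaf 3)) (.leaf 3)) (.node (.leaf 0) (.leaf 3))) (.node (.node (.leaf 0) (.leaf 3)) (.node (.leaf 3) (.leaf 3)))) (.node (.node (.node (.leaf 0) (.leaf 3)) (.node (.leaf 3) (.leaf 3))) (.node (.node (.leaf 0) (.leaf 3)) (.node (.leaf 3) (.leaf 3))))) (.node (.node (.node (.node (.node (.leaf 0) (.leaf 3)) (.leaf 0)) (.node (.leaf 3) (.leaf 3))) (.node (.node (.leaf 3) (.leaf 0)) (.node (.leaf 3) (.leaf 3)))) (.node (.node (.node (.leaf 3) (.leaf 3)) (.node (.leaf 0) (.leaf 3))) (.node (.node (.leaf 3) (.leaf 0)) (.node (.leaf 3) (.leaf 3)))))))))))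

def threeKind2 : Janko.Tree (ℕ) :=
  (.node (.node (.node (.node (.node (.node (.node (.node (.node (.node (.node (.leaf 0) (.leaf 3)) (.leaf 3)) (.node (.leaf 0) (.leaf 3))) (.node (.node (.leaf 3) (.leaf 3)) (.node (.leaf 0) (.leaf 3)))) (.node (.node (.node (.node (.leaf 0) (.leaf 3)) (.leaf 3)) (.node (.leaf 3) (.leaf 3))) (.node (.node (.leaf 3) (.leaf 3)) (.node (.leaf 3) (.leaf 3))))) (.node (.node (.node (.node (.node (.leaf 0) (.leaf 3)) (.leaf 3)) (.node (.leaf 3) (.leaf 3))) (.node (.node (.leaf 0) (.leaf 3)) (.node (.leaf 0) (.leaf 3)))) (.node (.node (.node (.leaf 0) (.leaf 3)) (.node (.leaf 3) (.leaf 3))) (.node (.node (.leaf 0) (.leaf 3)) (.node (.leaf 0) (.leaf 3)))))) (.node (.node (.node (.node (.node (.node (.leaf 0) (.leaf 3)) (.leaf 3)) (.node (.leaf 0) (.leaf 3))) (.node (.node (.leaf 3) (.leaf 3)) (.node (.leaf 0) (.leaf 3)))) (.node (.node (.node (.leaf 3) (.leaf 3)) (.node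 (.leaf 3) (.leaf 3))) (.node (.node (.leaf 0) (.leaf 3)) (.node (.leaf 3) (.leaf 3))))) (.node (.node (.node (.node (.node (.leaf 0) (.leaf 3)) (.leaf 3)) (.node (.leaf 3) (.leaf 3))) (.node (.node (.leaf 3) (.leaf 3)) (.node (.leaf 0) (.leaf 3)))) (.node (.node (.node (.leaf 0) (.leaf 3)) (.node (.leaf 3) (.leaf 3))) (.node (.node (.leaf 3) (.leaf 3)) (.node (.leaf 3) (.leaf 3))))))) (.node (.node (.node (.node (.node (.node (.node (.leaf 0) (.leaf 3)) (.leaf 3)) (.node (.leaf 3) (.leaf 3))) (.node (.node (.leaf 3) (.leaf 3)) (.node (.leaf 0) (.leaf 3)))) (.node (.node (.node (.node (.leaf 0) (.leaf 3)) (.leaf 3)) (.node (.leaf 3) (.leaf 3))) (.node (.node (.leaf 3) (.leaf 3)) (.node (.leaf 3) (.leaf 3))))) (.node (.node (.node (.node (.node (.leaf 0) (.leaf 3)) (.leaf 3)) (.node (.leaf 3) (.leaf 3))) (.node (.node (.leaf 0) (.leaf 3)) (.node (.leaf 0) (.leaf 3)))) (.node (.node (.node (.leaf 0)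 (.leaf 3)) (.node (.leaf 3) (.leaf 3))) (.node (.node (.leaf 3) (.leaf 3)) (.node (.leaf 3) (.leaf 0)))))) (.node (.node (.node (.node (.node (.node (.leaf 0) (.leaf 3)) (.leaf 3)) (.node (.leaf 3) (.leaf 3))) (.node (.node (.leaf 0) (.leaf 3)) (.node (.leaf 0) (.leaf 3)))) (.node (.node (.node (.leaf 0) (.leaf 3)) (.node (.leaf 0) (.leaf 3))) (.node (.node (.leaf 3) (.leaf 3)) (.node (.leaf 0) (.leaf 3))))) (.node (.node (.node (.node (.node (.leaf 0) (.leaf 3)) (.leaf 3)) (.node (.leaf 3) (.leaf 3))) (.node (.node (.leaf 3) (.leaf 3)) (.node (.leaf 0) (.leaf 3)))) (.node (.node (.node (.leaf 3) (.leaf 3)) (.node (.leaf 3) (.leaf 3))) (.node (.node (.leaf 3) (.leaf 3)) (.node (.leaf 3) (.leaf 3)))))))) (.node (.node (.node (.node (.node (.node (.node (.node (.leaf 0) (.leaf 3)) (.leaf 0)) (.node (.leaf 3) (.leaf 0))) (.node (.node (.leaf 3) (.leaf 3)) (.node (.leaf 0) (.leaf 3)))) (.node (.node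 (.node (.node (.leaf 3) (.leaf 3)) (.leaf 0)) (.node (.leaf 3) (.leaf 3))) (.node (.node (.leaf 0) (.leaf 3)) (.node (.leaf 3) (.leaf 3))))) (.node (.node (.node (.node (.node (.leaf 0) (.leaf 3)) (.leaf 3)) (.node (.leaf 3) (.leaf 3))) (.node (.node (.leaf 0) (.leaf 3)) (.node (.leaf 3) (.leaf 3)))) (.node (.node (.node (.leaf 0) (.leaf 3)) (.node (.leaf 3) (.leaf 3))) (.node (.node (.leaf 0) (.leaf 3)) (.node (.leaf 3) (.leaf 3)))))) (.node (.node (.node (.node (.node (.node (.leaf 0) (.leaf 3)) (.leaf 3)) (.node (.leaf 3) (.leaf 3))) (.node (.node (.leaf 0) (.leaf 3)) (.node (.leaf 3) (.leaf 3)))) (.node (.node (.node (.leaf 0) (.leaf 3)) (.node (.leaf 3) (.leaf 3))) (.node (.node (.leaf 3) (.leaf 3)) (.node (.leaf 3) (.leaf 3))))) (.node (.node (.node (.node (.node (.leaf 0) (.leaf 3)) (.leaf 3)) (.node (.leaf 3) (.leaf 3))) (.node (.node (.leaf 3) (.leaf 3)) (.node (.leaf 0) (.leaf 3)))) (.node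 (.node (.node (.leaf 3) (.leaf 3)) (.node (.leaf 3) (.leaf 0))) (.node (.node (.leaf 0) (.leaf 3)) (.node (.leaf 3) (.leaf 3))))))) (.node (.node (.node (.node (.node (.node (.node (.leaf 3) (.leaf 3)) (.leaf 3)) (.node (.leaf 3) (.leaf 3))) (.node (.node (.leaf 0) (.leaf 3)) (.node (.leaf 0) (.leaf 3)))) (.node (.node (.node (.node (.leaf 0) (.leaf 3)) (.leaf 3)) (.node (.leaf 3) (.leaf 0))) (.node (.node (.leaf 3) (.leaf 3)) (.node (.leaf 3) (.leaf 3))))) (.node (.node (.node (.node (.node (.leaf 0) (.leaf 3)) (.leaf 3)) (.node (.leaf 3) (.leaf 3))) (.node (.node (.leaf 3) (.leaf 3)) (.node (.leaf 3) (.leaf 3)))) (.node (.node (.node (.leaf 0) (.leaf 3)) (.node (.leaf 3) (.leaf 3))) (.node (.node (.leaf 3) (.leaf 3)) (.node (.leaf 3) (.leaf 3)))))) (.node (.node (.node (.node (.node (.node (.leaf 0) (.leaf 3)) (.leaf 3)) (.node (.leaf 3) (.leaf 3))) (.node (.node (.leaf 3) (.leaf 3)) (.node (.leaf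 0) (.leaf 3)))) (.node (.node (.node (.leaf 0) (.leaf 3)) (.node (.leaf 3) (.leaf 3))) (.node (.node (.leaf 3) (.leaf 3)) (.node (.leaf 3) (.leaf 3))))) (.node (.node (.node (.node (.node (.leaf 0) (.leaf 3)) (.leaf 3)) (.node (.leaf 3) (.leaf 3))) (.node (.node (.leaf 0) (.leaf 3)) (.node (.leaf 3) (.leaf 3)))) (.node (.node (.node (.leaf 3) (.leaf 3)) (.node (.leaf 0) (.leaf 3))) (.node (.node (.leaf 3) (.leaf 3)) (.node (.leaf 0) (.leaf 3))))))))) (.node (.node (.node (.node (.node (.node (.node (.node (.node (.leaf 0) (.leaf 3)) (.leaf 0)) (.node (.leaf 3) (.leaf 3))) (.node (.node (.leaf 3) (.leaf 3)) (.node (.leaf 3) (.leaf 3)))) (.node (.node (.node (.node (.leaf 3) (.leaf 3)) (.leaf 3)) (.node (.leaf 3) (.leaf 3))) (.node (.node (.leaf 0) (.leaf 3)) (.node (.leaf 3) (.leaf 3))))) (.node (.node (.node (.node (.node (.leaf 3) (.leaf 3)) (.leaf 3)) (.node (.leaf 3) (.leaf 3))) (.node (.node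 (.leaf 0) (.leaf 3)) (.node (.leaf 0) (.leaf 3)))) (.node (.node (.node (.leaf 0) (.leaf 3)) (.node (.leaf 3) (.leaf 3))) (.node (.node (.leaf 3) (.leaf 3)) (.node (.leaf 0) (.leaf 3)))))) (.node (.node (.node (.node (.node (.node (.leaf 0) (.leaf 3)) (.leaf 0)) (.node (.leaf 3) (.leaf 3))) (.node (.node (.leaf 0) (.leaf 3)) (.node (.leaf 3) (.leaf 3)))) (.node (.node (.node (.leaf 3) (.leaf 3)) (.node (.leaf 3) (.leaf 3))) (.node (.node (.leaf 3) (.leaf 0)) (.node (.leaf 3) (.leaf 3))))) (.node (.node (.node (.node (.node (.leaf 0) (.leaf 3)) (.leaf 3)) (.node (.leaf 3) (.leaf 3))) (.node (.node (.leaf 0) (.leaf 3)) (.node (.leaf 3) (.leaf 3)))) (.node (.node (.node (.leaf 3) (.leaf 3)) (.node (.leaf 3) (.leaf 3))) (.node (.node (.leaf 3) (.leaf 3)) (.node (.leaf 3) (.leaf 3))))))) (.node (.node (.node (.node (.node (.node (.node (.leaf 0) (.leaf 3)) (.leaf 3)) (.node (.leaf 3) (.leaf 3))) (.node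 (.node (.leaf 0) (.leaf 3)) (.node (.leaf 0) (.leaf 3)))) (.node (.node (.node (.node (.leaf 0) (.leaf 3)) (.leaf 3)) (.node (.leaf 3) (.leaf 3))) (.node (.node (.leaf 0) (.leaf 3)) (.node (.leaf 3) (.leaf 3))))) (.node (.node (.node (.node (.node (.leaf 0) (.leaf 3)) (.leaf 3)) (.node (.leaf 0) (.leaf 3))) (.node (.node (.leaf 3) (.leaf 3)) (.node (.leaf 0) (.leaf 3)))) (.node (.node (.node (.leaf 0) (.leaf 3)) (.node (.leaf 3) (.leaf 3))) (.node (.node (.leaf 3) (.leaf 3)) (.node (.leaf 3) (.leaf 3)))))) (.node (.node (.node (.node (.node (.node (.leaf 0) (.leaf 3)) (.leaf 3)) (.node (.leaf 0) (.leaf 3))) (.node (.node (.leaf 0) (.leaf 3)) (.node (.leaf 3) (.leaf 3)))) (.node (.node (.node (.leaf 3) (.leaf 3)) (.node (.leaf 3) (.leaf 3))) (.node (.node (.leaf 3) (.leaf 0)) (.node (.leaf 0) (.leaf 3))))) (.node (.node (.node (.node (.node (.leaf 0) (.leaf 3)) (.leaf 3)) (.node (.leaf 3) (.leaf 3)))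 (.node (.node (.leaf 0) (.leaf 3)) (.node (.leaf 0) (.leaf 3)))) (.node (.node (.node (.leaf 3) (.leaf 3)) (.node (.leaf 0) (.leaf 3))) (.node (.node (.leaf 3) (.leaf 0)) (.node (.leaf 0) (.leaf 3)))))))) (.node (.node (.node (.node (.node (.node (.node (.node (.leaf 0) (.leaf 3)) (.leaf 0)) (.node (.leaf 0) (.leaf 3))) (.node (.node (.leaf 0) (.leaf 3)) (.node (.leaf 0) (.leaf 3)))) (.node (.node (.node (.node (.leaf 0) (.leaf 2)) (.leaf 3)) (.node (.leaf 3) (.leaf 3))) (.node (.node (.leaf 0) (.leaf 3)) (.node (.leaf 3) (.leaf 3))))) (.node (.node (.node (.node (.node (.leaf 3) (.leaf 3)) (.leaf 3)) (.node (.leaf 3) (.leaf 3))) (.node (.node (.leaf 0) (.leaf 3)) (.node (.leaf 3) (.leaf 3)))) (.node (.node (.node (.leaf 3) (.leaf 3)) (.node (.leaf 3) (.leaf 3))) (.node (.node (.leaf 3) (.leaf 3)) (.node (.leaf 3) (.leaf 3)))))) (.node (.node (.node (.node (.node (.node (.leaf 3) (.leaf 3)) (.leaf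 3)) (.node (.leaf 0) (.leaf 3))) (.node (.node (.leaf 0) (.leaf 3)) (.node (.leaf 3) (.leaf 3)))) (.node (.node (.node (.leaf 3) (.leaf 3)) (.node (.leaf 3) (.leaf 3))) (.node (.node (.leaf 3) (.leaf 3)) (.node (.leaf 3) (.leaf 3))))) (.node (.node (.node (.node (.node (.leaf 3) (.leaf 3)) (.leaf 3)) (.node (.leaf 0) (.leaf 3))) (.node (.node (.leaf 0) (.leaf 3)) (.node (.leaf 0) (.leaf 3)))) (.node (.node (.node (.leaf 0) (.leaf 3)) (.node (.leaf 3) (.leaf 3))) (.node (.node (.leaf 0) (.leaf 0)) (.node (.leaf 3) (.leaf 3))))))) (.node (.node (.node (.node (.node (.node (.node (.leaf 0) (.leaf 3)) (.leaf 3)) (.node (.leaf 3) (.leaf 3))) (.node (.node (.leaf 0) (.leaf 3)) (.node (.leaf 0) (.leaf 3)))) (.node (.node (.node (.leaf 0) (.leaf 3)) (.node (.leaf 3) (.leaf 3))) (.node (.node (.leaf 3) (.leaf 0)) (.node (.leaf 3) (.leaf 3))))) (.node (.node (.node (.node (.node (.leaf 3) (.leaf 3)) (.leaf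 3)) (.node (.leaf 3) (.leaf 3))) (.node (.node (.leaf 0) (.leaf 3)) (.node (.leaf 3) (.leaf 3)))) (.node (.node (.node (.leaf 3) (.leaf 3)) (.node (.leaf 3) (.leaf 3))) (.node (.node (.leaf 0) (.leaf 3)) (.node (.leaf 0) (.leaf 0)))))) (.node (.node (.node (.node (.node (.node (.leaf 0) (.leaf 3)) (.leaf 3)) (.node (.leaf 0) (.leaf 3))) (.node (.node (.leaf 3) (.leaf 3)) (.node (.leaf 0) (.leaf 3)))) (.node (.node (.node (.leaf 3) (.leaf 3)) (.node (.leaf 3) (.leaf 3))) (.node (.node (.leaf 3) (.leaf 3)) (.node (.leaf 3) (.leaf 3))))) (.node (.node (.node (.node (.node (.leaf 0) (.leaf 3)) (.leaf 3)) (.node (.leaf 0) (.leaf 3))) (.node (.node (.leaf 0) (.leaf 3)) (.node (.leaf 3) (.leaf 3)))) (.node (.node (.node (.leaf 3) (.leaf 3)) (.node (.leaf 0) (.leaf 3))) (.node (.node (.leaf 3) (.leaf 3)) (.node (.leaf 0) (.leaf 3)))))))))) (.node (.node (.node (.node (.node (.node (.node (.node (.node (.node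 (.leaf 0) (.leaf 3)) (.leaf 3)) (.node (.leaf 3) (.leaf 3))) (.node (.node (.leaf 3) (.leaf 3)) (.node (.leaf 3) (.leaf 3)))) (.node (.node (.node (.node (.leaf 0) (.leaf 3)) (.leaf 3)) (.node (.leaf 3) (.leaf 3))) (.node (.node (.leaf 0) (.leaf 0)) (.node (.leaf 3) (.leaf 3))))) (.node (.node (.node (.node (.node (.leaf 0) (.leaf 3)) (.leaf 3)) (.node (.leaf 3) (.leaf 3))) (.node (.node (.leaf 0) (.leaf 3)) (.node (.leaf 0) (.leaf 3)))) (.node (.node (.node (.leaf 0) (.leaf 3)) (.node (.leaf 3) (.leaf 3))) (.node (.node (.leaf 3) (.leaf 3)) (.node (.leaf 0) (.leaf 3)))))) (.node (.node (.node (.node (.node (.node (.leaf 0) (.leaf 3)) (.leaf 3)) (.node (.leaf 3) (.leaf 3))) (.node (.node (.leaf 3) (.leaf 3)) (.node (.leaf 3) (.leaf 3)))) (.node (.node (.node (.leaf 0) (.leaf 3)) (.node (.leaf 3) (.leaf 3))) (.node (.node (.leaf 3) (.leaf 0)) (.node (.leaf 3) (.leaf 3))))) (.node (.node (.node (.node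 (.node (.leaf 0) (.leaf 3)) (.leaf 3)) (.node (.leaf 3) (.leaf 3))) (.node (.node (.leaf 0) (.leaf 3)) (.node (.leaf 3) (.leaf 3)))) (.node (.node (.node (.leaf 3) (.leaf 0)) (.node (.leaf 3) (.leaf 3))) (.node (.node (.leaf 0) (.leaf 3)) (.node (.leaf 3) (.leaf 3))))))) (.node (.node (.node (.node (.node (.node (.node (.leaf 0) (.leaf 3)) (.leaf 0)) (.node (.leaf 3) (.leaf 3))) (.node (.node (.leaf 3) (.leaf 3)) (.node (.leaf 0) (.leaf 3)))) (.node (.node (.node (.node (.leaf 0) (.leaf 3)) (.leaf 3)) (.node (.leaf 3) (.leaf 3))) (.node (.node (.leaf 0) (.leaf 3)) (.node (.leaf 3) (.leaf 3))))) (.node (.node (.node (.node (.node (.leaf 0) (.leaf 3)) (.leaf 3)) (.node (.leaf 3) (.leaf 3))) (.node (.node (.leaf 0) (.leaf 3)) (.node (.leaf 0) (.leaf 3)))) (.node (.node (.node (.leaf 0) (.leaf 3)) (.node (.leaf 3) (.leaf 3))) (.node (.node (.leaf 3) (.leaf 3)) (.node (.leaf 3) (.leaf 3)))))) (.node (.node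 (.node (.node (.node (.node (.leaf 0) (.leaf 3)) (.leaf 3)) (.node (.leaf 0) (.leaf 3))) (.node (.node (.leaf 0) (.leaf 3)) (.node (.leaf 3) (.leaf 3)))) (.node (.node (.node (.leaf 0) (.leaf 3)) (.node (.leaf 3) (.leaf 3))) (.node (.node (.leaf 3) (.leaf 3)) (.node (.leaf 0) (.leaf 3))))) (.node (.node (.node (.node (.node (.leaf 0) (.leaf 3)) (.leaf 3)) (.node (.leaf 3) (.leaf 3))) (.node (.node (.leaf 3) (.leaf 3)) (.node (.leaf 3) (.leaf 3)))) (.node (.node (.node (.leaf 3) (.leaf 3)) (.node (.leaf 0) (.leaf 3))) (.node (.node (.leaf 3) (.leaf 3)) (.node (.leaf 3) (.leaf 3)))))))) (.node (.node (.node (.node (.node (.node (.node (.node (.leaf 0) (.leaf 3)) (.leaf 3)) (.node (.leaf 3) (.leaf 3))) (.node (.node (.leaf 3) (.leaf 3)) (.node (.leaf 0) (.leaf 3)))) (.node (.node (.node (.node (.leaf 0) (.leaf 3)) (.leaf 3)) (.node (.leaf 3) (.leaf 3))) (.node (.node (.leaf 0) (.leaf 3)) (.node (.leaf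 0) (.leaf 3))))) (.node (.node (.node (.node (.node (.leaf 3) (.leaf 3)) (.leaf 3)) (.node (.leaf 3) (.leaf 3))) (.node (.node (.leaf 0) (.leaf 3)) (.node (.leaf 0) (.leaf 3)))) (.node (.node (.node (.leaf 0) (.leaf 3)) (.node (.leaf 3) (.leaf 3))) (.node (.node (.leaf 3) (.leaf 3)) (.node (.leaf 3) (.leaf 3)))))) (.node (.node (.node (.node (.node (.node (.leaf 0) (.leaf 3)) (.leaf 3)) (.node (.leaf 3) (.leaf 3))) (.node (.node (.leaf 0) (.leaf 3)) (.node (.leaf 0) (.leaf 3)))) (.node (.node (.node (.leaf 3) (.leaf 3)) (.node (.leaf 3) (.leaf 0))) (.node (.node (.leaf 3) (.leaf 3)) (.node (.leaf 3) (.leaf 3))))) (.node (.node (.node (.node (.node (.leaf 0) (.leaf 3)) (.leaf 3)) (.node (.leaf 3) (.leaf 0))) (.node (.node (.leaf 3) (.leaf 3)) (.node (.leaf 3) (.leaf 3)))) (.node (.node (.node (.leaf 3) (.leaf 3)) (.node (.leaf 3) (.leaf 3))) (.node (.node (.leaf 0) (.leaf 3)) (.node (.leaf 0) (.leaf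 3))))))) (.node (.node (.node (.node (.node (.node (.node (.leaf 0) (.leaf 3)) (.leaf 3)) (.node (.leaf 3) (.leaf 3))) (.node (.node (.leaf 0) (.leaf 3)) (.node (.leaf 3) (.leaf 3)))) (.node (.node (.node (.leaf 0) (.leaf 3)) (.node (.leaf 3) (.leaf 3))) (.node (.node (.leaf 0) (.leaf 3)) (.node (.leaf 3) (.leaf 3))))) (.node (.node (.node (.node (.node (.leaf 0) (.leaf 3)) (.leaf 3)) (.node (.leaf 3) (.leaf 3))) (.node (.node (.leaf 0) (.leaf 3)) (.node (.leaf 3) (.leaf 3)))) (.node (.node (.node (.leaf 3) (.leaf 3)) (.node (.leaf 3) (.leaf 3))) (.node (.node (.leaf 3) (.leaf 0)) (.node (.leaf 3) (.leaf 3)))))) (.node (.node (.node (.node (.node (.node (.leaf 0) (.leaf 3)) (.leaf 3)) (.node (.leaf 0) (.leaf 3))) (.node (.node (.leaf 0) (.leaf 3)) (.node (.leaf 0) (.leaf 3)))) (.node (.node (.node (.leaf 0) (.leaf 3)) (.node (.leaf 3) (.leaf 3))) (.node (.node (.leaf 3) (.leaf 0)) (.node (.leaf 3)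 (.leaf 3))))) (.node (.node (.node (.node (.node (.leaf 0) (.leaf 3)) (.leaf 3)) (.node (.leaf 3) (.leaf 3))) (.node (.node (.leaf 0) (.leaf 3)) (.node (.leaf 3) (.leaf 3)))) (.node (.node (.node (.leaf 3) (.leaf 3)) (.node (.leaf 3) (.leaf 3))) (.node (.node (.leaf 0) (.leaf 3)) (.node (.leaf 3) (.leaf 3))))))))) (.node (.node (.node (.node (.node (.node (.node (.node (.node (.leaf 0) (.leaf 3)) (.leaf 3)) (.node (.leaf 3) (.leaf 3))) (.node (.node (.leaf 3) (.leaf 3)) (.node (.leaf 3) (.leaf 3)))) (.node (.node (.node (.node (.leaf 0) (.leaf 3)) (.leaf 3)) (.node (.leaf 3) (.leaf 3))) (.node (.node (.leaf 0) (.leaf 3)) (.node (.leaf 3) (.leaf 3))))) (.node (.node (.node (.node (.node (.leaf 0) (.leaf 3)) (.leaf 3)) (.node (.leaf 3) (.leaf 3))) (.node (.node (.leaf 0) (.leaf 3)) (.node (.leaf 3) (.leaf 3)))) (.node (.node (.node (.leaf 0) (.leaf 3)) (.node (.leaf 3) (.leaf 3))) (.node (.node (.leaf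 3) (.leaf 0)) (.node (.leaf 3) (.leaf 3)))))) (.node (.node (.node (.node (.node (.node (.leaf 0) (.leaf 3)) (.leaf 3)) (.node (.leaf 3) (.leaf 0))) (.node (.node (.leaf 0) (.leaf 3)) (.node (.leaf 3) (.leaf 3)))) (.node (.node (.node (.leaf 0) (.leaf 3)) (.node (.leaf 3) (.leaf 3))) (.node (.node (.leaf 3) (.leaf 0)) (.node (.leaf 3) (.leaf 3))))) (.node (.node (.node (.node (.node (.leaf 0) (.leaf 3)) (.leaf 3)) (.node (.leaf 3) (.leaf 3))) (.node (.node (.leaf 0) (.leaf 3)) (.node (.leaf 3) (.leaf 3)))) (.node (.node (.node (.leaf 0) (.leaf 3)) (.node (.leaf 3) (.leaf 3))) (.node (.node (.leaf 3) (.leaf 0)) (.node (.leaf 0) (.leaf 3))))))) (.node (.node (.node (.node (.node (.node (.node (.leaf 0) (.leaf 3)) (.leaf 3)) (.node (.leaf 3) (.leaf 3))) (.node (.node (.leaf 0) (.leaf 3)) (.node (.leaf 3) (.leaf 3)))) (.node (.node (.node (.node (.leaf 0) (.leaf 3)) (.leaf 3)) (.node (.leaf 3) (.leaf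 3))) (.node (.node (.leaf 3) (.leaf 0)) (.node (.leaf 0) (.leaf 3))))) (.node (.node (.node (.node (.node (.leaf 0) (.leaf 3)) (.leaf 3)) (.node (.leaf 3) (.leaf 3))) (.node (.node (.leaf 0) (.leaf 3)) (.node (.leaf 3) (.leaf 3)))) (.node (.node (.node (.leaf 0) (.leaf 3)) (.node (.leaf 3) (.leaf 3))) (.node (.node (.leaf 3) (.leaf 3)) (.node (.leaf 3) (.leaf 3)))))) (.node (.node (.node (.node (.node (.node (.leaf 0) (.leaf 3)) (.leaf 3)) (.node (.leaf 3) (.leaf 0))) (.node (.node (.leaf 0) (.leaf 3)) (.node (.leaf 0) (.leaf 3)))) (.node (.node (.node (.leaf 3) (.leaf 3)) (.node (.leaf 3) (.leaf 3))) (.node (.node (.leaf 3) (.leaf 3)) (.node (.leaf 3) (.leaf 3))))) (.node (.node (.node (.node (.node (.leaf 0) (.leaf 3)) (.leaf 3)) (.node (.leaf 3) (.leaf 3))) (.node (.node (.leaf 0) (.leaf 3)) (.node (.leaf 3) (.leaf 3)))) (.node (.node (.node (.leaf 3) (.leaf 3)) (.node (.leaf 3) (.leaf 3))) (.node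 (.node (.leaf 3) (.leaf 0)) (.node (.leaf 3) (.leaf 3)))))))) (.node (.node (.node (.node (.node (.node (.node (.node (.leaf 0) (.leaf 3)) (.leaf 3)) (.node (.leaf 3) (.leaf 0))) (.node (.node (.leaf 3) (.leaf 3)) (.node (.leaf 3) (.leaf 3)))) (.node (.node (.node (.node (.leaf 0) (.leaf 3)) (.leaf 3)) (.node (.leaf 3) (.leaf 3))) (.node (.node (.leaf 3) (.leaf 3)) (.node (.leaf 3) (.leaf 3))))) (.node (.node (.node (.node (.node (.leaf 0) (.leaf 3)) (.leaf 3)) (.node (.leaf 0) (.leaf 3))) (.node (.node (.leaf 0) (.leaf 3)) (.node (.leaf 3) (.leaf 3)))) (.node (.node (.node (.leaf 0) (.leaf 3)) (.node (.leaf 3) (.leaf 3))) (.node (.node (.leaf 3) (.leaf 3)) (.node (.leaf 3) (.leaf 3)))))) (.node (.node (.node (.node (.node (.node (.leaf 0) (.leaf 3)) (.leaf 3)) (.node (.leaf 3) (.leaf 3))) (.node (.node (.leaf 0) (.leaf 3)) (.node (.leaf 0) (.leaf 3)))) (.node (.node (.node (.leaf 0) (.leaf 3)) (.node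 (.leaf 3) (.leaf 3))) (.node (.node (.leaf 3) (.leaf 3)) (.node (.leaf 0) (.leaf 3))))) (.node (.node (.node (.node (.node (.leaf 3) (.leaf 3)) (.leaf 3)) (.node (.leaf 3) (.leaf 3))) (.node (.node (.leaf 0) (.leaf 3)) (.node (.leaf 3) (.leaf 3)))) (.node (.node (.node (.leaf 3) (.leaf 0)) (.node (.leaf 3) (.leaf 3))) (.node (.node (.leaf 3) (.leaf 0)) (.node (.leaf 3) (.leaf 3))))))) (.node (.node (.node (.node (.node (.node (.node (.leaf 3) (.leaf 3)) (.leaf 3)) (.node (.leaf 3) (.leaf 3))) (.node (.node (.leaf 0) (.leaf 3)) (.node (.leaf 3) (.leaf 3)))) (.node (.node (.node (.leaf 0) (.leaf 3)) (.node (.leaf 3) (.leaf 3))) (.node (.node (.leaf 3) (.leaf 3)) (.node (.leaf 3) (.leaf 3))))) (.node (.node (.node (.node (.node (.leaf 3) (.leaf 3)) (.leaf 0)) (.node (.leaf 3) (.leaf 3))) (.node (.node (.leaf 3) (.leaf 3)) (.node (.leaf 3) (.leaf 3)))) (.node (.node (.node (.leaf 0) (.leaf 3)) (.node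 (.leaf 0) (.leaf 3))) (.node (.node (.leaf 3) (.leaf 3)) (.node (.leaf 3) (.leaf 3)))))) (.node (.node (.node (.node (.node (.node (.leaf 0) (.leaf 3)) (.leaf 3)) (.node (.leaf 3) (.leaf 3))) (.node (.node (.leaf 0) (.leaf 3)) (.node (.leaf 3) (.leaf 3)))) (.node (.node (.node (.leaf 3) (.leaf 3)) (.node (.leaf 3) (.leaf 3))) (.node (.node (.leaf 3) (.leaf 3)) (.node (.leaf 3) (.leaf 3))))) (.node (.node (.node (.node (.node (.leaf 0) (.leaf 3)) (.leaf 3)) (.node (.leaf 3) (.leaf 3))) (.node (.node (.leaf 0) (.leaf 3)) (.node (.leaf 0) (.leaf 3)))) (.node (.node (.node (.leaf 3) (.leaf 3)) (.node (.leaf 0) (.leaf 3))) (.node (.node (.leaf 3) (.leaf 3)) (.node (.leaf 3) (.leaf 3)))))))))))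

def threeKind3 : Janko.Tree (ℕ) :=
  (.node (.node (.node (.node (.node (.node (.node (.node (.node (.node (.node (.leaf 0) (.leaf 3)) (.leaf 3)) (.node (.leaf 3) (.leaf 3))) (.node (.node (.leaf 3) (.leaf 3)) (.node (.leaf 0) (.leaf 3)))) (.node (.node (.node (.node (.leaf 0) (.leaf 3)) (.leaf 3)) (.node (.leaf 3) (.leaf 3))) (.node (.node (.leaf 0) (.leaf 3)) (.node (.leaf 3) (.leaf 3))))) (.node (.node (.node (.node (.node (.leaf 0) (.leaf 3)) (.leaf 3)) (.node (.leaf 3) (.leaf 3))) (.node (.node (.leaf 3) (.leaf 3)) (.node (.leaf 3) (.leaf 3)))) (.node (.node (.node (.leaf 0) (.leaf 3)) (.node (.leaf 3) (.leaf 3))) (.node (.node (.leaf 0) (.leaf 0)) (.node (.leaf 0) (.leaf 3)))))) (.node (.node (.node (.node (.node (.node (.leaf 0) (.leaf 3)) (.leaf 3)) (.node (.leaf 3) (.leaf 3))) (.node (.node (.leaf 0) (.leaf 3)) (.node (.leaf 0) (.leaf 3)))) (.node (.node (.node (.leaf 0) (.leaf 3)) (.node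 (.leaf 3) (.leaf 3))) (.node (.node (.leaf 0) (.leaf 0)) (.node (.leaf 0) (.leaf 0))))) (.node (.node (.node (.node (.node (.leaf 0) (.leaf 3)) (.leaf 3)) (.node (.leaf 3) (.leaf 3))) (.node (.node (.leaf 0) (.leaf 3)) (.node (.leaf 3) (.leaf 3)))) (.node (.node (.node (.leaf 3) (.leaf 3)) (.node (.leaf 3) (.leaf 3))) (.node (.node (.leaf 3) (.leaf 3)) (.node (.leaf 0) (.leaf 3))))))) (.node (.node (.node (.node (.node (.node (.node (.leaf 0) (.leaf 3)) (.leaf 3)) (.node (.leaf 3) (.leaf 3))) (.node (.node (.leaf 0) (.leaf 3)) (.node (.leaf 0) (.leaf 3)))) (.node (.node (.node (.node (.leaf 0) (.leaf 2)) (.leaf 3)) (.node (.leaf 3) (.leaf 3))) (.node (.node (.leaf 3) (.leaf 3)) (.node (.leaf 0) (.leaf 3))))) (.node (.node (.node (.node (.node (.leaf 0) (.leaf 3)) (.leaf 3)) (.node (.leaf 0) (.leaf 3))) (.node (.node (.leaf 0) (.leaf 3)) (.node (.leaf 3) (.leaf 3)))) (.node (.node (.node (.leaf 3)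 (.leaf 3)) (.node (.leaf 3) (.leaf 3))) (.node (.node (.leaf 3) (.leaf 0)) (.node (.leaf 3) (.leaf 3)))))) (.node (.node (.node (.node (.node (.node (.leaf 3) (.leaf 3)) (.leaf 3)) (.node (.leaf 3) (.leaf 0))) (.node (.node (.leaf 3) (.leaf 3)) (.node (.leaf 0) (.leaf 3)))) (.node (.node (.node (.leaf 0) (.leaf 3)) (.node (.leaf 3) (.leaf 3))) (.node (.node (.leaf 3) (.leaf 3)) (.node (.leaf 3) (.leaf 3))))) (.node (.node (.node (.node (.node (.leaf 3) (.leaf 3)) (.leaf 3)) (.node (.leaf 3) (.leaf 3))) (.node (.node (.leaf 0) (.leaf 3)) (.node (.leaf 3) (.leaf 3)))) (.node (.node (.node (.leaf 0) (.leaf 3)) (.node (.leaf 0) (.leaf 3))) (.node (.node (.leaf 3) (.leaf 3)) (.node (.leaf 3) (.leaf 3)))))))) (.node (.node (.node (.node (.node (.node (.node (.node (.leaf 0) (.leaf 3)) (.leaf 3)) (.node (.leaf 3) (.leaf 3))) (.node (.node (.leaf 0) (.leaf 3)) (.node (.leaf 0) (.leaf 3)))) (.node (.node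 (.node (.node (.leaf 3) (.leaf 3)) (.leaf 0)) (.node (.leaf 3) (.leaf 3))) (.node (.node (.leaf 3) (.leaf 3)) (.node (.leaf 0) (.leaf 3))))) (.node (.node (.node (.node (.node (.leaf 0) (.leaf 3)) (.leaf 3)) (.node (.leaf 3) (.leaf 3))) (.node (.node (.leaf 0) (.leaf 3)) (.node (.leaf 0) (.leaf 3)))) (.node (.node (.node (.leaf 3) (.leaf 3)) (.node (.leaf 3) (.leaf 3))) (.node (.node (.leaf 3) (.leaf 3)) (.node (.leaf 3) (.leaf 3)))))) (.node (.node (.node (.node (.node (.node (.leaf 0) (.leaf 3)) (.leaf 3)) (.node (.leaf 0) (.leaf 3))) (.node (.node (.leaf 0) (.leaf 3)) (.node (.leaf 0) (.leaf 3)))) (.node (.node (.node (.leaf 0) (.leaf 3)) (.node (.leaf 3) (.leaf 3))) (.node (.node (.leaf 3) (.leaf 3)) (.node (.leaf 3) (.leaf 3))))) (.node (.node (.node (.node (.node (.leaf 3) (.leaf 3)) (.leaf 3)) (.node (.leaf 3) (.leaf 3))) (.node (.node (.leaf 0) (.leaf 3)) (.node (.leaf 0) (.leaf 3)))) (.node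 (.node (.node (.leaf 0) (.leaf 3)) (.node (.leaf 3) (.leaf 3))) (.node (.node (.leaf 3) (.leaf 3)) (.node (.leaf 3) (.leaf 3))))))) (.node (.node (.node (.node (.node (.node (.node (.leaf 0) (.leaf 3)) (.leaf 3)) (.node (.leaf 0) (.leaf 0))) (.node (.node (.leaf 0) (.leaf 3)) (.node (.leaf 3) (.leaf 3)))) (.node (.node (.node (.node (.leaf 3) (.leaf 3)) (.leaf 3)) (.node (.leaf 0) (.leaf 3))) (.node (.node (.leaf 3) (.leaf 3)) (.node (.leaf 3) (.leaf 3))))) (.node (.node (.node (.node (.node (.leaf 0) (.leaf 3)) (.leaf 0)) (.node (.leaf 3) (.leaf 3))) (.node (.node (.leaf 0) (.leaf 3)) (.node (.leaf 0) (.leaf 3)))) (.node (.node (.node (.leaf 0) (.leaf 3)) (.node (.leaf 3) (.leaf 3))) (.node (.node (.leaf 3) (.leaf 0)) (.node (.leaf 3) (.leaf 3)))))) (.node (.node (.node (.node (.node (.node (.leaf 0) (.leaf 3)) (.leaf 3)) (.node (.leaf 3) (.leaf 3))) (.node (.node (.leaf 0) (.leaf 3)) (.node (.leaf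 0) (.leaf 3)))) (.node (.node (.node (.leaf 3) (.leaf 3)) (.node (.leaf 3) (.leaf 3))) (.node (.node (.leaf 3) (.leaf 0)) (.node (.leaf 0) (.leaf 3))))) (.node (.node (.node (.node (.node (.leaf 0) (.leaf 3)) (.leaf 3)) (.node (.leaf 3) (.leaf 3))) (.node (.node (.leaf 0) (.leaf 3)) (.node (.leaf 3) (.leaf 3)))) (.node (.node (.node (.leaf 3) (.leaf 3)) (.node (.leaf 3) (.leaf 3))) (.node (.node (.leaf 3) (.leaf 3)) (.node (.leaf 0) (.leaf 3))))))))) (.node (.node (.node (.node (.node (.node (.node (.node (.node (.leaf 0) (.leaf 3)) (.leaf 3)) (.node (.leaf 0) (.leaf 3))) (.node (.node (.leaf 3) (.leaf 3)) (.node (.leaf 0) (.leaf 3)))) (.node (.node (.node (.node (.leaf 0) (.leaf 3)) (.leaf 3)) (.node (.leaf 3) (.leaf 3))) (.node (.node (.leaf 3) (.leaf 3)) (.node (.leaf 0) (.leaf 3))))) (.node (.node (.node (.node (.node (.leaf 0) (.leaf 3)) (.leaf 3)) (.node (.leaf 3) (.leaf 3))) (.node (.node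 (.leaf 0) (.leaf 3)) (.node (.leaf 3) (.leaf 3)))) (.node (.node (.node (.leaf 0) (.leaf 3)) (.node (.leaf 3) (.leaf 3))) (.node (.node (.leaf 3) (.leaf 3)) (.node (.leaf 3) (.leaf 3)))))) (.node (.node (.node (.node (.node (.node (.leaf 0) (.leaf 3)) (.leaf 3)) (.node (.leaf 3) (.leaf 0))) (.node (.node (.leaf 3) (.leaf 3)) (.node (.leaf 3) (.leaf 3)))) (.node (.node (.node (.leaf 0) (.leaf 3)) (.node (.leaf 3) (.leaf 3))) (.node (.node (.leaf 0) (.leaf 3)) (.node (.leaf 3) (.leaf 3))))) (.node (.node (.node (.node (.node (.leaf 0) (.leaf 3)) (.leaf 3)) (.node (.leaf 3) (.leaf 3))) (.node (.node (.leaf 0) (.leaf 3)) (.node (.leaf 0) (.leaf 3)))) (.node (.node (.node (.leaf 3) (.leaf 3)) (.node (.leaf 3) (.leaf 3))) (.node (.node (.leaf 3) (.leaf 3)) (.node (.leaf 3) (.leaf 3))))))) (.node (.node (.node (.node (.node (.node (.node (.leaf 3) (.leaf 3)) (.leaf 3)) (.node (.leaf 0) (.leaf 3))) (.node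 (.node (.leaf 0) (.leaf 3)) (.node (.leaf 3) (.leaf 3)))) (.node (.node (.node (.node (.leaf 0) (.leaf 3)) (.leaf 3)) (.node (.leaf 3) (.leaf 3))) (.node (.node (.leaf 3) (.leaf 3)) (.node (.leaf 0) (.leaf 3))))) (.node (.node (.node (.node (.node (.leaf 0) (.leaf 3)) (.leaf 3)) (.node (.leaf 3) (.leaf 3))) (.node (.node (.leaf 0) (.leaf 3)) (.node (.leaf 3) (.leaf 3)))) (.node (.node (.node (.leaf 3) (.leaf 3)) (.node (.leaf 3) (.leaf 3))) (.node (.node (.leaf 0) (.leaf 3)) (.node (.leaf 0) (.leaf 3)))))) (.node (.node (.node (.node (.node (.node (.leaf 0) (.leaf 3)) (.leaf 3)) (.node (.leaf 3) (.leaf 3))) (.node (.node (.leaf 0) (.leaf 3)) (.node (.leaf 0) (.leaf 3)))) (.node (.node (.node (.leaf 0) (.leaf 3)) (.node (.leaf 3) (.leaf 3))) (.node (.node (.leaf 3) (.leaf 3)) (.node (.leaf 3) (.leaf 3))))) (.node (.node (.node (.node (.node (.leaf 0) (.leaf 3)) (.leaf 3)) (.node (.leaf 3) (.leaf 3)))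 (.node (.node (.leaf 0) (.leaf 3)) (.node (.leaf 0) (.leaf 3)))) (.node (.node (.node (.leaf 3) (.leaf 3)) (.node (.leaf 0) (.leaf 3))) (.node (.node (.leaf 3) (.leaf 3)) (.node (.leaf 3) (.leaf 3)))))))) (.node (.node (.node (.node (.node (.node (.node (.node (.leaf 0) (.leaf 3)) (.leaf 3)) (.node (.leaf 3) (.leaf 3))) (.node (.node (.leaf 0) (.leaf 3)) (.node (.leaf 3) (.leaf 3)))) (.node (.node (.node (.node (.leaf 3) (.leaf 2)) (.leaf 3)) (.node (.leaf 3) (.leaf 3))) (.node (.node (.leaf 0) (.leaf 0)) (.node (.leaf 3) (.leaf 3))))) (.node (.node (.node (.node (.node (.leaf 0) (.leaf 3)) (.leaf 3)) (.node (.leaf 3) (.leaf 3))) (.node (.node (.leaf 3) (.leaf 3)) (.node (.leaf 0) (.leaf 3)))) (.node (.node (.node (.leaf 0) (.leaf 3)) (.node (.leaf 3) (.leaf 3))) (.node (.node (.leaf 0) (.leaf 3)) (.node (.leaf 3) (.leaf 3)))))) (.node (.node (.node (.node (.node (.node (.leaf 0) (.leaf 3)) (.leaf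 3)) (.node (.leaf 3) (.leaf 3))) (.node (.node (.leaf 0) (.leaf 3)) (.node (.leaf 0) (.leaf 3)))) (.node (.node (.node (.leaf 0) (.leaf 3)) (.node (.leaf 3) (.leaf 3))) (.node (.node (.leaf 3) (.leaf 3)) (.node (.leaf 3) (.leaf 3))))) (.node (.node (.node (.node (.node (.leaf 0) (.leaf 3)) (.leaf 3)) (.node (.leaf 3) (.leaf 3))) (.node (.node (.leaf 3) (.leaf 3)) (.node (.leaf 3) (.leaf 3)))) (.node (.node (.node (.leaf 0) (.leaf 3)) (.node (.leaf 3) (.leaf 3))) (.node (.node (.leaf 0) (.leaf 3)) (.node (.leaf 0) (.leaf 3))))))) (.node (.node (.node (.node (.node (.node (.node (.leaf 0) (.leaf 3)) (.leaf 3)) (.node (.leaf 3) (.leaf 3))) (.node (.node (.leaf 3) (.leaf 3)) (.node (.leaf 0) (.leaf 3)))) (.node (.node (.node (.leaf 0) (.leaf 3)) (.node (.leaf 3) (.leaf 3))) (.node (.node (.leaf 0) (.leaf 3)) (.node (.leaf 3) (.leaf 0))))) (.node (.node (.node (.node (.node (.leaf 0) (.leaf 3)) (.leaf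 3)) (.node (.leaf 3) (.leaf 3))) (.node (.node (.leaf 0) (.leaf 3)) (.node (.leaf 0) (.leaf 3)))) (.node (.node (.node (.leaf 3) (.leaf 3)) (.node (.leaf 3) (.leaf 3))) (.node (.node (.leaf 3) (.leaf 3)) (.node (.leaf 3) (.leaf 3)))))) (.node (.node (.node (.node (.node (.node (.leaf 0) (.leaf 3)) (.leaf 3)) (.node (.leaf 3) (.leaf 3))) (.node (.node (.leaf 3) (.leaf 3)) (.node (.leaf 0) (.leaf 3)))) (.node (.node (.node (.leaf 0) (.leaf 3)) (.node (.leaf 3) (.leaf 3))) (.node (.node (.leaf 0) (.leaf 3)) (.node (.leaf 3) (.leaf 3))))) (.node (.node (.node (.node (.node (.leaf 3) (.leaf 3)) (.leaf 3)) (.node (.leaf 3) (.leaf 3))) (.node (.node (.leaf 3) (.leaf 3)) (.node (.leaf 0) (.leaf 3)))) (.node (.node (.node (.leaf 3) (.leaf 3)) (.node (.leaf 0) (.leaf 3))) (.node (.node (.leaf 0) (.leaf 3)) (.node (.leaf 0) (.leaf 3)))))))))) (.node (.node (.node (.node (.node (.node (.node (.node (.node (.node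 (.leaf 0) (.leaf 3)) (.leaf 3)) (.node (.leaf 3) (.leaf 3))) (.node (.node (.leaf 3) (.leaf 3)) (.node (.leaf 0) (.leaf 3)))) (.node (.node (.node (.node (.leaf 3) (.leaf 3)) (.leaf 3)) (.node (.leaf 3) (.leaf 3))) (.node (.node (.leaf 0) (.leaf 3)) (.node (.leaf 0) (.leaf 3))))) (.node (.node (.node (.node (.node (.leaf 0) (.leaf 3)) (.leaf 0)) (.node (.leaf 3) (.leaf 3))) (.node (.node (.leaf 0) (.leaf 3)) (.node (.leaf 0) (.leaf 3)))) (.node (.node (.node (.leaf 3) (.leaf 3)) (.node (.leaf 3) (.leaf 3))) (.node (.node (.leaf 3) (.leaf 3)) (.node (.leaf 0) (.leaf 3)))))) (.node (.node (.node (.node (.node (.node (.leaf 0) (.leaf 3)) (.leaf 3)) (.node (.leaf 3) (.leaf 3))) (.node (.node (.leaf 0) (.leaf 3)) (.node (.leaf 3) (.leaf 3)))) (.node (.node (.node (.leaf 0) (.leaf 3)) (.node (.leaf 3) (.leaf 3))) (.node (.node (.leaf 3) (.leaf 3)) (.node (.leaf 3) (.leaf 3))))) (.node (.node (.node (.node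 (.node (.leaf 0) (.leaf 3)) (.leaf 3)) (.node (.leaf 3) (.leaf 3))) (.node (.node (.leaf 0) (.leaf 3)) (.node (.leaf 0) (.leaf 3)))) (.node (.node (.node (.leaf 0) (.leaf 3)) (.node (.leaf 3) (.leaf 3))) (.node (.node (.leaf 3) (.leaf 0)) (.node (.leaf 0) (.leaf 3))))))) (.node (.node (.node (.node (.node (.node (.node (.leaf 0) (.leaf 3)) (.leaf 3)) (.node (.leaf 3) (.leaf 3))) (.node (.node (.leaf 0) (.leaf 3)) (.node (.leaf 0) (.leaf 3)))) (.node (.node (.node (.node (.leaf 0) (.leaf 3)) (.leaf 3)) (.node (.leaf 3) (.leaf 3))) (.node (.node (.leaf 0) (.leaf 3)) (.node (.leaf 3) (.leaf 3))))) (.node (.node (.node (.node (.node (.leaf 0) (.leaf 3)) (.leaf 3)) (.node (.leaf 3) (.leaf 0))) (.node (.node (.leaf 0) (.leaf 3)) (.node (.leaf 0) (.leaf 3)))) (.node (.node (.node (.leaf 3) (.leaf 3)) (.node (.leaf 3) (.leaf 0))) (.node (.node (.leaf 0) (.leaf 0)) (.node (.leaf 3) (.leaf 3)))))) (.node (.node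 (.node (.node (.node (.node (.leaf 0) (.leaf 3)) (.leaf 3)) (.node (.leaf 3) (.leaf 3))) (.node (.node (.leaf 0) (.leaf 3)) (.node (.leaf 3) (.leaf 3)))) (.node (.node (.node (.leaf 3) (.leaf 0)) (.node (.leaf 3) (.leaf 3))) (.node (.node (.leaf 0) (.leaf 3)) (.node (.leaf 3) (.leaf 3))))) (.node (.node (.node (.node (.node (.leaf 0) (.leaf 3)) (.leaf 3)) (.node (.leaf 3) (.leaf 3))) (.node (.node (.leaf 3) (.leaf 3)) (.node (.leaf 3) (.leaf 3)))) (.node (.node (.node (.leaf 3) (.leaf 3)) (.node (.leaf 0) (.leaf 3))) (.node (.node (.leaf 3) (.leaf 3)) (.node (.leaf 0) (.leaf 3)))))))) (.node (.node (.node (.node (.node (.node (.node (.node (.leaf 0) (.leaf 3)) (.leaf 3)) (.node (.leaf 3) (.leaf 0))) (.node (.node (.leaf 3) (.leaf 3)) (.node (.leaf 0) (.leaf 3)))) (.node (.node (.node (.node (.leaf 0) (.leaf 3)) (.leaf 0)) (.node (.leaf 3) (.leaf 3))) (.node (.node (.leaf 0) (.leaf 3)) (.node (.leaf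 0) (.leaf 3))))) (.node (.node (.node (.node (.node (.leaf 0) (.leaf 3)) (.leaf 3)) (.node (.leaf 3) (.leaf 3))) (.node (.node (.leaf 3) (.leaf 3)) (.node (.leaf 3) (.leaf 3)))) (.node (.node (.node (.leaf 0) (.leaf 3)) (.node (.leaf 3) (.leaf 0))) (.node (.node (.leaf 3) (.leaf 3)) (.node (.leaf 0) (.leaf 3)))))) (.node (.node (.node (.node (.node (.node (.leaf 3) (.leaf 3)) (.leaf 3)) (.node (.leaf 3) (.leaf 3))) (.node (.node (.leaf 3) (.leaf 3)) (.node (.leaf 3) (.leaf 3)))) (.node (.node (.node (.leaf 0) (.leaf 3)) (.node (.leaf 3) (.leaf 3))) (.node (.node (.leaf 0) (.leaf 3)) (.node (.leaf 0) (.leaf 3))))) (.node (.node (.node (.node (.node (.leaf 3) (.leaf 3)) (.leaf 3)) (.node (.leaf 0) (.leaf 3))) (.node (.node (.leaf 3) (.leaf 3)) (.node (.leaf 3) (.leaf 3)))) (.node (.node (.node (.leaf 0) (.leaf 3)) (.node (.leaf 3) (.leaf 3))) (.node (.node (.leaf 3) (.leaf 3)) (.node (.leaf 3) (.leaf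 3))))))) (.node (.node (.node (.node (.node (.node (.node (.leaf 0) (.leaf 3)) (.leaf 0)) (.node (.leaf 3) (.leaf 3))) (.node (.node (.leaf 0) (.leaf 3)) (.node (.leaf 3) (.leaf 3)))) (.node (.node (.node (.leaf 0) (.leaf 0)) (.node (.leaf 3) (.leaf 3))) (.node (.node (.leaf 0) (.leaf 3)) (.node (.leaf 3) (.leaf 3))))) (.node (.node (.node (.node (.node (.leaf 3) (.leaf 3)) (.leaf 3)) (.node (.leaf 3) (.leaf 3))) (.node (.node (.leaf 0) (.leaf 3)) (.node (.leaf 3) (.leaf 3)))) (.node (.node (.node (.leaf 0) (.leaf 3)) (.node (.leaf 3) (.leaf 3))) (.node (.node (.leaf 3) (.leaf 3)) (.node (.leaf 0) (.leaf 3)))))) (.node (.node (.node (.node (.node (.node (.leaf 0) (.leaf 3)) (.leaf 3)) (.node (.leaf 3) (.leaf 3))) (.node (.node (.leaf 3) (.leaf 3)) (.node (.leaf 3) (.leaf 3)))) (.node (.node (.node (.leaf 3) (.leaf 3)) (.node (.leaf 3) (.leaf 3))) (.node (.node (.leaf 3) (.leaf 3)) (.node (.leaf 0)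 (.leaf 3))))) (.node (.node (.node (.node (.node (.leaf 3) (.leaf 3)) (.leaf 3)) (.node (.leaf 3) (.leaf 3))) (.node (.node (.leaf 3) (.leaf 3)) (.node (.leaf 0) (.leaf 3)))) (.node (.node (.node (.leaf 3) (.leaf 3)) (.node (.leaf 0) (.leaf 3))) (.node (.node (.leaf 3) (.leaf 3)) (.node (.leaf 3) (.leaf 3))))))))) (.node (.node (.node (.node (.node (.node (.node (.node (.node (.leaf 0) (.leaf 3)) (.leaf 0)) (.node (.leaf 0) (.leaf 3))) (.node (.node (.leaf 3) (.leaf 3)) (.node (.leaf 3) (.leaf 3)))) (.node (.node (.node (.node (.leaf 3) (.leaf 3)) (.leaf 3)) (.node (.leaf 3) (.leaf 3))) (.node (.node (.leaf 3) (.leaf 0)) (.node (.leaf 0) (.leaf 3))))) (.node (.node (.node (.node (.node (.leaf 0) (.leaf 3)) (.leaf 3)) (.node (.leaf 3) (.leaf 3))) (.node (.node (.leaf 0) (.leaf 3)) (.node (.leaf 3) (.leaf 3)))) (.node (.node (.node (.leaf 3) (.leaf 3)) (.node (.leaf 3) (.leaf 3))) (.node (.node (.leaf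 3) (.leaf 3)) (.node (.leaf 3) (.leaf 3)))))) (.node (.node (.node (.node (.node (.node (.leaf 0) (.leaf 3)) (.leaf 3)) (.node (.leaf 3) (.leaf 3))) (.node (.node (.leaf 0) (.leaf 3)) (.node (.leaf 3) (.leaf 3)))) (.node (.node (.node (.leaf 0) (.leaf 3)) (.node (.leaf 3) (.leaf 3))) (.node (.node (.leaf 3) (.leaf 0)) (.node (.leaf 0) (.leaf 3))))) (.node (.node (.node (.node (.node (.leaf 0) (.leaf 3)) (.leaf 3)) (.node (.leaf 3) (.leaf 3))) (.node (.node (.leaf 3) (.leaf 3)) (.node (.leaf 0) (.leaf 3)))) (.node (.node (.node (.leaf 0) (.leaf 3)) (.node (.leaf 3) (.leaf 3))) (.node (.node (.leaf 0) (.leaf 3)) (.node (.leaf 3) (.leaf 3))))))) (.node (.node (.node (.node (.node (.node (.node (.leaf 0) (.leaf 3)) (.leaf 3)) (.node (.leaf 0) (.leaf 3))) (.node (.node (.leaf 0) (.leaf 3)) (.node (.leaf 0) (.leaf 3)))) (.node (.node (.node (.node (.leaf 3) (.leaf 3)) (.leaf 3)) (.node (.leaf 3) (.leaf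 3))) (.node (.node (.leaf 0) (.leaf 3)) (.node (.leaf 0) (.leaf 3))))) (.node (.node (.node (.node (.node (.leaf 0) (.leaf 3)) (.leaf 3)) (.node (.leaf 3) (.leaf 3))) (.node (.node (.leaf 0) (.leaf 3)) (.node (.leaf 0) (.leaf 3)))) (.node (.node (.node (.leaf 0) (.leaf 3)) (.node (.leaf 3) (.leaf 3))) (.node (.node (.leaf 3) (.leaf 3)) (.node (.leaf 3) (.leaf 3)))))) (.node (.node (.node (.node (.node (.node (.leaf 0) (.leaf 3)) (.leaf 0)) (.node (.leaf 3) (.leaf 3))) (.node (.node (.leaf 3) (.leaf 3)) (.node (.leaf 0) (.leaf 3)))) (.node (.node (.node (.leaf 3) (.leaf 3)) (.node (.leaf 3) (.leaf 0))) (.node (.node (.leaf 3) (.leaf 0)) (.node (.leaf 3) (.leaf 3))))) (.node (.node (.node (.node (.node (.leaf 3) (.leaf 3)) (.leaf 3)) (.node (.leaf 0) (.leaf 3))) (.node (.node (.leaf 3) (.leaf 3)) (.node (.leaf 0) (.leaf 3)))) (.node (.node (.node (.leaf 0) (.leaf 3)) (.node (.leaf 3) (.leaf 3))) (.node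 (.node (.leaf 3) (.leaf 3)) (.node (.leaf 3) (.leaf 3)))))))) (.node (.node (.node (.node (.node (.node (.node (.node (.leaf 0) (.leaf 3)) (.leaf 3)) (.node (.leaf 3) (.leaf 3))) (.node (.node (.leaf 3) (.leaf 3)) (.node (.leaf 3) (.leaf 3)))) (.node (.node (.node (.node (.leaf 0) (.leaf 3)) (.leaf 3)) (.node (.leaf 3) (.leaf 3))) (.node (.node (.leaf 0) (.leaf 0)) (.node (.leaf 3) (.leaf 3))))) (.node (.node (.node (.node (.node (.leaf 0) (.leaf 3)) (.leaf 3)) (.node (.leaf 3) (.leaf 3))) (.node (.node (.leaf 0) (.leaf 3)) (.node (.leaf 0) (.leaf 3)))) (.node (.node (.node (.leaf 0) (.leaf 3)) (.node (.leaf 3) (.leaf 3))) (.node (.node (.leaf 3) (.leaf 0)) (.node (.leaf 3) (.leaf 3)))))) (.node (.node (.node (.node (.node (.node (.leaf 0) (.leaf 3)) (.leaf 3)) (.node (.leaf 3) (.leaf 3))) (.node (.node (.leaf 3) (.leaf 3)) (.node (.leaf 0) (.leaf 3)))) (.node (.node (.node (.leaf 0) (.leaf 0)) (.node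 (.leaf 3) (.leaf 3))) (.node (.node (.leaf 3) (.leaf 3)) (.node (.leaf 0) (.leaf 3))))) (.node (.node (.node (.node (.node (.leaf 0) (.leaf 3)) (.leaf 3)) (.node (.leaf 3) (.leaf 3))) (.node (.node (.leaf 3) (.leaf 3)) (.node (.leaf 0) (.leaf 3)))) (.node (.node (.node (.leaf 3) (.leaf 3)) (.node (.leaf 3) (.leaf 3))) (.node (.node (.leaf 3) (.leaf 3)) (.node (.leaf 3) (.leaf 3))))))) (.node (.node (.node (.node (.node (.node (.node (.leaf 0) (.leaf 3)) (.leaf 3)) (.node (.leaf 0) (.leaf 3))) (.node (.node (.leaf 3) (.leaf 3)) (.node (.leaf 0) (.leaf 3)))) (.node (.node (.node (.leaf 0) (.leaf 3)) (.node (.leaf 3) (.leaf 3))) (.node (.node (.leaf 0) (.leaf 3)) (.node (.leaf 0) (.leaf 3))))) (.node (.node (.node (.node (.node (.leaf 0) (.leaf 3)) (.leaf 3)) (.node (.leaf 0) (.leaf 3))) (.node (.node (.leaf 0) (.leaf 3)) (.node (.leaf 0) (.leaf 3)))) (.node (.node (.node (.leaf 0) (.leaf 3)) (.node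 (.leaf 3) (.leaf 3))) (.node (.node (.leaf 3) (.leaf 3)) (.node (.leaf 3) (.leaf 3)))))) (.node (.node (.node (.node (.node (.node (.leaf 0) (.leaf 3)) (.leaf 0)) (.node (.leaf 3) (.leaf 3))) (.node (.node (.leaf 0) (.leaf 3)) (.node (.leaf 0) (.leaf 3)))) (.node (.node (.node (.leaf 3) (.leaf 3)) (.node (.leaf 3) (.leaf 3))) (.node (.node (.leaf 3) (.leaf 0)) (.node (.leaf 3) (.leaf 3))))) (.node (.node (.node (.node (.node (.leaf 0) (.leaf 3)) (.leaf 3)) (.node (.leaf 3) (.leaf 3))) (.node (.node (.leaf 0) (.leaf 3)) (.node (.leaf 3) (.leaf 3)))) (.node (.node (.node (.leaf 0) (.leaf 3)) (.node (.leaf 3) (.leaf 3))) (.node (.node (.leaf 0) (.leaf 3)) (.node (.leaf 3) (.leaf 3)))))))))))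

def threeKind4 : Janko.Tree (ℕ) :=
  (.node (.node (.node (.node (.node (.node (.node (.node (.node (.node (.node (.leaf 0) (.leaf 3)) (.leaf 3)) (.node (.leaf 0) (.leaf 0))) (.node (.node (.leaf 3) (.leaf 3)) (.node (.leaf 3) (.leaf 3)))) (.node (.node (.node (.node (.leaf 0) (.leaf 3)) (.leaf 3)) (.node (.leaf 3) (.leaf 3))) (.node (.node (.leaf 0) (.leaf 0)) (.node (.leaf 3) (.leaf 3))))) (.node (.node (.node (.node (.node (.leaf 0) (.leaf 3)) (.leaf 3)) (.node (.leaf 3) (.leaf 3))) (.node (.node (.leaf 3) (.leaf 3)) (.node (.leaf 0) (.leaf 3)))) (.node (.node (.node (.leaf 0) (.leaf 3)) (.node (.leaf 3) (.leaf 3))) (.node (.node (.leaf 0) (.leaf 0)) (.node (.leaf 3) (.leaf 3)))))) (.node (.node (.node (.node (.node (.node (.leaf 0) (.leaf 3)) (.leaf 3)) (.node (.leaf 3) (.leaf 3))) (.node (.node (.leaf 0) (.leaf 3)) (.node (.leaf 0) (.leaf 3)))) (.node (.node (.node (.leaf 0) (.leaf 3)) (.node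 (.leaf 3) (.leaf 0))) (.node (.node (.leaf 3) (.leaf 3)) (.node (.leaf 3) (.leaf 3))))) (.node (.node (.node (.node (.node (.leaf 0) (.leaf 3)) (.leaf 3)) (.node (.leaf 3) (.leaf 3))) (.node (.node (.leaf 0) (.leaf 3)) (.node (.leaf 3) (.leaf 3)))) (.node (.node (.node (.leaf 0) (.leaf 3)) (.node (.leaf 3) (.leaf 3))) (.node (.node (.leaf 3) (.leaf 3)) (.node (.leaf 3) (.leaf 3))))))) (.node (.node (.node (.node (.node (.node (.node (.leaf 0) (.leaf 3)) (.leaf 3)) (.node (.leaf 3) (.leaf 3))) (.node (.node (.leaf 3) (.leaf 3)) (.node (.leaf 0) (.leaf 3)))) (.node (.node (.node (.node (.leaf 0) (.leaf 3)) (.leaf 3)) (.node (.leaf 3) (.leaf 3))) (.node (.node (.leaf 0) (.leaf 3)) (.node (.leaf 3) (.leaf 3))))) (.node (.node (.node (.node (.node (.leaf 0) (.leaf 3)) (.leaf 3)) (.node (.leaf 3) (.leaf 3))) (.node (.node (.leaf 3) (.leaf 3)) (.node (.leaf 0) (.leaf 3)))) (.node (.node (.node (.leaf 3)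 (.leaf 3)) (.node (.leaf 3) (.leaf 3))) (.node (.node (.leaf 0) (.leaf 3)) (.node (.leaf 3) (.leaf 3)))))) (.node (.node (.node (.node (.node (.node (.leaf 3) (.leaf 3)) (.leaf 3)) (.node (.leaf 0) (.leaf 3))) (.node (.node (.leaf 0) (.leaf 3)) (.node (.leaf 3) (.leaf 3)))) (.node (.node (.node (.leaf 0) (.leaf 3)) (.node (.leaf 3) (.leaf 3))) (.node (.node (.leaf 3) (.leaf 3)) (.node (.leaf 0) (.leaf 3))))) (.node (.node (.node (.node (.node (.leaf 0) (.leaf 3)) (.leaf 3)) (.node (.leaf 3) (.leaf 3))) (.node (.node (.leaf 3) (.leaf 3)) (.node (.leaf 3) (.leaf 3)))) (.node (.node (.node (.leaf 3) (.leaf 3)) (.node (.leaf 3) (.leaf 3))) (.node (.node (.leaf 3) (.leaf 3)) (.node (.leaf 3) (.leaf 3)))))))) (.node (.node (.node (.node (.node (.node (.node (.node (.leaf 0) (.leaf 3)) (.leaf 3)) (.node (.leaf 3) (.leaf 3))) (.node (.node (.leaf 3) (.leaf 3)) (.node (.leaf 0) (.leaf 3)))) (.node (.node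 (.node (.node (.leaf 3) (.leaf 3)) (.leaf 3)) (.node (.leaf 3) (.leaf 3))) (.node (.node (.leaf 3) (.leaf 3)) (.node (.leaf 0) (.leaf 3))))) (.node (.node (.node (.node (.node (.leaf 0) (.leaf 3)) (.leaf 0)) (.node (.leaf 3) (.leaf 3))) (.node (.node (.leaf 3) (.leaf 3)) (.node (.leaf 0) (.leaf 3)))) (.node (.node (.node (.leaf 0) (.leaf 3)) (.node (.leaf 3) (.leaf 3))) (.node (.node (.leaf 0) (.leaf 0)) (.node (.leaf 3) (.leaf 3)))))) (.node (.node (.node (.node (.node (.node (.leaf 3) (.leaf 3)) (.leaf 3)) (.node (.leaf 3) (.leaf 3))) (.node (.node (.leaf 0) (.leaf 3)) (.node (.leaf 3) (.leaf 3)))) (.node (.node (.node (.leaf 3) (.leaf 3)) (.node (.leaf 3) (.leaf 3))) (.node (.node (.leaf 0) (.leaf 0)) (.node (.leaf 3) (.leaf 3))))) (.node (.node (.node (.node (.node (.leaf 0) (.leaf 3)) (.leaf 3)) (.node (.leaf 3) (.leaf 3))) (.node (.node (.leaf 3) (.leaf 3)) (.node (.leaf 3) (.leaf 3)))) (.node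 (.node (.node (.leaf 3) (.leaf 3)) (.node (.leaf 3) (.leaf 3))) (.node (.node (.leaf 3) (.leaf 3)) (.node (.leaf 3) (.leaf 3))))))) (.node (.node (.node (.node (.node (.node (.node (.leaf 0) (.leaf 3)) (.leaf 3)) (.node (.leaf 0) (.leaf 3))) (.node (.node (.leaf 0) (.leaf 3)) (.node (.leaf 0) (.leaf 3)))) (.node (.node (.node (.node (.leaf 0) (.leaf 3)) (.leaf 3)) (.node (.leaf 3) (.leaf 3))) (.node (.node (.leaf 3) (.leaf 3)) (.node (.leaf 0) (.leaf 3))))) (.node (.node (.node (.node (.node (.leaf 0) (.leaf 3)) (.leaf 3)) (.node (.leaf 3) (.leaf 3))) (.node (.node (.leaf 0) (.leaf 3)) (.node (.leaf 3) (.leaf 3)))) (.node (.node (.node (.leaf 0) (.leaf 3)) (.node (.leaf 3) (.leaf 3))) (.node (.node (.leaf 3) (.leaf 3)) (.node (.leaf 3) (.leaf 3)))))) (.node (.node (.node (.node (.node (.node (.leaf 3) (.leaf 3)) (.leaf 0)) (.node (.leaf 3) (.leaf 3))) (.node (.node (.leaf 0) (.leaf 3)) (.node (.leaf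 0) (.leaf 3)))) (.node (.node (.node (.leaf 3) (.leaf 3)) (.node (.leaf 3) (.leaf 3))) (.node (.node (.leaf 3) (.leaf 3)) (.node (.leaf 3) (.leaf 3))))) (.node (.node (.node (.node (.node (.leaf 0) (.leaf 3)) (.leaf 3)) (.node (.leaf 3) (.leaf 3))) (.node (.node (.leaf 0) (.leaf 3)) (.node (.leaf 0) (.leaf 3)))) (.node (.node (.node (.leaf 3) (.leaf 3)) (.node (.leaf 0) (.leaf 3))) (.node (.node (.leaf 3) (.leaf 3)) (.node (.leaf 0) (.leaf 3))))))))) (.node (.node (.node (.node (.node (.node (.node (.node (.node (.leaf 3) (.leaf 3)) (.leaf 0)) (.node (.leaf 0) (.leaf 3))) (.node (.node (.leaf 3) (.leaf 3)) (.node (.leaf 3) (.leaf 3)))) (.node (.node (.node (.node (.leaf 0) (.leaf 3)) (.leaf 3)) (.node (.leaf 3) (.leaf 3))) (.node (.node (.leaf 3) (.leaf 3)) (.node (.leaf 3) (.leaf 3))))) (.node (.node (.node (.node (.node (.leaf 0) (.leaf 3)) (.leaf 3)) (.node (.leaf 0) (.leaf 3))) (.node (.node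 (.leaf 0) (.leaf 3)) (.node (.leaf 3) (.leaf 3)))) (.node (.node (.node (.leaf 0) (.leaf 3)) (.node (.leaf 3) (.leaf 0))) (.node (.node (.leaf 0) (.leaf 3)) (.node (.leaf 3) (.leaf 3)))))) (.node (.node (.node (.node (.node (.node (.leaf 3) (.leaf 3)) (.leaf 3)) (.node (.leaf 3) (.leaf 3))) (.node (.node (.leaf 0) (.leaf 3)) (.node (.leaf 3) (.leaf 3)))) (.node (.node (.node (.leaf 0) (.leaf 3)) (.node (.leaf 3) (.leaf 3))) (.node (.node (.leaf 3) (.leaf 3)) (.node (.leaf 3) (.leaf 3))))) (.node (.node (.node (.node (.node (.leaf 0) (.leaf 3)) (.leaf 3)) (.node (.leaf 3) (.leaf 3))) (.node (.node (.leaf 0) (.leaf 3)) (.node (.leaf 0) (.leaf 3)))) (.node (.node (.node (.leaf 3) (.leaf 3)) (.node (.leaf 3) (.leaf 3))) (.node (.node (.leaf 3) (.leaf 3)) (.node (.leaf 3) (.leaf 3))))))) (.node (.node (.node (.node (.node (.node (.node (.leaf 0) (.leaf 3)) (.leaf 3)) (.node (.leaf 3) (.leaf 3))) (.node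 (.node (.leaf 0) (.leaf 3)) (.node (.leaf 0) (.leaf 3)))) (.node (.node (.node (.node (.leaf 3) (.leaf 3)) (.leaf 3)) (.node (.leaf 3) (.leaf 3))) (.node (.node (.leaf 0) (.leaf 0)) (.node (.leaf 3) (.leaf 3))))) (.node (.node (.node (.node (.node (.leaf 0) (.leaf 3)) (.leaf 3)) (.node (.leaf 3) (.leaf 3))) (.node (.node (.leaf 0) (.leaf 3)) (.node (.leaf 0) (.leaf 3)))) (.node (.node (.node (.leaf 3) (.leaf 3)) (.node (.leaf 3) (.leaf 3))) (.node (.node (.leaf 3) (.leaf 3)) (.node (.leaf 3) (.leaf 3)))))) (.node (.node (.node (.node (.node (.node (.leaf 0) (.leaf 3)) (.leaf 3)) (.node (.leaf 3) (.leaf 0))) (.node (.node (.leaf 0) (.leaf 3)) (.node (.leaf 3) (.leaf 3)))) (.node (.node (.node (.leaf 3) (.leaf 3)) (.node (.leaf 3) (.leaf 0))) (.node (.node (.leaf 3) (.leaf 3)) (.node (.leaf 3) (.leaf 3))))) (.node (.node (.node (.node (.node (.leaf 0) (.leaf 3)) (.leaf 3)) (.node (.leaf 3) (.leaf 3)))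 (.node (.node (.leaf 0) (.leaf 3)) (.node (.leaf 3) (.leaf 3)))) (.node (.node (.node (.leaf 0) (.leaf 3)) (.node (.leaf 0) (.leaf 3))) (.node (.node (.leaf 3) (.leaf 0)) (.node (.leaf 3) (.leaf 3)))))))) (.node (.node (.node (.node (.node (.node (.node (.node (.leaf 0) (.leaf 3)) (.leaf 3)) (.node (.leaf 3) (.leaf 3))) (.node (.node (.leaf 0) (.leaf 3)) (.node (.leaf 0) (.leaf 3)))) (.node (.node (.node (.node (.leaf 3) (.leaf 3)) (.leaf 3)) (.node (.leaf 0) (.leaf 3))) (.node (.node (.leaf 0) (.leaf 3)) (.node (.leaf 3) (.leaf 3))))) (.node (.node (.node (.node (.node (.leaf 0) (.leaf 3)) (.leaf 3)) (.node (.leaf 3) (.leaf 3))) (.node (.node (.leaf 0) (.leaf 3)) (.node (.leaf 0) (.leaf 3)))) (.node (.node (.node (.leaf 0) (.leaf 3)) (.node (.leaf 3) (.leaf 3))) (.node (.node (.leaf 3) (.leaf 3)) (.node (.leaf 3) (.leaf 3)))))) (.node (.node (.node (.node (.node (.node (.leaf 0) (.leaf 3)) (.leaf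 3)) (.node (.leaf 0) (.leaf 3))) (.node (.node (.leaf 0) (.leaf 3)) (.node (.leaf 3) (.leaf 3)))) (.node (.node (.node (.leaf 0) (.leaf 3)) (.node (.leaf 3) (.leaf 3))) (.node (.node (.leaf 3) (.leaf 0)) (.node (.leaf 0) (.leaf 3))))) (.node (.node (.node (.node (.node (.leaf 0) (.leaf 3)) (.leaf 3)) (.node (.leaf 3) (.leaf 3))) (.node (.node (.leaf 3) (.leaf 3)) (.node (.leaf 0) (.leaf 3)))) (.node (.node (.node (.leaf 3) (.leaf 3)) (.node (.leaf 3) (.leaf 3))) (.node (.node (.leaf 0) (.leaf 0)) (.node (.leaf 3) (.leaf 3))))))) (.node (.node (.node (.node (.node (.node (.node (.leaf 0) (.leaf 3)) (.leaf 0)) (.node (.leaf 3) (.leaf 3))) (.node (.node (.leaf 0) (.leaf 3)) (.node (.leaf 3) (.leaf 3)))) (.node (.node (.node (.leaf 3) (.leaf 3)) (.node (.leaf 3) (.leaf 3))) (.node (.node (.leaf 3) (.leaf 3)) (.node (.leaf 3) (.leaf 3))))) (.node (.node (.node (.node (.node (.leaf 3) (.leaf 3)) (.leaf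 0)) (.node (.leaf 3) (.leaf 3))) (.node (.node (.leaf 3) (.leaf 3)) (.node (.leaf 3) (.leaf 3)))) (.node (.node (.node (.leaf 0) (.leaf 3)) (.node (.leaf 3) (.leaf 3))) (.node (.node (.leaf 3) (.leaf 3)) (.node (.leaf 3) (.leaf 3)))))) (.node (.node (.node (.node (.node (.node (.leaf 0) (.leaf 3)) (.leaf 3)) (.node (.leaf 3) (.leaf 3))) (.node (.node (.leaf 3) (.leaf 3)) (.node (.leaf 0) (.leaf 3)))) (.node (.node (.node (.leaf 3) (.leaf 3)) (.node (.leaf 3) (.leaf 3))) (.node (.node (.leaf 3) (.leaf 0)) (.node (.leaf 3) (.leaf 3))))) (.node (.node (.node (.node (.node (.leaf 0) (.leaf 3)) (.leaf 3)) (.node (.leaf 3) (.leaf 3))) (.node (.node (.leaf 0) (.leaf 0)) (.node (.leaf 3) (.leaf 3)))) (.node (.node (.node (.leaf 3) (.leaf 3)) (.node (.leaf 0) (.leaf 3))) (.node (.node (.leaf 3) (.leaf 3)) (.node (.leaf 3) (.leaf 3)))))))))) (.node (.node (.node (.node (.node (.node (.node (.node (.node (.node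 (.leaf 0) (.leaf 3)) (.leaf 0)) (.node (.leaf 0) (.leaf 3))) (.node (.node (.leaf 0) (.leaf 3)) (.node (.leaf 0) (.leaf 3)))) (.node (.node (.node (.node (.leaf 0) (.leaf 3)) (.leaf 3)) (.node (.leaf 3) (.leaf 3))) (.node (.node (.leaf 3) (.leaf 0)) (.node (.leaf 3) (.leaf 3))))) (.node (.node (.node (.node (.node (.leaf 0) (.leaf 3)) (.leaf 3)) (.node (.leaf 3) (.leaf 3))) (.node (.node (.leaf 0) (.leaf 3)) (.node (.leaf 3) (.leaf 3)))) (.node (.node (.node (.leaf 0) (.leaf 3)) (.node (.leaf 3) (.leaf 3))) (.node (.node (.leaf 0) (.leaf 3)) (.node (.leaf 3) (.leaf 3)))))) (.node (.node (.node (.node (.node (.node (.leaf 0) (.leaf 3)) (.leaf 3)) (.node (.leaf 3) (.leaf 3))) (.node (.node (.leaf 3) (.leaf 3)) (.node (.leaf 0) (.leaf 3)))) (.node (.node (.node (.leaf 0) (.leaf 0)) (.node (.leaf 3) (.leaf 3))) (.node (.node (.leaf 3) (.leaf 3)) (.node (.leaf 0) (.leaf 3))))) (.node (.node (.node (.node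 (.node (.leaf 0) (.leaf 3)) (.leaf 3)) (.node (.leaf 3) (.leaf 3))) (.node (.node (.leaf 0) (.leaf 3)) (.node (.leaf 3) (.leaf 3)))) (.node (.node (.node (.leaf 0) (.leaf 3)) (.node (.leaf 3) (.leaf 3))) (.node (.node (.leaf 3) (.leaf 3)) (.node (.leaf 3) (.leaf 3))))))) (.node (.node (.node (.node (.node (.node (.node (.leaf 0) (.leaf 3)) (.leaf 3)) (.node (.leaf 3) (.leaf 3))) (.node (.node (.leaf 0) (.leaf 3)) (.node (.leaf 3) (.leaf 3)))) (.node (.node (.node (.node (.leaf 0) (.leaf 3)) (.leaf 3)) (.node (.leaf 3) (.leaf 3))) (.node (.node (.leaf 0) (.leaf 3)) (.node (.leaf 0) (.leaf 3))))) (.node (.node (.node (.node (.node (.leaf 0) (.leaf 3)) (.leaf 3)) (.node (.leaf 3) (.leaf 3))) (.node (.node (.leaf 3) (.leaf 3)) (.node (.leaf 0) (.leaf 3)))) (.node (.node (.node (.leaf 0) (.leaf 3)) (.node (.leaf 3) (.leaf 3))) (.node (.node (.leaf 3) (.leaf 0)) (.node (.leaf 3) (.leaf 3)))))) (.node (.node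 (.node (.node (.node (.node (.leaf 3) (.leaf 3)) (.leaf 3)) (.node (.leaf 0) (.leaf 3))) (.node (.node (.leaf 0) (.leaf 3)) (.node (.leaf 3) (.leaf 3)))) (.node (.node (.node (.leaf 0) (.leaf 3)) (.node (.leaf 3) (.leaf 3))) (.node (.node (.leaf 3) (.leaf 3)) (.node (.leaf 0) (.leaf 3))))) (.node (.node (.node (.node (.node (.leaf 0) (.leaf 3)) (.leaf 3)) (.node (.leaf 3) (.leaf 3))) (.node (.node (.leaf 0) (.leaf 3)) (.node (.leaf 3) (.leaf 3)))) (.node (.node (.node (.leaf 3) (.leaf 3)) (.node (.leaf 0) (.leaf 3))) (.node (.node (.leaf 0) (.leaf 3)) (.node (.leaf 0) (.leaf 3)))))))) (.node (.node (.node (.node (.node (.node (.node (.node (.leaf 0) (.leaf 3)) (.leaf 0)) (.node (.leaf 3) (.leaf 3))) (.node (.node (.leaf 0) (.leaf 3)) (.node (.leaf 3) (.leaf 3)))) (.node (.node (.node (.node (.leaf 3) (.leaf 2)) (.leaf 3)) (.node (.leaf 3) (.leaf 3))) (.node (.node (.leaf 3) (.leaf 0)) (.node (.leaf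 3) (.leaf 3))))) (.node (.node (.node (.node (.node (.leaf 0) (.leaf 3)) (.leaf 3)) (.node (.leaf 3) (.leaf 3))) (.node (.node (.leaf 0) (.leaf 3)) (.node (.leaf 3) (.leaf 3)))) (.node (.node (.node (.leaf 0) (.leaf 3)) (.node (.leaf 3) (.leaf 3))) (.node (.node (.leaf 3) (.leaf 3)) (.node (.leaf 3) (.leaf 3)))))) (.node (.node (.node (.node (.node (.node (.leaf 0) (.leaf 3)) (.leaf 3)) (.node (.leaf 3) (.leaf 3))) (.node (.node (.leaf 3) (.leaf 3)) (.node (.leaf 0) (.leaf 3)))) (.node (.node (.node (.leaf 0) (.leaf 3)) (.node (.leaf 3) (.leaf 3))) (.node (.node (.leaf 0) (.leaf 3)) (.node (.leaf 3) (.leaf 3))))) (.node (.node (.node (.node (.node (.leaf 0) (.leaf 3)) (.leaf 3)) (.node (.leaf 3) (.leaf 3))) (.node (.node (.leaf 3) (.leaf 3)) (.node (.leaf 0) (.leaf 3)))) (.node (.node (.node (.leaf 0) (.leaf 3)) (.node (.leaf 3) (.leaf 3))) (.node (.node (.leaf 3) (.leaf 0)) (.node (.leaf 3) (.leaf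 3))))))) (.node (.node (.node (.node (.node (.node (.node (.leaf 3) (.leaf 3)) (.leaf 3)) (.node (.leaf 3) (.leaf 3))) (.node (.node (.leaf 0) (.leaf 3)) (.node (.leaf 0) (.leaf 3)))) (.node (.node (.node (.leaf 0) (.leaf 3)) (.node (.leaf 3) (.leaf 3))) (.node (.node (.leaf 3) (.leaf 3)) (.node (.leaf 3) (.leaf 3))))) (.node (.node (.node (.node (.node (.leaf 3) (.leaf 3)) (.leaf 3)) (.node (.leaf 3) (.leaf 3))) (.node (.node (.leaf 3) (.leaf 3)) (.node (.leaf 0) (.leaf 3)))) (.node (.node (.node (.leaf 0) (.leaf 3)) (.node (.leaf 3) (.leaf 3))) (.node (.node (.leaf 0) (.leaf 3)) (.node (.leaf 3) (.leaf 3)))))) (.node (.node (.node (.node (.node (.node (.leaf 0) (.leaf 3)) (.leaf 3)) (.node (.leaf 0) (.leaf 3))) (.node (.node (.leaf 3) (.leaf 3)) (.node (.leaf 3) (.leaf 3)))) (.node (.node (.node (.leaf 3) (.leaf 3)) (.node (.leaf 3) (.leaf 3))) (.node (.node (.leaf 3) (.leaf 0)) (.node (.leaf 3)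 (.leaf 3))))) (.node (.node (.node (.node (.node (.leaf 0) (.leaf 3)) (.leaf 3)) (.node (.leaf 0) (.leaf 3))) (.node (.node (.leaf 0) (.leaf 3)) (.node (.leaf 0) (.leaf 3)))) (.node (.node (.node (.leaf 0) (.leaf 3)) (.node (.leaf 0) (.leaf 3))) (.node (.node (.leaf 3) (.leaf 3)) (.node (.leaf 3) (.leaf 3))))))))) (.node (.node (.node (.node (.node (.node (.node (.node (.node (.leaf 0) (.leaf 3)) (.leaf 3)) (.node (.leaf 0) (.leaf 3))) (.node (.node (.leaf 3) (.leaf 3)) (.node (.leaf 0) (.leaf 3)))) (.node (.node (.node (.node (.leaf 3) (.leaf 3)) (.leaf 3)) (.node (.leaf 3) (.leaf 3))) (.node (.node (.leaf 0) (.leaf 3)) (.node (.leaf 0) (.leaf 3))))) (.node (.node (.node (.node (.node (.leaf 3) (.leaf 3)) (.leaf 3)) (.node (.leaf 0) (.leaf 0))) (.node (.node (.leaf 0) (.leaf 3)) (.node (.leaf 0) (.leaf 3)))) (.node (.node (.node (.leaf 0) (.leaf 3)) (.node (.leaf 3) (.leaf 3))) (.node (.node (.leaf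 0) (.leaf 3)) (.node (.leaf 3) (.leaf 3)))))) (.node (.node (.node (.node (.node (.node (.leaf 3) (.leaf 3)) (.leaf 3)) (.node (.leaf 3) (.leaf 3))) (.node (.node (.leaf 0) (.leaf 3)) (.node (.leaf 3) (.leaf 3)))) (.node (.node (.node (.leaf 3) (.leaf 3)) (.node (.leaf 3) (.leaf 3))) (.node (.node (.leaf 3) (.leaf 0)) (.node (.leaf 3) (.leaf 3))))) (.node (.node (.node (.node (.node (.leaf 0) (.leaf 3)) (.leaf 3)) (.node (.leaf 3) (.leaf 3))) (.node (.node (.leaf 0) (.leaf 3)) (.node (.leaf 3) (.leaf 3)))) (.node (.node (.node (.leaf 3) (.leaf 3)) (.node (.leaf 0) (.leaf 3))) (.node (.node (.leaf 3) (.leaf 0)) (.node (.leaf 3) (.leaf 3))))))) (.node (.node (.node (.node (.node (.node (.node (.leaf 0) (.leaf 3)) (.leaf 3)) (.node (.leaf 3) (.leaf 3))) (.node (.node (.leaf 0) (.leaf 3)) (.node (.leaf 0) (.leaf 3)))) (.node (.node (.node (.node (.leaf 0) (.leaf 3)) (.leaf 3)) (.node (.leaf 3) (.leaf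 3))) (.node (.node (.leaf 0) (.leaf 3)) (.node (.leaf 3) (.leaf 3))))) (.node (.node (.node (.node (.node (.leaf 0) (.leaf 3)) (.leaf 3)) (.node (.leaf 3) (.leaf 3))) (.node (.node (.leaf 0) (.leaf 3)) (.node (.leaf 3) (.leaf 3)))) (.node (.node (.node (.leaf 3) (.leaf 3)) (.node (.leaf 3) (.leaf 3))) (.node (.node (.leaf 3) (.leaf 3)) (.node (.leaf 3) (.leaf 3)))))) (.node (.node (.node (.node (.node (.node (.leaf 0) (.leaf 3)) (.leaf 3)) (.node (.leaf 3) (.leaf 3))) (.node (.node (.leaf 0) (.leaf 3)) (.node (.leaf 0) (.leaf 3)))) (.node (.node (.node (.leaf 3) (.leaf 3)) (.node (.leaf 3) (.leaf 3))) (.node (.node (.leaf 0) (.leaf 3)) (.node (.leaf 3) (.leaf 3))))) (.node (.node (.node (.node (.node (.leaf 3) (.leaf 3)) (.leaf 3)) (.node (.leaf 3) (.leaf 3))) (.node (.node (.leaf 0) (.leaf 3)) (.node (.leaf 0) (.leaf 3)))) (.node (.node (.node (.leaf 0) (.leaf 3)) (.node (.leaf 3) (.leaf 3))) (.node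 (.node (.leaf 3) (.leaf 3)) (.node (.leaf 3) (.leaf 3)))))))) (.node (.node (.node (.node (.node (.node (.node (.node (.leaf 0) (.leaf 3)) (.leaf 3)) (.node (.leaf 0) (.leaf 3))) (.node (.node (.leaf 3) (.leaf 3)) (.node (.leaf 3) (.leaf 3)))) (.node (.node (.node (.node (.leaf 0) (.leaf 3)) (.leaf 3)) (.node (.leaf 3) (.leaf 3))) (.node (.node (.leaf 0) (.leaf 3)) (.node (.leaf 0) (.leaf 3))))) (.node (.node (.node (.node (.node (.leaf 0) (.leaf 3)) (.leaf 0)) (.node (.leaf 3) (.leaf 3))) (.node (.node (.leaf 0) (.leaf 3)) (.node (.leaf 0) (.leaf 3)))) (.node (.node (.node (.leaf 3) (.leaf 3)) (.node (.leaf 3) (.leaf 3))) (.node (.node (.leaf 3) (.leaf 3)) (.node (.leaf 3) (.leaf 3)))))) (.node (.node (.node (.node (.node (.node (.leaf 0) (.leaf 3)) (.leaf 3)) (.node (.leaf 3) (.leaf 3))) (.node (.node (.leaf 0) (.leaf 3)) (.node (.leaf 3) (.leaf 3)))) (.node (.node (.node (.leaf 0) (.leaf 3)) (.node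 (.leaf 3) (.leaf 3))) (.node (.node (.leaf 0) (.leaf 3)) (.node (.leaf 3) (.leaf 3))))) (.node (.node (.node (.node (.node (.leaf 3) (.leaf 3)) (.leaf 3)) (.node (.leaf 3) (.leaf 3))) (.node (.node (.leaf 3) (.leaf 3)) (.node (.leaf 3) (.leaf 3)))) (.node (.node (.node (.leaf 3) (.leaf 3)) (.node (.leaf 0) (.leaf 3))) (.node (.node (.leaf 0) (.leaf 3)) (.node (.leaf 0) (.leaf 3))))))) (.node (.node (.node (.node (.node (.node (.node (.leaf 0) (.leaf 3)) (.leaf 3)) (.node (.leaf 3) (.leaf 3))) (.node (.node (.leaf 0) (.leaf 3)) (.node (.leaf 0) (.leaf 3)))) (.node (.node (.node (.leaf 3) (.leaf 3)) (.node (.leaf 3) (.leaf 3))) (.node (.node (.leaf 0) (.leaf 3)) (.node (.leaf 3) (.leaf 3))))) (.node (.node (.node (.node (.node (.leaf 0) (.leaf 3)) (.leaf 3)) (.node (.leaf 3) (.leaf 3))) (.node (.node (.leaf 0) (.leaf 3)) (.node (.leaf 3) (.leaf 3)))) (.node (.node (.node (.leaf 0) (.leaf 3)) (.node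 (.leaf 3) (.leaf 3))) (.node (.node (.leaf 3) (.leaf 3)) (.node (.leaf 3) (.leaf 3)))))) (.node (.node (.node (.node (.node (.node (.leaf 0) (.leaf 3)) (.leaf 3)) (.node (.leaf 3) (.leaf 3))) (.node (.node (.leaf 3) (.leaf 3)) (.node (.leaf 0) (.leaf 3)))) (.node (.node (.node (.leaf 0) (.leaf 3)) (.node (.leaf 3) (.leaf 3))) (.node (.node (.leaf 0) (.leaf 0)) (.node (.leaf 3) (.leaf 3))))) (.node (.node (.node (.node (.node (.leaf 0) (.leaf 3)) (.leaf 3)) (.node (.leaf 3) (.leaf 3))) (.node (.node (.leaf 0) (.leaf 0)) (.node (.leaf 0) (.leaf 3)))) (.node (.node (.node (.leaf 3) (.leaf 3)) (.node (.leaf 3) (.leaf 3))) (.node (.node (.leaf 3) (.leaf 0)) (.node (.leaf 3) (.leaf 3)))))))))))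

def threeKind5 : Janko.Tree (ℕ) :=
  (.node (.node (.node (.node (.node (.node (.node (.node (.node (.node (.node (.leaf 0) (.leaf 3)) (.leaf 3)) (.node (.leaf 3) (.leaf 3))) (.node (.node (.leaf 0) (.leaf 3)) (.node (.leaf 0) (.leaf 3)))) (.node (.node (.node (.node (.leaf 0) (.leaf 3)) (.leaf 3)) (.node (.leaf 3) (.leaf 3))) (.node (.node (.leaf 3) (.leaf 0)) (.node (.leaf 3) (.leaf 3))))) (.node (.node (.node (.node (.node (.leaf 0) (.leaf 3)) (.leaf 3)) (.node (.leaf 0) (.leaf 3))) (.node (.node (.leaf 3) (.leaf 3)) (.node (.leaf 3) (.leaf 3)))) (.node (.node (.node (.leaf 0) (.leaf 3)) (.node (.leaf 3) (.leaf 3))) (.node (.node (.leaf 0) (.leaf 0)) (.node (.leaf 3) (.leaf 3)))))) (.node (.node (.node (.node (.node (.node (.leaf 0) (.leaf 3)) (.leaf 3)) (.node (.leaf 0) (.leaf 3))) (.node (.node (.leaf 3) (.leaf 3)) (.node (.leaf 0) (.leaf 3)))) (.node (.node (.node (.leaf 3) (.leaf 0)) (.node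 (.leaf 3) (.leaf 3))) (.node (.node (.leaf 3) (.leaf 0)) (.node (.leaf 3) (.leaf 3))))) (.node (.node (.node (.node (.node (.leaf 0) (.leaf 3)) (.leaf 3)) (.node (.leaf 3) (.leaf 3))) (.node (.node (.leaf 0) (.leaf 3)) (.node (.leaf 0) (.leaf 3)))) (.node (.node (.node (.leaf 0) (.leaf 3)) (.node (.leaf 3) (.leaf 3))) (.node (.node (.leaf 0) (.leaf 0)) (.node (.leaf 0) (.leaf 3))))))) (.node (.node (.node (.node (.node (.node (.node (.leaf 0) (.leaf 3)) (.leaf 3)) (.node (.leaf 3) (.leaf 3))) (.node (.node (.leaf 0) (.leaf 3)) (.node (.leaf 0) (.leaf 3)))) (.node (.node (.node (.node (.leaf 0) (.leaf 2)) (.leaf 3)) (.node (.leaf 3) (.leaf 3))) (.node (.node (.leaf 3) (.leaf 0)) (.node (.leaf 3) (.leaf 3))))) (.node (.node (.node (.node (.node (.leaf 0) (.leaf 3)) (.leaf 3)) (.node (.leaf 3) (.leaf 3))) (.node (.node (.leaf 0) (.leaf 3)) (.node (.leaf 3) (.leaf 3)))) (.node (.node (.node (.leaf 3)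 (.leaf 3)) (.node (.leaf 3) (.leaf 3))) (.node (.node (.leaf 0) (.leaf 3)) (.node (.leaf 3) (.leaf 3)))))) (.node (.node (.node (.node (.node (.node (.leaf 0) (.leaf 3)) (.leaf 3)) (.node (.leaf 0) (.leaf 3))) (.node (.node (.leaf 3) (.leaf 3)) (.node (.leaf 0) (.leaf 3)))) (.node (.node (.node (.leaf 0) (.leaf 3)) (.node (.leaf 3) (.leaf 3))) (.node (.node (.leaf 3) (.leaf 0)) (.node (.leaf 3) (.leaf 3))))) (.node (.node (.node (.node (.node (.leaf 0) (.leaf 3)) (.leaf 3)) (.node (.leaf 0) (.leaf 3))) (.node (.node (.leaf 3) (.leaf 3)) (.node (.leaf 0) (.leaf 3)))) (.node (.node (.node (.leaf 3) (.leaf 3)) (.node (.leaf 3) (.leaf 3))) (.node (.node (.leaf 3) (.leaf 0)) (.node (.leaf 3) (.leaf 3)))))))) (.node (.node (.node (.node (.node (.node (.node (.node (.leaf 0) (.leaf 3)) (.leaf 3)) (.node (.leaf 3) (.leaf 3))) (.node (.node (.leaf 3) (.leaf 3)) (.node (.leaf 3) (.leaf 3)))) (.node (.node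 (.node (.node (.leaf 0) (.leaf 3)) (.leaf 3)) (.node (.leaf 3) (.leaf 3))) (.node (.node (.leaf 3) (.leaf 3)) (.node (.leaf 0) (.leaf 3))))) (.node (.node (.node (.node (.node (.leaf 0) (.leaf 3)) (.leaf 3)) (.node (.leaf 3) (.leaf 3))) (.node (.node (.leaf 0) (.leaf 3)) (.node (.leaf 3) (.leaf 3)))) (.node (.node (.node (.leaf 3) (.leaf 3)) (.node (.leaf 0) (.leaf 3))) (.node (.node (.leaf 3) (.leaf 3)) (.node (.leaf 3) (.leaf 3)))))) (.node (.node (.node (.node (.node (.node (.leaf 0) (.leaf 3)) (.leaf 3)) (.node (.leaf 3) (.leaf 3))) (.node (.node (.leaf 0) (.leaf 3)) (.node (.leaf 0) (.leaf 3)))) (.node (.node (.node (.leaf 0) (.leaf 3)) (.node (.leaf 3) (.leaf 3))) (.node (.node (.leaf 0) (.leaf 3)) (.node (.leaf 3) (.leaf 3))))) (.node (.node (.node (.node (.node (.leaf 0) (.leaf 3)) (.leaf 3)) (.node (.leaf 3) (.leaf 3))) (.node (.node (.leaf 0) (.leaf 3)) (.node (.leaf 3) (.leaf 3)))) (.node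 (.node (.node (.leaf 3) (.leaf 3)) (.node (.leaf 3) (.leaf 3))) (.node (.node (.leaf 3) (.leaf 0)) (.node (.leaf 3) (.leaf 3))))))) (.node (.node (.node (.node (.node (.node (.node (.leaf 3) (.leaf 3)) (.leaf 3)) (.node (.leaf 0) (.leaf 3))) (.node (.node (.leaf 0) (.leaf 3)) (.node (.leaf 3) (.leaf 3)))) (.node (.node (.node (.node (.leaf 0) (.leaf 3)) (.leaf 3)) (.node (.leaf 3) (.leaf 3))) (.node (.node (.leaf 0) (.leaf 3)) (.node (.leaf 3) (.leaf 3))))) (.node (.node (.node (.node (.node (.leaf 0) (.leaf 3)) (.leaf 3)) (.node (.leaf 3) (.leaf 3))) (.node (.node (.leaf 3) (.leaf 3)) (.node (.leaf 0) (.leaf 3)))) (.node (.node (.node (.leaf 0) (.leaf 3)) (.node (.leaf 3) (.leaf 3))) (.node (.node (.leaf 0) (.leaf 3)) (.node (.leaf 3) (.leaf 3)))))) (.node (.node (.node (.node (.node (.node (.leaf 0) (.leaf 3)) (.leaf 3)) (.node (.leaf 3) (.leaf 3))) (.node (.node (.leaf 0) (.leaf 3)) (.node (.leaf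 0) (.leaf 3)))) (.node (.node (.node (.leaf 3) (.leaf 3)) (.node (.leaf 3) (.leaf 3))) (.node (.node (.leaf 3) (.leaf 3)) (.node (.leaf 3) (.leaf 3))))) (.node (.node (.node (.node (.node (.leaf 0) (.leaf 3)) (.leaf 3)) (.node (.leaf 3) (.leaf 3))) (.node (.node (.leaf 0) (.leaf 3)) (.node (.leaf 0) (.leaf 3)))) (.node (.node (.node (.leaf 3) (.leaf 3)) (.node (.leaf 3) (.leaf 3))) (.node (.node (.leaf 3) (.leaf 3)) (.node (.leaf 0) (.leaf 3))))))))) (.node (.node (.node (.node (.node (.node (.node (.node (.node (.leaf 0) (.leaf 3)) (.leaf 3)) (.node (.leaf 3) (.leaf 3))) (.node (.node (.leaf 3) (.leaf 3)) (.node (.leaf 0) (.leaf 3)))) (.node (.node (.node (.node (.leaf 0) (.leaf 3)) (.leaf 3)) (.node (.leaf 3) (.leaf 3))) (.node (.node (.leaf 3) (.leaf 3)) (.node (.leaf 3) (.leaf 3))))) (.node (.node (.node (.node (.node (.leaf 3) (.leaf 3)) (.leaf 3)) (.node (.leaf 3) (.leaf 3))) (.node (.node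 (.leaf 0) (.leaf 3)) (.node (.leaf 3) (.leaf 3)))) (.node (.node (.node (.leaf 0) (.leaf 3)) (.node (.leaf 3) (.leaf 3))) (.node (.node (.leaf 0) (.leaf 3)) (.node (.leaf 3) (.leaf 3)))))) (.node (.node (.node (.node (.node (.node (.leaf 0) (.leaf 3)) (.leaf 3)) (.node (.leaf 3) (.leaf 3))) (.node (.node (.leaf 0) (.leaf 3)) (.node (.leaf 0) (.leaf 3)))) (.node (.node (.node (.leaf 3) (.leaf 3)) (.node (.leaf 0) (.leaf 3))) (.node (.node (.leaf 3) (.leaf 3)) (.node (.leaf 0) (.leaf 3))))) (.node (.node (.node (.node (.node (.leaf 0) (.leaf 3)) (.leaf 3)) (.node (.leaf 3) (.leaf 3))) (.node (.node (.leaf 0) (.leaf 3)) (.node (.leaf 0) (.leaf 3)))) (.node (.node (.node (.leaf 0) (.leaf 3)) (.node (.leaf 3) (.leaf 3))) (.node (.node (.leaf 3) (.leaf 0)) (.node (.leaf 3) (.leaf 3))))))) (.node (.node (.node (.node (.node (.node (.node (.leaf 0) (.leaf 3)) (.leaf 3)) (.node (.leaf 3) (.leaf 0))) (.node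 (.node (.leaf 0) (.leaf 3)) (.node (.leaf 0) (.leaf 3)))) (.node (.node (.node (.node (.leaf 0) (.leaf 3)) (.leaf 3)) (.node (.leaf 3) (.leaf 3))) (.node (.node (.leaf 0) (.leaf 0)) (.node (.leaf 3) (.leaf 3))))) (.node (.node (.node (.node (.node (.leaf 0) (.leaf 3)) (.leaf 3)) (.node (.leaf 3) (.leaf 3))) (.node (.node (.leaf 3) (.leaf 3)) (.node (.leaf 3) (.leaf 3)))) (.node (.node (.node (.leaf 3) (.leaf 3)) (.node (.leaf 3) (.leaf 3))) (.node (.node (.leaf 3) (.leaf 3)) (.node (.leaf 0) (.leaf 0)))))) (.node (.node (.node (.node (.node (.node (.leaf 0) (.leaf 3)) (.leaf 3)) (.node (.leaf 3) (.leaf 0))) (.node (.node (.leaf 0) (.leaf 3)) (.node (.leaf 0) (.leaf 3)))) (.node (.node (.node (.leaf 0) (.leaf 0)) (.node (.leaf 0) (.leaf 0))) (.node (.node (.leaf 0) (.leaf 3)) (.node (.leaf 3) (.leaf 3))))) (.node (.node (.node (.node (.node (.leaf 0) (.leaf 3)) (.leaf 3)) (.node (.leaf 3) (.leaf 3)))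 (.node (.node (.leaf 0) (.leaf 3)) (.node (.leaf 0) (.leaf 3)))) (.node (.node (.node (.leaf 0) (.leaf 3)) (.node (.leaf 0) (.leaf 3))) (.node (.node (.leaf 3) (.leaf 0)) (.node (.leaf 3) (.leaf 3)))))))) (.node (.node (.node (.node (.node (.node (.node (.node (.leaf 0) (.leaf 3)) (.leaf 3)) (.node (.leaf 0) (.leaf 3))) (.node (.node (.leaf 0) (.leaf 3)) (.node (.leaf 3) (.leaf 3)))) (.node (.node (.node (.node (.leaf 3) (.leaf 3)) (.leaf 3)) (.node (.leaf 3) (.leaf 3))) (.node (.node (.leaf 0) (.leaf 0)) (.node (.leaf 3) (.leaf 3))))) (.node (.node (.node (.node (.node (.leaf 0) (.leaf 3)) (.leaf 3)) (.node (.leaf 3) (.leaf 0))) (.node (.node (.leaf 0) (.leaf 3)) (.node (.leaf 3) (.leaf 3)))) (.node (.node (.node (.leaf 3) (.leaf 3)) (.node (.leaf 3) (.leaf 3))) (.node (.node (.leaf 3) (.leaf 3)) (.node (.leaf 0) (.leaf 3)))))) (.node (.node (.node (.node (.node (.node (.leaf 0) (.leaf 3)) (.leaf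 3)) (.node (.leaf 0) (.leaf 3))) (.node (.node (.leaf 0) (.leaf 3)) (.node (.leaf 0) (.leaf 3)))) (.node (.node (.node (.leaf 0) (.leaf 3)) (.node (.leaf 3) (.leaf 0))) (.node (.node (.leaf 3) (.leaf 0)) (.node (.leaf 0) (.leaf 3))))) (.node (.node (.node (.node (.node (.leaf 3) (.leaf 3)) (.leaf 0)) (.node (.leaf 3) (.leaf 3))) (.node (.node (.leaf 3) (.leaf 3)) (.node (.leaf 3) (.leaf 3)))) (.node (.node (.node (.leaf 3) (.leaf 3)) (.node (.leaf 3) (.leaf 3))) (.node (.node (.leaf 0) (.leaf 0)) (.node (.leaf 0) (.leaf 3))))))) (.node (.node (.node (.node (.node (.node (.node (.leaf 0) (.leaf 3)) (.leaf 3)) (.node (.leaf 0) (.leaf 0))) (.node (.node (.leaf 0) (.leaf 3)) (.node (.leaf 0) (.leaf 3)))) (.node (.node (.node (.leaf 0) (.leaf 3)) (.node (.leaf 3) (.leaf 0))) (.node (.node (.leaf 3) (.leaf 3)) (.node (.leaf 3) (.leaf 3))))) (.node (.node (.node (.node (.node (.leaf 0) (.leaf 3)) (.leaf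 3)) (.node (.leaf 3) (.leaf 3))) (.node (.node (.leaf 0) (.leaf 3)) (.node (.leaf 0) (.leaf 3)))) (.node (.node (.node (.leaf 3) (.leaf 3)) (.node (.leaf 3) (.leaf 3))) (.node (.node (.leaf 0) (.leaf 3)) (.node (.leaf 0) (.leaf 3)))))) (.node (.node (.node (.node (.node (.node (.leaf 3) (.leaf 3)) (.leaf 3)) (.node (.leaf 0) (.leaf 3))) (.node (.node (.leaf 0) (.leaf 3)) (.node (.leaf 3) (.leaf 3)))) (.node (.node (.node (.leaf 3) (.leaf 3)) (.node (.leaf 3) (.leaf 3))) (.node (.node (.leaf 3) (.leaf 3)) (.node (.leaf 3) (.leaf 3))))) (.node (.node (.node (.node (.node (.leaf 3) (.leaf 3)) (.leaf 3)) (.node (.leaf 3) (.leaf 3))) (.node (.node (.leaf 3) (.leaf 0)) (.node (.leaf 3) (.leaf 3)))) (.node (.node (.node (.leaf 3) (.leaf 3)) (.node (.leaf 0) (.leaf 3))) (.node (.node (.leaf 3) (.leaf 3)) (.node (.leaf 3) (.leaf 3)))))))))) (.node (.node (.node (.node (.node (.node (.node (.node (.node (.node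 (.leaf 0) (.leaf 3)) (.leaf 3)) (.node (.leaf 3) (.leaf 3))) (.node (.node (.leaf 3) (.leaf 3)) (.node (.leaf 3) (.leaf 3)))) (.node (.node (.node (.node (.leaf 0) (.leaf 3)) (.leaf 3)) (.node (.leaf 3) (.leaf 0))) (.node (.node (.leaf 0) (.leaf 3)) (.node (.leaf 0) (.leaf 3))))) (.node (.node (.node (.node (.node (.leaf 0) (.leaf 3)) (.leaf 3)) (.node (.leaf 3) (.leaf 3))) (.node (.node (.leaf 0) (.leaf 3)) (.node (.leaf 0) (.leaf 3)))) (.node (.node (.node (.leaf 0) (.leaf 3)) (.node (.leaf 3) (.leaf 3))) (.node (.node (.leaf 0) (.leaf 3)) (.node (.leaf 0) (.leaf 3)))))) (.node (.node (.node (.node (.node (.node (.leaf 0) (.leaf 3)) (.leaf 3)) (.node (.leaf 3) (.leaf 3))) (.node (.node (.leaf 0) (.leaf 3)) (.node (.leaf 3) (.leaf 3)))) (.node (.node (.node (.leaf 0) (.leaf 3)) (.node (.leaf 3) (.leaf 3))) (.node (.node (.leaf 3) (.leaf 3)) (.node (.leaf 3) (.leaf 0))))) (.node (.node (.node (.node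 (.node (.leaf 0) (.leaf 3)) (.leaf 3)) (.node (.leaf 0) (.leaf 3))) (.node (.node (.leaf 0) (.leaf 3)) (.node (.leaf 3) (.leaf 3)))) (.node (.node (.node (.leaf 3) (.leaf 3)) (.node (.leaf 0) (.leaf 3))) (.node (.node (.leaf 3) (.leaf 3)) (.node (.leaf 3) (.leaf 3))))))) (.node (.node (.node (.node (.node (.node (.node (.leaf 0) (.leaf 3)) (.leaf 3)) (.node (.leaf 3) (.leaf 3))) (.node (.node (.leaf 0) (.leaf 3)) (.node (.leaf 0) (.leaf 3)))) (.node (.node (.node (.node (.leaf 0) (.leaf 3)) (.leaf 3)) (.node (.leaf 0) (.leaf 3))) (.node (.node (.leaf 0) (.leaf 0)) (.node (.leaf 0) (.leaf 3))))) (.node (.node (.node (.node (.node (.leaf 0) (.leaf 3)) (.leaf 3)) (.node (.leaf 3) (.leaf 3))) (.node (.node (.leaf 0) (.leaf 3)) (.node (.leaf 0) (.leaf 3)))) (.node (.node (.node (.leaf 0) (.leaf 3)) (.node (.leaf 3) (.leaf 3))) (.node (.node (.leaf 0) (.leaf 0)) (.node (.leaf 3) (.leaf 3)))))) (.node (.node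 (.node (.node (.node (.node (.leaf 0) (.leaf 3)) (.leaf 3)) (.node (.leaf 0) (.leaf 3))) (.node (.node (.leaf 0) (.leaf 3)) (.node (.leaf 3) (.leaf 3)))) (.node (.node (.node (.leaf 0) (.leaf 3)) (.node (.leaf 3) (.leaf 3))) (.node (.node (.leaf 0) (.leaf 3)) (.node (.leaf 3) (.leaf 3))))) (.node (.node (.node (.node (.node (.leaf 0) (.leaf 3)) (.leaf 3)) (.node (.leaf 3) (.leaf 3))) (.node (.node (.leaf 0) (.leaf 3)) (.node (.leaf 0) (.leaf 3)))) (.node (.node (.node (.leaf 0) (.leaf 3)) (.node (.leaf 0) (.leaf 3))) (.node (.node (.leaf 0) (.leaf 3)) (.node (.leaf 0) (.leaf 3)))))))) (.node (.node (.node (.node (.node (.node (.node (.node (.leaf 0) (.leaf 3)) (.leaf 3)) (.node (.leaf 3) (.leaf 3))) (.node (.node (.leaf 0) (.leaf 3)) (.node (.leaf 0) (.leaf 3)))) (.node (.node (.node (.node (.leaf 0) (.leaf 2)) (.leaf 3)) (.node (.leaf 3) (.leaf 3))) (.node (.node (.leaf 0) (.leaf 0)) (.node (.leaf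 0) (.leaf 3))))) (.node (.node (.node (.node (.node (.leaf 3) (.leaf 3)) (.leaf 3)) (.node (.leaf 3) (.leaf 3))) (.node (.node (.leaf 3) (.leaf 3)) (.node (.leaf 0) (.leaf 3)))) (.node (.node (.node (.leaf 3) (.leaf 3)) (.node (.leaf 3) (.leaf 3))) (.node (.node (.leaf 3) (.leaf 3)) (.node (.leaf 3) (.leaf 3)))))) (.node (.node (.node (.node (.node (.node (.leaf 0) (.leaf 3)) (.leaf 3)) (.node (.leaf 0) (.leaf 0))) (.node (.node (.leaf 0) (.leaf 3)) (.node (.leaf 0) (.leaf 3)))) (.node (.node (.node (.leaf 3) (.leaf 3)) (.node (.leaf 3) (.leaf 0))) (.node (.node (.leaf 0) (.leaf 3)) (.node (.leaf 3) (.leaf 3))))) (.node (.node (.node (.node (.node (.leaf 0) (.leaf 3)) (.leaf 3)) (.node (.leaf 3) (.leaf 3))) (.node (.node (.leaf 3) (.leaf 3)) (.node (.leaf 0) (.leaf 3)))) (.node (.node (.node (.leaf 0) (.leaf 3)) (.node (.leaf 3) (.leaf 3))) (.node (.node (.leaf 3) (.leaf 0)) (.node (.leaf 3) (.leaf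 3))))))) (.node (.node (.node (.node (.node (.node (.node (.leaf 0) (.leaf 3)) (.leaf 3)) (.node (.leaf 3) (.leaf 3))) (.node (.node (.leaf 0) (.leaf 3)) (.node (.leaf 3) (.leaf 3)))) (.node (.node (.node (.leaf 0) (.leaf 3)) (.node (.leaf 3) (.leaf 3))) (.node (.node (.leaf 3) (.leaf 0)) (.node (.leaf 3) (.leaf 3))))) (.node (.node (.node (.node (.node (.leaf 3) (.leaf 3)) (.leaf 3)) (.node (.leaf 0) (.leaf 3))) (.node (.node (.leaf 3) (.leaf 3)) (.node (.leaf 3) (.leaf 3)))) (.node (.node (.node (.leaf 3) (.leaf 3)) (.node (.leaf 3) (.leaf 3))) (.node (.node (.leaf 0) (.leaf 0)) (.node (.leaf 3) (.leaf 3)))))) (.node (.node (.node (.node (.node (.node (.leaf 0) (.leaf 3)) (.leaf 3)) (.node (.leaf 0) (.leaf 3))) (.node (.node (.leaf 0) (.leaf 3)) (.node (.leaf 0) (.leaf 3)))) (.node (.node (.node (.leaf 3) (.leaf 3)) (.node (.leaf 3) (.leaf 3))) (.node (.node (.leaf 0) (.leaf 3)) (.node (.leaf 0)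 (.leaf 3))))) (.node (.node (.node (.node (.node (.leaf 0) (.leaf 3)) (.leaf 3)) (.node (.leaf 0) (.leaf 3))) (.node (.node (.leaf 3) (.leaf 3)) (.node (.leaf 3) (.leaf 3)))) (.node (.node (.node (.leaf 0) (.leaf 3)) (.node (.leaf 3) (.leaf 3))) (.node (.node (.leaf 3) (.leaf 0)) (.node (.leaf 3) (.leaf 3))))))))) (.node (.node (.node (.node (.node (.node (.node (.node (.node (.leaf 0) (.leaf 3)) (.leaf 3)) (.node (.leaf 0) (.leaf 3))) (.node (.node (.leaf 0) (.leaf 3)) (.node (.leaf 0) (.leaf 3)))) (.node (.node (.node (.node (.leaf 0) (.leaf 3)) (.leaf 3)) (.node (.leaf 3) (.leaf 3))) (.node (.node (.leaf 0) (.leaf 3)) (.node (.leaf 0) (.leaf 3))))) (.node (.node (.node (.node (.node (.leaf 0) (.leaf 3)) (.leaf 3)) (.node (.leaf 3) (.leaf 3))) (.node (.node (.leaf 0) (.leaf 3)) (.node (.leaf 0) (.leaf 3)))) (.node (.node (.node (.leaf 3) (.leaf 3)) (.node (.leaf 3) (.leaf 3))) (.node (.node (.leaf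 0) (.leaf 0)) (.node (.leaf 0) (.leaf 3)))))) (.node (.node (.node (.node (.node (.node (.leaf 0) (.leaf 3)) (.leaf 3)) (.node (.leaf 0) (.leaf 3))) (.node (.node (.leaf 0) (.leaf 3)) (.node (.leaf 0) (.leaf 3)))) (.node (.node (.node (.leaf 3) (.leaf 3)) (.node (.leaf 3) (.leaf 3))) (.node (.node (.leaf 0) (.leaf 0)) (.node (.leaf 0) (.leaf 3))))) (.node (.node (.node (.node (.node (.leaf 0) (.leaf 3)) (.leaf 3)) (.node (.leaf 3) (.leaf 3))) (.node (.node (.leaf 0) (.leaf 3)) (.node (.leaf 3) (.leaf 3)))) (.node (.node (.node (.leaf 3) (.leaf 0)) (.node (.leaf 3) (.leaf 3))) (.node (.node (.leaf 0) (.leaf 0)) (.node (.leaf 0) (.leaf 3))))))) (.node (.node (.node (.node (.node (.node (.node (.leaf 0) (.leaf 3)) (.leaf 3)) (.node (.leaf 3) (.leaf 3))) (.node (.node (.leaf 0) (.leaf 3)) (.node (.leaf 0) (.leaf 3)))) (.node (.node (.node (.node (.leaf 3) (.leaf 3)) (.leaf 3)) (.node (.leaf 3) (.leaf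 3))) (.node (.node (.leaf 3) (.leaf 0)) (.node (.leaf 3) (.leaf 3))))) (.node (.node (.node (.node (.node (.leaf 0) (.leaf 3)) (.leaf 3)) (.node (.leaf 3) (.leaf 3))) (.node (.node (.leaf 0) (.leaf 3)) (.node (.leaf 0) (.leaf 3)))) (.node (.node (.node (.leaf 0) (.leaf 3)) (.node (.leaf 3) (.leaf 3))) (.node (.node (.leaf 0) (.leaf 0)) (.node (.leaf 0) (.leaf 3)))))) (.node (.node (.node (.node (.node (.node (.leaf 0) (.leaf 3)) (.leaf 3)) (.node (.leaf 0) (.leaf 3))) (.node (.node (.leaf 0) (.leaf 3)) (.node (.leaf 3) (.leaf 3)))) (.node (.node (.node (.leaf 3) (.leaf 3)) (.node (.leaf 3) (.leaf 3))) (.node (.node (.leaf 3) (.leaf 3)) (.node (.leaf 3) (.leaf 3))))) (.node (.node (.node (.node (.node (.leaf 0) (.leaf 3)) (.leaf 3)) (.node (.leaf 3) (.leaf 3))) (.node (.node (.leaf 0) (.leaf 3)) (.node (.leaf 3) (.leaf 3)))) (.node (.node (.node (.leaf 0) (.leaf 3)) (.node (.leaf 0) (.leaf 3))) (.node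 (.node (.leaf 0) (.leaf 0)) (.node (.leaf 0) (.leaf 3)))))))) (.node (.node (.node (.node (.node (.node (.node (.node (.leaf 0) (.leaf 3)) (.leaf 3)) (.node (.leaf 3) (.leaf 3))) (.node (.node (.leaf 3) (.leaf 3)) (.node (.leaf 3) (.leaf 3)))) (.node (.node (.node (.node (.leaf 0) (.leaf 3)) (.leaf 3)) (.node (.leaf 3) (.leaf 3))) (.node (.node (.leaf 3) (.leaf 3)) (.node (.leaf 0) (.leaf 3))))) (.node (.node (.node (.node (.node (.leaf 0) (.leaf 3)) (.leaf 3)) (.node (.leaf 3) (.leaf 3))) (.node (.node (.leaf 0) (.leaf 3)) (.node (.leaf 3) (.leaf 3)))) (.node (.node (.node (.leaf 0) (.leaf 3)) (.node (.leaf 3) (.leaf 3))) (.node (.node (.leaf 3) (.leaf 3)) (.node (.leaf 0) (.leaf 3)))))) (.node (.node (.node (.node (.node (.node (.leaf 0) (.leaf 3)) (.leaf 3)) (.node (.leaf 0) (.leaf 3))) (.node (.node (.leaf 0) (.leaf 3)) (.node (.leaf 3) (.leaf 3)))) (.node (.node (.node (.leaf 0) (.leaf 3)) (.node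 (.leaf 3) (.leaf 3))) (.node (.node (.leaf 0) (.leaf 3)) (.node (.leaf 0) (.leaf 3))))) (.node (.node (.node (.node (.node (.leaf 0) (.leaf 3)) (.leaf 3)) (.node (.leaf 3) (.leaf 0))) (.node (.node (.leaf 3) (.leaf 3)) (.node (.leaf 3) (.leaf 3)))) (.node (.node (.node (.leaf 3) (.leaf 3)) (.node (.leaf 3) (.leaf 3))) (.node (.node (.leaf 3) (.leaf 3)) (.node (.leaf 0) (.leaf 3))))))) (.node (.node (.node (.node (.node (.node (.node (.leaf 0) (.leaf 3)) (.leaf 3)) (.node (.leaf 3) (.leaf 3))) (.node (.node (.leaf 0) (.leaf 3)) (.node (.leaf 0) (.leaf 3)))) (.node (.node (.node (.leaf 0) (.leaf 3)) (.node (.leaf 3) (.leaf 3))) (.node (.node (.leaf 0) (.leaf 3)) (.node (.leaf 3) (.leaf 3))))) (.node (.node (.node (.node (.node (.leaf 0) (.leaf 3)) (.leaf 3)) (.node (.leaf 3) (.leaf 0))) (.node (.node (.leaf 3) (.leaf 3)) (.node (.leaf 0) (.leaf 3)))) (.node (.node (.node (.leaf 0) (.leaf 3)) (.node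 (.leaf 3) (.leaf 3))) (.node (.node (.leaf 3) (.leaf 3)) (.node (.leaf 0) (.leaf 3)))))) (.node (.node (.node (.node (.node (.node (.leaf 0) (.leaf 3)) (.leaf 3)) (.node (.leaf 3) (.leaf 3))) (.node (.node (.leaf 0) (.leaf 3)) (.node (.leaf 3) (.leaf 3)))) (.node (.node (.node (.leaf 0) (.leaf 3)) (.node (.leaf 3) (.leaf 3))) (.node (.node (.leaf 0) (.leaf 3)) (.node (.leaf 3) (.leaf 3))))) (.node (.node (.node (.node (.node (.leaf 0) (.leaf 3)) (.leaf 0)) (.node (.leaf 3) (.leaf 3))) (.node (.node (.leaf 3) (.leaf 0)) (.node (.leaf 0) (.leaf 3)))) (.node (.node (.node (.leaf 0) (.leaf 3)) (.node (.leaf 0) (.leaf 3))) (.node (.node (.leaf 3) (.leaf 3)) (.node (.leaf 3) (.leaf 3)))))))))))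

def threeKind6 : Janko.Tree (ℕ) :=
  (.node (.node (.node (.node (.node (.node (.node (.node (.node (.node (.node (.leaf 0) (.leaf 3)) (.leaf 3)) (.node (.leaf 3) (.leaf 0))) (.node (.node (.leaf 3) (.leaf 3)) (.node (.leaf 0) (.leaf 3)))) (.node (.node (.node (.node (.leaf 3) (.leaf 3)) (.leaf 3)) (.node (.leaf 3) (.leaf 3))) (.node (.node (.leaf 0) (.leaf 3)) (.node (.leaf 3) (.leaf 3))))) (.node (.node (.node (.node (.node (.leaf 0) (.leaf 3)) (.leaf 3)) (.node (.leaf 3) (.leaf 3))) (.node (.node (.leaf 3) (.leaf 3)) (.node (.leaf 0) (.leaf 3)))) (.node (.node (.node (.leaf 0) (.leaf 3)) (.node (.leaf 3) (.leaf 3))) (.node (.node (.leaf 3) (.leaf 3)) (.node (.leaf 0) (.leaf 3)))))) (.node (.node (.node (.node (.node (.node (.leaf 0) (.leaf 3)) (.leaf 0)) (.node (.leaf 3) (.leaf 3))) (.node (.node (.leaf 0) (.leaf 3)) (.node (.leaf 0) (.leaf 3)))) (.node (.node (.node (.leaf 0) (.leaf 3)) (.node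 (.leaf 3) (.leaf 3))) (.node (.node (.leaf 3) (.leaf 3)) (.node (.leaf 0) (.leaf 3))))) (.node (.node (.node (.node (.node (.leaf 0) (.leaf 3)) (.leaf 3)) (.node (.leaf 3) (.leaf 3))) (.node (.node (.leaf 3) (.leaf 3)) (.node (.leaf 3) (.leaf 3)))) (.node (.node (.node (.leaf 0) (.leaf 3)) (.node (.leaf 3) (.leaf 3))) (.node (.node (.leaf 0) (.leaf 0)) (.node (.leaf 0) (.leaf 3))))))) (.node (.node (.node (.node (.node (.node (.node (.leaf 0) (.leaf 3)) (.leaf 3)) (.node (.leaf 3) (.leaf 0))) (.node (.node (.leaf 0) (.leaf 3)) (.node (.leaf 0) (.leaf 3)))) (.node (.node (.node (.node (.leaf 3) (.leaf 2)) (.leaf 3)) (.node (.leaf 3) (.leaf 3))) (.node (.node (.leaf 3) (.leaf 3)) (.node (.leaf 0) (.leaf 3))))) (.node (.node (.node (.node (.node (.leaf 0) (.leaf 3)) (.leaf 3)) (.node (.leaf 3) (.leaf 3))) (.node (.node (.leaf 3) (.leaf 3)) (.node (.leaf 3) (.leaf 3)))) (.node (.node (.node (.leaf 0)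 (.leaf 3)) (.node (.leaf 3) (.leaf 3))) (.node (.node (.leaf 3) (.leaf 3)) (.node (.leaf 3) (.leaf 0)))))) (.node (.node (.node (.node (.node (.node (.leaf 0) (.leaf 3)) (.leaf 0)) (.node (.leaf 0) (.leaf 3))) (.node (.node (.leaf 0) (.leaf 3)) (.node (.leaf 0) (.leaf 3)))) (.node (.node (.node (.leaf 3) (.leaf 3)) (.node (.leaf 3) (.leaf 3))) (.node (.node (.leaf 3) (.leaf 3)) (.node (.leaf 3) (.leaf 3))))) (.node (.node (.node (.node (.node (.leaf 0) (.leaf 3)) (.leaf 3)) (.node (.leaf 3) (.leaf 3))) (.node (.node (.leaf 3) (.leaf 3)) (.node (.leaf 3) (.leaf 3)))) (.node (.node (.node (.leaf 3) (.leaf 3)) (.node (.leaf 3) (.leaf 3))) (.node (.node (.leaf 3) (.leaf 3)) (.node (.leaf 0) (.leaf 3)))))))) (.node (.node (.node (.node (.node (.node (.node (.node (.leaf 3) (.leaf 3)) (.leaf 0)) (.node (.leaf 3) (.leaf 0))) (.node (.node (.leaf 3) (.leaf 3)) (.node (.leaf 3) (.leaf 3)))) (.node (.node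 (.node (.node (.leaf 0) (.leaf 3)) (.leaf 3)) (.node (.leaf 3) (.leaf 3))) (.node (.node (.leaf 3) (.leaf 3)) (.node (.leaf 3) (.leaf 3))))) (.node (.node (.node (.node (.node (.leaf 0) (.leaf 3)) (.leaf 3)) (.node (.leaf 3) (.leaf 3))) (.node (.node (.leaf 0) (.leaf 3)) (.node (.leaf 0) (.leaf 3)))) (.node (.node (.node (.leaf 3) (.leaf 3)) (.node (.leaf 3) (.leaf 3))) (.node (.node (.leaf 0) (.leaf 0)) (.node (.leaf 3) (.leaf 3)))))) (.node (.node (.node (.node (.node (.node (.leaf 0) (.leaf 3)) (.leaf 3)) (.node (.leaf 3) (.leaf 0))) (.node (.node (.leaf 0) (.leaf 3)) (.node (.leaf 0) (.leaf 3)))) (.node (.node (.node (.leaf 0) (.leaf 3)) (.node (.leaf 0) (.leaf 3))) (.node (.node (.leaf 3) (.leaf 3)) (.node (.leaf 3) (.leaf 3))))) (.node (.node (.node (.node (.node (.leaf 0) (.leaf 3)) (.leaf 3)) (.node (.leaf 3) (.leaf 3))) (.node (.node (.leaf 3) (.leaf 3)) (.node (.leaf 3) (.leaf 3)))) (.node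 (.node (.node (.leaf 0) (.leaf 3)) (.node (.leaf 3) (.leaf 3))) (.node (.node (.leaf 3) (.leaf 3)) (.node (.leaf 0) (.leaf 3))))))) (.node (.node (.node (.node (.node (.node (.node (.leaf 0) (.leaf 3)) (.leaf 3)) (.node (.leaf 3) (.leaf 3))) (.node (.node (.leaf 0) (.leaf 3)) (.node (.leaf 0) (.leaf 3)))) (.node (.node (.node (.node (.leaf 3) (.leaf 3)) (.leaf 3)) (.node (.leaf 3) (.leaf 3))) (.node (.node (.leaf 3) (.leaf 3)) (.node (.leaf 3) (.leaf 3))))) (.node (.node (.node (.node (.node (.leaf 0) (.leaf 3)) (.leaf 3)) (.node (.leaf 3) (.leaf 3))) (.node (.node (.leaf 3) (.leaf 3)) (.node (.leaf 3) (.leaf 3)))) (.node (.node (.node (.leaf 0) (.leaf 3)) (.node (.leaf 3) (.leaf 3))) (.node (.node (.leaf 3) (.leaf 3)) (.node (.leaf 3) (.leaf 3)))))) (.node (.node (.node (.node (.node (.node (.leaf 0) (.leaf 3)) (.leaf 3)) (.node (.leaf 3) (.leaf 3))) (.node (.node (.leaf 0) (.leaf 3)) (.node (.leaf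 0) (.leaf 3)))) (.node (.node (.node (.leaf 3) (.leaf 3)) (.node (.leaf 3) (.leaf 3))) (.node (.node (.leaf 3) (.leaf 0)) (.node (.leaf 3) (.leaf 3))))) (.node (.node (.node (.node (.node (.leaf 0) (.leaf 3)) (.leaf 3)) (.node (.leaf 3) (.leaf 3))) (.node (.node (.leaf 0) (.leaf 3)) (.node (.leaf 3) (.leaf 3)))) (.node (.node (.node (.leaf 3) (.leaf 3)) (.node (.leaf 0) (.leaf 3))) (.node (.node (.leaf 0) (.leaf 0)) (.node (.leaf 3) (.leaf 3))))))))) (.node (.node (.node (.node (.node (.node (.node (.node (.node (.leaf 0) (.leaf 3)) (.leaf 3)) (.node (.leaf 3) (.leaf 3))) (.node (.node (.leaf 3) (.leaf 3)) (.node (.leaf 0) (.leaf 3)))) (.node (.node (.node (.node (.leaf 0) (.leaf 3)) (.leaf 3)) (.node (.leaf 3) (.leaf 3))) (.node (.node (.leaf 0) (.leaf 3)) (.node (.leaf 3) (.leaf 3))))) (.node (.node (.node (.node (.node (.leaf 0) (.leaf 3)) (.leaf 3)) (.node (.leaf 3) (.leaf 3))) (.node (.node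 (.leaf 3) (.leaf 3)) (.node (.leaf 3) (.leaf 3)))) (.node (.node (.node (.leaf 0) (.leaf 3)) (.node (.leaf 3) (.leaf 3))) (.node (.node (.leaf 3) (.leaf 0)) (.node (.leaf 3) (.leaf 3)))))) (.node (.node (.node (.node (.node (.node (.leaf 3) (.leaf 3)) (.leaf 3)) (.node (.leaf 3) (.leaf 3))) (.node (.node (.leaf 0) (.leaf 3)) (.node (.leaf 3) (.leaf 3)))) (.node (.node (.node (.leaf 3) (.leaf 0)) (.node (.leaf 3) (.leaf 3))) (.node (.node (.leaf 3) (.leaf 3)) (.node (.leaf 3) (.leaf 3))))) (.node (.node (.node (.node (.node (.leaf 0) (.leaf 3)) (.leaf 0)) (.node (.leaf 3) (.leaf 3))) (.node (.node (.leaf 3) (.leaf 3)) (.node (.leaf 3) (.leaf 3)))) (.node (.node (.node (.leaf 3) (.leaf 3)) (.node (.leaf 3) (.leaf 3))) (.node (.node (.leaf 3) (.leaf 3)) (.node (.leaf 3) (.leaf 3))))))) (.node (.node (.node (.node (.node (.node (.node (.leaf 0) (.leaf 3)) (.leaf 3)) (.node (.leaf 3) (.leaf 3))) (.node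 (.node (.leaf 0) (.leaf 3)) (.node (.leaf 3) (.leaf 3)))) (.node (.node (.node (.node (.leaf 0) (.leaf 3)) (.leaf 3)) (.node (.leaf 3) (.leaf 3))) (.node (.node (.leaf 0) (.leaf 3)) (.node (.leaf 3) (.leaf 3))))) (.node (.node (.node (.node (.node (.leaf 3) (.leaf 3)) (.leaf 3)) (.node (.leaf 3) (.leaf 3))) (.node (.node (.leaf 0) (.leaf 3)) (.node (.leaf 0) (.leaf 3)))) (.node (.node (.node (.leaf 3) (.leaf 3)) (.node (.leaf 3) (.leaf 3))) (.node (.node (.leaf 0) (.leaf 3)) (.node (.leaf 0) (.leaf 3)))))) (.node (.node (.node (.node (.node (.node (.leaf 3) (.leaf 3)) (.leaf 3)) (.node (.leaf 0) (.leaf 3))) (.node (.node (.leaf 3) (.leaf 3)) (.node (.leaf 3) (.leaf 3)))) (.node (.node (.node (.leaf 3) (.leaf 3)) (.node (.leaf 3) (.leaf 3))) (.node (.node (.leaf 3) (.leaf 0)) (.node (.leaf 0) (.leaf 3))))) (.node (.node (.node (.node (.node (.leaf 0) (.leaf 3)) (.leaf 3)) (.node (.leaf 3) (.leaf 3)))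 (.node (.node (.leaf 0) (.leaf 3)) (.node (.leaf 0) (.leaf 3)))) (.node (.node (.node (.leaf 3) (.leaf 3)) (.node (.leaf 0) (.leaf 3))) (.node (.node (.leaf 3) (.leaf 3)) (.node (.leaf 3) (.leaf 3)))))))) (.node (.node (.node (.node (.node (.node (.node (.node (.leaf 0) (.leaf 3)) (.leaf 3)) (.node (.leaf 0) (.leaf 0))) (.node (.node (.leaf 3) (.leaf 3)) (.node (.leaf 3) (.leaf 3)))) (.node (.node (.node (.node (.leaf 3) (.leaf 2)) (.leaf 3)) (.node (.leaf 3) (.leaf 0))) (.node (.node (.leaf 0) (.leaf 3)) (.node (.leaf 3) (.leaf 3))))) (.node (.node (.node (.node (.node (.leaf 3) (.leaf 3)) (.leaf 3)) (.node (.leaf 3) (.leaf 3))) (.node (.node (.leaf 3) (.leaf 3)) (.node (.leaf 3) (.leaf 3)))) (.node (.node (.node (.leaf 0) (.leaf 3)) (.node (.leaf 3) (.leaf 3))) (.node (.node (.leaf 3) (.leaf 3)) (.node (.leaf 3) (.leaf 3)))))) (.node (.node (.node (.node (.node (.node (.leaf 0) (.leaf 3)) (.leaf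 3)) (.node (.leaf 3) (.leaf 3))) (.node (.node (.leaf 0) (.leaf 3)) (.node (.leaf 0) (.leaf 3)))) (.node (.node (.node (.leaf 3) (.leaf 3)) (.node (.leaf 3) (.leaf 3))) (.node (.node (.leaf 3) (.leaf 3)) (.node (.leaf 3) (.leaf 3))))) (.node (.node (.node (.node (.node (.leaf 0) (.leaf 3)) (.leaf 3)) (.node (.leaf 3) (.leaf 3))) (.node (.node (.leaf 3) (.leaf 3)) (.node (.leaf 3) (.leaf 3)))) (.node (.node (.node (.leaf 3) (.leaf 3)) (.node (.leaf 3) (.leaf 3))) (.node (.node (.leaf 3) (.leaf 3)) (.node (.leaf 3) (.leaf 3))))))) (.node (.node (.node (.node (.node (.node (.node (.leaf 0) (.leaf 3)) (.leaf 3)) (.node (.leaf 3) (.leaf 3))) (.node (.node (.leaf 0) (.leaf 3)) (.node (.leaf 3) (.leaf 3)))) (.node (.node (.node (.leaf 3) (.leaf 3)) (.node (.leaf 3) (.leaf 3))) (.node (.node (.leaf 0) (.leaf 3)) (.node (.leaf 0) (.leaf 3))))) (.node (.node (.node (.node (.node (.leaf 0) (.leaf 3)) (.leaf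 3)) (.node (.leaf 0) (.leaf 3))) (.node (.node (.leaf 0) (.leaf 3)) (.node (.leaf 3) (.leaf 3)))) (.node (.node (.node (.leaf 3) (.leaf 3)) (.node (.leaf 3) (.leaf 3))) (.node (.node (.leaf 3) (.leaf 3)) (.node (.leaf 3) (.leaf 3)))))) (.node (.node (.node (.node (.node (.node (.leaf 0) (.leaf 3)) (.leaf 3)) (.node (.leaf 3) (.leaf 3))) (.node (.node (.leaf 0) (.leaf 3)) (.node (.leaf 0) (.leaf 3)))) (.node (.node (.node (.leaf 3) (.leaf 3)) (.node (.leaf 3) (.leaf 3))) (.node (.node (.leaf 3) (.leaf 3)) (.node (.leaf 3) (.leaf 3))))) (.node (.node (.node (.node (.node (.leaf 0) (.leaf 3)) (.leaf 3)) (.node (.leaf 3) (.leaf 3))) (.node (.node (.leaf 3) (.leaf 3)) (.node (.leaf 0) (.leaf 3)))) (.node (.node (.node (.leaf 3) (.leaf 3)) (.node (.leaf 0) (.leaf 3))) (.node (.node (.leaf 0) (.leaf 0)) (.node (.leaf 3) (.leaf 3)))))))))) (.node (.node (.node (.node (.node (.node (.node (.node (.node (.node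 (.leaf 0) (.leaf 3)) (.leaf 0)) (.node (.leaf 3) (.leaf 3))) (.node (.node (.leaf 0) (.leaf 3)) (.node (.leaf 0) (.leaf 3)))) (.node (.node (.node (.node (.leaf 3) (.leaf 3)) (.leaf 3)) (.node (.leaf 3) (.leaf 3))) (.node (.node (.leaf 0) (.leaf 0)) (.node (.leaf 3) (.leaf 3))))) (.node (.node (.node (.node (.node (.leaf 0) (.leaf 3)) (.leaf 3)) (.node (.leaf 0) (.leaf 3))) (.node (.node (.leaf 0) (.leaf 3)) (.node (.leaf 3) (.leaf 3)))) (.node (.node (.node (.leaf 3) (.leaf 3)) (.node (.leaf 3) (.leaf 3))) (.node (.node (.leaf 3) (.leaf 3)) (.node (.leaf 3) (.leaf 3)))))) (.node (.node (.node (.node (.node (.node (.leaf 0) (.leaf 3)) (.leaf 3)) (.node (.leaf 3) (.leaf 3))) (.node (.node (.leaf 0) (.leaf 3)) (.node (.leaf 0) (.leaf 3)))) (.node (.node (.node (.leaf 0) (.leaf 3)) (.node (.leaf 3) (.leaf 3))) (.node (.node (.leaf 3) (.leaf 3)) (.node (.leaf 3) (.leaf 3))))) (.node (.node (.node (.node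 (.node (.leaf 3) (.leaf 3)) (.leaf 3)) (.node (.leaf 3) (.leaf 0))) (.node (.node (.leaf 0) (.leaf 3)) (.node (.leaf 3) (.leaf 3)))) (.node (.node (.node (.leaf 3) (.leaf 0)) (.node (.leaf 3) (.leaf 3))) (.node (.node (.leaf 3) (.leaf 3)) (.node (.leaf 3) (.leaf 3))))))) (.node (.node (.node (.node (.node (.node (.node (.leaf 0) (.leaf 3)) (.leaf 3)) (.node (.leaf 3) (.leaf 3))) (.node (.node (.leaf 0) (.leaf 3)) (.node (.leaf 3) (.leaf 3)))) (.node (.node (.node (.node (.leaf 0) (.leaf 3)) (.leaf 0)) (.node (.leaf 3) (.leaf 3))) (.node (.node (.leaf 3) (.leaf 3)) (.node (.leaf 3) (.leaf 0))))) (.node (.node (.node (.node (.node (.leaf 0) (.leaf 3)) (.leaf 3)) (.node (.leaf 0) (.leaf 3))) (.node (.node (.leaf 0) (.leaf 3)) (.node (.leaf 3) (.leaf 3)))) (.node (.node (.node (.leaf 0) (.leaf 3)) (.node (.leaf 0) (.leaf 3))) (.node (.node (.leaf 3) (.leaf 3)) (.node (.leaf 3) (.leaf 3)))))) (.node (.node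 (.node (.node (.node (.node (.leaf 0) (.leaf 3)) (.leaf 3)) (.node (.leaf 3) (.leaf 3))) (.node (.node (.leaf 0) (.leaf 3)) (.node (.leaf 0) (.leaf 3)))) (.node (.node (.node (.leaf 0) (.leaf 3)) (.node (.leaf 3) (.leaf 3))) (.node (.node (.leaf 0) (.leaf 0)) (.node (.leaf 3) (.leaf 3))))) (.node (.node (.node (.node (.node (.leaf 0) (.leaf 3)) (.leaf 3)) (.node (.leaf 3) (.leaf 3))) (.node (.node (.leaf 3) (.leaf 3)) (.node (.leaf 3) (.leaf 3)))) (.node (.node (.node (.leaf 3) (.leaf 3)) (.node (.leaf 0) (.leaf 0))) (.node (.node (.leaf 3) (.leaf 3)) (.node (.leaf 3) (.leaf 3)))))))) (.node (.node (.node (.node (.node (.node (.node (.node (.leaf 0) (.leaf 3)) (.leaf 3)) (.node (.leaf 0) (.leaf 3))) (.node (.node (.leaf 0) (.leaf 3)) (.node (.leaf 0) (.leaf 3)))) (.node (.node (.node (.node (.leaf 0) (.leaf 2)) (.leaf 3)) (.node (.leaf 3) (.leaf 3))) (.node (.node (.leaf 0) (.leaf 3)) (.node (.leaf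 3) (.leaf 3))))) (.node (.node (.node (.node (.node (.leaf 0) (.leaf 3)) (.leaf 3)) (.node (.leaf 3) (.leaf 3))) (.node (.node (.leaf 0) (.leaf 3)) (.node (.leaf 3) (.leaf 3)))) (.node (.node (.node (.leaf 3) (.leaf 3)) (.node (.leaf 3) (.leaf 3))) (.node (.node (.leaf 3) (.leaf 3)) (.node (.leaf 3) (.leaf 3)))))) (.node (.node (.node (.node (.node (.node (.leaf 0) (.leaf 3)) (.leaf 3)) (.node (.leaf 3) (.leaf 3))) (.node (.node (.leaf 0) (.leaf 3)) (.node (.leaf 0) (.leaf 3)))) (.node (.node (.node (.leaf 0) (.leaf 3)) (.node (.leaf 3) (.leaf 3))) (.node (.node (.leaf 0) (.leaf 3)) (.node (.leaf 3) (.leaf 3))))) (.node (.node (.node (.node (.node (.leaf 0) (.leaf 3)) (.leaf 3)) (.node (.leaf 3) (.leaf 3))) (.node (.node (.leaf 0) (.leaf 3)) (.node (.leaf 3) (.leaf 3)))) (.node (.node (.node (.leaf 0) (.leaf 3)) (.node (.leaf 3) (.leaf 3))) (.node (.node (.leaf 3) (.leaf 0)) (.node (.leaf 3) (.leaf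 3))))))) (.node (.node (.node (.node (.node (.node (.node (.leaf 0) (.leaf 3)) (.leaf 3)) (.node (.leaf 3) (.leaf 3))) (.node (.node (.leaf 0) (.leaf 3)) (.node (.leaf 0) (.leaf 3)))) (.node (.node (.node (.leaf 3) (.leaf 3)) (.node (.leaf 3) (.leaf 3))) (.node (.node (.leaf 0) (.leaf 0)) (.node (.leaf 3) (.leaf 3))))) (.node (.node (.node (.node (.node (.leaf 0) (.leaf 3)) (.leaf 3)) (.node (.leaf 3) (.leaf 3))) (.node (.node (.leaf 0) (.leaf 3)) (.node (.leaf 3) (.leaf 3)))) (.node (.node (.node (.leaf 0) (.leaf 3)) (.node (.leaf 3) (.leaf 3))) (.node (.node (.leaf 3) (.leaf 3)) (.node (.leaf 3) (.leaf 3)))))) (.node (.node (.node (.node (.node (.node (.leaf 0) (.leaf 3)) (.leaf 3)) (.node (.leaf 3) (.leaf 3))) (.node (.node (.leaf 3) (.leaf 3)) (.node (.leaf 0) (.leaf 3)))) (.node (.node (.node (.leaf 3) (.leaf 3)) (.node (.leaf 3) (.leaf 3))) (.node (.node (.leaf 0) (.leaf 3)) (.node (.leaf 3)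 (.leaf 3))))) (.node (.node (.node (.node (.node (.leaf 3) (.leaf 3)) (.leaf 3)) (.node (.leaf 3) (.leaf 3))) (.node (.node (.leaf 0) (.leaf 3)) (.node (.leaf 3) (.leaf 3)))) (.node (.node (.node (.leaf 3) (.leaf 3)) (.node (.leaf 0) (.leaf 3))) (.node (.node (.leaf 0) (.leaf 3)) (.node (.leaf 3) (.leaf 3))))))))) (.node (.node (.node (.node (.node (.node (.node (.node (.node (.leaf 0) (.leaf 3)) (.leaf 3)) (.node (.leaf 3) (.leaf 3))) (.node (.node (.leaf 0) (.leaf 3)) (.node (.leaf 0) (.leaf 3)))) (.node (.node (.node (.node (.leaf 3) (.leaf 3)) (.leaf 3)) (.node (.leaf 3) (.leaf 3))) (.node (.node (.leaf 0) (.leaf 3)) (.node (.leaf 3) (.leaf 3))))) (.node (.node (.node (.node (.node (.leaf 0) (.leaf 3)) (.leaf 3)) (.node (.leaf 0) (.leaf 3))) (.node (.node (.leaf 0) (.leaf 3)) (.node (.leaf 0) (.leaf 3)))) (.node (.node (.node (.leaf 0) (.leaf 3)) (.node (.leaf 3) (.leaf 3))) (.node (.node (.leaf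 3) (.leaf 0)) (.node (.leaf 3) (.leaf 3)))))) (.node (.node (.node (.node (.node (.node (.leaf 3) (.leaf 3)) (.leaf 3)) (.node (.leaf 0) (.leaf 3))) (.node (.node (.leaf 0) (.leaf 3)) (.node (.leaf 3) (.leaf 3)))) (.node (.node (.node (.leaf 0) (.leaf 3)) (.node (.leaf 3) (.leaf 3))) (.node (.node (.leaf 3) (.leaf 3)) (.node (.leaf 3) (.leaf 3))))) (.node (.node (.node (.node (.node (.leaf 0) (.leaf 3)) (.leaf 3)) (.node (.leaf 3) (.leaf 3))) (.node (.node (.leaf 0) (.leaf 3)) (.node (.leaf 3) (.leaf 3)))) (.node (.node (.node (.leaf 0) (.leaf 3)) (.node (.leaf 3) (.leaf 0))) (.node (.node (.leaf 3) (.leaf 3)) (.node (.leaf 0) (.leaf 3))))))) (.node (.node (.node (.node (.node (.node (.node (.leaf 0) (.leaf 3)) (.leaf 3)) (.node (.leaf 3) (.leaf 0))) (.node (.node (.leaf 3) (.leaf 3)) (.node (.leaf 0) (.leaf 3)))) (.node (.node (.node (.node (.leaf 0) (.leaf 3)) (.leaf 3)) (.node (.leaf 3) (.leaf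 3))) (.node (.node (.leaf 3) (.leaf 3)) (.node (.leaf 0) (.leaf 3))))) (.node (.node (.node (.node (.node (.leaf 0) (.leaf 3)) (.leaf 3)) (.node (.leaf 0) (.leaf 3))) (.node (.node (.leaf 0) (.leaf 3)) (.node (.leaf 3) (.leaf 3)))) (.node (.node (.node (.leaf 0) (.leaf 3)) (.node (.leaf 3) (.leaf 3))) (.node (.node (.leaf 3) (.leaf 3)) (.node (.leaf 3) (.leaf 3)))))) (.node (.node (.node (.node (.node (.node (.leaf 3) (.leaf 3)) (.leaf 3)) (.node (.leaf 3) (.leaf 3))) (.node (.node (.leaf 3) (.leaf 3)) (.node (.leaf 0) (.leaf 3)))) (.node (.node (.node (.leaf 0) (.leaf 3)) (.node (.leaf 3) (.leaf 3))) (.node (.node (.leaf 0) (.leaf 0)) (.node (.leaf 3) (.leaf 3))))) (.node (.node (.node (.node (.node (.leaf 0) (.leaf 3)) (.leaf 3)) (.node (.leaf 3) (.leaf 3))) (.node (.node (.leaf 3) (.leaf 3)) (.node (.leaf 3) (.leaf 3)))) (.node (.node (.node (.leaf 0) (.leaf 3)) (.node (.leaf 0) (.leaf 3))) (.node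 (.node (.leaf 3) (.leaf 3)) (.node (.leaf 3) (.leaf 3)))))))) (.node (.node (.node (.node (.node (.node (.node (.node (.leaf 3) (.leaf 3)) (.leaf 3)) (.node (.leaf 0) (.leaf 3))) (.node (.node (.leaf 0) (.leaf 3)) (.node (.leaf 0) (.leaf 3)))) (.node (.node (.node (.node (.leaf 0) (.leaf 3)) (.leaf 3)) (.node (.leaf 3) (.leaf 3))) (.node (.node (.leaf 0) (.leaf 0)) (.node (.leaf 3) (.leaf 3))))) (.node (.node (.node (.node (.node (.leaf 3) (.leaf 3)) (.leaf 3)) (.node (.leaf 0) (.leaf 3))) (.node (.node (.leaf 3) (.leaf 3)) (.node (.leaf 0) (.leaf 3)))) (.node (.node (.node (.leaf 0) (.leaf 3)) (.node (.leaf 3) (.leaf 3))) (.node (.node (.leaf 3) (.leaf 3)) (.node (.leaf 3) (.leaf 3)))))) (.node (.node (.node (.node (.node (.node (.leaf 0) (.leaf 3)) (.leaf 3)) (.node (.leaf 3) (.leaf 3))) (.node (.node (.leaf 3) (.leaf 3)) (.node (.leaf 0) (.leaf 3)))) (.node (.node (.node (.leaf 0) (.leaf 3)) (.node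 (.leaf 3) (.leaf 3))) (.node (.node (.leaf 3) (.leaf 3)) (.node (.leaf 0) (.leaf 3))))) (.node (.node (.node (.node (.node (.leaf 0) (.leaf 3)) (.leaf 3)) (.node (.leaf 0) (.leaf 3))) (.node (.node (.leaf 3) (.leaf 3)) (.node (.leaf 3) (.leaf 3)))) (.node (.node (.node (.leaf 3) (.leaf 3)) (.node (.leaf 0) (.leaf 3))) (.node (.node (.leaf 3) (.leaf 0)) (.node (.leaf 0) (.leaf 3))))))) (.node (.node (.node (.node (.node (.node (.node (.leaf 0) (.leaf 3)) (.leaf 3)) (.node (.leaf 3) (.leaf 3))) (.node (.node (.leaf 0) (.leaf 3)) (.node (.leaf 3) (.leaf 3)))) (.node (.node (.node (.leaf 0) (.leaf 3)) (.node (.leaf 3) (.leaf 3))) (.node (.node (.leaf 0) (.leaf 3)) (.node (.leaf 0) (.leaf 3))))) (.node (.node (.node (.node (.node (.leaf 0) (.leaf 3)) (.leaf 3)) (.node (.leaf 3) (.leaf 3))) (.node (.node (.leaf 0) (.leaf 3)) (.node (.leaf 3) (.leaf 3)))) (.node (.node (.node (.leaf 3) (.leaf 3)) (.node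 (.leaf 3) (.leaf 3))) (.node (.node (.leaf 3) (.leaf 3)) (.node (.leaf 3) (.leaf 3)))))) (.node (.node (.node (.node (.node (.node (.leaf 0) (.leaf 3)) (.leaf 3)) (.node (.leaf 0) (.leaf 3))) (.node (.node (.leaf 0) (.leaf 3)) (.node (.leaf 0) (.leaf 3)))) (.node (.node (.node (.leaf 3) (.leaf 3)) (.node (.leaf 3) (.leaf 3))) (.node (.node (.leaf 0) (.leaf 3)) (.node (.leaf 3) (.leaf 3))))) (.node (.node (.node (.node (.node (.leaf 0) (.leaf 3)) (.leaf 3)) (.node (.leaf 3) (.leaf 3))) (.node (.node (.leaf 3) (.leaf 3)) (.node (.leaf 3) (.leaf 3)))) (.node (.node (.node (.leaf 0) (.leaf 3)) (.node (.leaf 0) (.leaf 3))) (.node (.node (.leaf 0) (.leaf 3)) (.node (.leaf 3) (.leaf 3)))))))))))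

def threeKind7 : Janko.Tree (ℕ) :=
  (.node (.node (.node (.node (.node (.node (.node (.node (.node (.node (.node (.leaf 0) (.leaf 3)) (.leaf 3)) (.node (.leaf 3) (.leaf 0))) (.node (.node (.leaf 3) (.leaf 3)) (.node (.leaf 3) (.leaf 3)))) (.node (.node (.node (.node (.leaf 0) (.leaf 3)) (.leaf 3)) (.node (.leaf 0) (.leaf 3))) (.node (.node (.leaf 0) (.leaf 0)) (.node (.leaf 0) (.leaf 3))))) (.node (.node (.node (.node (.node (.leaf 0) (.leaf 3)) (.leaf 3)) (.node (.leaf 3) (.leaf 3))) (.node (.node (.leaf 3) (.leaf 3)) (.node (.leaf 0) (.leaf 3)))) (.node (.node (.node (.leaf 3) (.leaf 3)) (.node (.leaf 3) (.leaf 3))) (.node (.node (.leaf 0) (.leaf 3)) (.node (.leaf 3) (.leaf 3)))))) (.node (.node (.node (.node (.node (.node (.leaf 0) (.leaf 3)) (.leaf 3)) (.node (.leaf 3) (.leaf 3))) (.node (.node (.leaf 0) (.leaf 3)) (.node (.leaf 3) (.leaf 3)))) (.node (.node (.node (.leaf 0) (.leaf 3)) (.node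 (.leaf 3) (.leaf 3))) (.node (.node (.leaf 0) (.leaf 3)) (.node (.leaf 0) (.leaf 3))))) (.node (.node (.node (.node (.node (.leaf 3) (.leaf 3)) (.leaf 3)) (.node (.leaf 3) (.leaf 3))) (.node (.node (.leaf 0) (.leaf 3)) (.node (.leaf 3) (.leaf 3)))) (.node (.node (.node (.leaf 3) (.leaf 3)) (.node (.leaf 3) (.leaf 3))) (.node (.node (.leaf 0) (.leaf 3)) (.node (.leaf 3) (.leaf 3))))))) (.node (.node (.node (.node (.node (.node (.node (.leaf 0) (.leaf 3)) (.leaf 3)) (.node (.leaf 3) (.leaf 3))) (.node (.node (.leaf 0) (.leaf 3)) (.node (.leaf 0) (.leaf 3)))) (.node (.node (.node (.node (.leaf 0) (.leaf 3)) (.leaf 3)) (.node (.leaf 3) (.leaf 3))) (.node (.node (.leaf 3) (.leaf 3)) (.node (.leaf 3) (.leaf 3))))) (.node (.node (.node (.node (.node (.leaf 0) (.leaf 3)) (.leaf 3)) (.node (.leaf 0) (.leaf 3))) (.node (.node (.leaf 3) (.leaf 3)) (.node (.leaf 0) (.leaf 3)))) (.node (.node (.node (.leaf 3)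 (.leaf 3)) (.node (.leaf 3) (.leaf 3))) (.node (.node (.leaf 0) (.leaf 3)) (.node (.leaf 3) (.leaf 3)))))) (.node (.node (.node (.node (.node (.node (.leaf 3) (.leaf 3)) (.leaf 3)) (.node (.leaf 3) (.leaf 3))) (.node (.node (.leaf 0) (.leaf 3)) (.node (.leaf 3) (.leaf 3)))) (.node (.node (.node (.leaf 3) (.leaf 0)) (.node (.leaf 3) (.leaf 3))) (.node (.node (.leaf 0) (.leaf 3)) (.node (.leaf 0) (.leaf 3))))) (.node (.node (.node (.node (.node (.leaf 0) (.leaf 3)) (.leaf 3)) (.node (.leaf 3) (.leaf 3))) (.node (.node (.leaf 3) (.leaf 3)) (.node (.leaf 0) (.leaf 3)))) (.node (.node (.node (.leaf 3) (.leaf 3)) (.node (.leaf 3) (.leaf 3))) (.node (.node (.leaf 0) (.leaf 0)) (.node (.leaf 3) (.leaf 3)))))))) (.node (.node (.node (.node (.node (.node (.node (.node (.leaf 0) (.leaf 3)) (.leaf 3)) (.node (.leaf 3) (.leaf 3))) (.node (.node (.leaf 3) (.leaf 3)) (.node (.leaf 0) (.leaf 3)))) (.node (.node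 (.node (.node (.leaf 0) (.leaf 3)) (.leaf 3)) (.node (.leaf 0) (.leaf 3))) (.node (.node (.leaf 0) (.leaf 0)) (.node (.leaf 0) (.leaf 3))))) (.node (.node (.node (.node (.node (.leaf 0) (.leaf 3)) (.leaf 3)) (.node (.leaf 3) (.leaf 3))) (.node (.node (.leaf 3) (.leaf 3)) (.node (.leaf 3) (.leaf 3)))) (.node (.node (.node (.leaf 3) (.leaf 3)) (.node (.leaf 3) (.leaf 3))) (.node (.node (.leaf 3) (.leaf 3)) (.node (.leaf 0) (.leaf 3)))))) (.node (.node (.node (.node (.node (.node (.leaf 0) (.leaf 3)) (.leaf 3)) (.node (.leaf 3) (.leaf 3))) (.node (.node (.leaf 0) (.leaf 3)) (.node (.leaf 0) (.leaf 3)))) (.node (.node (.node (.leaf 0) (.leaf 3)) (.node (.leaf 3) (.leaf 3))) (.node (.node (.leaf 0) (.leaf 3)) (.node (.leaf 3) (.leaf 3))))) (.node (.node (.node (.node (.node (.leaf 0) (.leaf 3)) (.leaf 3)) (.node (.leaf 3) (.leaf 3))) (.node (.node (.leaf 0) (.leaf 3)) (.node (.leaf 3) (.leaf 3)))) (.node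 (.node (.node (.leaf 0) (.leaf 3)) (.node (.leaf 3) (.leaf 3))) (.node (.node (.leaf 0) (.leaf 3)) (.node (.leaf 3) (.leaf 3))))))) (.node (.node (.node (.node (.node (.node (.node (.leaf 0) (.leaf 3)) (.leaf 3)) (.node (.leaf 3) (.leaf 3))) (.node (.node (.leaf 0) (.leaf 3)) (.node (.leaf 0) (.leaf 3)))) (.node (.node (.node (.node (.leaf 0) (.leaf 3)) (.leaf 3)) (.node (.leaf 3) (.leaf 3))) (.node (.node (.leaf 0) (.leaf 0)) (.node (.leaf 3) (.leaf 3))))) (.node (.node (.node (.node (.node (.leaf 0) (.leaf 3)) (.leaf 3)) (.node (.leaf 3) (.leaf 3))) (.node (.node (.leaf 3) (.leaf 3)) (.node (.leaf 0) (.leaf 3)))) (.node (.node (.node (.leaf 0) (.leaf 3)) (.node (.leaf 3) (.leaf 3))) (.node (.node (.leaf 3) (.leaf 0)) (.node (.leaf 3) (.leaf 3)))))) (.node (.node (.node (.node (.node (.node (.leaf 3) (.leaf 3)) (.leaf 3)) (.node (.leaf 3) (.leaf 3))) (.node (.node (.leaf 0) (.leaf 3)) (.node (.leaf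 3) (.leaf 3)))) (.node (.node (.node (.leaf 3) (.leaf 3)) (.node (.leaf 3) (.leaf 3))) (.node (.node (.leaf 0) (.leaf 3)) (.node (.leaf 0) (.leaf 3))))) (.node (.node (.node (.node (.node (.leaf 0) (.leaf 3)) (.leaf 3)) (.node (.leaf 3) (.leaf 3))) (.node (.node (.leaf 0) (.leaf 3)) (.node (.leaf 3) (.leaf 3)))) (.node (.node (.node (.leaf 0) (.leaf 3)) (.node (.leaf 0) (.leaf 3))) (.node (.node (.leaf 0) (.leaf 3)) (.node (.leaf 3) (.leaf 3))))))))) (.node (.node (.node (.node (.node (.node (.node (.node (.node (.leaf 0) (.leaf 3)) (.leaf 0)) (.node (.leaf 0) (.leaf 3))) (.node (.node (.leaf 0) (.leaf 3)) (.node (.leaf 0) (.leaf 3)))) (.node (.node (.node (.node (.leaf 0) (.leaf 3)) (.leaf 3)) (.node (.leaf 3) (.leaf 3))) (.node (.node (.leaf 3) (.leaf 3)) (.node (.leaf 3) (.leaf 3))))) (.node (.node (.node (.node (.node (.leaf 3) (.leaf 3)) (.leaf 3)) (.node (.leaf 3) (.leaf 3))) (.node (.node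 (.leaf 0) (.leaf 3)) (.node (.leaf 3) (.leaf 3)))) (.node (.node (.node (.leaf 0) (.leaf 0)) (.node (.leaf 3) (.leaf 3))) (.node (.node (.leaf 0) (.leaf 0)) (.node (.leaf 3) (.leaf 3)))))) (.node (.node (.node (.node (.node (.node (.leaf 0) (.leaf 3)) (.leaf 3)) (.node (.leaf 0) (.leaf 3))) (.node (.node (.leaf 0) (.leaf 3)) (.node (.leaf 0) (.leaf 3)))) (.node (.node (.node (.leaf 3) (.leaf 3)) (.node (.leaf 3) (.leaf 3))) (.node (.node (.leaf 3) (.leaf 0)) (.node (.leaf 3) (.leaf 3))))) (.node (.node (.node (.node (.node (.leaf 0) (.leaf 3)) (.leaf 3)) (.node (.leaf 0) (.leaf 3))) (.node (.node (.leaf 3) (.leaf 3)) (.node (.leaf 3) (.leaf 3)))) (.node (.node (.node (.leaf 0) (.leaf 3)) (.node (.leaf 0) (.leaf 3))) (.node (.node (.leaf 3) (.leaf 0)) (.node (.leaf 3) (.leaf 3))))))) (.node (.node (.node (.node (.node (.node (.node (.leaf 0) (.leaf 3)) (.leaf 3)) (.node (.leaf 0) (.leaf 3))) (.node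 (.node (.leaf 3) (.leaf 3)) (.node (.leaf 0) (.leaf 3)))) (.node (.node (.node (.node (.leaf 3) (.leaf 3)) (.leaf 3)) (.node (.leaf 3) (.leaf 3))) (.node (.node (.leaf 3) (.leaf 0)) (.node (.leaf 3) (.leaf 3))))) (.node (.node (.node (.node (.node (.leaf 0) (.leaf 3)) (.leaf 3)) (.node (.leaf 3) (.leaf 3))) (.node (.node (.leaf 0) (.leaf 3)) (.node (.leaf 0) (.leaf 3)))) (.node (.node (.node (.leaf 0) (.leaf 3)) (.node (.leaf 0) (.leaf 3))) (.node (.node (.leaf 0) (.leaf 3)) (.node (.leaf 3) (.leaf 3)))))) (.node (.node (.node (.node (.node (.node (.leaf 0) (.leaf 3)) (.leaf 3)) (.node (.leaf 3) (.leaf 3))) (.node (.node (.leaf 0) (.leaf 3)) (.node (.leaf 0) (.leaf 3)))) (.node (.node (.node (.leaf 0) (.leaf 3)) (.node (.leaf 3) (.leaf 3))) (.node (.node (.leaf 3) (.leaf 3)) (.node (.leaf 3) (.leaf 3))))) (.node (.node (.node (.node (.node (.leaf 0) (.leaf 3)) (.leaf 3)) (.node (.leaf 3) (.leaf 3)))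 (.node (.node (.leaf 3) (.leaf 3)) (.node (.leaf 0) (.leaf 3)))) (.node (.node (.node (.leaf 0) (.leaf 3)) (.node (.leaf 3) (.leaf 3))) (.node (.node (.leaf 0) (.leaf 3)) (.node (.leaf 3) (.leaf 3)))))))) (.node (.node (.node (.node (.node (.node (.node (.node (.leaf 0) (.leaf 3)) (.leaf 3)) (.node (.leaf 0) (.leaf 3))) (.node (.node (.leaf 0) (.leaf 3)) (.node (.leaf 0) (.leaf 3)))) (.node (.node (.node (.node (.leaf 3) (.leaf 2)) (.leaf 3)) (.node (.leaf 0) (.leaf 0))) (.node (.node (.leaf 0) (.leaf 0)) (.node (.leaf 3) (.leaf 3))))) (.node (.node (.node (.node (.node (.leaf 0) (.leaf 3)) (.leaf 0)) (.node (.leaf 3) (.leaf 3))) (.node (.node (.leaf 0) (.leaf 3)) (.node (.leaf 3) (.leaf 3)))) (.node (.node (.node (.leaf 0) (.leaf 0)) (.node (.leaf 3) (.leaf 3))) (.node (.node (.leaf 0) (.leaf 3)) (.node (.leaf 0) (.leaf 3)))))) (.node (.node (.node (.node (.node (.node (.leaf 0) (.leaf 3)) (.leaf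 3)) (.node (.leaf 0) (.leaf 3))) (.node (.node (.leaf 0) (.leaf 3)) (.node (.leaf 0) (.leaf 3)))) (.node (.node (.node (.leaf 0) (.leaf 3)) (.node (.leaf 3) (.leaf 3))) (.node (.node (.leaf 0) (.leaf 3)) (.node (.leaf 3) (.leaf 3))))) (.node (.node (.node (.node (.node (.leaf 0) (.leaf 3)) (.leaf 3)) (.node (.leaf 3) (.leaf 3))) (.node (.node (.leaf 3) (.leaf 3)) (.node (.leaf 3) (.leaf 3)))) (.node (.node (.node (.leaf 0) (.leaf 3)) (.node (.leaf 3) (.leaf 3))) (.node (.node (.leaf 3) (.leaf 3)) (.node (.leaf 3) (.leaf 3))))))) (.node (.node (.node (.node (.node (.node (.node (.leaf 0) (.leaf 3)) (.leaf 3)) (.node (.leaf 3) (.leaf 3))) (.node (.node (.leaf 0) (.leaf 3)) (.node (.leaf 0) (.leaf 3)))) (.node (.node (.node (.leaf 3) (.leaf 3)) (.node (.leaf 3) (.leaf 3))) (.node (.node (.leaf 0) (.leaf 3)) (.node (.leaf 3) (.leaf 3))))) (.node (.node (.node (.node (.node (.leaf 0) (.leaf 3)) (.leaf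 3)) (.node (.leaf 3) (.leaf 0))) (.node (.node (.leaf 0) (.leaf 3)) (.node (.leaf 3) (.leaf 3)))) (.node (.node (.node (.leaf 3) (.leaf 3)) (.node (.leaf 3) (.leaf 3))) (.node (.node (.leaf 3) (.leaf 3)) (.node (.leaf 0) (.leaf 3)))))) (.node (.node (.node (.node (.node (.node (.leaf 0) (.leaf 3)) (.leaf 3)) (.node (.leaf 0) (.leaf 3))) (.node (.node (.leaf 0) (.leaf 3)) (.node (.leaf 3) (.leaf 3)))) (.node (.node (.node (.leaf 3) (.leaf 3)) (.node (.leaf 3) (.leaf 3))) (.node (.node (.leaf 3) (.leaf 0)) (.node (.leaf 3) (.leaf 3))))) (.node (.node (.node (.node (.node (.leaf 0) (.leaf 3)) (.leaf 3)) (.node (.leaf 3) (.leaf 3))) (.node (.node (.leaf 3) (.leaf 3)) (.node (.leaf 3) (.leaf 3)))) (.node (.node (.node (.leaf 0) (.leaf 3)) (.node (.leaf 0) (.leaf 3))) (.node (.node (.leaf 3) (.leaf 0)) (.node (.leaf 3) (.leaf 3)))))))))) (.node (.node (.node (.node (.node (.node (.node (.node (.node (.node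 (.leaf 0) (.leaf 3)) (.leaf 3)) (.node (.leaf 0) (.leaf 3))) (.node (.node (.leaf 3) (.leaf 3)) (.node (.leaf 0) (.leaf 3)))) (.node (.node (.node (.node (.leaf 0) (.leaf 3)) (.leaf 3)) (.node (.leaf 3) (.leaf 3))) (.node (.node (.leaf 0) (.leaf 3)) (.node (.leaf 3) (.leaf 3))))) (.node (.node (.node (.node (.node (.leaf 3) (.leaf 3)) (.leaf 3)) (.node (.leaf 0) (.leaf 0))) (.node (.node (.leaf 3) (.leaf 3)) (.node (.leaf 0) (.leaf 3)))) (.node (.node (.node (.leaf 0) (.leaf 3)) (.node (.leaf 3) (.leaf 3))) (.node (.node (.leaf 3) (.leaf 3)) (.node (.leaf 3) (.leaf 3)))))) (.node (.node (.node (.node (.node (.node (.leaf 3) (.leaf 3)) (.leaf 3)) (.node (.leaf 3) (.leaf 3))) (.node (.node (.leaf 0) (.leaf 3)) (.node (.leaf 3) (.leaf 3)))) (.node (.node (.node (.leaf 3) (.leaf 3)) (.node (.leaf 0) (.leaf 3))) (.node (.node (.leaf 0) (.leaf 0)) (.node (.leaf 3) (.leaf 3))))) (.node (.node (.node (.node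 (.node (.leaf 0) (.leaf 3)) (.leaf 3)) (.node (.leaf 3) (.leaf 3))) (.node (.node (.leaf 3) (.leaf 3)) (.node (.leaf 3) (.leaf 3)))) (.node (.node (.node (.leaf 0) (.leaf 3)) (.node (.leaf 3) (.leaf 3))) (.node (.node (.leaf 3) (.leaf 3)) (.node (.leaf 3) (.leaf 3))))))) (.node (.node (.node (.node (.node (.node (.node (.leaf 0) (.leaf 3)) (.leaf 0)) (.node (.leaf 3) (.leaf 3))) (.node (.node (.leaf 0) (.leaf 3)) (.node (.leaf 0) (.leaf 3)))) (.node (.node (.node (.node (.leaf 0) (.leaf 3)) (.leaf 3)) (.node (.leaf 3) (.leaf 3))) (.node (.node (.leaf 0) (.leaf 3)) (.node (.leaf 3) (.leaf 3))))) (.node (.node (.node (.node (.node (.leaf 0) (.leaf 3)) (.leaf 3)) (.node (.leaf 3) (.leaf 3))) (.node (.node (.leaf 0) (.leaf 3)) (.node (.leaf 0) (.leaf 3)))) (.node (.node (.node (.leaf 0) (.leaf 3)) (.node (.leaf 0) (.leaf 3))) (.node (.node (.leaf 0) (.leaf 3)) (.node (.leaf 0) (.leaf 3)))))) (.node (.node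 (.node (.node (.node (.node (.leaf 3) (.leaf 3)) (.leaf 3)) (.node (.leaf 3) (.leaf 3))) (.node (.node (.leaf 0) (.leaf 3)) (.node (.leaf 0) (.leaf 3)))) (.node (.node (.node (.leaf 0) (.leaf 3)) (.node (.leaf 3) (.leaf 0))) (.node (.node (.leaf 0) (.leaf 0)) (.node (.leaf 0) (.leaf 0))))) (.node (.node (.node (.node (.node (.leaf 0) (.leaf 3)) (.leaf 3)) (.node (.leaf 3) (.leaf 3))) (.node (.node (.leaf 0) (.leaf 3)) (.node (.leaf 3) (.leaf 3)))) (.node (.node (.node (.leaf 0) (.leaf 3)) (.node (.leaf 0) (.leaf 3))) (.node (.node (.leaf 3) (.leaf 3)) (.node (.leaf 3) (.leaf 3)))))))) (.node (.node (.node (.node (.node (.node (.node (.node (.leaf 0) (.leaf 3)) (.leaf 3)) (.node (.leaf 0) (.leaf 0))) (.node (.node (.leaf 0) (.leaf 3)) (.node (.leaf 0) (.leaf 3)))) (.node (.node (.node (.node (.leaf 0) (.leaf 2)) (.leaf 3)) (.node (.leaf 3) (.leaf 3))) (.node (.node (.leaf 3) (.leaf 0)) (.node (.leaf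 3) (.leaf 3))))) (.node (.node (.node (.node (.node (.leaf 3) (.leaf 3)) (.leaf 3)) (.node (.leaf 3) (.leaf 3))) (.node (.node (.leaf 0) (.leaf 3)) (.node (.leaf 0) (.leaf 3)))) (.node (.node (.node (.leaf 0) (.leaf 3)) (.node (.leaf 3) (.leaf 3))) (.node (.node (.leaf 3) (.leaf 3)) (.node (.leaf 0) (.leaf 3)))))) (.node (.node (.node (.node (.node (.node (.leaf 0) (.leaf 3)) (.leaf 0)) (.node (.leaf 0) (.leaf 3))) (.node (.node (.leaf 0) (.leaf 3)) (.node (.leaf 3) (.leaf 3)))) (.node (.node (.node (.leaf 3) (.leaf 3)) (.node (.leaf 3) (.leaf 3))) (.node (.node (.leaf 3) (.leaf 0)) (.node (.leaf 3) (.leaf 3))))) (.node (.node (.node (.node (.node (.leaf 0) (.leaf 3)) (.leaf 3)) (.node (.leaf 3) (.leaf 3))) (.node (.node (.leaf 0) (.leaf 3)) (.node (.leaf 3) (.leaf 3)))) (.node (.node (.node (.leaf 3) (.leaf 3)) (.node (.leaf 3) (.leaf 3))) (.node (.node (.leaf 0) (.leaf 3)) (.node (.leaf 3) (.leaf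 3))))))) (.node (.node (.node (.node (.node (.node (.node (.leaf 0) (.leaf 3)) (.leaf 3)) (.node (.leaf 3) (.leaf 3))) (.node (.node (.leaf 3) (.leaf 3)) (.node (.leaf 3) (.leaf 3)))) (.node (.node (.node (.leaf 0) (.leaf 3)) (.node (.leaf 3) (.leaf 3))) (.node (.node (.leaf 3) (.leaf 0)) (.node (.leaf 0) (.leaf 3))))) (.node (.node (.node (.node (.node (.leaf 0) (.leaf 3)) (.leaf 3)) (.node (.leaf 3) (.leaf 3))) (.node (.node (.leaf 0) (.leaf 3)) (.node (.leaf 3) (.leaf 3)))) (.node (.node (.node (.leaf 3) (.leaf 3)) (.node (.leaf 3) (.leaf 3))) (.node (.node (.leaf 0) (.leaf 3)) (.node (.leaf 3) (.leaf 3)))))) (.node (.node (.node (.node (.node (.node (.leaf 0) (.leaf 3)) (.leaf 3)) (.node (.leaf 3) (.leaf 0))) (.node (.node (.leaf 0) (.leaf 3)) (.node (.leaf 3) (.leaf 3)))) (.node (.node (.node (.leaf 3) (.leaf 3)) (.node (.leaf 3) (.leaf 3))) (.node (.node (.leaf 3) (.leaf 3)) (.node (.leaf 0)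 (.leaf 0))))) (.node (.node (.node (.node (.node (.leaf 0) (.leaf 3)) (.leaf 3)) (.node (.leaf 3) (.leaf 3))) (.node (.node (.leaf 0) (.leaf 3)) (.node (.leaf 3) (.leaf 3)))) (.node (.node (.node (.leaf 0) (.leaf 3)) (.node (.leaf 0) (.leaf 3))) (.node (.node (.leaf 3) (.leaf 3)) (.node (.leaf 3) (.leaf 3))))))))) (.node (.node (.node (.node (.node (.node (.node (.node (.node (.leaf 0) (.leaf 3)) (.leaf 3)) (.node (.leaf 3) (.leaf 3))) (.node (.node (.leaf 3) (.leaf 3)) (.node (.leaf 0) (.leaf 3)))) (.node (.node (.node (.node (.leaf 0) (.leaf 3)) (.leaf 3)) (.node (.leaf 3) (.leaf 3))) (.node (.node (.leaf 0) (.leaf 0)) (.node (.leaf 0) (.leaf 3))))) (.node (.node (.node (.node (.node (.leaf 0) (.leaf 3)) (.leaf 3)) (.node (.leaf 0) (.leaf 0))) (.node (.node (.leaf 0) (.leaf 3)) (.node (.leaf 0) (.leaf 3)))) (.node (.node (.node (.leaf 0) (.leaf 3)) (.node (.leaf 3) (.leaf 3))) (.node (.node (.leaf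 0) (.leaf 0)) (.node (.leaf 3) (.leaf 3)))))) (.node (.node (.node (.node (.node (.node (.leaf 0) (.leaf 3)) (.leaf 3)) (.node (.leaf 3) (.leaf 3))) (.node (.node (.leaf 0) (.leaf 3)) (.node (.leaf 3) (.leaf 3)))) (.node (.node (.node (.leaf 0) (.leaf 3)) (.node (.leaf 3) (.leaf 3))) (.node (.node (.leaf 0) (.leaf 3)) (.node (.leaf 3) (.leaf 3))))) (.node (.node (.node (.node (.node (.leaf 3) (.leaf 3)) (.leaf 3)) (.node (.leaf 3) (.leaf 3))) (.node (.node (.leaf 0) (.leaf 3)) (.node (.leaf 0) (.leaf 3)))) (.node (.node (.node (.leaf 3) (.leaf 3)) (.node (.leaf 3) (.leaf 3))) (.node (.node (.leaf 3) (.leaf 0)) (.node (.leaf 3) (.leaf 3))))))) (.node (.node (.node (.node (.node (.node (.node (.leaf 0) (.leaf 3)) (.leaf 3)) (.node (.leaf 3) (.leaf 3))) (.node (.node (.leaf 0) (.leaf 3)) (.node (.leaf 0) (.leaf 3)))) (.node (.node (.node (.node (.leaf 0) (.leaf 3)) (.leaf 3)) (.node (.leaf 3) (.leaf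 3))) (.node (.node (.leaf 0) (.leaf 3)) (.node (.leaf 3) (.leaf 3))))) (.node (.node (.node (.node (.node (.leaf 0) (.leaf 3)) (.leaf 3)) (.node (.leaf 3) (.leaf 3))) (.node (.node (.leaf 3) (.leaf 3)) (.node (.leaf 3) (.leaf 3)))) (.node (.node (.node (.leaf 3) (.leaf 3)) (.node (.leaf 3) (.leaf 3))) (.node (.node (.leaf 3) (.leaf 3)) (.node (.leaf 3) (.leaf 3)))))) (.node (.node (.node (.node (.node (.node (.leaf 0) (.leaf 3)) (.leaf 3)) (.node (.leaf 0) (.leaf 3))) (.node (.node (.leaf 0) (.leaf 3)) (.node (.leaf 0) (.leaf 3)))) (.node (.node (.node (.leaf 0) (.leaf 3)) (.node (.leaf 3) (.leaf 0))) (.node (.node (.leaf 3) (.leaf 3)) (.node (.leaf 3) (.leaf 3))))) (.node (.node (.node (.node (.node (.leaf 0) (.leaf 3)) (.leaf 3)) (.node (.leaf 3) (.leaf 3))) (.node (.node (.leaf 0) (.leaf 3)) (.node (.leaf 3) (.leaf 3)))) (.node (.node (.node (.leaf 3) (.leaf 3)) (.node (.leaf 0) (.leaf 3))) (.node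 (.node (.leaf 3) (.leaf 0)) (.node (.leaf 3) (.leaf 3)))))))) (.node (.node (.node (.node (.node (.node (.node (.node (.leaf 0) (.leaf 3)) (.leaf 3)) (.node (.leaf 3) (.leaf 3))) (.node (.node (.leaf 0) (.leaf 3)) (.node (.leaf 0) (.leaf 3)))) (.node (.node (.node (.node (.leaf 3) (.leaf 3)) (.leaf 3)) (.node (.leaf 3) (.leaf 0))) (.node (.node (.leaf 3) (.leaf 0)) (.node (.leaf 3) (.leaf 3))))) (.node (.node (.node (.node (.node (.leaf 0) (.leaf 3)) (.leaf 3)) (.node (.leaf 3) (.leaf 3))) (.node (.node (.leaf 0) (.leaf 3)) (.node (.leaf 0) (.leaf 3)))) (.node (.node (.node (.leaf 0) (.leaf 3)) (.node (.leaf 3) (.leaf 3))) (.node (.node (.leaf 0) (.leaf 0)) (.node (.leaf 3) (.leaf 3)))))) (.node (.node (.node (.node (.node (.node (.leaf 0) (.leaf 3)) (.leaf 3)) (.node (.leaf 3) (.leaf 3))) (.node (.node (.leaf 0) (.leaf 3)) (.node (.leaf 3) (.leaf 3)))) (.node (.node (.node (.leaf 3) (.leaf 3)) (.node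 (.leaf 3) (.leaf 3))) (.node (.node (.leaf 0) (.leaf 0)) (.node (.leaf 3) (.leaf 3))))) (.node (.node (.node (.node (.node (.leaf 0) (.leaf 3)) (.leaf 3)) (.node (.leaf 3) (.leaf 3))) (.node (.node (.leaf 3) (.leaf 3)) (.node (.leaf 3) (.leaf 3)))) (.node (.node (.node (.leaf 0) (.leaf 3)) (.node (.leaf 3) (.leaf 3))) (.node (.node (.leaf 3) (.leaf 3)) (.node (.leaf 3) (.leaf 3))))))) (.node (.node (.node (.node (.node (.node (.node (.leaf 0) (.leaf 3)) (.leaf 0)) (.node (.leaf 0) (.leaf 0))) (.node (.node (.leaf 0) (.leaf 3)) (.node (.leaf 3) (.leaf 3)))) (.node (.node (.node (.leaf 0) (.leaf 3)) (.node (.leaf 3) (.leaf 0))) (.node (.node (.leaf 3) (.leaf 3)) (.node (.leaf 3) (.leaf 0))))) (.node (.node (.node (.node (.node (.leaf 0) (.leaf 3)) (.leaf 3)) (.node (.leaf 3) (.leaf 3))) (.node (.node (.leaf 3) (.leaf 3)) (.node (.leaf 0) (.leaf 3)))) (.node (.node (.node (.leaf 0) (.leaf 3)) (.node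 (.leaf 3) (.leaf 3))) (.node (.node (.leaf 0) (.leaf 0)) (.node (.leaf 3) (.leaf 3)))))) (.node (.node (.node (.node (.node (.node (.leaf 3) (.leaf 3)) (.leaf 3)) (.node (.leaf 3) (.leaf 3))) (.node (.node (.leaf 0) (.leaf 3)) (.node (.leaf 0) (.leaf 3)))) (.node (.node (.node (.leaf 0) (.leaf 3)) (.node (.leaf 3) (.leaf 3))) (.node (.node (.leaf 0) (.leaf 0)) (.node (.leaf 3) (.leaf 3))))) (.node (.node (.node (.node (.node (.leaf 0) (.leaf 3)) (.leaf 3)) (.node (.leaf 3) (.leaf 3))) (.node (.node (.leaf 0) (.leaf 0)) (.node (.leaf 3) (.leaf 3)))) (.node (.node (.node (.leaf 0) (.leaf 3)) (.node (.leaf 3) (.leaf 3))) (.node (.node (.leaf 3) (.leaf 3)) (.node (.leaf 3) (.leaf 3)))))))))))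

def threeKind : Janko.Tree (ℕ) := (.node (.node (.node threeKind0 threeKind4) (.node threeKind2 threeKind6)) (.node (.node threeKind1 threeKind5) (.node threeKind3 threeKind7)))

def threeRank0 : Janko.Tree (ℕ) :=
  (.node (.node (.node (.node (.node (.node (.node (.node (.node (.node (.node (.leaf 0) (.leaf 4321)) (.leaf 3205)) (.node (.leaf 3458) (.leaf 6598))) (.node (.node (.leaf 2730) (.leaf 8058)) (.node (.leaf 1448) (.leaf 4877)))) (.node (.node (.node (.node (.leaf 431) (.leaf 3724)) (.leaf 5206)) (.node (.leaf 8185) (.leaf 4204))) (.node (.node (.leaf 3203) (.leaf 1944)) (.node (.leaf 6833) (.leaf 5872))))) (.node (.node (.node (.node (.node (.leaf 2298) (.leaf 2193)) (.leaf 2246)) (.node (.leaf 3191) (.leaf 8182))) (.node (.node (.leaf 901) (.leaf 6415)) (.node (.leaf 8777) (.leaf 7562)))) (.node (.node (.node (.leaf 3216) (.leaf 1930)) (.node (.leaf 2266) (.leaf 4460))) (.node (.node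 (.leaf 6289) (.leaf 4502)) (.node (.leaf 8671) (.leaf 5566)))))) (.node (.node (.node (.node (.node (.node (.leaf 118) (.leaf 3529)) (.leaf 3593)) (.node (.leaf 8077) (.leaf 3192))) (.node (.node (.leaf 803) (.leaf 4447)) (.node (.leaf 7342) (.leaf 4359)))) (.node (.node (.node (.leaf 519) (.leaf 4119)) (.node (.leaf 4094) (.leaf 3819))) (.node (.node (.leaf 1132) (.leaf 3109)) (.node (.leaf 7020) (.leaf 2199))))) (.node (.node (.node (.node (.node (.leaf 3131) (.leaf 4391)) (.leaf 2721)) (.node (.leaf 5567) (.leaf 5607))) (.node (.node (.leaf 985) (.leaf 8252)) (.node (.leaf 1666) (.leaf 4127)))) (.node (.node (.node (.leaf 669) (.leaf 3787)) (.node (.leaf 3784) (.leaf 4274))) (.node (.node (.leaf 5935) (.leaf 7378)) (.node (.leaf 8004) (.leaf 8507))))))) (.node (.node (.node (.node (.node (.node (.node (.leaf 59) (.leaf 8211)) (.leaf 7840)) (.node (.leaf 4271) (.leaf 2111))) (.node (.node (.leaf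 2703) (.leaf 5074)) (.node (.leaf 3058) (.leaf 7755)))) (.node (.node (.node (.node (.leaf 473) (.leaf 3389)) (.leaf 2241)) (.node (.leaf 7853) (.leaf 7670))) (.node (.node (.leaf 3751) (.leaf 3715)) (.node (.leaf 1742) (.leaf 5907))))) (.node (.node (.node (.node (.node (.leaf 273) (.leaf 7438)) (.leaf 7043)) (.node (.leaf 1356) (.leaf 7477))) (.node (.node (.leaf 3273) (.leaf 5634)) (.node (.leaf 7930) (.leaf 3961)))) (.node (.node (.node (.leaf 632) (.leaf 2942)) (.node (.leaf 3549) (.leaf 8621))) (.node (.node (.leaf 4231) (.leaf 6151)) (.node (.leaf 4563) (.leaf 2196)))))) (.node (.node (.node (.node (.node (.node (.leaf 171) (.leaf 3989)) (.leaf 1891)) (.node (.leaf 5762) (.leaf 5021))) (.node (.node (.leaf 856) (.leaf 8387)) (.node (.leaf 1565) (.leaf 5490)))) (.node (.node (.node (.leaf 561) (.leaf 1925)) (.node (.leaf 3913) (.leaf 7435))) (.node (.node (.leaf 1157) (.leaf 8685)) (.node (.leaf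 7722) (.leaf 3134))))) (.node (.node (.node (.node (.node (.leaf 2738) (.leaf 3729)) (.leaf 8651)) (.node (.leaf 2270) (.leaf 3114))) (.node (.node (.leaf 2702) (.leaf 3102)) (.node (.leaf 3182) (.leaf 4283)))) (.node (.node (.node (.leaf 2697) (.leaf 3852)) (.node (.leaf 3139) (.leaf 6203))) (.node (.node (.leaf 3484) (.leaf 2684)) (.node (.leaf 1852) (.leaf 7601)))))))) (.node (.node (.node (.node (.node (.node (.node (.node (.leaf 31) (.leaf 7612)) (.leaf 2249)) (.node (.leaf 2277) (.leaf 2103))) (.node (.node (.leaf 3190) (.leaf 8469)) (.node (.leaf 8640) (.leaf 8312)))) (.node (.node (.node (.node (.leaf 2752) (.leaf 5906)) (.leaf 8510)) (.node (.leaf 5186) (.leaf 6620))) (.node (.node (.leaf 1079) (.leaf 6043)) (.node (.leaf 5353) (.leaf 8036))))) (.node (.node (.node (.node (.node (.leaf 247) (.leaf 7261)) (.leaf 6038)) (.node (.leaf 3937) (.leaf 7980))) (.node (.node (.leaf 923) (.leaf 8343))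 (.node (.leaf 1620) (.leaf 3991)))) (.node (.node (.node (.leaf 2740) (.leaf 2236)) (.node (.leaf 6981) (.leaf 7129))) (.node (.node (.leaf 6471) (.leaf 7570)) (.node (.leaf 2253) (.leaf 4277)))))) (.node (.node (.node (.node (.node (.node (.leaf 142) (.leaf 6810)) (.leaf 7564)) (.node (.leaf 3160) (.leaf 6469))) (.node (.node (.leaf 829) (.leaf 2687)) (.node (.leaf 1542) (.leaf 5336)))) (.node (.node (.node (.leaf 537) (.leaf 4491)) (.node (.leaf 1388) (.leaf 2153))) (.node (.node (.leaf 6412) (.leaf 1998)) (.node (.leaf 1770) (.leaf 4419))))) (.node (.node (.node (.node (.node (.leaf 2296) (.leaf 3974)) (.leaf 3099)) (.node (.leaf 1368) (.leaf 5817))) (.node (.node (.leaf 7299) (.leaf 2231)) (.node (.leaf 8363) (.leaf 4043)))) (.node (.node (.node (.leaf 685) (.leaf 8463)) (.node (.leaf 7693) (.leaf 3451))) (.node (.node (.leaf 4697) (.leaf 3512)) (.node (.leaf 1842) (.leaf 8106))))))) (.node (.node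 (.node (.node (.node (.node (.node (.leaf 90) (.leaf 5732)) (.leaf 8235)) (.node (.leaf 8407) (.leaf 8384))) (.node (.node (.leaf 776) (.leaf 8653)) (.node (.leaf 1512) (.leaf 7285)))) (.node (.node (.node (.node (.leaf 2742) (.leaf 4540)) (.leaf 6490)) (.node (.leaf 8197) (.leaf 3837))) (.node (.node (.leaf 1115) (.leaf 1980)) (.node (.leaf 6153) (.leaf 3881))))) (.node (.node (.node (.node (.node (.leaf 302) (.leaf 8292)) (.leaf 2689)) (.node (.leaf 3859) (.leaf 6001))) (.node (.node (.leaf 967) (.leaf 5346)) (.node (.leaf 3727) (.leaf 3532)))) (.node (.node (.node (.leaf 650) (.leaf 5365)) (.node (.leaf 6701) (.leaf 5144))) (.node (.node (.leaf 8270) (.leaf 7341)) (.node (.leaf 7897) (.leaf 2981)))))) (.node (.node (.node (.node (.node (.node (.leaf 3217) (.leaf 3875)) (.leaf 4051)) (.node (.leaf 3855) (.leaf 6087))) (.node (.node (.leaf 880) (.leaf 6017)) (.node (.leaf 6401) (.leaf 3204)))) (.node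 (.node (.node (.leaf 580) (.leaf 2237)) (.node (.leaf 5060) (.leaf 3046))) (.node (.node (.leaf 1169) (.leaf 2017)) (.node (.leaf 1789) (.leaf 2833))))) (.node (.node (.node (.node (.node (.leaf 405) (.leaf 4747)) (.leaf 8176)) (.node (.leaf 8437) (.leaf 2755))) (.node (.node (.leaf 8011) (.leaf 4440)) (.node (.leaf 1704) (.leaf 4289)))) (.node (.node (.node (.leaf 2290) (.leaf 2234)) (.node (.leaf 1424) (.leaf 8001))) (.node (.node (.leaf 1257) (.leaf 2090)) (.node (.leaf 5797) (.leaf 7101))))))))) (.node (.node (.node (.node (.node (.node (.node (.node (.node (.leaf 16) (.leaf 8286)) (.leaf 7074)) (.node (.leaf 4816) (.leaf 4116))) (.node (.node (.leaf 732) (.leaf 6975)) (.node (.leaf 1459) (.leaf 7999)))) (.node (.node (.node (.node (.leaf 443) (.leaf 2187)) (.leaf 7615)) (.node (.leaf 1378) (.leaf 7847))) (.node (.node (.leaf 1069) (.leaf 1951)) (.node (.leaf 4869) (.leaf 3142))))) (.node (.node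 (.node (.node (.node (.leaf 236) (.leaf 6547)) (.leaf 5108)) (.node (.leaf 1347) (.leaf 8601))) (.node (.node (.leaf 910) (.leaf 7209)) (.node (.leaf 1613) (.leaf 5134)))) (.node (.node (.node (.leaf 6699) (.leaf 4192)) (.node (.leaf 3709) (.leaf 8220))) (.node (.node (.leaf 1189) (.leaf 7064)) (.node (.leaf 1805) (.leaf 8342)))))) (.node (.node (.node (.node (.node (.node (.leaf 2300) (.leaf 3398)) (.leaf 6358)) (.node (.leaf 7376) (.leaf 4147))) (.node (.node (.leaf 2747) (.leaf 8798)) (.node (.leaf 2261) (.leaf 6928)))) (.node (.node (.node (.leaf 530) (.leaf 2239)) (.node (.leaf 8247) (.leaf 7581))) (.node (.node (.leaf 2690) (.leaf 4235)) (.node (.leaf 1766) (.leaf 6544))))) (.node (.node (.node (.node (.node (.leaf 339) (.leaf 6586)) (.leaf 4266)) (.node (.leaf 2883) (.leaf 2218))) (.node (.node (.leaf 998) (.leaf 6546)) (.node (.leaf 1671) (.leaf 6156)))) (.node (.node (.node (.leaf 678) (.leaf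 7989)) (.node (.leaf 2263) (.leaf 6712))) (.node (.node (.leaf 1237) (.leaf 4829)) (.node (.leaf 3515) (.leaf 5201))))))) (.node (.node (.node (.node (.node (.node (.node (.leaf 75) (.leaf 8156)) (.leaf 5159)) (.node (.leaf 3700) (.leaf 5552))) (.node (.node (.leaf 3106) (.leaf 8385)) (.node (.leaf 1500) (.leaf 7837)))) (.node (.node (.node (.node (.leaf 486) (.leaf 2811)) (.leaf 4198)) (.node (.leaf 1383) (.leaf 4951))) (.node (.node (.leaf 1106) (.leaf 1973)) (.node (.leaf 7263) (.leaf 2728))))) (.node (.node (.node (.node (.node (.leaf 287) (.leaf 3297)) (.leaf 4572)) (.node (.leaf 3431) (.leaf 2135))) (.node (.node (.leaf 956) (.leaf 7240)) (.node (.leaf 1646) (.leaf 8523)))) (.node (.node (.node (.leaf 642) (.leaf 8347)) (.node (.leaf 5651) (.leaf 3300))) (.node (.node (.leaf 1215) (.leaf 2225)) (.node (.leaf 5565) (.leaf 5356)))))) (.node (.node (.node (.node (.node (.node (.leaf 182) (.leaf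 2194)) (.leaf 7985)) (.node (.leaf 8241) (.leaf 3826))) (.node (.node (.leaf 868) (.leaf 3856)) (.node (.leaf 1573) (.leaf 4703)))) (.node (.node (.node (.leaf 5745) (.leaf 6682)) (.node (.leaf 3100) (.leaf 3608))) (.node (.node (.leaf 2722) (.leaf 2879)) (.node (.leaf 6651) (.leaf 3769))))) (.node (.node (.node (.node (.node (.leaf 392) (.leaf 2189)) (.leaf 4372)) (.node (.leaf 8645) (.leaf 4074))) (.node (.node (.leaf 3206) (.leaf 7613)) (.node (.leaf 1693) (.leaf 4932)))) (.node (.node (.node (.leaf 5221) (.leaf 6783)) (.node (.leaf 4784) (.leaf 8631))) (.node (.node (.leaf 2278) (.leaf 2082)) (.node (.leaf 2922) (.leaf 7995)))))))) (.node (.node (.node (.node (.node (.node (.node (.node (.leaf 3056) (.leaf 6356)) (.leaf 3403)) (.node (.leaf 7204) (.leaf 5680))) (.node (.node (.leaf 5352) (.leaf 6012)) (.node (.leaf 1481) (.leaf 6842)))) (.node (.node (.node (.node (.leaf 464) (.leaf 2677)) (.leaf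 7672)) (.node (.leaf 2731) (.leaf 8326))) (.node (.node (.leaf 1087) (.leaf 1960)) (.node (.leaf 2256) (.leaf 4936))))) (.node (.node (.node (.node (.node (.leaf 260) (.leaf 6362)) (.leaf 6836)) (.node (.leaf 2779) (.leaf 7597))) (.node (.node (.leaf 2735) (.leaf 6181)) (.node (.leaf 1630) (.leaf 7042)))) (.node (.node (.node (.leaf 3213) (.leaf 6944)) (.node (.leaf 7684) (.leaf 2953))) (.node (.node (.leaf 5429) (.leaf 7801)) (.node (.leaf 6846) (.leaf 7491)))))) (.node (.node (.node (.node (.node (.node (.leaf 156) (.leaf 6174)) (.leaf 7510)) (.node (.leaf 5867) (.leaf 8769))) (.node (.node (.leaf 842) (.leaf 7721)) (.node (.leaf 1554) (.leaf 3429)))) (.node (.node (.node (.leaf 548) (.leaf 6407)) (.node (.leaf 4035) (.leaf 6929))) (.node (.node (.leaf 2281) (.leaf 2822)) (.node (.leaf 3268) (.leaf 7157))))) (.node (.node (.node (.node (.node (.leaf 366) (.leaf 3391)) (.leaf 8369)) (.node (.leaf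 4286) (.leaf 2217))) (.node (.node (.leaf 1017) (.leaf 4067)) (.node (.leaf 1684) (.leaf 5349)))) (.node (.node (.node (.leaf 695) (.leaf 4039)) (.node (.leaf 5112) (.leaf 5288))) (.node (.node (.leaf 6037) (.leaf 8531)) (.node (.leaf 2681) (.leaf 4500))))))) (.node (.node (.node (.node (.node (.node (.node (.leaf 103) (.leaf 2726)) (.leaf 2789)) (.node (.leaf 3071) (.leaf 8159))) (.node (.node (.leaf 2287) (.leaf 4177)) (.node (.leaf 1522) (.leaf 4922)))) (.node (.node (.node (.leaf 3253) (.leaf 1918)) (.node (.leaf 5901) (.leaf 3957))) (.node (.node (.leaf 1122) (.leaf 5562)) (.node (.leaf 6217) (.leaf 3108))))) (.node (.node (.node (.node (.node (.leaf 2707) (.leaf 8479)) (.leaf 8095)) (.node (.leaf 6110) (.leaf 8331))) (.node (.node (.leaf 974) (.leaf 8656)) (.node (.leaf 7187) (.leaf 7592)))) (.node (.node (.node (.leaf 3771) (.leaf 4400)) (.node (.leaf 8054) (.leaf 4320))) (.node (.node (.leaf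 5224) (.leaf 4166)) (.node (.leaf 4434) (.leaf 3462)))))) (.node (.node (.node (.node (.node (.node (.leaf 208) (.leaf 6324)) (.leaf 8418)) (.node (.leaf 3466) (.leaf 7817))) (.node (.node (.leaf 2760) (.leaf 7869)) (.node (.leaf 1592) (.leaf 5105)))) (.node (.node (.node (.leaf 2706) (.leaf 5832)) (.node (.leaf 4018) (.leaf 8065))) (.node (.node (.leaf 3184) (.leaf 2873)) (.node (.leaf 1796) (.leaf 3482))))) (.node (.node (.node (.node (.node (.leaf 419) (.leaf 3423)) (.leaf 8406)) (.node (.leaf 7481) (.leaf 7167))) (.node (.node (.leaf 2733) (.leaf 2230)) (.node (.leaf 1712) (.leaf 4077)))) (.node (.node (.node (.leaf 720) (.leaf 8414)) (.node (.leaf 1436) (.leaf 4980))) (.node (.node (.leaf 1264) (.leaf 4727)) (.node (.leaf 1867) (.leaf 7962)))))))))) (.node (.node (.node (.node (.node (.node (.node (.node (.node (.node (.leaf 8) (.leaf 8732)) (.leaf 2948)) (.node (.leaf 2935) (.leaf 3982))) (.node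 (.node (.leaf 728) (.leaf 8016)) (.node (.leaf 1453) (.leaf 6881)))) (.node (.node (.node (.node (.leaf 438) (.leaf 3806)) (.leaf 6360)) (.node (.leaf 8237) (.leaf 7737))) (.node (.node (.leaf 1063) (.leaf 6400)) (.node (.leaf 3049) (.leaf 3422))))) (.node (.node (.node (.node (.node (.leaf 229) (.leaf 8525)) (.leaf 1897)) (.node (.leaf 4832) (.leaf 8590))) (.node (.node (.leaf 3083) (.leaf 3944)) (.node (.leaf 1607) (.leaf 5715)))) (.node (.node (.node (.leaf 597) (.leaf 3107)) (.node (.leaf 5786) (.leaf 4439))) (.node (.node (.leaf 1186) (.leaf 2227)) (.node (.leaf 8295) (.leaf 8202)))))) (.node (.node (.node (.node (.node (.node (.leaf 126) (.leaf 3845)) (.leaf 3900)) (.node (.leaf 4209) (.leaf 2118))) (.node (.node (.leaf 809) (.leaf 7403)) (.node (.leaf 4963) (.leaf 4154)))) (.node (.node (.node (.leaf 6396) (.leaf 8289)) (.node (.leaf 8706) (.leaf 6036))) (.node (.node (.leaf 2701) (.leaf 5957))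 (.node (.leaf 1763) (.leaf 4508))))) (.node (.node (.node (.node (.node (.leaf 332) (.leaf 8190)) (.leaf 7545)) (.node (.leaf 7393) (.leaf 2138))) (.node (.node (.leaf 991) (.leaf 6386)) (.node (.leaf 5158) (.leaf 7686)))) (.node (.node (.node (.leaf 4592) (.leaf 2235)) (.node (.leaf 4069) (.leaf 4188))) (.node (.node (.leaf 4562) (.leaf 3152)) (.node (.leaf 1833) (.leaf 5279))))))) (.node (.node (.node (.node (.node (.node (.node (.leaf 67) (.leaf 8264)) (.leaf 7417)) (.node (.leaf 7244) (.leaf 3851))) (.node (.node (.leaf 2710) (.leaf 4468)) (.node (.leaf 5364) (.leaf 4396)))) (.node (.node (.node (.node (.leaf 479) (.leaf 4577)) (.leaf 4244)) (.node (.leaf 8050) (.leaf 5472))) (.node (.node (.leaf 1099) (.leaf 8757)) (.node (.leaf 2891) (.leaf 2200))))) (.node (.node (.node (.node (.node (.leaf 3055) (.leaf 8747)) (.leaf 3199)) (.node (.leaf 4945) (.leaf 8501))) (.node (.node (.leaf 949) (.leaf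 2232)) (.node (.leaf 4121) (.leaf 8088)))) (.node (.node (.node (.leaf 5663) (.leaf 8353)) (.node (.leaf 7551) (.leaf 7004))) (.node (.node (.leaf 1210) (.leaf 6274)) (.node (.leaf 6524) (.leaf 8788)))))) (.node (.node (.node (.node (.node (.node (.leaf 176) (.leaf 8520)) (.leaf 5602)) (.node (.leaf 7723) (.leaf 6357))) (.node (.node (.leaf 3022) (.leaf 3574)) (.node (.leaf 1570) (.leaf 2714)))) (.node (.node (.node (.leaf 566) (.leaf 2238)) (.node (.leaf 2267) (.leaf 8644))) (.node (.node (.leaf 7749) (.leaf 2007)) (.node (.leaf 6557) (.leaf 4215))))) (.node (.node (.node (.node (.node (.leaf 384) (.leaf 3807)) (.leaf 8060)) (.node (.leaf 8618) (.leaf 7086))) (.node (.node (.leaf 2692) (.leaf 4329)) (.node (.leaf 3165) (.leaf 3662)))) (.node (.node (.node (.leaf 703) (.leaf 6172)) (.node (.leaf 3105) (.leaf 4058))) (.node (.node (.leaf 2836) (.leaf 3850)) (.node (.leaf 8128) (.leaf 8311))))))))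 (.node (.node (.node (.node (.node (.node (.node (.node (.leaf 38) (.leaf 4199)) (.leaf 7038)) (.node (.leaf 6395) (.leaf 2106))) (.node (.node (.leaf 5146) (.leaf 7533)) (.node (.leaf 1475) (.leaf 6120)))) (.node (.node (.node (.node (.leaf 457) (.leaf 7431)) (.leaf 8076)) (.node (.leaf 7802) (.leaf 3571))) (.node (.node (.leaf 1082) (.leaf 4252)) (.node (.leaf 6142) (.leaf 7219))))) (.node (.node (.node (.node (.node (.leaf 255) (.leaf 8154)) (.leaf 4097)) (.node (.leaf 3802) (.leaf 7857))) (.node (.node (.leaf 2285) (.leaf 4010)) (.node (.leaf 1625) (.leaf 6906)))) (.node (.node (.node (.leaf 2926) (.leaf 2845)) (.node (.leaf 4551) (.leaf 6326))) (.node (.node (.leaf 1201) (.leaf 4232)) (.node (.leaf 5893) (.leaf 4448)))))) (.node (.node (.node (.node (.node (.node (.leaf 149) (.leaf 8399)) (.leaf 8589)) (.node (.leaf 6221) (.leaf 2220))) (.node (.node (.leaf 836) (.leaf 8582)) (.node (.leaf 1548)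 (.leaf 6291)))) (.node (.node (.node (.leaf 5770) (.leaf 3883)) (.node (.leaf 2268) (.leaf 6746))) (.node (.node (.leaf 8357) (.leaf 3419)) (.node (.leaf 2693) (.leaf 5620))))) (.node (.node (.node (.node (.node (.leaf 2744) (.leaf 2191)) (.leaf 3129)) (.node (.leaf 4137) (.leaf 3750))) (.node (.node (.leaf 1013) (.leaf 6390)) (.node (.leaf 4823) (.leaf 8227)))) (.node (.node (.node (.leaf 689) (.leaf 2988)) (.node (.leaf 7763) (.leaf 2985))) (.node (.node (.leaf 4214) (.leaf 5589)) (.node (.leaf 2250) (.leaf 6563))))))) (.node (.node (.node (.node (.node (.node (.node (.leaf 96) (.leaf 7781)) (.leaf 6859)) (.node (.leaf 2275) (.leaf 7653))) (.node (.node (.leaf 784) (.leaf 8450)) (.node (.leaf 1518) (.leaf 5856)))) (.node (.node (.node (.leaf 502) (.leaf 6034)) (.node (.leaf 1385) (.leaf 3790))) (.node (.node (.leaf 1118) (.leaf 6784)) (.node (.leaf 4911) (.leaf 5020))))) (.node (.node (.node (.node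 (.node (.leaf 310) (.leaf 3947)) (.leaf 5143)) (.node (.leaf 7225) (.leaf 3879))) (.node (.node (.leaf 6434) (.leaf 7229)) (.node (.leaf 6042) (.leaf 8017)))) (.node (.node (.node (.leaf 7194) (.leaf 4275)) (.node (.leaf 4574) (.leaf 6743))) (.node (.node (.leaf 1223) (.leaf 7770)) (.node (.leaf 2251) (.leaf 4024)))))) (.node (.node (.node (.node (.node (.node (.leaf 200) (.leaf 4494)) (.leaf 4856)) (.node (.leaf 1332) (.leaf 8597))) (.node (.node (.leaf 887) (.leaf 8022)) (.node (.leaf 2260) (.leaf 3439)))) (.node (.node (.node (.leaf 583) (.leaf 4353)) (.node (.leaf 4082) (.leaf 4412))) (.node (.node (.leaf 3176) (.leaf 3486)) (.node (.leaf 1792) (.leaf 7312))))) (.node (.node (.node (.node (.node (.leaf 413) (.leaf 7216)) (.leaf 4820)) (.node (.leaf 4046) (.leaf 2216))) (.node (.node (.leaf 6726) (.leaf 3928)) (.node (.leaf 1708) (.leaf 7304)))) (.node (.node (.node (.leaf 2739) (.leaf 7003))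 (.node (.leaf 1430) (.leaf 8409))) (.node (.node (.leaf 2954) (.leaf 3201)) (.node (.leaf 1866) (.leaf 8633))))))))) (.node (.node (.node (.node (.node (.node (.node (.node (.node (.leaf 23) (.leaf 4878)) (.leaf 8355)) (.node (.leaf 4864) (.leaf 2758))) (.node (.node (.leaf 3181) (.leaf 8105)) (.node (.leaf 2862) (.leaf 6175)))) (.node (.node (.node (.node (.leaf 450) (.leaf 5190)) (.leaf 2242)) (.node (.leaf 8434) (.leaf 7600))) (.node (.node (.leaf 4881) (.leaf 8254)) (.node (.leaf 1724) (.leaf 2202))))) (.node (.node (.node (.node (.node (.leaf 241) (.leaf 5688)) (.leaf 7392)) (.node (.leaf 8167) (.leaf 2718))) (.node (.node (.leaf 916) (.leaf 2233)) (.node (.leaf 1615) (.leaf 5682)))) (.node (.node (.node (.leaf 5803) (.leaf 4079)) (.node (.leaf 4182) (.leaf 7345))) (.node (.node (.leaf 1194) (.leaf 6750)) (.node (.leaf 6735) (.leaf 4658)))))) (.node (.node (.node (.node (.node (.node (.leaf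 3042) (.leaf 7644)) (.leaf 6952)) (.node (.leaf 6580) (.leaf 4300))) (.node (.node (.leaf 821) (.leaf 7792)) (.node (.leaf 6433) (.leaf 8112)))) (.node (.node (.node (.leaf 8419) (.leaf 2743)) (.node (.leaf 7384) (.leaf 5433))) (.node (.node (.leaf 1140) (.leaf 5694)) (.node (.leaf 8390) (.leaf 2198))))) (.node (.node (.node (.node (.node (.leaf 347) (.leaf 4398)) (.leaf 3250)) (.node (.leaf 3212) (.leaf 4027))) (.node (.node (.leaf 1003) (.leaf 3503)) (.node (.leaf 7879) (.leaf 4015)))) (.node (.node (.node (.leaf 681) (.leaf 8577)) (.node (.leaf 4029) (.leaf 6337))) (.node (.node (.leaf 3086) (.leaf 5965)) (.node (.leaf 1837) (.leaf 2195))))))) (.node (.node (.node (.node (.node (.node (.node (.leaf 82) (.leaf 2678)) (.leaf 7344)) (.node (.leaf 5460) (.leaf 8028))) (.node (.node (.leaf 769) (.leaf 8524)) (.node (.leaf 1505) (.leaf 4390)))) (.node (.node (.node (.node (.leaf 2294) (.leaf 4787))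 (.leaf 3163)) (.node (.leaf 7725) (.leaf 7884))) (.node (.node (.leaf 8485) (.leaf 7347)) (.node (.leaf 7824) (.leaf 6808))))) (.node (.node (.node (.node (.node (.leaf 294) (.leaf 2192)) (.leaf 7146)) (.node (.leaf 1361) (.leaf 7929))) (.node (.node (.leaf 8540) (.leaf 7122)) (.node (.leaf 2259) (.leaf 5913)))) (.node (.node (.node (.leaf 645) (.leaf 8317)) (.node (.leaf 7621) (.leaf 5938))) (.node (.node (.leaf 3672) (.leaf 3066)) (.node (.leaf 4652) (.leaf 7082)))))) (.node (.node (.node (.node (.node (.node (.leaf 189) (.leaf 4700)) (.leaf 6999)) (.node (.leaf 2698) (.leaf 7994))) (.node (.node (.leaf 875) (.leaf 3461)) (.node (.leaf 1577) (.leaf 7497)))) (.node (.node (.node (.leaf 576) (.leaf 7061)) (.node (.leaf 3093) (.leaf 8511))) (.node (.node (.leaf 1165) (.leaf 2014)) (.node (.leaf 1788) (.leaf 2197))))) (.node (.node (.node (.node (.node (.leaf 399) (.leaf 4708)) (.leaf 6534)) (.node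 (.leaf 8693) (.leaf 3828))) (.node (.node (.leaf 1034) (.leaf 7888)) (.node (.leaf 1700) (.leaf 7374)))) (.node (.node (.node (.leaf 8307) (.leaf 6654)) (.node (.leaf 2763) (.leaf 8646))) (.node (.node (.leaf 6704) (.leaf 3406)) (.node (.leaf 2715) (.leaf 7338)))))))) (.node (.node (.node (.node (.node (.node (.node (.node (.leaf 52) (.leaf 4441)) (.leaf 3407)) (.node (.leaf 5254) (.leaf 3465))) (.node (.node (.leaf 749) (.leaf 7797)) (.node (.leaf 1486) (.leaf 8673)))) (.node (.node (.node (.node (.leaf 3104) (.leaf 2797)) (.leaf 3932)) (.node (.leaf 6600) (.leaf 6897))) (.node (.node (.leaf 5438) (.leaf 1965)) (.node (.leaf 2842) (.leaf 3001))))) (.node (.node (.node (.node (.node (.leaf 266) (.leaf 8198)) (.leaf 5621)) (.node (.leaf 1353) (.leaf 2133))) (.node (.node (.leaf 939) (.leaf 8034)) (.node (.leaf 3028) (.leaf 7988)))) (.node (.node (.node (.leaf 626) (.leaf 3454)) (.node (.leaf 7732)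 (.leaf 8488))) (.node (.node (.leaf 6832) (.leaf 3703)) (.node (.leaf 1813) (.leaf 4034)))))) (.node (.node (.node (.node (.node (.node (.leaf 163) (.leaf 6694)) (.leaf 3990)) (.node (.leaf 3366) (.leaf 5253))) (.node (.node (.leaf 850) (.leaf 2741)) (.node (.leaf 1560) (.leaf 7790)))) (.node (.node (.node (.leaf 554) (.leaf 3088)) (.node (.leaf 6492) (.leaf 4724))) (.node (.node (.leaf 2732) (.leaf 2228)) (.node (.leaf 4750) (.leaf 2179))))) (.node (.node (.node (.node (.node (.leaf 372) (.leaf 4292)) (.leaf 3987)) (.node (.leaf 4838) (.leaf 3126))) (.node (.node (.leaf 1020) (.leaf 7736)) (.node (.leaf 2257) (.leaf 7780)))) (.node (.node (.node (.leaf 2705) (.leaf 3427)) (.node (.leaf 1403) (.leaf 6758))) (.node (.node (.leaf 1248) (.leaf 8024)) (.node (.leaf 3434) (.leaf 6969))))))) (.node (.node (.node (.node (.node (.node (.node (.leaf 111) (.leaf 4721)) (.leaf 2248)) (.node (.leaf 5026) (.leaf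 2859))) (.node (.node (.leaf 2737) (.leaf 8412)) (.node (.leaf 2885) (.leaf 7191)))) (.node (.node (.node (.leaf 512) (.leaf 7301)) (.node (.leaf 5516) (.leaf 2213))) (.node (.node (.leaf 1126) (.leaf 1987)) (.node (.leaf 6829) (.leaf 2174))))) (.node (.node (.node (.node (.node (.leaf 2704) (.leaf 3124)) (.leaf 3670)) (.node (.leaf 6791) (.leaf 7899))) (.node (.node (.leaf 4569) (.leaf 8330)) (.node (.leaf 1661) (.leaf 6958)))) (.node (.node (.node (.leaf 662) (.leaf 8761)) (.node (.leaf 3758) (.leaf 5189))) (.node (.node (.leaf 1230) (.leaf 7627)) (.node (.leaf 3155) (.leaf 3842)))))) (.node (.node (.node (.node (.node (.node (.leaf 215) (.leaf 6477)) (.leaf 7117)) (.node (.leaf 1340) (.leaf 2128))) (.node (.node (.leaf 894) (.leaf 8444)) (.node (.leaf 8698) (.leaf 6487)))) (.node (.node (.node (.leaf 2699) (.leaf 7874)) (.node (.leaf 2776) (.leaf 3156))) (.node (.node (.leaf 5261) (.leaf 5879))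 (.node (.leaf 7799) (.leaf 2965))))) (.node (.node (.node (.node (.node (.leaf 3198) (.leaf 4366)) (.leaf 5272)) (.node (.leaf 4783) (.leaf 3674))) (.node (.node (.leaf 2917) (.leaf 1939)) (.node (.leaf 1716) (.leaf 7047)))) (.node (.node (.node (.leaf 7366) (.leaf 4677)) (.node (.leaf 3708) (.leaf 3853))) (.node (.node (.leaf 1267) (.leaf 2097)) (.node (.leaf 7885) (.leaf 5197)))))))))))

def threeRank1 : Janko.Tree (ℕ) :=
  (.node (.node (.node (.node (.node (.node (.node (.node (.node (.node (.node (.leaf 1) (.leaf 6148)) (.leaf 5329)) (.node (.leaf 2925) (.leaf 2351))) (.node (.node (.leaf 6234) (.leaf 8056)) (.node (.leaf 3498) (.leaf 5211)))) (.node (.node (.node (.node (.leaf 432) (.leaf 3646)) (.leaf 4766)) (.node (.leaf 8586) (.leaf 3677))) (.node (.node (.leaf 1058) (.leaf 7534)) (.node (.leaf 2394) (.leaf 2323))))) (.node (.node (.node (.node (.node (.leaf 222) (.leaf 8140)) (.leaf 4599))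 (.node (.leaf 6519) (.leaf 6662))) (.node (.node (.leaf 902) (.leaf 5132)) (.node (.leaf 1602) (.leaf 2327)))) (.node (.node (.node (.leaf 591) (.leaf 5122)) (.node (.leaf 5779) (.leaf 6251))) (.node (.node (.leaf 1180) (.leaf 2027)) (.node (.leaf 8316) (.leaf 7351)))))) (.node (.node (.node (.node (.node (.node (.leaf 119) (.leaf 2757)) (.leaf 4795)) (.node (.leaf 1302) (.leaf 4836))) (.node (.node (.leaf 804) (.leaf 5531)) (.node (.leaf 4002) (.leaf 4361)))) (.node (.node (.node (.leaf 5653) (.leaf 7908)) (.node (.leaf 8607) (.leaf 4819))) (.node (.node (.leaf 7659) (.leaf 3639)) (.node (.leaf 3680) (.leaf 7184))))) (.node (.node (.node (.node (.node (.leaf 326) (.leaf 4385)) (.leaf 5332)) (.node (.leaf 8009) (.leaf 7640))) (.node (.node (.leaf 986) (.leaf 8248)) (.node (.leaf 1667) (.leaf 7443)))) (.node (.node (.node (.leaf 7356) (.leaf 2369)) (.node (.leaf 4174) (.leaf 7292))) (.node (.node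 (.leaf 5956) (.leaf 3642)) (.node (.leaf 1829) (.leaf 5811))))))) (.node (.node (.node (.node (.node (.node (.node (.leaf 60) (.leaf 8549)) (.leaf 1880)) (.node (.leaf 4664) (.leaf 2959))) (.node (.node (.leaf 752) (.leaf 5296)) (.node (.leaf 3683) (.leaf 7759)))) (.node (.node (.node (.node (.leaf 2847) (.leaf 2783)) (.leaf 6453)) (.node (.leaf 7712) (.leaf 7907))) (.node (.node (.leaf 4687) (.leaf 1970)) (.node (.leaf 1743) (.leaf 2322))))) (.node (.node (.node (.node (.node (.leaf 2442) (.leaf 8676)) (.leaf 5386)) (.node (.leaf 7729) (.leaf 8768))) (.node (.node (.leaf 945) (.leaf 3437)) (.node (.leaf 5963) (.leaf 4302)))) (.node (.node (.node (.leaf 633) (.leaf 2370)) (.node (.leaf 3551) (.leaf 3409))) (.node (.node (.leaf 5121) (.leaf 6831)) (.node (.leaf 5934) (.leaf 4042)))))) (.node (.node (.node (.node (.node (.node (.leaf 172) (.leaf 8552)) (.leaf 1892)) (.node (.leaf 2416) (.leaf 6503)))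 (.node (.node (.leaf 2430) (.leaf 8389)) (.node (.leaf 2867) (.leaf 4955)))) (.node (.node (.node (.leaf 7039) (.leaf 1926)) (.node (.leaf 5878) (.leaf 4458))) (.node (.node (.leaf 1158) (.leaf 6145)) (.node (.leaf 3401) (.leaf 3643))))) (.node (.node (.node (.node (.node (.leaf 378) (.leaf 3663)) (.leaf 3675)) (.node (.leaf 4938) (.leaf 2344))) (.node (.node (.leaf 1022) (.leaf 3113)) (.node (.leaf 1688) (.leaf 7451)))) (.node (.node (.node (.leaf 701) (.leaf 3478)) (.node (.leaf 1406) (.leaf 2996))) (.node (.node (.leaf 1250) (.leaf 3927)) (.node (.leaf 1853) (.leaf 7544)))))))) (.node (.node (.node (.node (.node (.node (.node (.node (.leaf 32) (.leaf 7807)) (.leaf 2898)) (.node (.leaf 7588) (.leaf 3008))) (.node (.node (.leaf 736) (.leaf 5799)) (.node (.leaf 1470) (.leaf 8309)))) (.node (.node (.node (.node (.leaf 2439) (.leaf 5960)) (.leaf 7158)) (.node (.leaf 6994) (.leaf 4582))) (.node (.node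 (.leaf 8789) (.leaf 1955)) (.node (.leaf 1730) (.leaf 7554))))) (.node (.node (.node (.node (.node (.leaf 248) (.leaf 6247)) (.leaf 1899)) (.node (.leaf 5675) (.leaf 8543))) (.node (.node (.leaf 924) (.leaf 8426)) (.node (.leaf 1621) (.leaf 8710)))) (.node (.node (.node (.leaf 614) (.leaf 6876)) (.node (.leaf 7990) (.leaf 4997))) (.node (.node (.leaf 4913) (.leaf 2037)) (.node (.leaf 3072) (.leaf 6233)))))) (.node (.node (.node (.node (.node (.node (.leaf 143) (.leaf 6180)) (.leaf 7097)) (.node (.leaf 1309) (.leaf 5394))) (.node (.node (.leaf 6152) (.leaf 3798)) (.node (.leaf 1543) (.leaf 2329)))) (.node (.node (.node (.leaf 538) (.leaf 1923)) (.node (.leaf 4450) (.leaf 5083))) (.node (.node (.leaf 1143) (.leaf 7976)) (.node (.leaf 1771) (.leaf 4415))))) (.node (.node (.node (.node (.node (.leaf 354) (.leaf 3970)) (.leaf 3684)) (.node (.leaf 4903) (.leaf 4786))) (.node (.node (.leaf 1009) (.leaf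 6627)) (.node (.leaf 1678) (.leaf 5156)))) (.node (.node (.node (.leaf 5643) (.leaf 4916)) (.node (.leaf 2403) (.leaf 3455))) (.node (.node (.leaf 6467) (.leaf 3516)) (.node (.leaf 1843) (.leaf 7866))))))) (.node (.node (.node (.node (.node (.node (.node (.leaf 91) (.leaf 5730)) (.leaf 1883)) (.node (.leaf 1294) (.leaf 8400))) (.node (.node (.leaf 777) (.leaf 8115)) (.node (.leaf 1513) (.leaf 7287)))) (.node (.node (.node (.node (.leaf 497) (.leaf 2801)) (.leaf 1916)) (.node (.leaf 8150) (.leaf 3834))) (.node (.node (.leaf 7462) (.leaf 1981)) (.node (.leaf 6211) (.leaf 4114))))) (.node (.node (.node (.node (.node (.leaf 303) (.leaf 8212)) (.leaf 4101)) (.node (.leaf 3436) (.leaf 3986))) (.node (.node (.leaf 7594) (.leaf 5815)) (.node (.leaf 3669) (.leaf 4178)))) (.node (.node (.node (.leaf 7560) (.leaf 6531)) (.node (.leaf 2404) (.leaf 5385))) (.node (.node (.leaf 4081) (.leaf 2355)) (.node (.leaf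 5341) (.leaf 5360)))))) (.node (.node (.node (.node (.node (.node (.leaf 195) (.leaf 3002)) (.leaf 6919)) (.node (.leaf 1331) (.leaf 7077))) (.node (.node (.leaf 881) (.leaf 6270)) (.node (.leaf 1583) (.leaf 6405)))) (.node (.node (.node (.leaf 581) (.leaf 4284)) (.node (.leaf 1392) (.leaf 3904))) (.node (.node (.leaf 7590) (.leaf 5667)) (.node (.leaf 3860) (.leaf 3373))))) (.node (.node (.node (.node (.node (.leaf 406) (.leaf 5422)) (.leaf 8174)) (.node (.leaf 6676) (.leaf 7695))) (.node (.node (.leaf 1040) (.leaf 2360)) (.node (.leaf 1705) (.leaf 2325)))) (.node (.node (.node (.leaf 715) (.leaf 3348)) (.node (.leaf 1425) (.leaf 7455))) (.node (.node (.leaf 1258) (.leaf 2091)) (.node (.leaf 7698) (.leaf 7437))))))))) (.node (.node (.node (.node (.node (.node (.node (.node (.node (.leaf 17) (.leaf 5231)) (.leaf 5171)) (.node (.leaf 7014) (.leaf 2350))) (.node (.node (.leaf 5008) (.leaf 7391)) (.node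 (.leaf 1460) (.leaf 7997)))) (.node (.node (.node (.node (.leaf 444) (.leaf 4389)) (.leaf 8395)) (.node (.leaf 4942) (.leaf 2144))) (.node (.node (.leaf 1070) (.leaf 1952)) (.node (.leaf 6278) (.leaf 7711))))) (.node (.node (.node (.node (.node (.leaf 237) (.leaf 6745)) (.leaf 2382)) (.node (.leaf 1348) (.leaf 8661))) (.node (.node (.leaf 2804) (.leaf 7835)) (.node (.leaf 5354) (.leaf 3457)))) (.node (.node (.node (.leaf 603) (.leaf 4663)) (.node (.leaf 5877) (.leaf 3908))) (.node (.node (.leaf 1190) (.leaf 7530)) (.node (.leaf 7739) (.leaf 6698)))))) (.node (.node (.node (.node (.node (.node (.leaf 2766) (.leaf 2310)) (.leaf 5638)) (.node (.leaf 5604) (.leaf 3777))) (.node (.node (.leaf 815) (.leaf 6385)) (.node (.leaf 2749) (.leaf 4452)))) (.node (.node (.node (.leaf 5437) (.leaf 8758)) (.node (.leaf 3721) (.leaf 7583))) (.node (.node (.leaf 1138) (.leaf 5655)) (.node (.leaf 3272) (.leaf 2319)))))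 (.node (.node (.node (.node (.node (.leaf 340) (.leaf 5274)) (.leaf 5771)) (.node (.leaf 3452) (.leaf 5248))) (.node (.node (.leaf 6026) (.leaf 8230)) (.node (.leaf 1672) (.leaf 7113)))) (.node (.node (.node (.leaf 5802) (.leaf 5246)) (.node (.leaf 7669) (.leaf 3289))) (.node (.node (.leaf 2420) (.leaf 2061)) (.node (.leaf 1836) (.leaf 5204))))))) (.node (.node (.node (.node (.node (.node (.node (.leaf 76) (.leaf 5979)) (.leaf 5977)) (.node (.leaf 3702) (.leaf 7264))) (.node (.node (.leaf 763) (.leaf 6992)) (.node (.leaf 6786) (.leaf 7210)))) (.node (.node (.node (.node (.leaf 487) (.leaf 4668)) (.leaf 4145)) (.node (.leaf 7468) (.leaf 6125))) (.node (.node (.leaf 7284) (.leaf 1974)) (.node (.leaf 4720) (.leaf 2171))))) (.node (.node (.node (.node (.node (.leaf 288) (.leaf 3299)) (.leaf 4734)) (.node (.leaf 6948) (.leaf 8290))) (.node (.node (.leaf 6044) (.leaf 7323)) (.node (.leaf 1647) (.leaf 5851))))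 (.node (.node (.node (.leaf 7246) (.leaf 8262)) (.node (.leaf 5501) (.leaf 2919))) (.node (.node (.leaf 1216) (.leaf 2048)) (.node (.leaf 4615) (.leaf 4990)))))) (.node (.node (.node (.node (.node (.node (.leaf 183) (.leaf 5793)) (.leaf 7933)) (.node (.leaf 8243) (.leaf 5974))) (.node (.node (.leaf 869) (.leaf 6649)) (.node (.leaf 2964) (.leaf 6460)))) (.node (.node (.node (.leaf 572) (.leaf 4944)) (.node (.leaf 4352) (.leaf 7634))) (.node (.node (.leaf 4730) (.leaf 2011)) (.node (.leaf 5120) (.leaf 5600))))) (.node (.node (.node (.node (.node (.leaf 6432) (.leaf 4474)) (.leaf 4374)) (.node (.leaf 8643) (.leaf 4072))) (.node (.node (.leaf 1028) (.leaf 6585)) (.node (.leaf 1694) (.leaf 6033)))) (.node (.node (.node (.leaf 706) (.leaf 5243)) (.node (.leaf 1415) (.leaf 8634))) (.node (.node (.leaf 3336) (.leaf 2083)) (.node (.leaf 2388) (.leaf 8359)))))))) (.node (.node (.node (.node (.node (.node (.node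 (.node (.leaf 45) (.leaf 6940)) (.leaf 2385)) (.node (.leaf 5920) (.leaf 4691))) (.node (.node (.leaf 743) (.leaf 5492)) (.node (.leaf 1482) (.leaf 8348)))) (.node (.node (.node (.node (.leaf 465) (.leaf 2711)) (.leaf 6321)) (.node (.leaf 3829) (.leaf 8123))) (.node (.node (.leaf 6717) (.leaf 1961)) (.node (.leaf 1738) (.leaf 5093))))) (.node (.node (.node (.node (.node (.leaf 261) (.leaf 6257)) (.leaf 8770)) (.node (.leaf 3382) (.leaf 7774))) (.node (.node (.leaf 934) (.leaf 6031)) (.node (.leaf 2397) (.leaf 7993)))) (.node (.node (.node (.leaf 621) (.leaf 8023)) (.node (.leaf 7681) (.leaf 2844))) (.node (.node (.leaf 5011) (.leaf 2040)) (.node (.leaf 4575) (.leaf 7303)))))) (.node (.node (.node (.node (.node (.node (.leaf 157) (.leaf 6569)) (.leaf 5750)) (.node (.leaf 1314) (.leaf 6835))) (.node (.node (.leaf 843) (.leaf 8624)) (.node (.leaf 1555) (.leaf 3377)))) (.node (.node (.node (.leaf 549)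 (.leaf 8667)) (.node (.leaf 7512) (.leaf 8213))) (.node (.node (.leaf 1152) (.leaf 2002)) (.node (.leaf 1773) (.leaf 6939))))) (.node (.node (.node (.node (.node (.leaf 367) (.leaf 2999)) (.leaf 5194)) (.node (.leaf 3447) (.leaf 3120))) (.node (.node (.leaf 1018) (.leaf 2775)) (.node (.leaf 5222) (.leaf 6136)))) (.node (.node (.node (.leaf 6763) (.leaf 7175)) (.node (.leaf 1402) (.leaf 2168))) (.node (.node (.leaf 8323) (.leaf 2073)) (.node (.leaf 1846) (.leaf 4543))))))) (.node (.node (.node (.node (.node (.node (.node (.leaf 104) (.leaf 5968)) (.leaf 2916)) (.node (.leaf 5671) (.leaf 6436))) (.node (.node (.leaf 791) (.leaf 4181)) (.node (.leaf 1523) (.leaf 6615)))) (.node (.node (.node (.leaf 508) (.leaf 3801)) (.node (.leaf 2408) (.leaf 4670))) (.node (.node (.leaf 4811) (.leaf 5564)) (.node (.leaf 1756) (.leaf 4315))))) (.node (.node (.node (.node (.node (.leaf 315) (.leaf 8222)) (.leaf 8482))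 (.node (.leaf 2411) (.leaf 8800))) (.node (.node (.leaf 975) (.leaf 8256)) (.node (.leaf 1658) (.leaf 6970)))) (.node (.node (.node (.leaf 7386) (.leaf 6865)) (.node (.leaf 5014) (.leaf 4296))) (.node (.node (.leaf 8483) (.leaf 2055)) (.node (.leaf 1824) (.leaf 5806)))))) (.node (.node (.node (.node (.node (.node (.leaf 209) (.leaf 6560)) (.leaf 7316)) (.node (.leaf 5955) (.leaf 8338))) (.node (.node (.leaf 2429) (.leaf 6619)) (.node (.leaf 1593) (.leaf 5103)))) (.node (.node (.node (.leaf 585) (.leaf 2372)) (.node (.leaf 2406) (.leaf 4861))) (.node (.node (.leaf 1173) (.leaf 2356)) (.node (.leaf 1797) (.leaf 2872))))) (.node (.node (.node (.node (.node (.leaf 2440) (.leaf 2945)) (.leaf 8402)) (.node (.leaf 5666) (.leaf 7196))) (.node (.node (.leaf 1051) (.leaf 6703)) (.node (.leaf 1713) (.leaf 3766)))) (.node (.node (.node (.leaf 721) (.leaf 8300)) (.node (.leaf 1437) (.leaf 2915))) (.node (.node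 (.leaf 7932) (.leaf 2094)) (.node (.leaf 7748) (.leaf 8456)))))))))) (.node (.node (.node (.node (.node (.node (.node (.node (.node (.node (.leaf 9) (.leaf 8370)) (.leaf 7706)) (.node (.leaf 2419) (.leaf 4801))) (.node (.node (.leaf 729) (.leaf 7262)) (.node (.leaf 1454) (.leaf 3988)))) (.node (.node (.node (.node (.leaf 5417) (.leaf 4110)) (.leaf 5406)) (.node (.leaf 5994) (.leaf 8750))) (.node (.node (.leaf 8585) (.leaf 6398)) (.node (.leaf 3652) (.leaf 6925))))) (.node (.node (.node (.node (.node (.leaf 230) (.leaf 5240)) (.leaf 7859)) (.node (.leaf 1344) (.leaf 8613))) (.node (.node (.leaf 904) (.leaf 4501)) (.node (.leaf 1608) (.leaf 6719)))) (.node (.node (.node (.leaf 598) (.leaf 3649)) (.node (.leaf 6692) (.leaf 5358))) (.node (.node (.leaf 3335) (.leaf 7073)) (.node (.leaf 1801) (.leaf 7518)))))) (.node (.node (.node (.node (.node (.node (.leaf 127) (.leaf 6204)) (.leaf 3903)) (.node (.leaf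 1305) (.leaf 6914))) (.node (.node (.leaf 810) (.leaf 8372)) (.node (.leaf 4965) (.leaf 4165)))) (.node (.node (.node (.leaf 524) (.leaf 7044)) (.node (.leaf 5323) (.leaf 2340))) (.node (.node (.leaf 1136) (.leaf 5780)) (.node (.leaf 1764) (.leaf 5681))))) (.node (.node (.node (.node (.node (.leaf 333) (.leaf 4612)) (.leaf 5662)) (.node (.leaf 5154) (.leaf 4332))) (.node (.node (.leaf 992) (.leaf 5297)) (.node (.leaf 7598) (.leaf 5911)))) (.node (.node (.node (.leaf 674) (.leaf 3789)) (.node (.leaf 5056) (.leaf 4907))) (.node (.node (.leaf 5050) (.leaf 2059)) (.node (.leaf 1834) (.leaf 5107))))))) (.node (.node (.node (.node (.node (.node (.node (.leaf 68) (.leaf 8346)) (.leaf 5751)) (.node (.leaf 1290) (.leaf 3471))) (.node (.node (.leaf 757) (.leaf 5637)) (.node (.leaf 1495) (.leaf 4394)))) (.node (.node (.node (.node (.leaf 5949) (.leaf 4281)) (.leaf 5739)) (.node (.leaf 5892) (.leaf 2341))) (.node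 (.node (.leaf 1100) (.leaf 4129)) (.node (.leaf 1746) (.leaf 7489))))) (.node (.node (.node (.node (.node (.leaf 280) (.leaf 8751)) (.leaf 3664)) (.node (.leaf 4602) (.leaf 8499))) (.node (.node (.leaf 950) (.leaf 7778)) (.node (.leaf 6664) (.leaf 6109)))) (.node (.node (.node (.leaf 636) (.leaf 8544)) (.node (.leaf 8026) (.leaf 6465))) (.node (.node (.leaf 1211) (.leaf 2044)) (.node (.leaf 1816) (.leaf 4557)))))) (.node (.node (.node (.node (.node (.node (.leaf 177) (.leaf 6740)) (.leaf 2383)) (.node (.leaf 1323) (.leaf 5970))) (.node (.node (.leaf 861) (.leaf 2778)) (.node (.leaf 2874) (.leaf 5761)))) (.node (.node (.node (.leaf 2436) (.leaf 6775)) (.node (.leaf 3103) (.leaf 2338))) (.node (.node (.leaf 6761) (.leaf 2008)) (.node (.leaf 8391) (.leaf 5400))))) (.node (.node (.node (.node (.node (.leaf 385) (.leaf 4098)) (.leaf 5983)) (.node (.leaf 7057) (.leaf 2142))) (.node (.node (.leaf 1024)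 (.leaf 4323)) (.node (.leaf 2395) (.leaf 7214)))) (.node (.node (.node (.leaf 6186) (.leaf 5200)) (.node (.leaf 1408) (.leaf 4876))) (.node (.node (.leaf 1252) (.leaf 2081)) (.node (.leaf 1855) (.leaf 8161)))))))) (.node (.node (.node (.node (.node (.node (.node (.node (.leaf 2446) (.leaf 4203)) (.leaf 6936)) (.node (.leaf 5545) (.leaf 7458))) (.node (.node (.leaf 738) (.leaf 6355)) (.node (.leaf 4686) (.leaf 2331)))) (.node (.node (.node (.node (.leaf 458) (.leaf 6965)) (.leaf 8074)) (.node (.leaf 8179) (.leaf 3573))) (.node (.node (.leaf 7067) (.leaf 4874)) (.node (.leaf 6302) (.leaf 7215))))) (.node (.node (.node (.node (.node (.leaf 256) (.leaf 7751)) (.leaf 7724)) (.node (.leaf 2413) (.leaf 7849))) (.node (.node (.leaf 929) (.leaf 2998)) (.node (.leaf 1626) (.leaf 6610)))) (.node (.node (.node (.leaf 2435) (.leaf 3376)) (.node (.leaf 1394) (.leaf 3723))) (.node (.node (.leaf 1202) (.leaf 5399))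 (.node (.leaf 8778) (.leaf 8491)))))) (.node (.node (.node (.node (.node (.node (.leaf 150) (.leaf 6721)) (.leaf 8093)) (.node (.leaf 1311) (.leaf 5454))) (.node (.node (.leaf 837) (.leaf 7525)) (.node (.leaf 1549) (.leaf 5787)))) (.node (.node (.node (.leaf 544) (.leaf 3880)) (.node (.leaf 8595) (.leaf 4083))) (.node (.node (.leaf 1147) (.leaf 2000)) (.node (.leaf 7764) (.leaf 2318))))) (.node (.node (.node (.node (.node (.leaf 360) (.leaf 6821)) (.leaf 1908)) (.node (.leaf 3785) (.leaf 8508))) (.node (.node (.leaf 1014) (.leaf 7032)) (.node (.leaf 1681) (.leaf 8118)))) (.node (.node (.node (.leaf 690) (.leaf 5618)) (.node (.leaf 7504) (.leaf 2332))) (.node (.node (.leaf 5310) (.leaf 2353)) (.node (.leaf 4627) (.leaf 7267))))))) (.node (.node (.node (.node (.node (.node (.node (.leaf 97) (.leaf 8532)) (.leaf 6593)) (.node (.leaf 1298) (.leaf 7825))) (.node (.node (.leaf 785) (.leaf 8454)) (.node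 (.leaf 1519) (.leaf 5861)))) (.node (.node (.node (.leaf 2438) (.leaf 7611)) (.node (.leaf 6926) (.leaf 4196))) (.node (.node (.leaf 4912) (.leaf 8272)) (.node (.leaf 8672) (.leaf 7645))))) (.node (.node (.node (.node (.node (.leaf 311) (.leaf 2754)) (.leaf 1904)) (.node (.leaf 7423) (.leaf 6260))) (.node (.node (.leaf 5304) (.leaf 7432)) (.node (.leaf 3830) (.leaf 8015)))) (.node (.node (.node (.leaf 657) (.leaf 8131)) (.node (.leaf 8527) (.leaf 7144))) (.node (.node (.leaf 1224) (.leaf 2052)) (.node (.leaf 4461) (.leaf 7361)))))) (.node (.node (.node (.node (.node (.node (.leaf 201) (.leaf 8276)) (.leaf 4633)) (.node (.leaf 1333) (.leaf 8696))) (.node (.node (.leaf 2881) (.leaf 4806)) (.node (.leaf 5163) (.leaf 3432)))) (.node (.node (.node (.leaf 6744) (.leaf 4349)) (.node (.leaf 4078) (.leaf 2162))) (.node (.node (.leaf 3653) (.leaf 2864)) (.node (.leaf 7335) (.leaf 7107))))) (.node (.node (.node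 (.node (.node (.leaf 414) (.leaf 7218)) (.leaf 2378)) (.node (.leaf 6978) (.leaf 6795))) (.node (.node (.leaf 7476) (.leaf 3924)) (.node (.leaf 1709) (.leaf 8221)))) (.node (.node (.node (.leaf 5511) (.leaf 6892)) (.node (.leaf 1431) (.leaf 7412))) (.node (.node (.leaf 1261) (.leaf 5148)) (.node (.leaf 4845) (.leaf 7812))))))))) (.node (.node (.node (.node (.node (.node (.node (.node (.node (.leaf 24) (.leaf 7744)) (.leaf 7041)) (.node (.leaf 1277) (.leaf 3367))) (.node (.node (.leaf 3655) (.leaf 7718)) (.node (.leaf 1465) (.leaf 5822)))) (.node (.node (.node (.node (.leaf 2876) (.leaf 8604)) (.leaf 6404)) (.node (.leaf 7252) (.leaf 6373))) (.node (.node (.leaf 1073) (.leaf 5524)) (.node (.leaf 1725) (.leaf 5692))))) (.node (.node (.node (.node (.node (.leaf 5343) (.leaf 7694)) (.leaf 7413)) (.node (.leaf 2414) (.leaf 3919))) (.node (.node (.leaf 4530) (.leaf 7358)) (.node (.leaf 5585) (.leaf 2326))))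 (.node (.node (.node (.leaf 7605) (.leaf 7861)) (.node (.leaf 3711) (.leaf 2335))) (.node (.node (.leaf 5830) (.leaf 6498)) (.node (.leaf 4561) (.leaf 4844)))))) (.node (.node (.node (.node (.node (.node (.leaf 137) (.leaf 7124)) (.leaf 1889)) (.node (.leaf 3651) (.leaf 3475))) (.node (.node (.leaf 822) (.leaf 7617)) (.node (.leaf 5167) (.leaf 6293)))) (.node (.node (.node (.leaf 5891) (.leaf 1922)) (.node (.leaf 7133) (.leaf 2152))) (.node (.node (.leaf 7081) (.leaf 6225)) (.node (.leaf 7589) (.leaf 4298))))) (.node (.node (.node (.node (.node (.leaf 348) (.leaf 2306)) (.leaf 7584)) (.node (.leaf 4896) (.leaf 5089))) (.node (.node (.leaf 2426) (.leaf 3505)) (.node (.leaf 2396) (.leaf 5952)))) (.node (.node (.node (.leaf 6397) (.leaf 8492)) (.node (.leaf 5046) (.leaf 6341))) (.node (.node (.leaf 3658) (.leaf 2064)) (.node (.leaf 1838) (.leaf 3504))))))) (.node (.node (.node (.node (.node (.node (.node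 (.leaf 83) (.leaf 3929)) (.leaf 8692)) (.node (.leaf 6589) (.leaf 2348))) (.node (.node (.leaf 770) (.leaf 8526)) (.node (.leaf 1506) (.leaf 5967)))) (.node (.node (.node (.node (.leaf 492) (.leaf 3636)) (.leaf 3178)) (.node (.leaf 8314) (.leaf 7882))) (.node (.node (.leaf 1111) (.leaf 7803)) (.node (.leaf 1750) (.leaf 2172))))) (.node (.node (.node (.node (.node (.leaf 295) (.leaf 5241)) (.leaf 3704)) (.node (.leaf 2955) (.leaf 2345))) (.node (.node (.leaf 961) (.leaf 6456)) (.node (.leaf 2756) (.leaf 4645)))) (.node (.node (.node (.leaf 6182) (.leaf 8012)) (.node (.leaf 7626) (.leaf 5215))) (.node (.node (.leaf 1220) (.leaf 4967)) (.node (.leaf 1821) (.leaf 6803)))))) (.node (.node (.node (.node (.node (.node (.leaf 2444) (.leaf 7719)) (.leaf 7260)) (.node (.leaf 3800) (.leaf 4770))) (.node (.node (.leaf 5525) (.leaf 2364)) (.node (.leaf 5185) (.leaf 2946)))) (.node (.node (.node (.leaf 577) (.leaf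 2373)) (.node (.leaf 2407) (.leaf 8509))) (.node (.node (.leaf 1166) (.leaf 6426)) (.node (.leaf 2910) (.leaf 7402))))) (.node (.node (.node (.node (.node (.leaf 400) (.leaf 8324)) (.leaf 7141)) (.node (.leaf 6408) (.leaf 2343))) (.node (.node (.leaf 1035) (.leaf 7488)) (.node (.leaf 1701) (.leaf 5271)))) (.node (.node (.node (.leaf 710) (.leaf 7025)) (.node (.leaf 2765) (.leaf 8648))) (.node (.node (.leaf 6185) (.leaf 7754)) (.node (.leaf 1860) (.leaf 6330)))))))) (.node (.node (.node (.node (.node (.node (.node (.node (.leaf 53) (.leaf 6825)) (.leaf 7109)) (.node (.leaf 1287) (.leaf 6025))) (.node (.node (.leaf 3495) (.leaf 5769)) (.node (.leaf 2400) (.leaf 8675)))) (.node (.node (.node (.node (.leaf 467) (.leaf 3632)) (.leaf 8735)) (.node (.leaf 5141) (.leaf 6871))) (.node (.node (.leaf 1094) (.leaf 1966)) (.node (.leaf 1739) (.leaf 2839))))) (.node (.node (.node (.node (.node (.leaf 267) (.leaf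 7900)) (.leaf 6838)) (.node (.leaf 3006) (.leaf 5374))) (.node (.node (.leaf 2428) (.leaf 7731)) (.node (.leaf 1633) (.leaf 4847)))) (.node (.node (.node (.leaf 8441) (.leaf 2934)) (.node (.leaf 7100) (.leaf 4755))) (.node (.node (.leaf 1205) (.leaf 3696)) (.node (.leaf 1814) (.leaf 2315)))))) (.node (.node (.node (.node (.node (.node (.leaf 164) (.leaf 8688)) (.leaf 6520)) (.node (.leaf 3370) (.leaf 5256))) (.node (.node (.leaf 851) (.leaf 4900)) (.node (.leaf 1561) (.leaf 7788)))) (.node (.node (.node (.leaf 555) (.leaf 4463)) (.node (.leaf 7636) (.leaf 2339))) (.node (.node (.leaf 4613) (.leaf 3496)) (.node (.leaf 4805) (.leaf 4873))))) (.node (.node (.node (.node (.node (.leaf 373) (.leaf 4480)) (.leaf 6075)) (.node (.leaf 6828) (.leaf 4418))) (.node (.node (.leaf 4636) (.leaf 6543)) (.node (.leaf 3175) (.leaf 8535)))) (.node (.node (.node (.leaf 699) (.leaf 7427)) (.node (.leaf 5300) (.leaf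 6708))) (.node (.node (.leaf 6389) (.leaf 8719)) (.node (.leaf 3428) (.leaf 8236))))))) (.node (.node (.node (.node (.node (.node (.node (.leaf 112) (.leaf 6511)) (.leaf 2887)) (.node (.leaf 2418) (.leaf 3480))) (.node (.node (.leaf 797) (.leaf 8305)) (.node (.leaf 1528) (.leaf 2330)))) (.node (.node (.node (.leaf 513) (.leaf 8446)) (.node (.leaf 3941) (.leaf 7372))) (.node (.node (.leaf 1127) (.leaf 2357)) (.node (.leaf 5434) (.leaf 2175))))) (.node (.node (.node (.node (.node (.leaf 320) (.leaf 3118)) (.leaf 4370)) (.node (.leaf 7389) (.leaf 3726))) (.node (.node (.leaf 981) (.leaf 8153)) (.node (.leaf 1662) (.leaf 8269)))) (.node (.node (.node (.leaf 663) (.leaf 6047)) (.node (.leaf 3760) (.leaf 7368))) (.node (.node (.leaf 1231) (.leaf 6417)) (.node (.leaf 2390) (.leaf 3470)))))) (.node (.node (.node (.node (.node (.node (.leaf 216) (.leaf 3472)) (.leaf 7203)) (.node (.leaf 1341) (.leaf 6268)))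 (.node (.node (.leaf 895) (.leaf 7632)) (.node (.leaf 8594) (.leaf 6489)))) (.node (.node (.node (.leaf 587) (.leaf 7877)) (.node (.leaf 5814) (.leaf 3661))) (.node (.node (.leaf 1175) (.leaf 4573)) (.node (.leaf 6550) (.leaf 2316))))) (.node (.node (.node (.node (.node (.leaf 424) (.leaf 4422)) (.leaf 1910)) (.node (.leaf 5623) (.leaf 7674))) (.node (.node (.leaf 2425) (.leaf 1940)) (.node (.leaf 6959) (.leaf 6702)))) (.node (.node (.node (.leaf 5476) (.leaf 4679)) (.node (.leaf 1444) (.leaf 3858))) (.node (.node (.leaf 6273) (.leaf 2098)) (.node (.leaf 8238) (.leaf 5195)))))))))))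

def threeRank2 : Janko.Tree (ℕ) :=
  (.node (.node (.node (.node (.node (.node (.node (.node (.node (.node (.node (.leaf 2) (.leaf 5676)) (.leaf 4790)) (.node (.leaf 1270) (.leaf 6566))) (.node (.node (.leaf 5326) (.leaf 3321)) (.node (.leaf 1449) (.leaf 7021)))) (.node (.node (.node (.node (.leaf 433) (.leaf 7085)) (.leaf 5299)) (.node (.leaf 5066) (.leaf 4143))) (.node (.node (.leaf 5559) (.leaf 7377)) (.node (.leaf 6000) (.leaf 4768))))) (.node (.node (.node (.node (.node (.leaf 223) (.leaf 4993)) (.leaf 4756)) (.node (.leaf 3603) (.leaf 7697))) (.node (.node (.leaf 903) (.leaf 5357)) (.node (.leaf 1603) (.leaf 7295)))) (.node (.node (.node (.leaf 592) (.leaf 3111)) (.node (.leaf 5018) (.leaf 6633))) (.node (.node (.leaf 1181) (.leaf 5875)) (.node (.leaf 1798) (.leaf 8204)))))) (.node (.node (.node (.node (.node (.node (.leaf 120) (.leaf 5442)) (.leaf 6539)) (.node (.leaf 1303) (.leaf 4834)))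 (.node (.node (.leaf 2786) (.leaf 4760)) (.node (.leaf 1532) (.leaf 7579)))) (.node (.node (.node (.leaf 5820) (.leaf 6518)) (.node (.leaf 4238) (.leaf 6237))) (.node (.node (.leaf 1133) (.leaf 7174)) (.node (.leaf 4527) (.leaf 5812))))) (.node (.node (.node (.node (.node (.leaf 327) (.leaf 7768)) (.leaf 4732)) (.node (.leaf 8089) (.leaf 6686))) (.node (.node (.leaf 3267) (.leaf 8246)) (.node (.leaf 1668) (.leaf 3413)))) (.node (.node (.node (.leaf 670) (.leaf 5984)) (.node (.leaf 3780) (.leaf 7702))) (.node (.node (.leaf 5951) (.leaf 5182)) (.node (.leaf 6873) (.leaf 6332))))))) (.node (.node (.node (.node (.node (.node (.node (.leaf 61) (.leaf 8219)) (.leaf 4800)) (.node (.leaf 3322) (.leaf 6364))) (.node (.node (.leaf 2837) (.leaf 5217)) (.node (.leaf 1489) (.leaf 6171)))) (.node (.node (.node (.node (.leaf 474) (.leaf 2793)) (.leaf 4240)) (.node (.leaf 7710) (.leaf 7909))) (.node (.node (.leaf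 3332) (.leaf 8078)) (.node (.leaf 2893) (.leaf 3873))))) (.node (.node (.node (.node (.node (.leaf 274) (.leaf 6252)) (.leaf 3010)) (.node (.leaf 7685) (.leaf 6452))) (.node (.node (.leaf 946) (.leaf 2909)) (.node (.leaf 1638) (.leaf 3971)))) (.node (.node (.node (.leaf 634) (.leaf 4136)) (.node (.leaf 3557) (.leaf 3448))) (.node (.node (.leaf 7385) (.leaf 2481)) (.node (.leaf 5238) (.leaf 2182)))))) (.node (.node (.node (.node (.node (.node (.leaf 173) (.leaf 2452)) (.leaf 3995)) (.node (.leaf 6263) (.leaf 5019))) (.node (.node (.leaf 857) (.leaf 8277)) (.node (.leaf 1566) (.leaf 2464)))) (.node (.node (.node (.leaf 562) (.leaf 4780)) (.node (.leaf 1390) (.leaf 6411))) (.node (.node (.leaf 5788) (.leaf 8169)) (.node (.leaf 1780) (.leaf 7208))))) (.node (.node (.node (.node (.node (.leaf 379) (.leaf 6854)) (.leaf 7079)) (.node (.leaf 3752) (.leaf 4718))) (.node (.node (.leaf 2978) (.leaf 6296)) (.node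 (.leaf 1689) (.leaf 8226)))) (.node (.node (.node (.leaf 5816) (.leaf 3340)) (.node (.leaf 7127) (.leaf 5002))) (.node (.node (.leaf 5086) (.leaf 5731)) (.node (.leaf 2506) (.leaf 2454)))))))) (.node (.node (.node (.node (.node (.node (.node (.node (.leaf 33) (.leaf 7607)) (.leaf 1876)) (.node (.leaf 7939) (.leaf 2104))) (.node (.node (.leaf 6242) (.leaf 5252)) (.node (.leaf 1471) (.leaf 8336)))) (.node (.node (.node (.node (.leaf 2805) (.leaf 2968)) (.leaf 1912)) (.node (.leaf 8251) (.leaf 4090))) (.node (.node (.leaf 1080) (.leaf 6381)) (.node (.leaf 6345) (.leaf 8135))))) (.node (.node (.node (.node (.node (.leaf 249) (.leaf 5257)) (.leaf 5436)) (.node (.leaf 3935) (.leaf 4102))) (.node (.node (.leaf 925) (.leaf 2490)) (.node (.leaf 5560) (.leaf 5768)))) (.node (.node (.node (.leaf 615) (.leaf 7522)) (.node (.leaf 6084) (.leaf 2468))) (.node (.node (.leaf 1198) (.leaf 2482)) (.node (.leaf 8139)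 (.leaf 6870)))))) (.node (.node (.node (.node (.node (.node (.leaf 144) (.leaf 5583)) (.leaf 7093)) (.node (.leaf 4764) (.leaf 6107))) (.node (.node (.leaf 830) (.leaf 2956)) (.node (.leaf 2810) (.leaf 5117)))) (.node (.node (.node (.leaf 539) (.leaf 8126)) (.node (.leaf 7165) (.leaf 7332))) (.node (.node (.leaf 7539) (.leaf 6638)) (.node (.leaf 2511) (.leaf 4417))))) (.node (.node (.node (.node (.node (.leaf 355) (.leaf 3972)) (.leaf 8215)) (.node (.leaf 2528) (.leaf 6208))) (.node (.node (.leaf 7181) (.leaf 7806)) (.node (.leaf 1679) (.leaf 7390)))) (.node (.node (.node (.leaf 2550) (.leaf 8274)) (.node (.leaf 5964) (.leaf 2167))) (.node (.node (.leaf 1240) (.leaf 7979)) (.node (.leaf 2507) (.leaf 5237))))))) (.node (.node (.node (.node (.node (.node (.node (.leaf 2809) (.leaf 5615)) (.leaf 6968)) (.node (.leaf 5718) (.leaf 6549))) (.node (.node (.leaf 778) (.leaf 8117)) (.node (.leaf 1514) (.leaf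 7289)))) (.node (.node (.node (.node (.leaf 498) (.leaf 4526)) (.leaf 6486)) (.node (.leaf 5922) (.leaf 2148))) (.node (.node (.leaf 7459) (.leaf 3759)) (.node (.leaf 6209) (.leaf 6117))))) (.node (.node (.node (.node (.node (.leaf 304) (.leaf 8214)) (.leaf 5169)) (.node (.leaf 2957) (.leaf 5625))) (.node (.node (.leaf 3068) (.leaf 5512)) (.node (.leaf 4887) (.leaf 3552)))) (.node (.node (.node (.leaf 651) (.leaf 7657)) (.node (.leaf 6143) (.leaf 2467))) (.node (.node (.leaf 8002) (.leaf 6424)) (.node (.leaf 8591) (.leaf 4975)))))) (.node (.node (.node (.node (.node (.node (.leaf 196) (.leaf 5535)) (.leaf 4045)) (.node (.leaf 5853) (.leaf 7189))) (.node (.node (.leaf 8776) (.leaf 5368)) (.node (.leaf 1584) (.leaf 7348)))) (.node (.node (.node (.leaf 582) (.leaf 7450)) (.node (.leaf 7956) (.leaf 5223))) (.node (.node (.leaf 5435) (.leaf 4865)) (.node (.leaf 2912) (.leaf 4889))))) (.node (.node (.node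 (.node (.node (.leaf 407) (.leaf 2971)) (.leaf 8583)) (.node (.leaf 6678) (.leaf 8031))) (.node (.node (.leaf 1041) (.leaf 4831)) (.node (.leaf 2830) (.leaf 4642)))) (.node (.node (.node (.leaf 5845) (.leaf 2819)) (.node (.leaf 1426) (.leaf 7336))) (.node (.node (.leaf 2838) (.leaf 5035)) (.node (.leaf 1862) (.leaf 7104))))))))) (.node (.node (.node (.node (.node (.node (.node (.node (.node (.leaf 18) (.leaf 6124)) (.leaf 1872)) (.node (.leaf 5149) (.leaf 3849))) (.node (.node (.leaf 6660) (.leaf 5155)) (.node (.leaf 2827) (.leaf 8551)))) (.node (.node (.node (.node (.leaf 7319) (.leaf 6517)) (.leaf 6630)) (.node (.leaf 3818) (.leaf 5319))) (.node (.node (.leaf 1071) (.leaf 3052)) (.node (.leaf 2513) (.leaf 5899))))) (.node (.node (.node (.node (.node (.leaf 2995) (.leaf 7520)) (.leaf 4586)) (.node (.leaf 8052) (.leaf 8603))) (.node (.node (.leaf 911) (.leaf 7206)) (.node (.leaf 1614) (.leaf 2943))))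 (.node (.node (.node (.leaf 604) (.leaf 4763)) (.node (.leaf 6993) (.leaf 3906))) (.node (.node (.leaf 2538) (.leaf 6504)) (.node (.leaf 1806) (.leaf 8697)))))) (.node (.node (.node (.node (.node (.node (.leaf 133) (.leaf 5533)) (.leaf 1888)) (.node (.leaf 5264) (.leaf 5196))) (.node (.node (.leaf 816) (.leaf 4313)) (.node (.leaf 4549) (.leaf 5736)))) (.node (.node (.node (.leaf 3064) (.leaf 7425)) (.node (.leaf 5527) (.leaf 7585))) (.node (.node (.leaf 6444) (.leaf 1992)) (.node (.leaf 6054) (.leaf 6667))))) (.node (.node (.node (.node (.node (.leaf 341) (.leaf 5236)) (.leaf 7217)) (.node (.leaf 3015) (.leaf 7177))) (.node (.node (.leaf 999) (.leaf 6747)) (.node (.leaf 5919) (.leaf 6798)))) (.node (.node (.node (.leaf 7054) (.leaf 8522)) (.node (.leaf 5733) (.leaf 2911))) (.node (.node (.leaf 6318) (.leaf 4996)) (.node (.leaf 2794) (.leaf 4619))))))) (.node (.node (.node (.node (.node (.node (.node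 (.leaf 77) (.leaf 4741)) (.leaf 8609)) (.node (.leaf 4580) (.leaf 4541))) (.node (.node (.leaf 764) (.leaf 6990)) (.node (.leaf 1501) (.leaf 4797)))) (.node (.node (.node (.node (.leaf 488) (.leaf 4621)) (.leaf 8569)) (.node (.leaf 5214) (.leaf 6359))) (.node (.node (.leaf 1107) (.leaf 2906)) (.node (.leaf 4941) (.leaf 6308))))) (.node (.node (.node (.node (.node (.leaf 289) (.leaf 5897)) (.leaf 2499)) (.node (.leaf 1360) (.leaf 8575))) (.node (.node (.leaf 6445) (.leaf 4631)) (.node (.leaf 1648) (.leaf 4788)))) (.node (.node (.node (.leaf 643) (.leaf 8265)) (.node (.leaf 5479) (.leaf 5469))) (.node (.node (.leaf 5024) (.leaf 4892)) (.node (.leaf 3060) (.leaf 7407)))))) (.node (.node (.node (.node (.node (.node (.leaf 184) (.leaf 7766)) (.leaf 7931)) (.node (.leaf 1327) (.leaf 7321))) (.node (.node (.leaf 870) (.leaf 3874)) (.node (.leaf 3009) (.leaf 7707)))) (.node (.node (.node (.leaf 7337) (.leaf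 4946)) (.node (.leaf 6723) (.leaf 2469))) (.node (.node (.leaf 4998) (.leaf 2012)) (.node (.leaf 1786) (.leaf 5510))))) (.node (.node (.node (.node (.node (.leaf 393) (.leaf 8517)) (.leaf 4377)) (.node (.leaf 8783) (.leaf 3836))) (.node (.node (.leaf 1029) (.leaf 6673)) (.node (.leaf 1695) (.leaf 2459)))) (.node (.node (.node (.leaf 6011) (.leaf 3895)) (.node (.leaf 1416) (.leaf 8629))) (.node (.node (.leaf 5883) (.leaf 2084)) (.node (.leaf 1859) (.leaf 8354)))))))) (.node (.node (.node (.node (.node (.node (.node (.node (.leaf 46) (.leaf 5125)) (.leaf 1879)) (.node (.leaf 1283) (.leaf 7602))) (.node (.node (.leaf 744) (.leaf 5809)) (.node (.leaf 1483) (.leaf 6118)))) (.node (.node (.node (.node (.leaf 466) (.leaf 2748)) (.leaf 8516)) (.node (.leaf 6616) (.leaf 8127))) (.node (.node (.leaf 1088) (.leaf 6788)) (.node (.leaf 8223) (.leaf 4934))))) (.node (.node (.node (.node (.node (.leaf 3493) (.leaf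 6261)) (.leaf 7519)) (.node (.leaf 2970) (.leaf 7595))) (.node (.node (.leaf 935) (.leaf 6807)) (.node (.leaf 4751) (.leaf 5095)))) (.node (.node (.node (.leaf 5282) (.leaf 6942)) (.node (.leaf 6573) (.leaf 5528))) (.node (.node (.leaf 4948) (.leaf 6243)) (.node (.leaf 7756) (.leaf 4754)))))) (.node (.node (.node (.node (.node (.node (.leaf 2559) (.leaf 5635)) (.leaf 2503)) (.node (.leaf 1315) (.leaf 4239))) (.node (.node (.leaf 844) (.leaf 7050)) (.node (.leaf 4776) (.leaf 4973)))) (.node (.node (.node (.leaf 3323) (.leaf 5325)) (.node (.leaf 6483) (.leaf 3839))) (.node (.node (.leaf 4757) (.leaf 4809)) (.node (.leaf 2987) (.leaf 4825))))) (.node (.node (.node (.node (.node (.leaf 2788) (.leaf 6484)) (.leaf 7795)) (.node (.leaf 1370) (.leaf 8280))) (.node (.node (.leaf 1019) (.leaf 8288)) (.node (.leaf 1685) (.leaf 5044)))) (.node (.node (.node (.leaf 696) (.leaf 4930)) (.node (.leaf 8329) (.leaf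 3393))) (.node (.node (.leaf 1244) (.leaf 2074)) (.node (.leaf 5408) (.leaf 7878))))))) (.node (.node (.node (.node (.node (.node (.node (.leaf 105) (.leaf 6304)) (.leaf 4630)) (.node (.leaf 4579) (.leaf 7772))) (.node (.node (.leaf 792) (.leaf 7120)) (.node (.leaf 1524) (.leaf 4536)))) (.node (.node (.node (.leaf 509) (.leaf 6235)) (.node (.leaf 7561) (.leaf 5961))) (.node (.node (.leaf 2541) (.leaf 1986)) (.node (.leaf 6213) (.leaf 5199))))) (.node (.node (.node (.node (.node (.leaf 2823) (.leaf 7821)) (.leaf 7150)) (.node (.leaf 5746) (.leaf 4262))) (.node (.node (.leaf 976) (.leaf 8258)) (.node (.leaf 2516) (.leaf 4804)))) (.node (.node (.node (.leaf 3492) (.leaf 4520)) (.node (.leaf 5016) (.leaf 4554))) (.node (.node (.leaf 1228) (.leaf 6449)) (.node (.leaf 1825) (.leaf 2185)))))) (.node (.node (.node (.node (.node (.node (.leaf 210) (.leaf 7516)) (.leaf 2501)) (.node (.leaf 1337) (.leaf 8158)))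 (.node (.node (.leaf 2834) (.leaf 6840)) (.node (.leaf 1594) (.leaf 2977)))) (.node (.node (.node (.leaf 2980) (.leaf 4875)) (.node (.leaf 6101) (.leaf 5741))) (.node (.node (.leaf 4620) (.leaf 3791)) (.node (.leaf 4581) (.leaf 5081))))) (.node (.node (.node (.node (.node (.leaf 420) (.leaf 5000)) (.leaf 8408)) (.node (.leaf 1376) (.leaf 6189))) (.node (.node (.leaf 1052) (.leaf 3499)) (.node (.leaf 8584) (.leaf 3753)))) (.node (.node (.node (.leaf 6063) (.leaf 8165)) (.node (.leaf 1438) (.leaf 4919))) (.node (.node (.leaf 5574) (.leaf 3488)) (.node (.leaf 1868) (.leaf 8452)))))))))) (.node (.node (.node (.node (.node (.node (.node (.node (.node (.node (.leaf 10) (.leaf 8349)) (.leaf 6391)) (.node (.leaf 3822) (.leaf 3980))) (.node (.node (.leaf 6677) (.leaf 2493)) (.node (.leaf 2784) (.leaf 6883)))) (.node (.node (.node (.node (.leaf 439) (.leaf 8070)) (.leaf 5322)) (.node (.leaf 7411) (.leaf 7735)))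 (.node (.node (.leaf 1064) (.leaf 1948)) (.node (.leaf 8744) (.leaf 3424))))) (.node (.node (.node (.node (.node (.leaf 231) (.leaf 4552)) (.leaf 4649)) (.node (.leaf 3460) (.leaf 8588))) (.node (.node (.leaf 905) (.leaf 2491)) (.node (.leaf 1609) (.leaf 4171)))) (.node (.node (.node (.leaf 599) (.leaf 8514)) (.node (.leaf 4735) (.leaf 6365))) (.node (.node (.leaf 6196) (.leaf 7069)) (.node (.leaf 1802) (.leaf 8383)))))) (.node (.node (.node (.node (.node (.node (.leaf 128) (.leaf 3847)) (.leaf 7399)) (.node (.leaf 4594) (.leaf 2476))) (.node (.node (.leaf 2831) (.leaf 7401)) (.node (.leaf 4968) (.leaf 4152)))) (.node (.node (.node (.leaf 525) (.leaf 4702)) (.node (.leaf 4243) (.leaf 6643))) (.node (.node (.leaf 6265) (.leaf 1990)) (.node (.leaf 5085) (.leaf 5679))))) (.node (.node (.node (.node (.node (.leaf 334) (.leaf 4610)) (.leaf 2992)) (.node (.leaf 6896) (.leaf 4509))) (.node (.node (.leaf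 993) (.leaf 6438)) (.node (.leaf 6862) (.leaf 7805)))) (.node (.node (.node (.leaf 6219) (.leaf 1933)) (.node (.leaf 6879) (.leaf 2466))) (.node (.node (.leaf 1236) (.leaf 5401)) (.node (.leaf 2508) (.leaf 3868))))))) (.node (.node (.node (.node (.node (.node (.node (.leaf 69) (.leaf 4379)) (.leaf 1881)) (.node (.leaf 7834) (.leaf 2855))) (.node (.node (.leaf 2817) (.leaf 4644)) (.node (.leaf 1496) (.leaf 6039)))) (.node (.node (.node (.node (.leaf 480) (.leaf 2750)) (.leaf 4242)) (.node (.leaf 5506) (.leaf 6669))) (.node (.node (.leaf 1101) (.leaf 6722)) (.node (.leaf 4553) (.leaf 6922))))) (.node (.node (.node (.node (.node (.leaf 281) (.leaf 8755)) (.leaf 6313)) (.node (.leaf 7813) (.leaf 8497))) (.node (.node (.leaf 951) (.leaf 7380)) (.node (.leaf 1641) (.leaf 8240)))) (.node (.node (.node (.leaf 637) (.leaf 8351)) (.node (.leaf 7549) (.leaf 5010))) (.node (.node (.leaf 8374) (.leaf 6067)) (.node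 (.leaf 7943) (.leaf 6609)))))) (.node (.node (.node (.node (.node (.node (.leaf 178) (.leaf 5998)) (.leaf 8666)) (.node (.leaf 1324) (.leaf 7382))) (.node (.node (.leaf 862) (.leaf 5295)) (.node (.leaf 2967) (.leaf 5755)))) (.node (.node (.node (.leaf 567) (.leaf 6779)) (.node (.leaf 5499) (.leaf 6705))) (.node (.node (.leaf 3011) (.leaf 2824)) (.node (.leaf 1783) (.leaf 5398))))) (.node (.node (.node (.node (.node (.leaf 386) (.leaf 7155)) (.leaf 4681)) (.node (.leaf 4219) (.leaf 6867))) (.node (.node (.leaf 2921) (.leaf 8566)) (.node (.leaf 4866) (.leaf 5496)))) (.node (.node (.node (.leaf 4775) (.leaf 5608)) (.node (.leaf 1409) (.leaf 4661))) (.node (.node (.leaf 6096) (.leaf 6206)) (.node (.leaf 7293) (.leaf 6435)))))))) (.node (.node (.node (.node (.node (.node (.node (.node (.leaf 39) (.leaf 6754)) (.leaf 8739)) (.node (.leaf 5818) (.leaf 4688))) (.node (.node (.leaf 4833) (.leaf 6941)) (.node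 (.leaf 1476) (.leaf 6839)))) (.node (.node (.node (.node (.leaf 459) (.leaf 7811)) (.leaf 7865)) (.node (.leaf 7800) (.leaf 3575))) (.node (.node (.leaf 1083) (.leaf 5606)) (.node (.leaf 1735) (.leaf 6307))))) (.node (.node (.node (.node (.node (.leaf 2558) (.leaf 7753)) (.leaf 4091)) (.node (.leaf 3872) (.leaf 7851))) (.node (.node (.leaf 930) (.leaf 4623)) (.node (.leaf 1627) (.leaf 6311)))) (.node (.node (.node (.leaf 617) (.leaf 4926)) (.node (.leaf 4927) (.leaf 6323))) (.node (.node (.leaf 3051) (.leaf 3243)) (.node (.leaf 3065) (.leaf 4810)))))) (.node (.node (.node (.node (.node (.node (.leaf 151) (.leaf 7950)) (.leaf 7566)) (.node (.leaf 4841) (.leaf 3770))) (.node (.node (.leaf 838) (.leaf 7528)) (.node (.leaf 1550) (.leaf 6592)))) (.node (.node (.node (.leaf 2553) (.leaf 6256)) (.node (.leaf 7483) (.leaf 2154))) (.node (.node (.leaf 8806) (.leaf 5032)) (.node (.leaf 2972) (.leaf 5767)))))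 (.node (.node (.node (.node (.node (.leaf 361) (.leaf 3291)) (.leaf 5939)) (.node (.leaf 5075) (.leaf 2140))) (.node (.node (.leaf 2543) (.leaf 7404)) (.node (.leaf 4821) (.leaf 7388)))) (.node (.node (.node (.leaf 4053) (.leaf 6409)) (.node (.leaf 7502) (.leaf 5441))) (.node (.node (.leaf 1242) (.leaf 4746)) (.node (.leaf 1845) (.leaf 6565))))))) (.node (.node (.node (.node (.node (.node (.node (.leaf 98) (.leaf 7779)) (.leaf 7428)) (.node (.leaf 7355) (.leaf 7339))) (.node (.node (.leaf 786) (.leaf 6169)) (.node (.leaf 7463) (.leaf 5859)))) (.node (.node (.node (.leaf 503) (.leaf 5776)) (.node (.leaf 7496) (.leaf 3786))) (.node (.node (.leaf 1119) (.leaf 5572)) (.node (.leaf 6739) (.leaf 7599))))) (.node (.node (.node (.node (.node (.leaf 312) (.leaf 6556)) (.leaf 7290)) (.node (.leaf 4678) (.leaf 4256))) (.node (.node (.leaf 970) (.leaf 6570)) (.node (.leaf 6470) (.leaf 2461)))) (.node (.node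 (.node (.leaf 2551) (.leaf 5502)) (.node (.leaf 4854) (.leaf 4532))) (.node (.node (.leaf 2880) (.leaf 2053)) (.node (.leaf 4151) (.leaf 6102)))))) (.node (.node (.node (.node (.node (.node (.leaf 202) (.leaf 8061)) (.leaf 6290)) (.node (.leaf 1334) (.leaf 8341))) (.node (.node (.leaf 888) (.leaf 6512)) (.node (.leaf 1589) (.leaf 4208)))) (.node (.node (.node (.leaf 584) (.leaf 4351)) (.node (.leaf 4076) (.leaf 6496))) (.node (.node (.leaf 3189) (.leaf 2020)) (.node (.leaf 6997) (.leaf 5774))))) (.node (.node (.node (.node (.node (.leaf 415) (.leaf 8725)) (.leaf 4537)) (.node (.leaf 6963) (.leaf 7422))) (.node (.node (.leaf 1047) (.leaf 3926)) (.node (.leaf 7705) (.leaf 7527)))) (.node (.node (.node (.leaf 5895) (.leaf 7340)) (.node (.leaf 2521) (.leaf 7886))) (.node (.node (.leaf 1262) (.leaf 3609)) (.node (.leaf 8181) (.leaf 6363))))))))) (.node (.node (.node (.node (.node (.node (.node (.node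 (.node (.leaf 25) (.leaf 4860)) (.leaf 4986)) (.node (.leaf 4589) (.leaf 2857))) (.node (.node (.leaf 3186) (.leaf 7937)) (.node (.leaf 6509) (.leaf 4625)))) (.node (.node (.node (.node (.leaf 451) (.leaf 5192)) (.leaf 5395)) (.node (.leaf 7250) (.leaf 8094))) (.node (.node (.leaf 1074) (.leaf 5313)) (.node (.leaf 5316) (.leaf 6051))))) (.node (.node (.node (.node (.node (.leaf 242) (.leaf 7696)) (.leaf 5993)) (.node (.leaf 8684) (.leaf 8083))) (.node (.node (.leaf 917) (.leaf 8267)) (.node (.leaf 6579) (.leaf 7307)))) (.node (.node (.node (.leaf 610) (.leaf 6765)) (.node (.leaf 4148) (.leaf 4882))) (.node (.node (.leaf 6932) (.leaf 2033)) (.node (.leaf 6884) (.leaf 8547)))))) (.node (.node (.node (.node (.node (.node (.leaf 138) (.leaf 7864)) (.leaf 6769)) (.node (.leaf 7873) (.leaf 2120))) (.node (.node (.leaf 823) (.leaf 4826)) (.node (.leaf 6960) (.leaf 6295)))) (.node (.node (.node (.leaf 533)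 (.leaf 5958)) (.node (.leaf 8443) (.leaf 6258))) (.node (.node (.leaf 6605) (.leaf 1994)) (.node (.leaf 8163) (.leaf 7614))))) (.node (.node (.node (.node (.node (.leaf 349) (.leaf 5285)) (.leaf 5468)) (.node (.leaf 6597) (.leaf 5576))) (.node (.node (.leaf 1004) (.leaf 4761)) (.node (.leaf 4542) (.leaf 2460)))) (.node (.node (.node (.leaf 682) (.leaf 8490)) (.node (.leaf 5989) (.leaf 6903))) (.node (.node (.leaf 5033) (.leaf 2065)) (.node (.leaf 1839) (.leaf 2868))))))) (.node (.node (.node (.node (.node (.node (.node (.leaf 84) (.leaf 2960)) (.leaf 2505)) (.node (.leaf 2533) (.leaf 5426))) (.node (.node (.leaf 771) (.leaf 8528)) (.node (.leaf 5764) (.leaf 6282)))) (.node (.node (.node (.node (.leaf 493) (.leaf 4506)) (.leaf 3171)) (.node (.leaf 5458) (.leaf 8172))) (.node (.node (.leaf 4564) (.leaf 1978)) (.node (.leaf 1751) (.leaf 6112))))) (.node (.node (.node (.node (.node (.leaf 296) (.leaf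 4538)) (.leaf 5716)) (.node (.leaf 6192) (.leaf 6115))) (.node (.node (.leaf 962) (.leaf 6458)) (.node (.leaf 5728) (.leaf 4608)))) (.node (.node (.node (.leaf 646) (.leaf 5067)) (.node (.leaf 7624) (.leaf 5220))) (.node (.node (.leaf 4539) (.leaf 4604)) (.node (.leaf 4813) (.leaf 6943)))))) (.node (.node (.node (.node (.node (.node (.leaf 190) (.leaf 2451)) (.leaf 2502)) (.node (.leaf 8773) (.leaf 2126))) (.node (.node (.leaf 876) (.leaf 4497)) (.node (.leaf 1578) (.leaf 4420)))) (.node (.node (.node (.leaf 2552) (.leaf 7058)) (.node (.leaf 5381) (.leaf 7610))) (.node (.node (.leaf 5226) (.leaf 4507)) (.node (.leaf 6822) (.leaf 7642))))) (.node (.node (.node (.node (.node (.leaf 401) (.leaf 4796)) (.leaf 6532)) (.node (.leaf 8018) (.leaf 5540))) (.node (.node (.leaf 1036) (.leaf 7490)) (.node (.leaf 2515) (.leaf 5268)))) (.node (.node (.node (.leaf 6082) (.leaf 5603)) (.node (.leaf 2840) (.leaf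 8110))) (.node (.node (.leaf 6515) (.leaf 2087)) (.node (.leaf 7828) (.leaf 5123)))))))) (.node (.node (.node (.node (.node (.node (.node (.node (.leaf 54) (.leaf 4503)) (.leaf 8425)) (.node (.leaf 2534) (.leaf 2110))) (.node (.node (.leaf 5037) (.leaf 8708)) (.node (.leaf 4758) (.leaf 8771)))) (.node (.node (.node (.node (.leaf 468) (.leaf 3229)) (.leaf 8005)) (.node (.leaf 3812) (.leaf 8170))) (.node (.node (.leaf 2542) (.leaf 5412)) (.node (.leaf 5881) (.leaf 4149))))) (.node (.node (.node (.node (.node (.leaf 268) (.leaf 7898)) (.leaf 2500)) (.node (.leaf 1354) (.leaf 5317))) (.node (.node (.leaf 940) (.leaf 8787)) (.node (.leaf 6236) (.leaf 6631)))) (.node (.node (.node (.leaf 627) (.leaf 4745)) (.node (.leaf 4106) (.leaf 7889))) (.node (.node (.leaf 4585) (.leaf 4603)) (.node (.leaf 6020) (.leaf 4709)))))) (.node (.node (.node (.node (.node (.node (.leaf 165) (.leaf 6098)) (.leaf 3331)) (.node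 (.leaf 6202) (.leaf 7679))) (.node (.node (.leaf 852) (.leaf 6857)) (.node (.leaf 1562) (.leaf 7409)))) (.node (.node (.node (.leaf 556) (.leaf 5409)) (.node (.leaf 6890) (.leaf 4812))) (.node (.node (.leaf 4528) (.leaf 5301)) (.node (.leaf 1776) (.leaf 3137))))) (.node (.node (.node (.node (.node (.leaf 2900) (.leaf 4646)) (.leaf 2498)) (.node (.leaf 4840) (.leaf 7034))) (.node (.node (.leaf 1021) (.leaf 5599)) (.node (.leaf 3824) (.leaf 7426)))) (.node (.node (.node (.leaf 4789) (.leaf 1936)) (.node (.leaf 4765) (.leaf 3489))) (.node (.node (.leaf 5700) (.leaf 2077)) (.node (.leaf 4202) (.leaf 3242))))))) (.node (.node (.node (.node (.node (.node (.node (.leaf 2560) (.leaf 6945)) (.leaf 4671)) (.node (.leaf 7986) (.leaf 3016))) (.node (.node (.leaf 798) (.leaf 5855)) (.node (.leaf 4982) (.leaf 6023)))) (.node (.node (.node (.leaf 514) (.leaf 3185)) (.node (.leaf 8790) (.leaf 5644))) (.node (.node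 (.leaf 3979) (.leaf 5473)) (.node (.leaf 2512) (.leaf 4576))))) (.node (.node (.node (.node (.node (.leaf 2800) (.leaf 6105)) (.leaf 1906)) (.node (.leaf 6789) (.leaf 5419))) (.node (.node (.leaf 2544) (.leaf 8606)) (.node (.leaf 6602) (.leaf 8229)))) (.node (.node (.node (.leaf 664) (.leaf 7445)) (.node (.leaf 1398) (.leaf 3136))) (.node (.node (.leaf 3756) (.leaf 4637)) (.node (.leaf 5009) (.leaf 3500)))))) (.node (.node (.node (.node (.node (.node (.leaf 217) (.leaf 2958)) (.leaf 7845)) (.node (.leaf 5090) (.leaf 3998))) (.node (.node (.leaf 896) (.leaf 5727)) (.node (.leaf 8596) (.leaf 6714)))) (.node (.node (.node (.leaf 2860) (.leaf 5079)) (.node (.leaf 4924) (.leaf 7890))) (.node (.node (.leaf 4762) (.leaf 5519)) (.node (.leaf 5874) (.leaf 4146))))) (.node (.node (.node (.node (.node (.leaf 425) (.leaf 4974)) (.leaf 5493)) (.node (.leaf 4785) (.leaf 8733))) (.node (.node (.leaf 1054) (.leaf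 2486)) (.node (.leaf 1717) (.leaf 6188)))) (.node (.node (.node (.leaf 3013) (.leaf 4591)) (.node (.leaf 1445) (.leaf 7441))) (.node (.node (.leaf 5168) (.leaf 5995)) (.node (.leaf 4059) (.leaf 5915)))))))))))

def threeRank3 : Janko.Tree (ℕ) :=
  (.node (.node (.node (.node (.node (.node (.node (.node (.node (.node (.node (.leaf 3) (.leaf 4319)) (.leaf 5100)) (.node (.leaf 7692) (.leaf 6568))) (.node (.node (.leaf 3258) (.leaf 7973)) (.node (.leaf 1450) (.leaf 2581)))) (.node (.node (.node (.node (.leaf 434) (.leaf 4726)) (.leaf 8132)) (.node (.leaf 7974) (.leaf 6727))) (.node (.node (.leaf 1059) (.leaf 2603)) (.node (.leaf 6737) (.leaf 4566))))) (.node (.node (.node (.node (.node (.leaf 224) (.leaf 8134)) (.leaf 3820)) (.node (.leaf 4234) (.leaf 8180))) (.node (.node (.leaf 2660) (.leaf 6331)) (.node (.leaf 8775) (.leaf 4635)))) (.node (.node (.node (.leaf 593) (.leaf 3730)) (.node (.leaf 6342)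 (.leaf 6645))) (.node (.node (.leaf 1182) (.leaf 2028)) (.node (.leaf 1799) (.leaf 8207)))))) (.node (.node (.node (.node (.node (.node (.leaf 121) (.leaf 3222)) (.leaf 7547)) (.node (.leaf 6279) (.leaf 7620))) (.node (.node (.leaf 805) (.leaf 6228)) (.node (.leaf 1533) (.leaf 8049)))) (.node (.node (.node (.leaf 520) (.leaf 3748)) (.node (.leaf 4096) (.leaf 3821))) (.node (.node (.leaf 1134) (.leaf 1988)) (.node (.leaf 1760) (.leaf 2177))))) (.node (.node (.node (.node (.node (.leaf 328) (.leaf 6806)) (.leaf 4225)) (.node (.leaf 7349) (.leaf 5609))) (.node (.node (.leaf 987) (.leaf 8250)) (.node (.leaf 2631) (.leaf 7677)))) (.node (.node (.node (.leaf 3936) (.leaf 6792)) (.node (.leaf 3782) (.leaf 5648))) (.node (.node (.leaf 8403) (.leaf 4827)) (.node (.leaf 1830) (.leaf 2570))))))) (.node (.node (.node (.node (.node (.node (.node (.leaf 62) (.leaf 8209)) (.leaf 2621)) (.node (.leaf 4268) (.leaf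 5795))) (.node (.node (.leaf 753) (.leaf 5781)) (.node (.leaf 1490) (.leaf 7757)))) (.node (.node (.node (.node (.leaf 475) (.leaf 3742)) (.leaf 4247)) (.node (.leaf 7532) (.leaf 7905))) (.node (.node (.leaf 4120) (.leaf 2601)) (.node (.leaf 1744) (.leaf 8721))))) (.node (.node (.node (.node (.node (.leaf 275) (.leaf 3537)) (.leaf 8035)) (.node (.leaf 1357) (.leaf 8259))) (.node (.node (.leaf 947) (.leaf 7633)) (.node (.leaf 5403) (.leaf 3959)))) (.node (.node (.node (.leaf 2664) (.leaf 6178)) (.node (.leaf 2639) (.leaf 7688))) (.node (.node (.leaf 3330) (.leaf 2043)) (.node (.leaf 5233) (.leaf 8325)))))) (.node (.node (.node (.node (.node (.node (.leaf 2674) (.leaf 4112)) (.leaf 5848)) (.node (.leaf 6495) (.leaf 2123))) (.node (.node (.leaf 4410) (.leaf 8275)) (.node (.leaf 1567) (.leaf 5359)))) (.node (.node (.node (.leaf 563) (.leaf 4185)) (.node (.leaf 3563) (.leaf 7538))) (.node (.node (.leaf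 4690) (.leaf 7704)) (.node (.leaf 5028) (.leaf 6281))))) (.node (.node (.node (.node (.node (.leaf 3296) (.leaf 7492)) (.leaf 4714)) (.node (.leaf 6562) (.leaf 3689))) (.node (.node (.leaf 1023) (.leaf 4479)) (.node (.leaf 3024) (.leaf 7453)))) (.node (.node (.node (.leaf 702) (.leaf 3865)) (.node (.leaf 1407) (.leaf 6239))) (.node (.node (.leaf 8308) (.leaf 3292)) (.node (.leaf 5023) (.leaf 6502)))))))) (.node (.node (.node (.node (.node (.node (.node (.node (.leaf 34) (.leaf 7609)) (.leaf 3445)) (.node (.leaf 7582) (.leaf 3933))) (.node (.node (.leaf 737) (.leaf 6050)) (.node (.leaf 1472) (.leaf 8315)))) (.node (.node (.node (.node (.leaf 3117) (.leaf 5072)) (.leaf 1913)) (.node (.leaf 7029) (.leaf 8010))) (.node (.node (.leaf 3040) (.leaf 6046)) (.node (.leaf 1731) (.leaf 8038))))) (.node (.node (.node (.node (.node (.leaf 250) (.leaf 4183)) (.leaf 3354)) (.node (.leaf 3940) (.leaf 8738))) (.node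 (.node (.leaf 926) (.leaf 7367)) (.node (.leaf 1622) (.leaf 3555)))) (.node (.node (.node (.leaf 5868) (.leaf 3326)) (.node (.leaf 6086) (.leaf 5704))) (.node (.node (.leaf 8175) (.leaf 6414)) (.node (.leaf 3635) (.leaf 3313)))))) (.node (.node (.node (.node (.node (.node (.leaf 145) (.leaf 5581)) (.leaf 7095)) (.node (.leaf 1310) (.leaf 5003))) (.node (.node (.leaf 831) (.leaf 7531)) (.node (.leaf 1544) (.leaf 5029)))) (.node (.node (.node (.leaf 540) (.leaf 3738)) (.node (.leaf 4184) (.leaf 5710))) (.node (.node (.leaf 6410) (.leaf 8780)) (.node (.leaf 5601) (.leaf 5946))))) (.node (.node (.node (.node (.node (.leaf 3548) (.leaf 5858)) (.leaf 4519)) (.node (.leaf 8392) (.leaf 3977))) (.node (.node (.leaf 1010) (.leaf 3952)) (.node (.leaf 1680) (.leaf 7207)))) (.node (.node (.node (.leaf 686) (.leaf 7838)) (.node (.leaf 4597) (.leaf 3453))) (.node (.node (.leaf 4981) (.leaf 3514)) (.node (.leaf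 6894) (.leaf 3887))))))) (.node (.node (.node (.node (.node (.node (.node (.leaf 92) (.leaf 6882)) (.leaf 4802)) (.node (.leaf 1295) (.leaf 2115))) (.node (.node (.leaf 779) (.leaf 8113)) (.node (.leaf 6199) (.leaf 7664)))) (.node (.node (.node (.node (.leaf 3329) (.leaf 4548)) (.leaf 3956)) (.node (.leaf 1384) (.leaf 3831))) (.node (.node (.leaf 7457) (.leaf 3547)) (.node (.leaf 8365) (.leaf 8537))))) (.node (.node (.node (.node (.node (.leaf 305) (.leaf 8228)) (.leaf 1903)) (.node (.leaf 7717) (.leaf 5999))) (.node (.node (.leaf 968) (.leaf 6135)) (.node (.leaf 1654) (.leaf 3538)))) (.node (.node (.node (.leaf 652) (.leaf 7083)) (.node (.leaf 4694) (.leaf 5142))) (.node (.node (.leaf 7276) (.leaf 2050)) (.node (.leaf 4273) (.leaf 4038)))))) (.node (.node (.node (.node (.node (.node (.leaf 197) (.leaf 7934)) (.leaf 6915)) (.node (.leaf 3896) (.leaf 6888))) (.node (.node (.leaf 882) (.leaf 8361))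 (.node (.leaf 1585) (.leaf 6403)))) (.node (.node (.node (.leaf 8793) (.leaf 3899)) (.node (.leaf 5129) (.leaf 5522))) (.node (.node (.leaf 4249) (.leaf 2018)) (.node (.leaf 1790) (.leaf 3612))))) (.node (.node (.node (.node (.node (.leaf 408) (.leaf 6522)) (.leaf 8795)) (.node (.leaf 3318) (.leaf 3025))) (.node (.node (.leaf 1042) (.leaf 5898)) (.node (.leaf 5760) (.leaf 4472)))) (.node (.node (.node (.leaf 3568) (.leaf 8659)) (.node (.leaf 5314) (.leaf 6837))) (.node (.node (.leaf 8340) (.leaf 2596)) (.node (.leaf 1863) (.leaf 7858))))))))) (.node (.node (.node (.node (.node (.node (.node (.node (.node (.leaf 19) (.leaf 5367)) (.leaf 5593)) (.node (.leaf 1274) (.leaf 3544))) (.node (.node (.leaf 4267) (.leaf 5153)) (.node (.leaf 1461) (.leaf 8188)))) (.node (.node (.node (.node (.leaf 445) (.leaf 4386)) (.leaf 7648)) (.node (.leaf 3816) (.leaf 4423))) (.node (.node (.leaf 2655) (.leaf 3693)) (.node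 (.leaf 1723) (.leaf 4929))))) (.node (.node (.node (.node (.node (.leaf 238) (.leaf 2567)) (.leaf 5111)) (.node (.leaf 3220) (.leaf 8599))) (.node (.node (.leaf 912) (.leaf 8268)) (.node (.leaf 3302) (.leaf 5658)))) (.node (.node (.node (.leaf 605) (.leaf 3310)) (.node (.leaf 3864) (.leaf 5660))) (.node (.node (.leaf 8598) (.leaf 3739)) (.node (.leaf 3275) (.leaf 4477)))))) (.node (.node (.node (.node (.node (.node (.leaf 134) (.leaf 3558)) (.leaf 2620)) (.node (.leaf 6733) (.leaf 2119))) (.node (.node (.leaf 3502) (.leaf 6383)) (.node (.leaf 3363) (.leaf 4429)))) (.node (.node (.node (.leaf 531) (.leaf 3327)) (.node (.leaf 4959) (.leaf 7587))) (.node (.node (.leaf 1139) (.leaf 3315)) (.node (.leaf 6567) (.leaf 6041))))) (.node (.node (.node (.node (.node (.leaf 342) (.leaf 5734)) (.leaf 3248)) (.node (.leaf 7096) (.leaf 3284))) (.node (.node (.leaf 1000) (.leaf 6753)) (.node (.leaf 1673) (.leaf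 6796)))) (.node (.node (.node (.leaf 7052) (.leaf 2611)) (.node (.leaf 3773) (.leaf 6900))) (.node (.node (.leaf 4425) (.leaf 4404)) (.node (.leaf 5890) (.leaf 4617))))))) (.node (.node (.node (.node (.node (.node (.node (.leaf 2676) (.leaf 4743)) (.leaf 5973)) (.node (.leaf 1291) (.leaf 6933))) (.node (.node (.leaf 765) (.leaf 6995)) (.node (.leaf 3383) (.leaf 6690)))) (.node (.node (.node (.node (.leaf 489) (.leaf 5227)) (.leaf 7420)) (.node (.leaf 3876) (.leaf 6344))) (.node (.node (.leaf 4055) (.leaf 6048)) (.node (.leaf 1749) (.leaf 3245))))) (.node (.node (.node (.node (.node (.leaf 290) (.leaf 2566)) (.leaf 3747)) (.node (.leaf 7130) (.leaf 7009))) (.node (.node (.leaf 957) (.leaf 7235)) (.node (.leaf 4852) (.leaf 3598)))) (.node (.node (.node (.leaf 3075) (.leaf 3260)) (.node (.leaf 5474) (.leaf 3033))) (.node (.node (.leaf 1217) (.leaf 3305)) (.node (.leaf 1818) (.leaf 7410)))))) (.node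 (.node (.node (.node (.node (.node (.leaf 185) (.leaf 6874)) (.leaf 7935)) (.node (.leaf 8239) (.leaf 5972))) (.node (.node (.leaf 871) (.leaf 3954)) (.node (.leaf 1574) (.leaf 4590)))) (.node (.node (.node (.leaf 573) (.leaf 7275)) (.node (.leaf 3098) (.leaf 4611))) (.node (.node (.leaf 3236) (.leaf 3259)) (.node (.leaf 2626) (.leaf 6475))))) (.node (.node (.node (.node (.node (.leaf 394) (.leaf 4471)) (.leaf 6843)) (.node (.leaf 8641) (.leaf 5481))) (.node (.node (.leaf 1030) (.leaf 6077)) (.node (.leaf 1696) (.leaf 4815)))) (.node (.node (.node (.leaf 4556) (.leaf 7843)) (.node (.leaf 1417) (.leaf 8803))) (.node (.node (.leaf 3523) (.leaf 7162)) (.node (.leaf 3607) (.leaf 8356)))))))) (.node (.node (.node (.node (.node (.node (.node (.node (.leaf 47) (.leaf 4304)) (.leaf 5188)) (.node (.leaf 5151) (.leaf 2595))) (.node (.node (.leaf 745) (.leaf 2607)) (.node (.leaf 2635) (.leaf 6813)))) (.node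 (.node (.node (.node (.leaf 2669) (.leaf 2781)) (.leaf 2615)) (.node (.leaf 3827) (.leaf 8125))) (.node (.node (.leaf 1089) (.leaf 1962)) (.node (.leaf 3362) (.leaf 4294))))) (.node (.node (.node (.node (.node (.leaf 262) (.leaf 6259)) (.leaf 7517)) (.node (.leaf 3076) (.leaf 8610))) (.node (.node (.leaf 3279) (.leaf 6007)) (.node (.leaf 1631) (.leaf 8266)))) (.node (.node (.node (.leaf 622) (.leaf 8617)) (.node (.leaf 7678) (.leaf 3597))) (.node (.node (.leaf 1203) (.leaf 5526)) (.node (.leaf 6168) (.leaf 7306)))))) (.node (.node (.node (.node (.node (.node (.leaf 158) (.leaf 6571)) (.leaf 4583)) (.node (.leaf 5709) (.leaf 3030))) (.node (.node (.leaf 845) (.leaf 5096)) (.node (.leaf 1556) (.leaf 3306)))) (.node (.node (.node (.leaf 550) (.leaf 3731)) (.node (.leaf 4041) (.leaf 6588))) (.node (.node (.leaf 3546) (.leaf 3344)) (.node (.leaf 5425) (.leaf 4855))))) (.node (.node (.node (.node (.node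 (.leaf 368) (.leaf 8760)) (.leaf 5884)) (.node (.leaf 5827) (.leaf 3877))) (.node (.node (.leaf 7896) (.leaf 3097)) (.node (.leaf 4216) (.leaf 5347)))) (.node (.node (.node (.leaf 697) (.leaf 4037)) (.node (.leaf 4883) (.leaf 4516))) (.node (.node (.leaf 1245) (.leaf 8205)) (.node (.leaf 1847) (.leaf 7928))))))) (.node (.node (.node (.node (.node (.node (.node (.leaf 106) (.leaf 3239)) (.leaf 4863)) (.node (.leaf 3307) (.leaf 3241))) (.node (.node (.leaf 3527) (.leaf 7227)) (.node (.leaf 1525) (.leaf 6617)))) (.node (.node (.node (.leaf 510) (.leaf 3803)) (.node (.leaf 4465) (.leaf 4672))) (.node (.node (.leaf 1123) (.leaf 2600)) (.node (.leaf 6215) (.leaf 2173))))) (.node (.node (.node (.node (.node (.leaf 316) (.leaf 8096)) (.leaf 8097)) (.node (.leaf 6454) (.leaf 3587))) (.node (.node (.leaf 977) (.leaf 7936)) (.node (.leaf 1659) (.leaf 6974)))) (.node (.node (.node (.leaf 4170) (.leaf 4397))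 (.node (.leaf 5012) (.leaf 2585))) (.node (.node (.leaf 4221) (.leaf 3375)) (.node (.leaf 8416) (.leaf 3625)))))) (.node (.node (.node (.node (.node (.node (.leaf 211) (.leaf 6322)) (.leaf 7872)) (.node (.leaf 4803) (.leaf 7815))) (.node (.node (.leaf 3096) (.leaf 6116)) (.node (.leaf 1595) (.leaf 5673)))) (.node (.node (.node (.leaf 586) (.leaf 4367)) (.node (.leaf 4092) (.leaf 3278))) (.node (.node (.leaf 1174) (.leaf 3507)) (.node (.leaf 2625) (.leaf 3540))))) (.node (.node (.node (.node (.node (.leaf 4428) (.leaf 6106)) (.leaf 8404)) (.node (.leaf 4088) (.leaf 6335))) (.node (.node (.leaf 4639) (.leaf 7370)) (.node (.leaf 1714) (.leaf 6545)))) (.node (.node (.node (.leaf 7126) (.leaf 8683)) (.node (.leaf 1439) (.leaf 4628))) (.node (.node (.leaf 1265) (.leaf 8642)) (.node (.leaf 1869) (.leaf 7960)))))))))) (.node (.node (.node (.node (.node (.node (.node (.node (.node (.node (.leaf 11) (.leaf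 8734)) (.leaf 3620)) (.node (.leaf 3351) (.leaf 3985))) (.node (.node (.leaf 3561) (.leaf 5553)) (.node (.leaf 1455) (.leaf 5819)))) (.node (.node (.node (.node (.leaf 3543) (.leaf 4609)) (.leaf 6262)) (.node (.leaf 5996) (.leaf 8570))) (.node (.node (.leaf 1065) (.leaf 8195)) (.node (.leaf 1721) (.leaf 7027))))) (.node (.node (.node (.node (.node (.leaf 232) (.leaf 6160)) (.leaf 1898)) (.node (.leaf 7571) (.leaf 8592))) (.node (.node (.leaf 906) (.leaf 3948)) (.node (.leaf 1610) (.leaf 8481)))) (.node (.node (.node (.leaf 8171) (.leaf 4902)) (.node (.leaf 7576) (.leaf 4456))) (.node (.node (.leaf 3337) (.leaf 7918)) (.node (.leaf 1803) (.leaf 3235)))))) (.node (.node (.node (.node (.node (.node (.leaf 129) (.leaf 4084)) (.leaf 3905)) (.node (.leaf 3444) (.leaf 6962))) (.node (.node (.leaf 811) (.leaf 7892)) (.node (.leaf 6680) (.leaf 7173)))) (.node (.node (.node (.leaf 526) (.leaf 6019)) (.node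 (.leaf 3567) (.leaf 5842))) (.node (.node (.leaf 4438) (.leaf 6625)) (.node (.leaf 7819) (.leaf 4510))))) (.node (.node (.node (.node (.node (.leaf 335) (.leaf 5371)) (.leaf 5665)) (.node (.leaf 3320) (.leaf 4206))) (.node (.node (.leaf 994) (.leaf 3580)) (.node (.leaf 1670) (.leaf 6772)))) (.node (.node (.node (.leaf 675) (.leaf 6720)) (.node (.leaf 5596) (.leaf 4899))) (.node (.node (.leaf 2650) (.leaf 2060)) (.node (.leaf 1835) (.leaf 7324))))))) (.node (.node (.node (.node (.node (.node (.node (.leaf 70) (.leaf 7911)) (.leaf 8253)) (.node (.leaf 7148) (.leaf 8358))) (.node (.node (.leaf 758) (.leaf 4466)) (.node (.leaf 1497) (.leaf 5932)))) (.node (.node (.node (.node (.leaf 481) (.leaf 2808)) (.leaf 4246)) (.node (.leaf 5036) (.leaf 4753))) (.node (.node (.leaf 1102) (.leaf 6675)) (.node (.leaf 3594) (.leaf 3254))))) (.node (.node (.node (.node (.node (.leaf 282) (.leaf 8745)) (.leaf 5283))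 (.node (.leaf 2645) (.leaf 2134))) (.node (.node (.leaf 952) (.leaf 7650)) (.node (.leaf 1642) (.leaf 3648)))) (.node (.node (.node (.leaf 8475) (.leaf 8546)) (.node (.leaf 7553) (.leaf 2165))) (.node (.node (.leaf 1212) (.leaf 2045)) (.node (.leaf 3364) (.leaf 2572)))))) (.node (.node (.node (.node (.node (.node (.leaf 179) (.leaf 8572)) (.leaf 4482)) (.node (.leaf 8545) (.leaf 3224))) (.node (.node (.leaf 863) (.leaf 3221)) (.node (.leaf 8440) (.leaf 3353)))) (.node (.node (.node (.leaf 4659) (.leaf 1928)) (.node (.leaf 3964) (.leaf 4485))) (.node (.node (.leaf 1160) (.leaf 7984)) (.node (.leaf 6555) (.leaf 3360))))) (.node (.node (.node (.node (.node (.leaf 387) (.leaf 8423)) (.leaf 2617)) (.node (.leaf 3145) (.leaf 7084))) (.node (.node (.leaf 5887) (.leaf 4725)) (.node (.leaf 4444) (.leaf 3866)))) (.node (.node (.node (.leaf 7784) (.leaf 2609)) (.node (.leaf 1410) (.leaf 2583))) (.node (.node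 (.leaf 3294) (.leaf 3869)) (.node (.leaf 1856) (.leaf 5765)))))))) (.node (.node (.node (.node (.node (.node (.node (.node (.leaf 40) (.leaf 5554)) (.leaf 4781)) (.node (.leaf 3741) (.leaf 2107))) (.node (.node (.leaf 4426) (.leaf 5918)) (.node (.leaf 1477) (.leaf 7037)))) (.node (.node (.node (.node (.leaf 460) (.leaf 3536)) (.leaf 1914)) (.node (.leaf 7798) (.leaf 2589))) (.node (.node (.leaf 1084) (.leaf 3257)) (.node (.leaf 1736) (.leaf 4365))))) (.node (.node (.node (.node (.node (.leaf 257) (.leaf 6521)) (.leaf 4093)) (.node (.leaf 3586) (.leaf 7102))) (.node (.node (.leaf 5685) (.leaf 7641)) (.node (.leaf 3116) (.leaf 6314)))) (.node (.node (.node (.leaf 618) (.leaf 3618)) (.node (.leaf 4413) (.leaf 2164))) (.node (.node (.leaf 3690) (.leaf 4229)) (.node (.leaf 1809) (.leaf 4445)))))) (.node (.node (.node (.node (.node (.node (.leaf 7138) (.leaf 6718)) (.leaf 7568)) (.node (.leaf 4338) (.leaf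 5013))) (.node (.node (.leaf 2661) (.leaf 8774)) (.node (.leaf 6525) (.leaf 4212)))) (.node (.node (.node (.leaf 545) (.leaf 8663)) (.node (.leaf 3494) (.leaf 5950))) (.node (.node (.leaf 1148) (.leaf 5550)) (.node (.leaf 1772) (.leaf 4293))))) (.node (.node (.node (.node (.node (.leaf 3584) (.leaf 8029)) (.leaf 8579)) (.node (.leaf 1369) (.leaf 3583))) (.node (.node (.leaf 4665) (.leaf 7035)) (.node (.leaf 7460) (.leaf 8321)))) (.node (.node (.node (.leaf 691) (.leaf 3815)) (.node (.leaf 7708) (.leaf 3251))) (.node (.node (.leaf 3345) (.leaf 7223)) (.node (.leaf 3441) (.leaf 7026))))))) (.node (.node (.node (.node (.node (.node (.node (.leaf 99) (.leaf 7363)) (.leaf 1884)) (.node (.leaf 3511) (.leaf 6069))) (.node (.node (.leaf 787) (.leaf 8072)) (.node (.leaf 6431) (.leaf 5854)))) (.node (.node (.node (.leaf 504) (.leaf 1917)) (.node (.leaf 6421) (.leaf 3788))) (.node (.node (.leaf 1120) (.leaf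 5570)) (.node (.leaf 4909) (.leaf 3734))))) (.node (.node (.node (.node (.node (.leaf 2672) (.leaf 3021)) (.leaf 4430)) (.node (.leaf 8503) (.leaf 3949))) (.node (.node (.leaf 971) (.leaf 4160)) (.node (.leaf 8752) (.leaf 8013)))) (.node (.node (.node (.leaf 658) (.leaf 3343)) (.node (.leaf 6089) (.leaf 5943))) (.node (.node (.leaf 6979) (.leaf 4632)) (.node (.leaf 1823) (.leaf 4075)))))) (.node (.node (.node (.node (.node (.node (.leaf 203) (.leaf 8279)) (.leaf 6596)) (.node (.leaf 5752) (.leaf 8460))) (.node (.node (.leaf 5678) (.leaf 4772)) (.node (.leaf 3923) (.leaf 7991)))) (.node (.node (.node (.leaf 2666) (.leaf 5912)) (.node (.leaf 6755) (.leaf 2587))) (.node (.node (.leaf 5259) (.leaf 6035)) (.node (.leaf 1793) (.leaf 7676))))) (.node (.node (.node (.node (.node (.leaf 3077) (.leaf 3559)) (.leaf 4421)) (.node (.leaf 6081) (.leaf 7507))) (.node (.node (.leaf 2656) (.leaf 5630)) (.node (.leaf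 1710) (.leaf 2577)))) (.node (.node (.node (.leaf 3629) (.leaf 3867)) (.node (.leaf 1432) (.leaf 3621))) (.node (.node (.leaf 3237) (.leaf 4190)) (.node (.leaf 6729) (.leaf 2568))))))))) (.node (.node (.node (.node (.node (.node (.node (.node (.node (.leaf 26) (.leaf 5001)) (.leaf 1875)) (.node (.leaf 1278) (.leaf 3037))) (.node (.node (.leaf 5509) (.leaf 7716)) (.node (.leaf 3319) (.leaf 8133)))) (.node (.node (.node (.node (.leaf 4846) (.leaf 3613)) (.leaf 6317)) (.node (.leaf 7248) (.leaf 7090))) (.node (.node (.leaf 7734) (.leaf 1953)) (.node (.leaf 1726) (.leaf 3897))))) (.node (.node (.node (.node (.node (.leaf 243) (.leaf 7699)) (.leaf 7070)) (.node (.leaf 7921) (.leaf 3917))) (.node (.node (.leaf 918) (.leaf 5514)) (.node (.leaf 6450) (.leaf 5840)))) (.node (.node (.node (.leaf 2665) (.leaf 8724)) (.node (.leaf 7575) (.leaf 4473))) (.node (.node (.leaf 2653) (.leaf 5763)) (.node (.leaf 6183)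 (.leaf 6856)))))) (.node (.node (.node (.node (.node (.node (.leaf 139) (.leaf 8427)) (.leaf 6558)) (.node (.leaf 6756) (.leaf 7713))) (.node (.node (.leaf 824) (.leaf 4824)) (.node (.leaf 4230) (.leaf 6297)))) (.node (.node (.node (.leaf 534) (.leaf 3324)) (.node (.leaf 7535) (.leaf 5321))) (.node (.node (.leaf 7556) (.leaf 1995)) (.node (.leaf 1768) (.leaf 4130))))) (.node (.node (.node (.node (.node (.leaf 350) (.leaf 6123)) (.leaf 2618)) (.node (.leaf 8064) (.leaf 4052))) (.node (.node (.leaf 5366) (.leaf 2605)) (.node (.leaf 1676) (.leaf 4023)))) (.node (.node (.node (.leaf 683) (.leaf 8494)) (.node (.leaf 4031) (.leaf 6927))) (.node (.node (.leaf 1238) (.leaf 4917)) (.node (.leaf 6088) (.leaf 5116))))))) (.node (.node (.node (.node (.node (.node (.node (.leaf 85) (.leaf 6642)) (.leaf 5161)) (.node (.leaf 1293) (.leaf 6953))) (.node (.node (.leaf 772) (.leaf 8530)) (.node (.leaf 1507) (.leaf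 3691)))) (.node (.node (.node (.node (.leaf 7603) (.leaf 4493)) (.leaf 6074)) (.node (.leaf 5456) (.leaf 7880))) (.node (.node (.leaf 1112) (.leaf 4241)) (.node (.leaf 1752) (.leaf 3735))))) (.node (.node (.node (.node (.node (.leaf 297) (.leaf 4105)) (.leaf 4605)) (.node (.leaf 6972) (.leaf 4318))) (.node (.node (.leaf 963) (.leaf 2606)) (.node (.leaf 1652) (.leaf 7398)))) (.node (.node (.node (.leaf 647) (.leaf 4392)) (.node (.leaf 7619) (.leaf 2586))) (.node (.node (.leaf 2651) (.leaf 3357)) (.node (.leaf 7291) (.leaf 6800)))))) (.node (.node (.node (.node (.node (.node (.leaf 191) (.leaf 8255)) (.leaf 1894)) (.node (.leaf 3314) (.leaf 3953))) (.node (.node (.leaf 3585) (.leaf 3534)) (.node (.leaf 1579) (.leaf 5140)))) (.node (.node (.node (.leaf 5135) (.leaf 5645)) (.node (.leaf 3695) (.leaf 2160))) (.node (.node (.leaf 3539) (.leaf 2015)) (.node (.leaf 7904) (.leaf 3247))))) (.node (.node (.node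 (.node (.node (.leaf 2670) (.leaf 3617)) (.leaf 7131)) (.node (.leaf 1373) (.leaf 3809))) (.node (.node (.leaf 6155) (.leaf 7767)) (.node (.leaf 1702) (.leaf 5266)))) (.node (.node (.node (.leaf 711) (.leaf 6924)) (.node (.leaf 3115) (.leaf 8687))) (.node (.node (.leaf 5756) (.leaf 5579)) (.node (.leaf 7495) (.leaf 7415)))))))) (.node (.node (.node (.node (.node (.node (.node (.node (.leaf 55) (.leaf 6771)) (.leaf 8500)) (.node (.leaf 6734) (.leaf 5610))) (.node (.node (.leaf 3497) (.leaf 8191)) (.node (.leaf 4453) (.leaf 8533)))) (.node (.node (.node (.node (.leaf 469) (.leaf 3225)) (.leaf 3930)) (.node (.leaf 6286) (.leaf 5369))) (.node (.node (.leaf 1095) (.leaf 1967)) (.node (.leaf 3525) (.leaf 6384))))) (.node (.node (.node (.node (.node (.leaf 269) (.leaf 7902)) (.leaf 5210)) (.node (.leaf 4065) (.leaf 4103))) (.node (.node (.leaf 941) (.leaf 8032)) (.node (.leaf 1634) (.leaf 6629)))) (.node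 (.node (.node (.leaf 628) (.leaf 3582)) (.node (.leaf 5659) (.leaf 7647))) (.node (.node (.leaf 7017) (.leaf 2041)) (.node (.leaf 2624) (.leaf 5455)))))) (.node (.node (.node (.node (.node (.node (.leaf 166) (.leaf 6866)) (.leaf 4085)) (.node (.leaf 3358) (.leaf 7259))) (.node (.node (.leaf 3112) (.leaf 3317)) (.node (.leaf 1563) (.leaf 8561)))) (.node (.node (.node (.leaf 557) (.leaf 1924)) (.node (.leaf 3931) (.leaf 4279))) (.node (.node (.leaf 3626) (.leaf 3309)) (.node (.leaf 1777) (.leaf 3733))))) (.node (.node (.node (.node (.node (.leaf 374) (.leaf 2564)) (.leaf 3627)) (.node (.leaf 8114) (.leaf 3020))) (.node (.node (.leaf 2657) (.leaf 7255)) (.node (.leaf 1687) (.leaf 7424)))) (.node (.node (.node (.leaf 4337) (.leaf 3631)) (.node (.leaf 7088) (.leaf 3035))) (.node (.node (.leaf 8430) (.leaf 4719)) (.node (.leaf 5477) (.leaf 6338))))))) (.node (.node (.node (.node (.node (.node (.node (.leaf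 113) (.leaf 4723)) (.leaf 7826)) (.node (.leaf 1300) (.leaf 8638))) (.node (.node (.leaf 3564) (.leaf 4290)) (.node (.leaf 1529) (.leaf 4567)))) (.node (.node (.node (.leaf 515) (.leaf 6287)) (.node (.leaf 7836) (.leaf 3914))) (.node (.node (.leaf 1128) (.leaf 4341)) (.node (.leaf 1758) (.leaf 4207))))) (.node (.node (.node (.node (.node (.leaf 321) (.leaf 4355)) (.leaf 2619)) (.node (.leaf 1365) (.leaf 5139))) (.node (.node (.leaf 982) (.leaf 8328)) (.node (.leaf 1663) (.leaf 8231)))) (.node (.node (.node (.leaf 665) (.leaf 8319)) (.node (.leaf 4016) (.leaf 5242))) (.node (.node (.leaf 3589) (.leaf 6670)) (.node (.leaf 4384) (.leaf 3885)))))) (.node (.node (.node (.node (.node (.node (.leaf 218) (.leaf 5800)) (.leaf 1896)) (.node (.leaf 2646) (.leaf 4036))) (.node (.node (.leaf 897) (.leaf 8442)) (.node (.leaf 1598) (.leaf 7379)))) (.node (.node (.node (.leaf 5305) (.leaf 6863)) (.node (.leaf 3153)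 (.leaf 4427))) (.node (.node (.leaf 4408) (.leaf 2024)) (.node (.leaf 3036) (.leaf 4682))))) (.node (.node (.node (.node (.node (.leaf 426) (.leaf 2563)) (.leaf 6222)) (.node (.leaf 5616) (.leaf 3884))) (.node (.node (.leaf 1055) (.leaf 7251)) (.node (.leaf 2629) (.leaf 5778)))) (.node (.node (.node (.leaf 723) (.leaf 6352)) (.node (.leaf 2636) (.leaf 6624))) (.node (.node (.leaf 1268) (.leaf 3018)) (.node (.leaf 8244) (.leaf 6214)))))))))))

def threeRank4 : Janko.Tree (ℕ) :=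
  (.node (.node (.node (.node (.node (.node (.node (.node (.node (.node (.node (.leaf 4) (.leaf 6369)) (.leaf 2773)) (.node (.leaf 1271) (.leaf 2100))) (.node (.node (.leaf 6626) (.leaf 6388)) (.node (.leaf 2727) (.leaf 6005)))) (.node (.node (.node (.node (.leaf 435) (.leaf 7967)) (.leaf 7099)) (.node (.leaf 7639) (.leaf 7394))) (.node (.node (.leaf 1060) (.leaf 1945)) (.node (.leaf 7160) (.leaf 2203))))) (.node (.node (.node (.node (.node (.leaf 225) (.leaf 3554)) (.leaf 2723)) (.node (.leaf 2720) (.leaf 8415))) (.node (.node (.leaf 2764) (.leaf 4830)) (.node (.leaf 1604) (.leaf 8350)))) (.node (.node (.node (.leaf 594) (.leaf 5865)) (.node (.leaf 4870) (.leaf 6689))) (.node (.node (.leaf 1183) (.leaf 2029)) (.node (.leaf 8742) (.leaf 5642)))))) (.node (.node (.node (.node (.node (.node (.leaf 122) (.leaf 3194)) (.leaf 4360)) (.node (.leaf 6533) (.leaf 2782))) (.node (.node (.leaf 806) (.leaf 6104))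 (.node (.leaf 1534) (.leaf 4156)))) (.node (.node (.node (.leaf 521) (.leaf 6309)) (.node (.leaf 8655) (.leaf 2151))) (.node (.node (.leaf 2282) (.leaf 4752)) (.node (.leaf 7018) (.leaf 3050))))) (.node (.node (.node (.node (.node (.leaf 329) (.leaf 4363)) (.leaf 3817)) (.node (.leaf 5022) (.leaf 7258))) (.node (.node (.leaf 988) (.leaf 3810)) (.node (.leaf 2258) (.leaf 7145)))) (.node (.node (.node (.leaf 671) (.leaf 5698)) (.node (.leaf 3174) (.leaf 4443))) (.node (.node (.leaf 6908) (.leaf 4416)) (.node (.leaf 6851) (.leaf 6966))))))) (.node (.node (.node (.node (.node (.node (.node (.leaf 63) (.leaf 4923)) (.leaf 8120)) (.node (.leaf 7703) (.leaf 3463))) (.node (.node (.leaf 3043) (.leaf 4475)) (.node (.leaf 1491) (.leaf 6937)))) (.node (.node (.node (.node (.leaf 476) (.leaf 3745)) (.leaf 8337)) (.node (.leaf 8160) (.leaf 7503))) (.node (.node (.leaf 1098) (.leaf 2229)) (.node (.leaf 7542) (.leaf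 5062))))) (.node (.node (.node (.node (.node (.leaf 276) (.leaf 3996)) (.leaf 8554)) (.node (.leaf 6119) (.leaf 8263))) (.node (.node (.leaf 2853) (.leaf 8630)) (.node (.leaf 1639) (.leaf 4492)))) (.node (.node (.node (.leaf 2292) (.leaf 7212)) (.node (.leaf 2265) (.leaf 8242))) (.node (.node (.leaf 1207) (.leaf 8193)) (.node (.leaf 3062) (.leaf 3414)))))) (.node (.node (.node (.node (.node (.node (.leaf 2299) (.leaf 3946)) (.leaf 7001)) (.node (.leaf 1320) (.leaf 7543))) (.node (.node (.leaf 858) (.leaf 6996)) (.node (.leaf 2725) (.leaf 8144)))) (.node (.node (.node (.leaf 564) (.leaf 6158)) (.node (.leaf 3231) (.leaf 5749))) (.node (.node (.leaf 6700) (.leaf 3228)) (.node (.leaf 1781) (.leaf 5402))))) (.node (.node (.node (.node (.node (.leaf 380) (.leaf 6713)) (.leaf 3918)) (.node (.leaf 5172) (.leaf 8394))) (.node (.node (.leaf 5069) (.leaf 7622)) (.node (.leaf 3187) (.leaf 3999)))) (.node (.node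 (.node (.leaf 4587) (.leaf 5431)) (.node (.leaf 2759) (.leaf 3814))) (.node (.node (.leaf 6091) (.leaf 2679)) (.node (.leaf 3430) (.leaf 7591)))))))) (.node (.node (.node (.node (.node (.node (.node (.node (.leaf 35) (.leaf 4299)) (.leaf 3405)) (.node (.leaf 8754) (.leaf 8164))) (.node (.node (.leaf 3172) (.leaf 5714)) (.node (.leaf 1473) (.leaf 7221)))) (.node (.node (.node (.node (.leaf 3085) (.leaf 4935)) (.leaf 7771)) (.node (.leaf 6751) (.leaf 7449))) (.node (.node (.leaf 5247) (.leaf 6093)) (.node (.leaf 1732) (.leaf 3808))))) (.node (.node (.node (.node (.node (.leaf 251) (.leaf 3765)) (.leaf 1900)) (.node (.leaf 7818) (.leaf 6782))) (.node (.node (.leaf 3676) (.leaf 8736)) (.node (.leaf 1623) (.leaf 5929)))) (.node (.node (.node (.leaf 616) (.leaf 6984)) (.node (.leaf 6446) (.leaf 4236))) (.node (.node (.leaf 1199) (.leaf 2038)) (.node (.leaf 3697) (.leaf 3743)))))) (.node (.node (.node (.node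 (.node (.node (.leaf 3084) (.leaf 8084)) (.leaf 7282)) (.node (.leaf 3158) (.leaf 6955))) (.node (.node (.leaf 832) (.leaf 7524)) (.node (.leaf 3196) (.leaf 8382)))) (.node (.node (.node (.leaf 5894) (.leaf 6811)) (.node (.leaf 3713) (.leaf 2212))) (.node (.node (.leaf 1144) (.leaf 1999)) (.node (.leaf 2255) (.leaf 4375))))) (.node (.node (.node (.node (.node (.leaf 356) (.leaf 5713)) (.leaf 3122)) (.node (.leaf 2271) (.leaf 4248))) (.node (.node (.leaf 2818) (.leaf 8142)) (.node (.leaf 2717) (.leaf 7121)))) (.node (.node (.node (.leaf 3916) (.leaf 5164)) (.node (.leaf 7466) (.leaf 7116))) (.node (.node (.leaf 6468) (.leaf 3369)) (.node (.leaf 7311) (.leaf 8652))))))) (.node (.node (.node (.node (.node (.node (.node (.leaf 93) (.leaf 6935)) (.leaf 2807)) (.node (.leaf 1296) (.leaf 5543))) (.node (.node (.leaf 780) (.leaf 6493)) (.node (.leaf 1515) (.leaf 6790)))) (.node (.node (.node (.node (.leaf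 499) (.leaf 4521)) (.leaf 2240)) (.node (.leaf 8398) (.leaf 4176))) (.node (.node (.leaf 3200) (.leaf 6351)) (.node (.leaf 1754) (.leaf 6354))))) (.node (.node (.node (.node (.node (.leaf 306) (.leaf 4357)) (.leaf 5987)) (.node (.leaf 3440) (.leaf 6584))) (.node (.node (.leaf 969) (.leaf 6554)) (.node (.leaf 2683) (.leaf 8287)))) (.node (.node (.node (.leaf 653) (.leaf 4707)) (.node (.leaf 3978) (.leaf 8802))) (.node (.node (.leaf 2828) (.leaf 7343)) (.node (.leaf 7910) (.leaf 6340)))))) (.node (.node (.node (.node (.node (.node (.leaf 2745) (.leaf 3857)) (.leaf 1895)) (.node (.leaf 3473) (.leaf 8695))) (.node (.node (.leaf 883) (.leaf 4992)) (.node (.leaf 1586) (.leaf 4007)))) (.node (.node (.node (.leaf 4842) (.leaf 3159)) (.node (.leaf 4062) (.leaf 5711))) (.node (.node (.leaf 2280) (.leaf 4953)) (.node (.leaf 4822) (.leaf 8143))))) (.node (.node (.node (.node (.node (.leaf 409) (.leaf 5290))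 (.leaf 3666)) (.node (.leaf 4049) (.leaf 4310))) (.node (.node (.leaf 1043) (.leaf 7761)) (.node (.leaf 1706) (.leaf 8453)))) (.node (.node (.node (.leaf 6072) (.leaf 3843)) (.node (.leaf 1427) (.leaf 5541))) (.node (.node (.leaf 8304) (.leaf 2799)) (.node (.leaf 1864) (.leaf 6653))))))))) (.node (.node (.node (.node (.node (.node (.node (.node (.node (.leaf 2301) (.leaf 8799)) (.leaf 1873)) (.node (.leaf 1275) (.leaf 3195))) (.node (.node (.leaf 2289) (.leaf 7482)) (.node (.leaf 3233) (.leaf 5821)))) (.node (.node (.node (.node (.leaf 446) (.leaf 5451)) (.leaf 3528)) (.node (.leaf 6057) (.leaf 4971))) (.node (.node (.leaf 2283) (.leaf 5173)) (.node (.leaf 4270) (.leaf 4306))))) (.node (.node (.node (.node (.node (.leaf 239) (.leaf 7222)) (.leaf 7852)) (.node (.leaf 1349) (.leaf 2219))) (.node (.node (.leaf 913) (.leaf 7169)) (.node (.leaf 3912) (.leaf 8578)))) (.node (.node (.node (.leaf 606) (.leaf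 4931)) (.node (.leaf 5847) (.leaf 2163))) (.node (.node (.leaf 1191) (.leaf 7062)) (.node (.leaf 4253) (.leaf 4467)))))) (.node (.node (.node (.node (.node (.node (.leaf 2709) (.leaf 4988)) (.leaf 2247)) (.node (.leaf 2274) (.leaf 3605))) (.node (.node (.leaf 817) (.leaf 7197)) (.node (.leaf 2695) (.leaf 4399)))) (.node (.node (.node (.leaf 532) (.leaf 8748)) (.node (.leaf 5053) (.leaf 3915))) (.node (.node (.leaf 6399) (.leaf 7166)) (.node (.leaf 3456) (.leaf 8678))))) (.node (.node (.node (.node (.node (.leaf 343) (.leaf 3966)) (.leaf 3772)) (.node (.leaf 6134) (.leaf 2716))) (.node (.node (.leaf 1001) (.leaf 7953)) (.node (.leaf 1674) (.leaf 5986)))) (.node (.node (.node (.leaf 3210) (.leaf 2982)) (.node (.leaf 8217) (.leaf 3781))) (.node (.node (.leaf 7454) (.leaf 8216)) (.node (.leaf 5150) (.leaf 4970))))))) (.node (.node (.node (.node (.node (.node (.node (.leaf 78) (.leaf 3519)) (.leaf 8548))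 (.node (.leaf 7775) (.leaf 8712))) (.node (.node (.leaf 766) (.leaf 5061)) (.node (.leaf 1502) (.leaf 4792)))) (.node (.node (.node (.node (.leaf 3665) (.leaf 4495)) (.leaf 3778)) (.node (.leaf 3804) (.leaf 2214))) (.node (.node (.leaf 1108) (.leaf 1975)) (.node (.leaf 6802) (.leaf 7526))))) (.node (.node (.node (.node (.node (.leaf 291) (.leaf 7078)) (.leaf 4113)) (.node (.leaf 4956) (.leaf 6223))) (.node (.node (.leaf 958) (.leaf 7574)) (.node (.leaf 1649) (.leaf 5726)))) (.node (.node (.node (.leaf 5038) (.leaf 5937)) (.node (.leaf 7486) (.leaf 2918))) (.node (.node (.leaf 7294) (.leaf 7638)) (.node (.leaf 5235) (.leaf 4995)))))) (.node (.node (.node (.node (.node (.node (.leaf 186) (.leaf 6528)) (.leaf 8433)) (.node (.leaf 2273) (.leaf 2124))) (.node (.node (.leaf 872) (.leaf 3468)) (.node (.leaf 3193) (.leaf 6030)))) (.node (.node (.node (.leaf 2814) (.leaf 4424)) (.node (.leaf 3101) (.leaf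 2158))) (.node (.node (.leaf 4817) (.leaf 6194)) (.node (.leaf 3421) (.leaf 2894))))) (.node (.node (.node (.node (.node (.leaf 395) (.leaf 5908)) (.leaf 2243)) (.node (.leaf 8714) (.leaf 7629))) (.node (.node (.leaf 1031) (.leaf 6348)) (.node (.leaf 8701) (.leaf 3123)))) (.node (.node (.node (.leaf 707) (.leaf 6176)) (.node (.leaf 1418) (.leaf 3841))) (.node (.node (.leaf 2700) (.leaf 2085)) (.node (.leaf 3211) (.leaf 8797)))))))) (.node (.node (.node (.node (.node (.node (.node (.node (.leaf 48) (.leaf 5104)) (.leaf 3862)) (.node (.leaf 6537) (.leaf 2222))) (.node (.node (.leaf 746) (.leaf 4449)) (.node (.leaf 1484) (.leaf 8297)))) (.node (.node (.node (.node (.leaf 2768) (.leaf 2854)) (.leaf 8006)) (.node (.leaf 1380) (.leaf 7876))) (.node (.node (.leaf 1090) (.leaf 6288)) (.node (.leaf 6913) (.leaf 7746))))) (.node (.node (.node (.node (.node (.leaf 263) (.leaf 6736)) (.leaf 8178)) (.node (.leaf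 2986) (.leaf 7019))) (.node (.node (.leaf 936) (.leaf 7419)) (.node (.leaf 1632) (.leaf 8318)))) (.node (.node (.node (.leaf 623) (.leaf 8107)) (.node (.leaf 8380) (.leaf 2209))) (.node (.node (.leaf 3045) (.leaf 2226)) (.node (.leaf 6622) (.leaf 7964)))))) (.node (.node (.node (.node (.node (.node (.leaf 159) (.leaf 5753)) (.leaf 6684)) (.node (.leaf 1316) (.leaf 6574))) (.node (.node (.leaf 846) (.leaf 2719)) (.node (.leaf 5428) (.leaf 2680)))) (.node (.node (.node (.leaf 551) (.leaf 5798)) (.node (.leaf 6070) (.leaf 8062))) (.node (.node (.leaf 5669) (.leaf 2003)) (.node (.leaf 1774) (.leaf 8068))))) (.node (.node (.node (.node (.node (.leaf 369) (.leaf 3141)) (.leaf 5860)) (.node (.leaf 3902) (.leaf 3121))) (.node (.node (.leaf 7016) (.leaf 3705)) (.node (.leaf 1686) (.leaf 2204)))) (.node (.node (.node (.leaf 2291) (.leaf 3938)) (.node (.leaf 7913) (.leaf 6514))) (.node (.node (.leaf 1246) (.leaf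 2075)) (.node (.leaf 3898) (.leaf 5690))))))) (.node (.node (.node (.node (.node (.node (.node (.leaf 107) (.leaf 4972)) (.leaf 1885)) (.node (.leaf 7747) (.leaf 8057))) (.node (.node (.leaf 793) (.leaf 4175)) (.node (.leaf 6094) (.leaf 5923)))) (.node (.node (.node (.leaf 2923) (.leaf 5695)) (.node (.leaf 3209) (.leaf 5450))) (.node (.node (.leaf 3775) (.leaf 6891)) (.node (.leaf 7357) (.leaf 3602))))) (.node (.node (.node (.node (.node (.leaf 3044) (.leaf 7675)) (.leaf 1905)) (.node (.leaf 8422) (.leaf 2682))) (.node (.node (.leaf 4657) (.leaf 6773)) (.node (.leaf 6732) (.leaf 5387)))) (.node (.node (.node (.leaf 661) (.leaf 4210)) (.node (.leaf 4263) (.leaf 8464))) (.node (.node (.leaf 2882) (.leaf 8173)) (.node (.leaf 3157) (.leaf 5808)))))) (.node (.node (.node (.node (.node (.node (.leaf 212) (.leaf 7241)) (.leaf 8713)) (.node (.leaf 6114) (.leaf 4040))) (.node (.node (.leaf 3132) (.leaf 6315))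 (.node (.leaf 1596) (.leaf 5530)))) (.node (.node (.node (.leaf 8593) (.leaf 4340)) (.node (.leaf 6594) (.leaf 2210))) (.node (.node (.leaf 3161) (.leaf 2022)) (.node (.leaf 2254) (.leaf 3506))))) (.node (.node (.node (.node (.node (.leaf 421) (.leaf 3143)) (.leaf 8480)) (.node (.leaf 5278) (.leaf 6845))) (.node (.node (.leaf 1053) (.leaf 1937)) (.node (.leaf 5748) (.leaf 4446)))) (.node (.node (.node (.leaf 4947) (.leaf 6742)) (.node (.leaf 1440) (.leaf 2207))) (.node (.node (.leaf 7059) (.leaf 7313)) (.node (.leaf 4054) (.leaf 8281)))))))))) (.node (.node (.node (.node (.node (.node (.node (.node (.node (.node (.leaf 12) (.leaf 6868)) (.leaf 1870)) (.node (.leaf 1272) (.leaf 8055))) (.node (.node (.leaf 730) (.leaf 8668)) (.node (.leaf 1456) (.leaf 8555)))) (.node (.node (.node (.node (.leaf 440) (.leaf 5063)) (.leaf 8396)) (.node (.leaf 4132) (.leaf 6648))) (.node (.node (.leaf 4701) (.leaf 1949))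 (.node (.leaf 6079) (.leaf 3395))))) (.node (.node (.node (.node (.node (.leaf 233) (.leaf 5534)) (.leaf 7479)) (.node (.leaf 7232) (.leaf 8743))) (.node (.node (.leaf 907) (.leaf 4050)) (.node (.leaf 7776) (.leaf 8611)))) (.node (.node (.node (.leaf 600) (.leaf 5611)) (.node (.leaf 8194) (.leaf 6672))) (.node (.node (.leaf 1187) (.leaf 7242)) (.node (.leaf 6706) (.leaf 6787)))))) (.node (.node (.node (.node (.node (.node (.leaf 130) (.leaf 3408)) (.leaf 5654)) (.node (.leaf 7272) (.leaf 2221))) (.node (.node (.leaf 3197) (.leaf 8332)) (.node (.leaf 1537) (.leaf 8677)))) (.node (.node (.node (.leaf 527) (.leaf 1920)) (.node (.leaf 2696) (.leaf 6852))) (.node (.node (.leaf 3718) (.leaf 5461)) (.node (.leaf 1765) (.leaf 4346))))) (.node (.node (.node (.node (.node (.leaf 336) (.leaf 7444)) (.leaf 4568)) (.node (.leaf 5007) (.leaf 3679))) (.node (.node (.leaf 995) (.leaf 3823)) (.node (.leaf 2724) (.leaf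 8654)))) (.node (.node (.node (.leaf 676) (.leaf 3479)) (.node (.leaf 5092) (.leaf 7743))) (.node (.node (.leaf 7000) (.leaf 3150)) (.node (.leaf 3381) (.leaf 5784))))))) (.node (.node (.node (.node (.node (.node (.node (.leaf 71) (.leaf 8334)) (.leaf 8371)) (.node (.leaf 2276) (.leaf 3467))) (.node (.node (.leaf 759) (.leaf 8168)) (.node (.leaf 5626) (.leaf 7808)))) (.node (.node (.node (.node (.leaf 482) (.leaf 2806)) (.leaf 3832)) (.node (.leaf 5693) (.leaf 4060))) (.node (.node (.leaf 1103) (.leaf 2896)) (.node (.leaf 1747) (.leaf 6457))))) (.node (.node (.node (.node (.node (.leaf 283) (.leaf 5191)) (.leaf 4655)) (.node (.leaf 2272) (.leaf 5831))) (.node (.node (.leaf 7308) (.leaf 3553)) (.node (.leaf 1643) (.leaf 8199)))) (.node (.node (.node (.leaf 638) (.leaf 5052)) (.node (.leaf 6346) (.leaf 3417))) (.node (.node (.leaf 5841) (.leaf 2046)) (.node (.leaf 6006) (.leaf 2949)))))) (.node (.node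 (.node (.node (.node (.node (.leaf 2746) (.leaf 8099)) (.leaf 6092)) (.node (.leaf 1325) (.leaf 3945))) (.node (.node (.leaf 864) (.leaf 3214)) (.node (.leaf 2865) (.leaf 2734)))) (.node (.node (.node (.leaf 568) (.leaf 3048)) (.node (.leaf 3127) (.leaf 3135))) (.node (.node (.leaf 7371) (.leaf 7326)) (.node (.leaf 1784) (.leaf 6657))))) (.node (.node (.node (.node (.node (.leaf 388) (.leaf 6964)) (.leaf 2770)) (.node (.leaf 8439) (.leaf 3942))) (.node (.node (.leaf 1025) (.leaf 4303)) (.node (.leaf 5055) (.leaf 6179)))) (.node (.node (.node (.leaf 5864) (.leaf 6430)) (.node (.leaf 1411) (.leaf 3399))) (.node (.node (.leaf 1253) (.leaf 3518)) (.node (.leaf 1857) (.leaf 7176)))))))) (.node (.node (.node (.node (.node (.node (.node (.node (.leaf 41) (.leaf 4197)) (.leaf 1878)) (.node (.leaf 7182) (.leaf 6536))) (.node (.node (.leaf 739) (.leaf 8681)) (.node (.leaf 7193) (.leaf 7002)))) (.node (.node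 (.node (.node (.leaf 7529) (.leaf 2186)) (.leaf 7832)) (.node (.leaf 2269) (.leaf 2215))) (.node (.node (.leaf 7320) (.leaf 1957)) (.node (.leaf 3647) (.leaf 2201))))) (.node (.node (.node (.node (.node (.leaf 258) (.leaf 6774)) (.leaf 7604)) (.node (.leaf 3215) (.leaf 7944))) (.node (.node (.leaf 931) (.leaf 3962)) (.node (.leaf 5138) (.leaf 2206)))) (.node (.node (.node (.leaf 619) (.leaf 7742)) (.node (.leaf 6759) (.leaf 3909))) (.node (.node (.leaf 6768) (.leaf 5308)) (.node (.leaf 6634) (.leaf 4167)))))) (.node (.node (.node (.node (.node (.node (.leaf 152) (.leaf 7172)) (.leaf 7867)) (.node (.leaf 7023) (.leaf 6003))) (.node (.node (.leaf 2286) (.leaf 5179)) (.node (.leaf 1551) (.leaf 5785)))) (.node (.node (.node (.leaf 546) (.leaf 5829)) (.node (.leaf 2729) (.leaf 2736))) (.node (.node (.leaf 1149) (.leaf 4782)) (.node (.leaf 6368) (.leaf 4406))))) (.node (.node (.node (.node (.node (.leaf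 362) (.leaf 3394)) (.leaf 3119)) (.node (.leaf 3599) (.leaf 3271))) (.node (.node (.leaf 5098) (.leaf 4297)) (.node (.leaf 1682) (.leaf 3347)))) (.node (.node (.node (.leaf 692) (.leaf 7971)) (.node (.leaf 3774) (.leaf 6695))) (.node (.node (.leaf 5743) (.leaf 2070)) (.node (.leaf 2691) (.leaf 7469))))))) (.node (.node (.node (.node (.node (.node (.node (.leaf 3054) (.leaf 2712)) (.leaf 3202)) (.node (.leaf 7188) (.leaf 7509))) (.node (.node (.leaf 788) (.leaf 4285)) (.node (.leaf 1520) (.leaf 7322)))) (.node (.node (.node (.leaf 505) (.leaf 3997)) (.node (.leaf 5513) (.leaf 3167))) (.node (.node (.leaf 6428) (.leaf 8468)) (.node (.leaf 3133) (.leaf 7283))))) (.node (.node (.node (.node (.node (.leaf 2297) (.leaf 3645)) (.leaf 6333)) (.node (.leaf 8612) (.leaf 8155))) (.node (.node (.leaf 3057) (.leaf 3907)) (.node (.leaf 1657) (.leaf 8756)))) (.node (.node (.node (.leaf 659) (.leaf 4276)) (.node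 (.leaf 2264) (.leaf 5773))) (.node (.node (.leaf 1225) (.leaf 4894)) (.node (.leaf 6685) (.leaf 3983)))))) (.node (.node (.node (.node (.node (.node (.leaf 204) (.leaf 7514)) (.leaf 8461)) (.node (.leaf 1335) (.leaf 6212))) (.node (.node (.leaf 3138) (.leaf 7112)) (.node (.leaf 5903) (.leaf 3426)))) (.node (.node (.node (.leaf 2293) (.leaf 4316)) (.node (.leaf 4595) (.leaf 7183))) (.node (.node (.leaf 3170) (.leaf 2021)) (.node (.leaf 7456) (.leaf 8352))))) (.node (.node (.node (.node (.node (.leaf 416) (.leaf 3390)) (.leaf 4157)) (.node (.leaf 1374) (.leaf 6154))) (.node (.node (.leaf 1048) (.leaf 7022)) (.node (.leaf 1711) (.leaf 8567)))) (.node (.node (.node (.leaf 717) (.leaf 5924)) (.node (.leaf 1433) (.leaf 7387))) (.node (.node (.leaf 6946) (.leaf 2713)) (.node (.leaf 7288) (.leaf 4333))))))))) (.node (.node (.node (.node (.node (.node (.node (.node (.node (.leaf 27) (.leaf 5624)) (.leaf 5467))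 (.node (.leaf 1279) (.leaf 2983))) (.node (.node (.leaf 3177) (.leaf 8201)) (.node (.leaf 1466) (.leaf 8781)))) (.node (.node (.node (.node (.leaf 3140) (.leaf 3005)) (.leaf 5397)) (.node (.leaf 7317) (.leaf 8605))) (.node (.node (.leaf 1075) (.leaf 3047)) (.node (.leaf 1727) (.leaf 3720))))) (.node (.node (.node (.node (.node (.leaf 3208) (.leaf 6916)) (.leaf 7596)) (.node (.leaf 1350) (.leaf 2130))) (.node (.node (.leaf 919) (.leaf 7360)) (.node (.leaf 1616) (.leaf 4048)))) (.node (.node (.node (.leaf 611) (.leaf 2878)) (.node (.leaf 7631) (.leaf 3087))) (.node (.node (.leaf 1195) (.leaf 8658)) (.node (.leaf 8602) (.leaf 8108)))))) (.node (.node (.node (.node (.node (.node (.leaf 2708) (.leaf 5447)) (.leaf 5804)) (.node (.leaf 4350) (.leaf 3761))) (.node (.node (.leaf 825) (.leaf 3387)) (.node (.leaf 2685) (.leaf 6877)))) (.node (.node (.node (.leaf 3059) (.leaf 5489)) (.node (.leaf 5759) (.leaf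 7031))) (.node (.node (.leaf 7137) (.leaf 1996)) (.node (.leaf 2848) (.leaf 3151))))) (.node (.node (.node (.node (.node (.leaf 351) (.leaf 7580)) (.leaf 2244)) (.node (.leaf 2938) (.leaf 6910))) (.node (.node (.leaf 1005) (.leaf 5691)) (.node (.leaf 6931) (.leaf 8333)))) (.node (.node (.node (.leaf 5902) (.leaf 6757)) (.node (.leaf 1401) (.leaf 2208))) (.node (.node (.leaf 5627) (.leaf 2066)) (.node (.leaf 6028) (.leaf 3840))))))) (.node (.node (.node (.node (.node (.node (.node (.leaf 86) (.leaf 5617)) (.leaf 7941)) (.node (.leaf 8177) (.leaf 6776))) (.node (.node (.leaf 773) (.leaf 8707)) (.node (.leaf 1508) (.leaf 4383)))) (.node (.node (.node (.node (.leaf 494) (.leaf 3634)) (.leaf 4001)) (.node (.leaf 5712) (.leaf 4224))) (.node (.node (.leaf 1113) (.leaf 2875)) (.node (.leaf 5309) (.leaf 8388))))) (.node (.node (.node (.node (.node (.leaf 298) (.leaf 8625)) (.leaf 7369)) (.node (.leaf 3433)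 (.leaf 3027))) (.node (.node (.leaf 964) (.leaf 8310)) (.node (.leaf 2694) (.leaf 2205)))) (.node (.node (.node (.leaf 8401) (.leaf 4382)) (.node (.leaf 7046) (.leaf 7658))) (.node (.node (.leaf 2279) (.leaf 7925)) (.node (.leaf 4187) (.leaf 5205)))))) (.node (.node (.node (.node (.node (.node (.leaf 192) (.leaf 5373)) (.leaf 8053)) (.node (.leaf 2688) (.leaf 7938))) (.node (.node (.leaf 877) (.leaf 4759)) (.node (.leaf 1580) (.leaf 3550)))) (.node (.node (.node (.leaf 5025) (.leaf 6671)) (.node (.leaf 7211) (.leaf 2211))) (.node (.node (.leaf 1167) (.leaf 7433)) (.node (.leaf 2889) (.leaf 7738))))) (.node (.node (.node (.node (.node (.leaf 2295) (.leaf 2997)) (.leaf 6238)) (.node (.leaf 7346) (.leaf 6305))) (.node (.node (.leaf 1037) (.leaf 4071)) (.node (.leaf 1703) (.leaf 4476)))) (.node (.node (.node (.leaf 712) (.leaf 6497)) (.node (.leaf 3130) (.leaf 6246))) (.node (.node (.leaf 3249) (.leaf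 7550)) (.node (.leaf 5260) (.leaf 5873)))))))) (.node (.node (.node (.node (.node (.node (.node (.node (.leaf 56) (.leaf 7668)) (.leaf 7153)) (.node (.leaf 1288) (.leaf 5677))) (.node (.node (.leaf 2288) (.leaf 5997)) (.node (.leaf 5546) (.leaf 5825)))) (.node (.node (.node (.node (.leaf 470) (.leaf 3026)) (.leaf 7164)) (.node (.leaf 7179) (.leaf 7666))) (.node (.node (.leaf 1096) (.leaf 6613)) (.node (.leaf 1740) (.leaf 5291))))) (.node (.node (.node (.node (.node (.leaf 270) (.leaf 3921)) (.leaf 1902)) (.node (.leaf 6998) (.leaf 4109))) (.node (.node (.leaf 942) (.leaf 8285)) (.node (.leaf 1635) (.leaf 3846)))) (.node (.node (.node (.leaf 6472) (.leaf 3350)) (.node (.leaf 7926) (.leaf 2902))) (.node (.node (.leaf 5747) (.leaf 5439)) (.node (.leaf 2252) (.leaf 7972)))))) (.node (.node (.node (.node (.node (.node (.leaf 167) (.leaf 5286)) (.leaf 3994)) (.node (.leaf 3384) (.leaf 7841))) (.node (.node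 (.leaf 853) (.leaf 6447)) (.node (.leaf 8619) (.leaf 5361)))) (.node (.node (.node (.leaf 558) (.leaf 3596)) (.node (.leaf 4227) (.leaf 3882))) (.node (.node (.leaf 1154) (.leaf 2686)) (.node (.leaf 2895) (.leaf 7508))))) (.node (.node (.node (.node (.node (.leaf 3207) (.leaf 2190)) (.leaf 4100)) (.node (.leaf 6683) (.leaf 3128))) (.node (.node (.leaf 2284) (.leaf 6658)) (.node (.leaf 3169) (.leaf 7334)))) (.node (.node (.node (.leaf 3722) (.leaf 8536)) (.node (.leaf 1404) (.leaf 2951))) (.node (.node (.leaf 1249) (.leaf 2223)) (.node (.leaf 1849) (.leaf 7793))))))) (.node (.node (.node (.node (.node (.node (.node (.leaf 114) (.leaf 5588)) (.leaf 4142)) (.node (.leaf 5383) (.leaf 6814))) (.node (.node (.leaf 799) (.leaf 4989)) (.node (.leaf 1530) (.leaf 7796)))) (.node (.node (.node (.leaf 7092) (.leaf 7048)) (.node (.leaf 5410) (.leaf 6292))) (.node (.node (.leaf 1129) (.leaf 7060)) (.node (.leaf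 4191) (.leaf 7875))))) (.node (.node (.node (.node (.node (.leaf 322) (.leaf 8362)) (.leaf 2245)) (.node (.leaf 5668) (.leaf 5641))) (.node (.node (.leaf 983) (.leaf 8723)) (.node (.leaf 7715) (.leaf 7573)))) (.node (.node (.node (.leaf 666) (.leaf 8136)) (.node (.leaf 4155) (.leaf 4211))) (.node (.node (.leaf 7063) (.leaf 2224)) (.node (.leaf 5289) (.leaf 7416)))))) (.node (.node (.node (.node (.node (.node (.leaf 219) (.leaf 8727)) (.leaf 8498)) (.node (.leaf 2861) (.leaf 8765))) (.node (.node (.leaf 6889) (.leaf 5102)) (.node (.leaf 1599) (.leaf 7418)))) (.node (.node (.node (.leaf 588) (.leaf 6878)) (.node (.leaf 4457) (.leaf 4433))) (.node (.node (.leaf 1176) (.leaf 2025)) (.node (.leaf 6590) (.leaf 6741))))) (.node (.node (.node (.node (.node (.leaf 427) (.leaf 2188)) (.leaf 4629)) (.node (.leaf 6423) (.leaf 5047))) (.node (.node (.leaf 1056) (.leaf 1941)) (.node (.leaf 1718) (.leaf 3797))))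 (.node (.node (.node (.leaf 8040) (.leaf 5348)) (.node (.leaf 2262) (.leaf 7996))) (.node (.node (.leaf 4737) (.leaf 2099)) (.node (.leaf 4005) (.leaf 4330)))))))))))

def threeRank5 : Janko.Tree (ℕ) :=
  (.node (.node (.node (.node (.node (.node (.node (.node (.node (.node (.node (.leaf 5) (.leaf 6599)) (.leaf 3513)) (.node (.leaf 2929) (.leaf 5813))) (.node (.node (.leaf 727) (.leaf 5783)) (.node (.leaf 1451) (.leaf 7108)))) (.node (.node (.node (.node (.leaf 436) (.leaf 7963)) (.leaf 5758)) (.node (.leaf 7281) (.leaf 7515))) (.node (.node (.leaf 8183) (.leaf 1946)) (.node (.leaf 5518) (.leaf 8020))))) (.node (.node (.node (.node (.node (.leaf 226) (.leaf 4163)) (.leaf 4019)) (.node (.leaf 1343) (.leaf 8417))) (.node (.node (.leaf 2767) (.leaf 2362)) (.node (.leaf 5475) (.leaf 8086)))) (.node (.node (.node (.leaf 595) (.leaf 2371)) (.node (.leaf 5612) (.leaf 2336))) (.node (.node (.leaf 1184) (.leaf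 2030)) (.node (.leaf 7224) (.leaf 5687)))))) (.node (.node (.node (.node (.node (.node (.leaf 123) (.leaf 6826)) (.leaf 3411)) (.node (.leaf 1304) (.leaf 2966))) (.node (.node (.leaf 2431) (.leaf 6343)) (.node (.leaf 1535) (.leaf 4158)))) (.node (.node (.node (.leaf 5587) (.leaf 1919)) (.node (.leaf 3698) (.leaf 4006))) (.node (.node (.leaf 2771) (.leaf 1989)) (.node (.leaf 7278) (.leaf 4124))))) (.node (.node (.node (.node (.node (.leaf 330) (.leaf 2307)) (.leaf 5034)) (.node (.leaf 4600) (.leaf 7254))) (.node (.node (.leaf 989) (.leaf 4544)) (.node (.leaf 1669) (.leaf 8424)))) (.node (.node (.node (.leaf 672) (.leaf 6205)) (.node (.leaf 3168) (.leaf 4991))) (.node (.node (.leaf 1233) (.leaf 2057)) (.node (.leaf 1831) (.leaf 7010))))))) (.node (.node (.node (.node (.node (.node (.node (.leaf 64) (.leaf 2311)) (.leaf 2384)) (.node (.leaf 5561) (.leaf 2349))) (.node (.node (.leaf 754) (.leaf 4638))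 (.node (.leaf 1492) (.leaf 8726)))) (.node (.node (.node (.node (.leaf 477) (.leaf 4278)) (.leaf 6140)) (.node (.leaf 6987) (.leaf 7762))) (.node (.node (.leaf 4684) (.leaf 1971)) (.node (.leaf 8085) (.leaf 5810))))) (.node (.node (.node (.node (.node (.leaf 277) (.leaf 6301)) (.leaf 2381)) (.node (.leaf 4978) (.leaf 8616))) (.node (.node (.leaf 948) (.leaf 4710)) (.node (.leaf 5281) (.leaf 4722)))) (.node (.node (.node (.leaf 6045) (.leaf 5318)) (.node (.leaf 8091) (.leaf 7782))) (.node (.node (.leaf 1208) (.leaf 6650)) (.node (.leaf 5462) (.leaf 3418)))))) (.node (.node (.node (.node (.node (.node (.leaf 174) (.leaf 7567)) (.leaf 4884)) (.node (.leaf 1321) (.leaf 8767))) (.node (.node (.leaf 7231) (.leaf 2816)) (.node (.leaf 1568) (.leaf 6195)))) (.node (.node (.node (.leaf 565) (.leaf 5889)) (.node (.leaf 6254) (.leaf 4699))) (.node (.node (.leaf 2423) (.leaf 2006)) (.node (.leaf 8421) (.leaf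 5683))))) (.node (.node (.node (.node (.node (.leaf 381) (.leaf 6711)) (.leaf 2379)) (.node (.leaf 1372) (.leaf 5719))) (.node (.node (.leaf 4558) (.leaf 5707)) (.node (.leaf 1690) (.leaf 2769)))) (.node (.node (.node (.leaf 4020) (.leaf 6973)) (.node (.leaf 2402) (.leaf 6898))) (.node (.node (.leaf 5577) (.leaf 2079)) (.node (.leaf 7328) (.leaf 6500)))))))) (.node (.node (.node (.node (.node (.node (.node (.node (.leaf 36) (.leaf 4301)) (.leaf 4904)) (.node (.leaf 8376) (.leaf 8186))) (.node (.node (.leaf 2432) (.leaf 8147)) (.node (.leaf 4588) (.leaf 8473)))) (.node (.node (.node (.node (.leaf 454) (.leaf 2303)) (.leaf 6640)) (.node (.leaf 6749) (.leaf 6976))) (.node (.node (.leaf 4858) (.leaf 4851)) (.node (.leaf 1733) (.leaf 3805))))) (.node (.node (.node (.node (.node (.leaf 252) (.leaf 6347)) (.leaf 6632)) (.node (.leaf 6241) (.leaf 2346))) (.node (.node (.leaf 927) (.leaf 7465)) (.node (.leaf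 4891) (.leaf 8377)))) (.node (.node (.node (.leaf 2936) (.leaf 5380)) (.node (.leaf 1393) (.leaf 5414))) (.node (.node (.leaf 6553) (.leaf 6316)) (.node (.leaf 3699) (.leaf 6139)))))) (.node (.node (.node (.node (.node (.node (.leaf 146) (.leaf 2309)) (.leaf 7572)) (.node (.leaf 2417) (.leaf 6886))) (.node (.node (.leaf 833) (.leaf 7028)) (.node (.leaf 1545) (.leaf 4773)))) (.node (.node (.node (.leaf 541) (.leaf 2375)) (.node (.leaf 4455) (.leaf 5273))) (.node (.node (.leaf 1145) (.leaf 3232)) (.node (.leaf 3286) (.leaf 6439))))) (.node (.node (.node (.node (.node (.leaf 357) (.leaf 2305)) (.leaf 4432)) (.node (.leaf 2933) (.leaf 4570))) (.node (.node (.leaf 1011) (.leaf 5807)) (.node (.leaf 4835) (.leaf 7119)))) (.node (.node (.node (.leaf 7593) (.leaf 7555)) (.node (.leaf 8737) (.leaf 7205))) (.node (.node (.leaf 4966) (.leaf 2069)) (.node (.leaf 7152) (.leaf 7008))))))) (.node (.node (.node (.node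 (.node (.node (.node (.leaf 2445) (.leaf 6167)) (.leaf 3415)) (.node (.leaf 1297) (.leaf 8471))) (.node (.node (.leaf 781) (.leaf 2366)) (.node (.leaf 6947) (.leaf 5101)))) (.node (.node (.node (.node (.leaf 500) (.leaf 4523)) (.leaf 7618)) (.node (.leaf 6688) (.leaf 4135))) (.node (.node (.leaf 1116) (.leaf 8386)) (.node (.leaf 2393) (.leaf 4373))))) (.node (.node (.node (.node (.node (.leaf 307) (.leaf 5335)) (.leaf 3717)) (.node (.leaf 8245) (.leaf 7140))) (.node (.node (.leaf 2427) (.leaf 8571)) (.node (.leaf 1655) (.leaf 7842)))) (.node (.node (.node (.leaf 654) (.leaf 5378)) (.node (.leaf 8563) (.leaf 8302))) (.node (.node (.leaf 1222) (.leaf 6103)) (.node (.leaf 8679) (.leaf 3004)))))) (.node (.node (.node (.node (.node (.node (.leaf 198) (.leaf 4288)) (.leaf 8233)) (.node (.leaf 3388) (.leaf 6967))) (.node (.node (.leaf 884) (.leaf 4994)) (.node (.leaf 1587) (.leaf 7969)))) (.node (.node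 (.node (.leaf 5027) (.leaf 3650)) (.node (.leaf 5508) (.leaf 5340))) (.node (.node (.leaf 3164) (.leaf 4867)) (.node (.leaf 4950) (.leaf 3469))))) (.node (.node (.node (.node (.node (.leaf 410) (.leaf 2304)) (.leaf 5284)) (.node (.leaf 5639) (.leaf 4312))) (.node (.node (.leaf 1044) (.leaf 6820)) (.node (.leaf 1707) (.leaf 8447)))) (.node (.node (.node (.leaf 6190) (.leaf 3960)) (.node (.leaf 2835) (.leaf 5735))) (.node (.node (.leaf 6146) (.leaf 2352)) (.node (.leaf 1865) (.leaf 7903))))))))) (.node (.node (.node (.node (.node (.node (.node (.node (.node (.leaf 20) (.leaf 4634)) (.leaf 7053)) (.node (.leaf 6419) (.leaf 4546))) (.node (.node (.leaf 3183) (.leaf 2367)) (.node (.leaf 1462) (.leaf 5006)))) (.node (.node (.node (.node (.leaf 447) (.leaf 6095)) (.leaf 3530)) (.node (.leaf 5351) (.leaf 5882))) (.node (.node (.leaf 5207) (.leaf 2358)) (.node (.leaf 4618) (.leaf 4327))))) (.node (.node (.node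 (.node (.node (.leaf 2443) (.leaf 8669)) (.leaf 7856)) (.node (.leaf 7649) (.leaf 5160))) (.node (.node (.leaf 914) (.leaf 7199)) (.node (.leaf 5605) (.leaf 6193)))) (.node (.node (.node (.leaf 607) (.leaf 3728)) (.node (.leaf 2405) (.leaf 5251))) (.node (.node (.leaf 1192) (.leaf 8436)) (.node (.leaf 5413) (.leaf 4282)))))) (.node (.node (.node (.node (.node (.node (.leaf 135) (.leaf 5133)) (.leaf 5909)) (.node (.leaf 4317) (.leaf 5916))) (.node (.node (.leaf 818) (.leaf 5045)) (.node (.leaf 1539) (.leaf 7863)))) (.node (.node (.node (.leaf 2437) (.leaf 4073)) (.node (.leaf 1387) (.leaf 7625))) (.node (.node (.leaf 3920) (.leaf 3714)) (.node (.leaf 1767) (.leaf 8116))))) (.node (.node (.node (.node (.node (.leaf 344) (.leaf 3861)) (.leaf 6244)) (.node (.leaf 6306) (.leaf 5230))) (.node (.node (.leaf 1002) (.leaf 7745)) (.node (.leaf 1675) (.leaf 5988)))) (.node (.node (.node (.leaf 679) (.leaf 2368))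 (.node (.leaf 8805) (.leaf 2333))) (.node (.node (.leaf 6049) (.leaf 2062)) (.node (.leaf 2389) (.leaf 2866))))))) (.node (.node (.node (.node (.node (.node (.node (.leaf 79) (.leaf 3521)) (.leaf 6909)) (.node (.leaf 7777) (.leaf 2113))) (.node (.node (.leaf 767) (.leaf 7791)) (.node (.leaf 1503) (.leaf 7498)))) (.node (.node (.node (.node (.leaf 490) (.leaf 2815)) (.leaf 4153)) (.node (.leaf 8257) (.leaf 5457))) (.node (.node (.leaf 1109) (.leaf 1976)) (.node (.leaf 5792) (.leaf 7405))))) (.node (.node (.node (.node (.node (.leaf 292) (.leaf 6847)) (.leaf 7868)) (.node (.leaf 5491) (.leaf 5573))) (.node (.node (.leaf 4910) (.leaf 8428)) (.node (.leaf 5480) (.leaf 3410)))) (.node (.node (.node (.leaf 5068) (.leaf 7163)) (.node (.leaf 7769) (.leaf 2334))) (.node (.node (.leaf 5157) (.leaf 6801)) (.node (.leaf 1819) (.leaf 2184)))))) (.node (.node (.node (.node (.node (.node (.leaf 187) (.leaf 6526))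 (.leaf 8429)) (.node (.leaf 5216) (.leaf 2125))) (.node (.node (.leaf 873) (.leaf 3464)) (.node (.leaf 1575) (.leaf 6809)))) (.node (.node (.node (.leaf 574) (.leaf 1929)) (.node (.leaf 1391) (.leaf 2159))) (.node (.node (.leaf 1164) (.leaf 3474)) (.node (.leaf 2920) (.leaf 2901))))) (.node (.node (.node (.node (.node (.leaf 396) (.leaf 5529)) (.leaf 6466)) (.node (.leaf 8709) (.leaf 3710))) (.node (.node (.leaf 1032) (.leaf 6668)) (.node (.leaf 1697) (.leaf 3092)))) (.node (.node (.node (.leaf 708) (.leaf 8157)) (.node (.leaf 1419) (.leaf 3450))) (.node (.node (.leaf 6320) (.leaf 2086)) (.node (.leaf 5058) (.leaf 8660)))))))) (.node (.node (.node (.node (.node (.node (.node (.node (.leaf 49) (.leaf 4401)) (.leaf 3402)) (.node (.leaf 1284) (.leaf 2829))) (.node (.node (.leaf 747) (.leaf 4451)) (.node (.leaf 5505) (.leaf 7887)))) (.node (.node (.node (.node (.leaf 2762) (.leaf 2856)) (.leaf 2377))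 (.node (.leaf 6376) (.leaf 7440))) (.node (.node (.leaf 1091) (.leaf 1963)) (.node (.leaf 4122) (.leaf 8381))))) (.node (.node (.node (.node (.node (.leaf 264) (.leaf 5175)) (.leaf 7740)) (.node (.leaf 7045) (.leaf 2132))) (.node (.node (.leaf 937) (.leaf 8027)) (.node (.leaf 7683) (.leaf 8360)))) (.node (.node (.node (.leaf 7066) (.leaf 8472)) (.node (.leaf 8041) (.leaf 8218))) (.node (.node (.leaf 3654) (.leaf 3063)) (.node (.leaf 1811) (.leaf 3501)))))) (.node (.node (.node (.node (.node (.node (.leaf 160) (.leaf 3420)) (.leaf 5225)) (.node (.leaf 1317) (.leaf 7310))) (.node (.node (.leaf 847) (.leaf 5852)) (.node (.leaf 1557) (.leaf 3975)))) (.node (.node (.node (.leaf 552) (.leaf 2374)) (.node (.leaf 5542) (.leaf 2156))) (.node (.node (.leaf 5744) (.leaf 2004)) (.node (.leaf 1775) (.leaf 4128))))) (.node (.node (.node (.node (.node (.leaf 2441) (.leaf 7855)) (.leaf 1909)) (.node (.leaf 3757)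 (.leaf 3686))) (.node (.node (.leaf 6583) (.leaf 6797)) (.node (.leaf 6608) (.leaf 4584)))) (.node (.node (.node (.leaf 2777) (.leaf 5925)) (.node (.leaf 7333) (.leaf 4749))) (.node (.node (.leaf 1247) (.leaf 2076)) (.node (.leaf 1848) (.leaf 7114))))))) (.node (.node (.node (.node (.node (.node (.node (.leaf 108) (.leaf 8729)) (.leaf 8271)) (.node (.leaf 1299) (.leaf 2116))) (.node (.node (.leaf 794) (.leaf 4179)) (.node (.leaf 1526) (.leaf 7628)))) (.node (.node (.node (.leaf 511) (.leaf 2376)) (.node (.leaf 3707) (.leaf 2149))) (.node (.node (.leaf 7894) (.leaf 6895)) (.node (.leaf 6830) (.leaf 7186))))) (.node (.node (.node (.node (.node (.leaf 317) (.leaf 7673)) (.leaf 4395)) (.node (.leaf 8438) (.leaf 3811))) (.node (.node (.leaf 978) (.leaf 5947)) (.node (.leaf 1660) (.leaf 6591)))) (.node (.node (.node (.leaf 4908) (.leaf 5584)) (.node (.leaf 6641) (.leaf 8462))) (.node (.node (.leaf 1229)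 (.leaf 5482)) (.node (.leaf 1826) (.leaf 6461)))))) (.node (.node (.node (.node (.node (.node (.leaf 5073) (.leaf 6264)) (.leaf 8562)) (.node (.leaf 1338) (.leaf 7987))) (.node (.node (.leaf 891) (.leaf 8087)) (.node (.leaf 7239) (.leaf 6476)))) (.node (.node (.node (.leaf 8410) (.leaf 6097)) (.node (.leaf 6860) (.leaf 4358))) (.node (.node (.leaf 2422) (.leaf 3767)) (.node (.leaf 5030) (.leaf 2863))))) (.node (.node (.node (.node (.node (.leaf 7823) (.leaf 7850)) (.leaf 8476)) (.node (.leaf 2410) (.leaf 7271))) (.node (.node (.leaf 2890) (.leaf 1938)) (.node (.leaf 6823) (.leaf 2324)))) (.node (.node (.node (.leaf 2433) (.leaf 4066)) (.node (.leaf 1441) (.leaf 3298))) (.node (.node (.leaf 6961) (.leaf 7249)) (.node (.leaf 4716) (.leaf 7794)))))))))) (.node (.node (.node (.node (.node (.node (.node (.node (.node (.node (.leaf 13) (.leaf 6059)) (.leaf 2947)) (.node (.leaf 3754) (.leaf 4736))) (.node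 (.node (.leaf 7540) (.leaf 5549)) (.node (.leaf 2401) (.leaf 8796)))) (.node (.node (.node (.node (.leaf 441) (.leaf 7701)) (.leaf 8200)) (.node (.leaf 7945) (.leaf 2143))) (.node (.node (.leaf 1066) (.leaf 6080)) (.node (.leaf 1722) (.leaf 3003))))) (.node (.node (.node (.node (.node (.leaf 234) (.leaf 6728)) (.leaf 7352)) (.node (.leaf 8650) (.leaf 8753))) (.node (.node (.leaf 908) (.leaf 6577)) (.node (.leaf 1611) (.leaf 6482)))) (.node (.node (.node (.leaf 601) (.leaf 4895)) (.node (.leaf 8196) (.leaf 6058))) (.node (.node (.leaf 1188) (.leaf 7714)) (.node (.leaf 1804) (.leaf 6887)))))) (.node (.node (.node (.node (.node (.node (.leaf 131) (.leaf 3404)) (.leaf 5463)) (.node (.leaf 7274) (.leaf 2871))) (.node (.node (.leaf 812) (.leaf 2365)) (.node (.leaf 5263) (.leaf 7105)))) (.node (.node (.node (.leaf 528) (.leaf 5166)) (.node (.leaf 4021) (.leaf 5372))) (.node (.node (.leaf 3712) (.leaf 6849))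 (.node (.leaf 6339) (.leaf 2178))))) (.node (.node (.node (.node (.node (.leaf 337) (.leaf 8069)) (.leaf 7190)) (.node (.leaf 1366) (.leaf 4308))) (.node (.node (.leaf 996) (.leaf 6437)) (.node (.leaf 7015) (.leaf 6014)))) (.node (.node (.node (.leaf 2434) (.leaf 3483)) (.node (.leaf 1399) (.leaf 6980))) (.node (.node (.leaf 8470) (.leaf 2354)) (.node (.leaf 3385) (.leaf 7982))))))) (.node (.node (.node (.node (.node (.node (.node (.leaf 72) (.leaf 4818)) (.leaf 8731)) (.node (.leaf 3067) (.leaf 7266))) (.node (.node (.leaf 760) (.leaf 5411)) (.node (.leaf 1498) (.leaf 7314)))) (.node (.node (.node (.node (.leaf 483) (.leaf 3640)) (.leaf 3755)) (.node (.leaf 1382) (.leaf 5187))) (.node (.node (.leaf 1104) (.leaf 1972)) (.node (.leaf 1748) (.leaf 3968))))) (.node (.node (.node (.node (.node (.leaf 284) (.leaf 5928)) (.leaf 4057)) (.node (.leaf 2843) (.leaf 8364))) (.node (.node (.leaf 953) (.leaf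 4200)) (.node (.leaf 1644) (.leaf 8807)))) (.node (.node (.node (.leaf 639) (.leaf 5344)) (.node (.leaf 6350) (.leaf 2888))) (.node (.node (.leaf 1213) (.leaf 2047)) (.node (.leaf 2391) (.leaf 2314)))))) (.node (.node (.node (.node (.node (.node (.leaf 180) (.leaf 8521)) (.leaf 7635)) (.node (.leaf 1326) (.leaf 5942))) (.node (.node (.leaf 865) (.leaf 8092)) (.node (.leaf 2398) (.leaf 4674)))) (.node (.node (.node (.leaf 569) (.leaf 3762)) (.node (.leaf 3682) (.leaf 4378))) (.node (.node (.leaf 1161) (.leaf 6604)) (.node (.leaf 5544) (.leaf 3719))))) (.node (.node (.node (.node (.node (.leaf 389) (.leaf 7430)) (.leaf 5390)) (.node (.leaf 8639) (.leaf 7809))) (.node (.node (.leaf 1026) (.leaf 2361)) (.node (.leaf 1692) (.leaf 6983)))) (.node (.node (.node (.leaf 704) (.leaf 6422)) (.node (.leaf 1412) (.leaf 8632))) (.node (.node (.leaf 1254) (.leaf 3400)) (.node (.leaf 1858) (.leaf 2313)))))))) (.node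 (.node (.node (.node (.node (.node (.node (.node (.leaf 42) (.leaf 4201)) (.leaf 2903)) (.node (.leaf 7814) (.leaf 6530))) (.node (.node (.leaf 740) (.leaf 8502)) (.node (.leaf 1478) (.leaf 5115)))) (.node (.node (.node (.node (.leaf 461) (.leaf 2302)) (.leaf 8067)) (.node (.leaf 5844) (.leaf 4545))) (.node (.node (.leaf 1085) (.leaf 1958)) (.node (.leaf 1737) (.leaf 4478))))) (.node (.node (.node (.node (.node (.leaf 7147) (.leaf 8720)) (.leaf 4689)) (.node (.leaf 5407) (.leaf 7940))) (.node (.node (.leaf 3288) (.leaf 4362)) (.node (.leaf 1628) (.leaf 7893)))) (.node (.node (.node (.leaf 2932) (.leaf 3438)) (.node (.leaf 5722) (.leaf 7822))) (.node (.node (.leaf 2421) (.leaf 5465)) (.node (.leaf 6022) (.leaf 4683)))))) (.node (.node (.node (.node (.node (.node (.leaf 153) (.leaf 6841)) (.leaf 6442)) (.node (.leaf 1312) (.leaf 2122))) (.node (.node (.leaf 839) (.leaf 4778)) (.node (.leaf 1552) (.leaf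 6387)))) (.node (.node (.node (.leaf 5936) (.leaf 4311)) (.node (.leaf 5337) (.leaf 2155))) (.node (.node (.leaf 1150) (.leaf 5031)) (.node (.leaf 6603) (.leaf 7494))))) (.node (.node (.node (.node (.node (.leaf 363) (.leaf 7787)) (.leaf 2380)) (.node (.leaf 8512) (.leaf 7505))) (.node (.node (.leaf 4070) (.leaf 7383)) (.node (.leaf 1683) (.leaf 3349)))) (.node (.node (.node (.leaf 693) (.leaf 3000)) (.node (.leaf 8066) (.leaf 4518))) (.node (.node (.leaf 3671) (.leaf 2071)) (.node (.leaf 3973) (.leaf 3943))))))) (.node (.node (.node (.node (.node (.node (.node (.leaf 100) (.leaf 6921)) (.leaf 4914)) (.node (.leaf 6785) (.leaf 5424))) (.node (.node (.leaf 789) (.leaf 4287)) (.node (.leaf 2399) (.leaf 5333)))) (.node (.node (.node (.leaf 506) (.leaf 5846)) (.node (.leaf 5345) (.leaf 3162))) (.node (.node (.leaf 6564) (.leaf 1983)) (.node (.leaf 3641) (.leaf 2320))))) (.node (.node (.node (.node (.node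 (.leaf 2751) (.leaf 7473)) (.leaf 5657)) (.node (.leaf 1363) (.leaf 3701))) (.node (.node (.leaf 3681) (.leaf 7305)) (.node (.leaf 6818) (.leaf 8373)))) (.node (.node (.node (.leaf 5575) (.leaf 7883)) (.node (.leaf 6954) (.leaf 5427))) (.node (.node (.leaf 1226) (.leaf 2054)) (.node (.leaf 3659) (.leaf 4850)))))) (.node (.node (.node (.node (.node (.node (.leaf 205) (.leaf 8129)) (.leaf 8649)) (.node (.leaf 1336) (.leaf 8782))) (.node (.node (.leaf 889) (.leaf 2363)) (.node (.leaf 1590) (.leaf 2328)))) (.node (.node (.node (.leaf 2780) (.leaf 7500)) (.node (.leaf 3667) (.leaf 2337))) (.node (.node (.leaf 1171) (.leaf 2961)) (.node (.leaf 1794) (.leaf 6794))))) (.node (.node (.node (.node (.node (.leaf 417) (.leaf 8576)) (.leaf 3668)) (.node (.leaf 1375) (.leaf 5393))) (.node (.node (.leaf 2914) (.leaf 2359)) (.node (.leaf 6687) (.leaf 8762)))) (.node (.node (.node (.leaf 718) (.leaf 5312)) (.node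 (.leaf 5640) (.leaf 8682))) (.node (.node (.leaf 3435) (.leaf 2093)) (.node (.leaf 2387) (.leaf 4331))))))))) (.node (.node (.node (.node (.node (.node (.node (.node (.node (.leaf 28) (.leaf 2312)) (.leaf 4985)) (.node (.leaf 1280) (.leaf 7917))) (.node (.node (.leaf 734) (.leaf 7951)) (.node (.leaf 1467) (.leaf 7228)))) (.node (.node (.node (.node (.leaf 452) (.leaf 2825)) (.leaf 6113)) (.node (.leaf 5504) (.leaf 7297))) (.node (.node (.leaf 1076) (.leaf 3656)) (.node (.leaf 1728) (.leaf 3706))))) (.node (.node (.node (.node (.node (.leaf 244) (.leaf 8477)) (.leaf 5440)) (.node (.leaf 7765) (.leaf 5917))) (.node (.node (.leaf 920) (.leaf 7365)) (.node (.leaf 1617) (.leaf 4596)))) (.node (.node (.node (.leaf 2928) (.leaf 2832)) (.node (.leaf 8445) (.leaf 3660))) (.node (.node (.leaf 1196) (.leaf 2034)) (.node (.leaf 1807) (.leaf 5097)))))) (.node (.node (.node (.node (.node (.node (.leaf 140) (.leaf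 5449)) (.leaf 6416)) (.node (.leaf 1307) (.leaf 3901))) (.node (.node (.leaf 826) (.leaf 3374)) (.node (.leaf 1541) (.leaf 7521)))) (.node (.node (.node (.leaf 3685) (.leaf 7915)) (.node (.leaf 7829) (.leaf 5701))) (.node (.node (.leaf 1141) (.leaf 1997)) (.node (.leaf 1769) (.leaf 3644))))) (.node (.node (.node (.node (.node (.leaf 352) (.leaf 7671)) (.leaf 3125)) (.node (.leaf 2940) (.leaf 6177))) (.node (.node (.leaf 1006) (.leaf 7630)) (.node (.leaf 6529) (.leaf 7499)))) (.node (.node (.node (.leaf 6394) (.leaf 1935)) (.node (.leaf 4117) (.leaf 3783))) (.node (.node (.leaf 1239) (.leaf 2067)) (.node (.leaf 1840) (.leaf 3838))))))) (.node (.node (.node (.node (.node (.node (.node (.leaf 87) (.leaf 8291)) (.leaf 5595)) (.node (.leaf 4952) (.leaf 5430))) (.node (.node (.leaf 774) (.leaf 8705)) (.node (.leaf 1509) (.leaf 5729)))) (.node (.node (.node (.node (.leaf 3338) (.leaf 4871)) (.leaf 5421))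 (.node (.leaf 8148) (.leaf 5646))) (.node (.node (.leaf 2424) (.leaf 1979)) (.node (.leaf 5382) (.leaf 2321))))) (.node (.node (.node (.node (.node (.leaf 299) (.leaf 8622)) (.leaf 8043)) (.node (.leaf 2412) (.leaf 3633))) (.node (.node (.leaf 965) (.leaf 5772)) (.node (.leaf 1653) (.leaf 7051)))) (.node (.node (.node (.leaf 648) (.leaf 4356)) (.node (.leaf 6635) (.leaf 7654))) (.node (.node (.leaf 1221) (.leaf 2049)) (.node (.leaf 1822) (.leaf 7966)))))) (.node (.node (.node (.node (.node (.node (.leaf 193) (.leaf 6730)) (.leaf 7981)) (.node (.leaf 1329) (.leaf 2347))) (.node (.node (.leaf 878) (.leaf 5754)) (.node (.leaf 6572) (.leaf 2772)))) (.node (.node (.node (.leaf 3958) (.leaf 5927)) (.node (.leaf 4798) (.leaf 5954))) (.node (.node (.leaf 7831) (.leaf 5277)) (.node (.leaf 2392) (.leaf 7446))))) (.node (.node (.node (.node (.node (.leaf 402) (.leaf 2851)) (.leaf 8335)) (.node (.leaf 6406)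 (.leaf 6133))) (.node (.node (.leaf 1038) (.leaf 3863)) (.node (.leaf 3285) (.leaf 4470)))) (.node (.node (.node (.leaf 713) (.leaf 2927)) (.node (.leaf 1421) (.leaf 6379))) (.node (.node (.leaf 1256) (.leaf 2088)) (.node (.leaf 1861) (.leaf 6312)))))))) (.node (.node (.node (.node (.node (.node (.node (.node (.leaf 57) (.leaf 7665)) (.leaf 5017)) (.node (.leaf 5432) (.leaf 6612))) (.node (.node (.leaf 2761) (.leaf 7233)) (.node (.leaf 5886) (.leaf 5828)))) (.node (.node (.node (.node (.leaf 471) (.leaf 3023)) (.leaf 5766)) (.node (.leaf 2409) (.leaf 5234))) (.node (.node (.leaf 5303) (.leaf 5670)) (.node (.leaf 1741) (.leaf 5452))))) (.node (.node (.node (.node (.node (.leaf 271) (.leaf 5789)) (.leaf 7912)) (.node (.leaf 6004) (.leaf 7752))) (.node (.node (.leaf 943) (.leaf 6920)) (.node (.leaf 7068) (.leaf 2944)))) (.node (.node (.node (.leaf 629) (.leaf 2924)) (.node (.leaf 8670) (.leaf 3520)))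 (.node (.node (.leaf 5229) (.leaf 5071)) (.node (.leaf 1815) (.leaf 7970)))))) (.node (.node (.node (.node (.node (.node (.leaf 168) (.leaf 2308)) (.leaf 6327)) (.node (.leaf 1319) (.leaf 8451))) (.node (.node (.leaf 854) (.leaf 8635)) (.node (.leaf 6071) (.leaf 5363)))) (.node (.node (.node (.leaf 559) (.leaf 6207)) (.node (.leaf 4525) (.leaf 4099))) (.node (.node (.leaf 1155) (.leaf 6636)) (.node (.leaf 1778) (.leaf 2317))))) (.node (.node (.node (.node (.node (.leaf 375) (.leaf 6137)) (.leaf 3967)) (.node (.leaf 5941) (.leaf 2141))) (.node (.node (.leaf 2774) (.leaf 7760)) (.node (.leaf 3657) (.leaf 7914)))) (.node (.node (.node (.leaf 3678) (.leaf 8728)) (.node (.leaf 2892) (.leaf 6100))) (.node (.node (.leaf 3252) (.leaf 5914)) (.node (.leaf 1850) (.leaf 7651))))))) (.node (.node (.node (.node (.node (.node (.node (.leaf 115) (.leaf 3007)) (.leaf 3779)) (.node (.leaf 7992) (.leaf 7700))) (.node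 (.node (.leaf 800) (.leaf 4335)) (.node (.leaf 1531) (.leaf 6956)))) (.node (.node (.node (.leaf 516) (.leaf 6285)) (.node (.leaf 4962) (.leaf 8073))) (.node (.node (.leaf 1130) (.leaf 6329)) (.node (.leaf 5209) (.leaf 6170))))) (.node (.node (.node (.node (.node (.leaf 323) (.leaf 6869)) (.leaf 5039)) (.node (.leaf 7546) (.leaf 2137))) (.node (.node (.leaf 4531) (.leaf 8187)) (.node (.leaf 1664) (.leaf 6173)))) (.node (.node (.node (.leaf 667) (.leaf 3339)) (.node (.leaf 4140) (.leaf 4837))) (.node (.node (.leaf 6029) (.leaf 4376)) (.node (.leaf 1828) (.leaf 5796)))))) (.node (.node (.node (.node (.node (.node (.leaf 220) (.leaf 6130)) (.leaf 7245)) (.node (.leaf 2415) (.leaf 8700))) (.node (.node (.leaf 898) (.leaf 3485)) (.node (.leaf 8184) (.leaf 8278)))) (.node (.node (.node (.leaf 589) (.leaf 4080)) (.node (.leaf 4459) (.leaf 4431))) (.node (.node (.leaf 1177) (.leaf 7727)) (.node (.leaf 6443)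 (.leaf 6551))))) (.node (.node (.node (.node (.node (.leaf 428) (.leaf 7076)) (.leaf 1911)) (.node (.leaf 6429) (.leaf 2342))) (.node (.node (.leaf 2913) (.leaf 1942)) (.node (.leaf 1719) (.leaf 3795)))) (.node (.node (.node (.leaf 724) (.leaf 4593)) (.node (.leaf 1446) (.leaf 5042))) (.node (.node (.leaf 4513) (.leaf 7327)) (.node (.leaf 2386) (.leaf 6858)))))))))))

def threeRank6 : Janko.Tree (ℕ) :=
  (.node (.node (.node (.node (.node (.node (.node (.node (.node (.node (.node (.leaf 6) (.leaf 6002)) (.leaf 2858)) (.node (.leaf 4641) (.leaf 2101))) (.node (.node (.leaf 4692) (.leaf 5494)) (.node (.leaf 1452) (.leaf 6393)))) (.node (.node (.node (.node (.leaf 2555) (.leaf 7965)) (.leaf 8717)) (.node (.leaf 2526) (.leaf 6621))) (.node (.node (.leaf 1061) (.leaf 6402)) (.node (.leaf 5338) (.leaf 3341))))) (.node (.node (.node (.node (.node (.leaf 227) (.leaf 3531)) (.leaf 7563)) (.node (.leaf 6912)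 (.leaf 2473))) (.node (.node (.leaf 2826) (.leaf 7279)) (.node (.leaf 1605) (.leaf 8664)))) (.node (.node (.node (.leaf 596) (.leaf 5664)) (.node (.leaf 4843) (.leaf 4849))) (.node (.node (.leaf 2539) (.leaf 8234)) (.node (.leaf 1800) (.leaf 2456)))))) (.node (.node (.node (.node (.node (.node (.leaf 124) (.leaf 8138)) (.leaf 1887)) (.node (.leaf 6361) (.leaf 6280))) (.node (.node (.leaf 807) (.leaf 7891)) (.node (.leaf 1536) (.leaf 8746)))) (.node (.node (.node (.leaf 522) (.leaf 6015)) (.node (.leaf 6611) (.leaf 4915))) (.node (.node (.leaf 5636) (.leaf 6513)) (.node (.leaf 1761) (.leaf 7541))))) (.node (.node (.node (.node (.node (.leaf 331) (.leaf 5775)) (.leaf 5355)) (.node (.leaf 2529) (.leaf 8636))) (.node (.node (.leaf 5591) (.leaf 2488)) (.node (.leaf 5076) (.leaf 7548)))) (.node (.node (.node (.leaf 673) (.leaf 8581)) (.node (.leaf 3166) (.leaf 5896))) (.node (.node (.leaf 1234) (.leaf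 2058)) (.node (.leaf 1832) (.leaf 4559))))))) (.node (.node (.node (.node (.node (.node (.node (.leaf 65) (.leaf 4921)) (.leaf 7513)) (.node (.leaf 6506) (.leaf 2112))) (.node (.node (.leaf 755) (.leaf 4675)) (.node (.leaf 1493) (.leaf 7220)))) (.node (.node (.node (.node (.leaf 2554) (.leaf 4487)) (.leaf 6147)) (.node (.leaf 8339) (.leaf 7364))) (.node (.node (.leaf 7569) (.leaf 6541)) (.node (.leaf 1745) (.leaf 5064))))) (.node (.node (.node (.node (.node (.leaf 278) (.leaf 8474)) (.leaf 6716)) (.node (.leaf 5124) (.leaf 8261))) (.node (.node (.leaf 6303) (.leaf 6861)) (.node (.leaf 2517) (.leaf 6510)))) (.node (.node (.node (.leaf 635) (.leaf 6731)) (.node (.leaf 7128) (.leaf 4643))) (.node (.node (.leaf 6451) (.leaf 6652)) (.node (.leaf 5632) (.leaf 2183)))))) (.node (.node (.node (.node (.node (.node (.leaf 175) (.leaf 4662)) (.leaf 1893)) (.node (.leaf 1322) (.leaf 2475))) (.node (.node (.leaf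 859) (.leaf 4436)) (.node (.leaf 1569) (.leaf 8141)))) (.node (.node (.node (.leaf 4607) (.leaf 8804)) (.node (.leaf 4897) (.leaf 4999))) (.node (.node (.leaf 7154) (.leaf 2950)) (.node (.leaf 5953) (.leaf 2457))))) (.node (.node (.node (.node (.node (.leaf 382) (.leaf 6709)) (.leaf 8467)) (.node (.leaf 7687) (.leaf 7234))) (.node (.node (.leaf 5004) (.leaf 6226)) (.node (.leaf 5415) (.leaf 6918)))) (.node (.node (.node (.leaf 5208) (.leaf 7253)) (.node (.leaf 2846) (.leaf 6930))) (.node (.node (.leaf 5170) (.leaf 5328)) (.node (.leaf 1854) (.leaf 7198)))))))) (.node (.node (.node (.node (.node (.node (.node (.node (.leaf 2820) (.leaf 6819)) (.leaf 1877)) (.node (.leaf 8306) (.leaf 2105))) (.node (.node (.leaf 4514) (.leaf 5556)) (.node (.leaf 5495) (.leaf 5594)))) (.node (.node (.node (.node (.leaf 455) (.leaf 3848)) (.leaf 7558)) (.node (.leaf 7236) (.leaf 5376))) (.node (.node (.leaf 8432) (.leaf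 2485)) (.node (.leaf 4640) (.leaf 6076))))) (.node (.node (.node (.node (.node (.leaf 253) (.leaf 3477)) (.leaf 6552)) (.node (.leaf 3939) (.leaf 6780))) (.node (.node (.leaf 928) (.leaf 7467)) (.node (.leaf 1624) (.leaf 8282)))) (.node (.node (.node (.leaf 2939) (.leaf 7789)) (.node (.leaf 6065) (.leaf 6300))) (.node (.node (.leaf 1200) (.leaf 2039)) (.node (.leaf 5631) (.leaf 5835)))))) (.node (.node (.node (.node (.node (.node (.leaf 147) (.leaf 6200)) (.leaf 7091)) (.node (.leaf 6010) (.leaf 2121))) (.node (.node (.leaf 834) (.leaf 6696)) (.node (.leaf 1546) (.leaf 4464)))) (.node (.node (.node (.leaf 542) (.leaf 6491)) (.node (.leaf 1389) (.leaf 8628))) (.node (.node (.leaf 6184) (.leaf 6284)) (.node (.leaf 5723) (.leaf 5649))))) (.node (.node (.node (.node (.node (.leaf 358) (.leaf 5705)) (.leaf 8232)) (.node (.leaf 5147) (.leaf 7439))) (.node (.node (.leaf 5054) (.leaf 5805)) (.node (.leaf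 5684) (.leaf 7123)))) (.node (.node (.node (.leaf 687) (.leaf 3459)) (.node (.leaf 3179) (.leaf 7200))) (.node (.node (.leaf 2536) (.leaf 2792)) (.node (.leaf 1844) (.leaf 6298))))))) (.node (.node (.node (.node (.node (.node (.node (.leaf 94) (.leaf 2453)) (.leaf 3014)) (.node (.leaf 6055) (.leaf 7298))) (.node (.node (.leaf 782) (.leaf 7330)) (.node (.leaf 1516) (.leaf 8203)))) (.node (.node (.node (.node (.leaf 2787) (.leaf 4529)) (.leaf 6040)) (.node (.leaf 2524) (.leaf 6085))) (.node (.node (.leaf 6523) (.leaf 4791)) (.node (.leaf 5370) (.leaf 4648))))) (.node (.node (.node (.node (.node (.leaf 308) (.leaf 8794)) (.leaf 5985)) (.node (.leaf 8299) (.leaf 2471))) (.node (.node (.leaf 4505) (.leaf 7958)) (.node (.leaf 7192) (.leaf 7846)))) (.node (.node (.node (.leaf 655) (.leaf 3089)) (.node (.leaf 7475) (.leaf 6989))) (.node (.node (.leaf 4565) (.leaf 3069)) (.node (.leaf 7056) (.leaf 6336))))))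 (.node (.node (.node (.node (.node (.node (.leaf 199) (.leaf 3925)) (.leaf 4028)) (.node (.leaf 4164) (.leaf 8420))) (.node (.node (.leaf 885) (.leaf 8037)) (.node (.leaf 1588) (.leaf 4011)))) (.node (.node (.node (.leaf 5866) (.leaf 7667)) (.node (.leaf 2522) (.leaf 7895))) (.node (.node (.leaf 3992) (.leaf 2019)) (.node (.leaf 4943) (.leaf 3412))))) (.node (.node (.node (.node (.node (.leaf 411) (.leaf 4012)) (.leaf 5742)) (.node (.leaf 3491) (.leaf 4314))) (.node (.node (.leaf 1045) (.leaf 7136)) (.node (.leaf 2514) (.leaf 8449)))) (.node (.node (.node (.leaf 5982) (.leaf 7159)) (.node (.leaf 1428) (.leaf 3888))) (.node (.node (.leaf 1259) (.leaf 2092)) (.node (.leaf 7816) (.leaf 6245))))))))) (.node (.node (.node (.node (.node (.node (.node (.node (.node (.leaf 21) (.leaf 5737)) (.leaf 5015)) (.node (.leaf 5488) (.leaf 6266))) (.node (.node (.leaf 4044) (.leaf 7480)) (.node (.leaf 1463) (.leaf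 3265)))) (.node (.node (.node (.node (.leaf 448) (.leaf 4733)) (.leaf 3535)) (.node (.leaf 5040) (.leaf 5165))) (.node (.node (.leaf 1072) (.leaf 5515)) (.node (.leaf 6334) (.leaf 5327))))) (.node (.node (.node (.node (.node (.leaf 240) (.leaf 6607)) (.leaf 7854)) (.node (.leaf 7646) (.leaf 5077))) (.node (.node (.leaf 2545) (.leaf 8534)) (.node (.leaf 3282) (.leaf 7493)))) (.node (.node (.node (.leaf 608) (.leaf 6637)) (.node (.leaf 8457) (.leaf 3090))) (.node (.node (.leaf 6367) (.leaf 2031)) (.node (.leaf 3266) (.leaf 6793)))))) (.node (.node (.node (.node (.node (.node (.leaf 2849) (.leaf 2973)) (.leaf 3911)) (.node (.leaf 4172) (.leaf 5320))) (.node (.node (.leaf 819) (.leaf 5350)) (.node (.leaf 2974) (.leaf 4496)))) (.node (.node (.node (.leaf 4498) (.leaf 1921)) (.node (.leaf 8111) (.leaf 5126))) (.node (.node (.leaf 5652) (.leaf 7168)) (.node (.leaf 5292) (.leaf 4713))))) (.node (.node (.node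 (.node (.node (.leaf 345) (.leaf 3910)) (.leaf 1907)) (.node (.leaf 7848) (.leaf 4933))) (.node (.node (.leaf 5801) (.leaf 5130)) (.node (.leaf 5686) (.leaf 7273)))) (.node (.node (.node (.leaf 5992) (.leaf 4984)) (.node (.leaf 5536) (.leaf 5420))) (.node (.node (.leaf 6126) (.leaf 5478)) (.node (.leaf 4793) (.leaf 5084))))))) (.node (.node (.node (.node (.node (.node (.node (.leaf 80) (.leaf 7111)) (.leaf 6907)) (.node (.leaf 3061) (.leaf 5885))) (.node (.node (.leaf 768) (.leaf 5127)) (.node (.leaf 3244) (.leaf 4626)))) (.node (.node (.node (.node (.leaf 491) (.leaf 4489)) (.leaf 3776)) (.node (.leaf 3951) (.leaf 4220))) (.node (.node (.leaf 1110) (.leaf 2877)) (.node (.leaf 5790) (.leaf 3844))))) (.node (.node (.node (.node (.node (.leaf 2557) (.leaf 6595)) (.leaf 4217)) (.node (.leaf 5558) (.leaf 2790))) (.node (.node (.leaf 959) (.leaf 2489)) (.node (.leaf 1650) (.leaf 2907)))) (.node (.node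 (.node (.leaf 7975) (.leaf 5940)) (.node (.leaf 8529) (.leaf 4141))) (.node (.node (.leaf 1218) (.leaf 7325)) (.node (.leaf 1820) (.leaf 3425)))))) (.node (.node (.node (.node (.node (.node (.leaf 2869) (.leaf 6899)) (.leaf 8435)) (.node (.leaf 1328) (.leaf 4131))) (.node (.node (.leaf 2546) (.leaf 4162)) (.node (.leaf 5005) (.leaf 8021)))) (.node (.node (.node (.leaf 5118) (.leaf 7040)) (.node (.leaf 5483) (.leaf 5177))) (.node (.node (.leaf 6218) (.leaf 2013)) (.node (.leaf 1787) (.leaf 5453))))) (.node (.node (.node (.node (.node (.leaf 397) (.leaf 4961)) (.leaf 7537)) (.node (.leaf 8711) (.leaf 6816))) (.node (.node (.leaf 1033) (.leaf 6587)) (.node (.leaf 1698) (.leaf 7662)))) (.node (.node (.node (.leaf 6507) (.leaf 6275)) (.node (.leaf 1420) (.leaf 3290))) (.node (.node (.leaf 2976) (.leaf 2478)) (.node (.leaf 3610) (.leaf 8662)))))))) (.node (.node (.node (.node (.node (.node (.node (.node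 (.leaf 50) (.leaf 5106)) (.leaf 2905)) (.node (.leaf 1285) (.leaf 2109))) (.node (.node (.leaf 2548) (.leaf 6659)) (.node (.leaf 3073) (.leaf 6165)))) (.node (.node (.node (.node (.leaf 2852) (.leaf 3017)) (.leaf 7689)) (.node (.leaf 6378) (.leaf 2145))) (.node (.node (.leaf 1092) (.leaf 6090)) (.node (.leaf 7011) (.leaf 7952))))) (.node (.node (.node (.node (.node (.leaf 7237) (.leaf 7213)) (.leaf 7436)) (.node (.leaf 7919) (.leaf 7414))) (.node (.node (.leaf 2785) (.leaf 8025)) (.node (.leaf 7728) (.leaf 2462)))) (.node (.node (.node (.leaf 624) (.leaf 5523)) (.node (.leaf 8039) (.leaf 4522))) (.node (.node (.leaf 7201) (.leaf 5219)) (.node (.leaf 4799) (.leaf 2962)))))) (.node (.node (.node (.node (.node (.node (.leaf 161) (.leaf 2989)) (.leaf 5334)) (.node (.leaf 2532) (.leaf 7151))) (.node (.node (.leaf 848) (.leaf 6018)) (.node (.leaf 1558) (.leaf 2904)))) (.node (.node (.node (.leaf 5152)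 (.leaf 6535)) (.node (.leaf 2994) (.leaf 7552))) (.node (.node (.leaf 5404) (.leaf 2483)) (.node (.leaf 2850) (.leaf 4126))))) (.node (.node (.node (.node (.node (.leaf 370) (.leaf 4807)) (.leaf 8322)) (.node (.leaf 7922) (.leaf 7024))) (.node (.node (.leaf 6850) (.leaf 7115)) (.node (.leaf 6848) (.leaf 5568)))) (.node (.node (.node (.leaf 7180) (.leaf 5849)) (.node (.leaf 7916) (.leaf 7106))) (.node (.node (.leaf 4918) (.leaf 2479)) (.node (.leaf 6161) (.leaf 7623))))))) (.node (.node (.node (.node (.node (.node (.node (.leaf 109) (.leaf 7072)) (.leaf 2504)) (.node (.leaf 8393) (.leaf 8059))) (.node (.node (.leaf 795) (.leaf 4173)) (.node (.leaf 8298) (.leaf 5926)))) (.node (.node (.node (.leaf 5298) (.leaf 5839)) (.node (.leaf 8090) (.leaf 5293))) (.node (.node (.leaf 1124) (.leaf 6893)) (.node (.leaf 1757) (.leaf 2458))))) (.node (.node (.node (.node (.node (.leaf 318) (.leaf 2448)) (.leaf 7013))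 (.node (.leaf 1364) (.leaf 5725))) (.node (.node (.leaf 979) (.leaf 7257)) (.node (.leaf 8626) (.leaf 7359)))) (.node (.node (.node (.leaf 8715) (.leaf 2494)) (.node (.leaf 4261) (.leaf 8208))) (.node (.node (.leaf 6128) (.leaf 6665)) (.node (.leaf 6299) (.leaf 6455)))))) (.node (.node (.node (.node (.node (.node (.leaf 213) (.leaf 5975)) (.leaf 8564)) (.node (.leaf 7690) (.leaf 3993))) (.node (.node (.leaf 892) (.leaf 4193)) (.node (.leaf 1597) (.leaf 7049)))) (.node (.node (.node (.leaf 7871) (.leaf 8689)) (.node (.leaf 4905) (.leaf 7927))) (.node (.node (.leaf 5119) (.leaf 2963)) (.node (.leaf 6988) (.leaf 4696))))) (.node (.node (.node (.node (.node (.leaf 422) (.leaf 6122)) (.leaf 8478)) (.node (.leaf 6812) (.leaf 7961))) (.node (.node (.leaf 2795) (.leaf 2803)) (.node (.leaf 1715) (.leaf 6764)))) (.node (.node (.node (.leaf 6353) (.leaf 6799)) (.node (.leaf 1442) (.leaf 2886))) (.node (.node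 (.leaf 1266) (.leaf 2095)) (.node (.leaf 4061) (.leaf 5193)))))))))) (.node (.node (.node (.node (.node (.node (.node (.node (.node (.node (.leaf 14) (.leaf 5629)) (.leaf 1871)) (.node (.leaf 2931) (.leaf 3984))) (.node (.node (.leaf 731) (.leaf 5551)) (.node (.leaf 1457) (.leaf 8553)))) (.node (.node (.node (.node (.leaf 3333) (.leaf 5249)) (.leaf 3950)) (.node (.leaf 3825) (.leaf 4624))) (.node (.node (.leaf 1067) (.leaf 1950)) (.node (.leaf 6781) (.leaf 6283))))) (.node (.node (.node (.node (.node (.leaf 235) (.leaf 2450)) (.leaf 4022)) (.node (.leaf 1345) (.leaf 8741))) (.node (.node (.leaf 909) (.leaf 4739)) (.node (.leaf 2518) (.leaf 6478)))) (.node (.node (.node (.leaf 4715) (.leaf 2496)) (.node (.leaf 8192) (.leaf 4742))) (.node (.node (.leaf 2899) (.leaf 6248)) (.node (.leaf 2510) (.leaf 6885)))))) (.node (.node (.node (.node (.node (.node (.leaf 132) (.leaf 4186)) (.leaf 5459)) (.node (.leaf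 8560) (.leaf 5057))) (.node (.node (.leaf 813) (.leaf 8801)) (.node (.leaf 1538) (.leaf 6163)))) (.node (.node (.node (.leaf 529) (.leaf 5702)) (.node (.leaf 4868) (.leaf 3188))) (.node (.node (.leaf 5443) (.leaf 2484)) (.node (.leaf 6646) (.leaf 4979))))) (.node (.node (.node (.node (.node (.leaf 2556) (.leaf 7442)) (.leaf 7185)) (.node (.leaf 6681) (.leaf 2139))) (.node (.node (.leaf 997) (.leaf 7733)) (.node (.leaf 4886) (.leaf 8379)))) (.node (.node (.node (.leaf 5628) (.leaf 1934)) (.node (.leaf 4983) (.leaf 5870))) (.node (.node (.leaf 5041) (.leaf 5184)) (.node (.leaf 6647) (.leaf 6623))))))) (.node (.node (.node (.node (.node (.node (.node (.leaf 73) (.leaf 6815)) (.leaf 8375)) (.node (.leaf 5331) (.leaf 8327))) (.node (.node (.leaf 761) (.leaf 8686)) (.node (.leaf 2520) (.leaf 8042)))) (.node (.node (.node (.node (.leaf 484) (.leaf 3039)) (.leaf 1915)) (.node (.leaf 6277) (.leaf 5176)))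 (.node (.node (.leaf 5466) (.leaf 6220)) (.node (.leaf 3835) (.leaf 2170))))) (.node (.node (.node (.node (.node (.leaf 285) (.leaf 6325)) (.leaf 4653)) (.node (.leaf 1359) (.leaf 2472))) (.node (.node (.leaf 954) (.leaf 3572)) (.node (.leaf 3934) (.leaf 8397)))) (.node (.node (.node (.leaf 640) (.leaf 2495)) (.node (.leaf 1395) (.leaf 6166))) (.node (.node (.leaf 5862) (.leaf 6149)) (.node (.leaf 8694) (.leaf 5294)))))) (.node (.node (.node (.node (.node (.node (.leaf 181) (.leaf 5557)) (.leaf 7637)) (.node (.leaf 2531) (.leaf 3281))) (.node (.node (.leaf 866) (.leaf 7652)) (.node (.leaf 1571) (.leaf 6024)))) (.node (.node (.node (.leaf 570) (.leaf 7830)) (.node (.leaf 8003) (.leaf 5672))) (.node (.node (.leaf 1162) (.leaf 2009)) (.node (.leaf 7178) (.leaf 8033))))) (.node (.node (.node (.node (.node (.leaf 390) (.leaf 5520)) (.leaf 6561)) (.node (.leaf 8718) (.leaf 2470))) (.node (.node (.leaf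 2821) (.leaf 4711)) (.node (.leaf 4728) (.leaf 7406)))) (.node (.node (.node (.leaf 2549) (.leaf 6420)) (.node (.leaf 1413) (.leaf 2169))) (.node (.node (.leaf 2535) (.leaf 4180)) (.node (.leaf 7511) (.leaf 8366)))))))) (.node (.node (.node (.node (.node (.node (.node (.node (.leaf 43) (.leaf 4195)) (.leaf 6938)) (.node (.leaf 1281) (.leaf 6164))) (.node (.node (.leaf 741) (.leaf 8506)) (.node (.leaf 1479) (.leaf 5113)))) (.node (.node (.node (.node (.leaf 462) (.leaf 2447)) (.leaf 7375)) (.node (.leaf 6473) (.leaf 6827))) (.node (.node (.leaf 1086) (.leaf 5213)) (.node (.leaf 4862) (.leaf 6804))))) (.node (.node (.node (.node (.node (.leaf 259) (.leaf 8098)) (.leaf 6108)) (.node (.leaf 4940) (.leaf 7942))) (.node (.node (.leaf 932) (.leaf 3796)) (.node (.leaf 5880) (.leaf 6527)))) (.node (.node (.node (.leaf 2941) (.leaf 3476)) (.node (.leaf 5082) (.leaf 7810))) (.node (.node (.leaf 4654) (.leaf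 7470)) (.node (.leaf 2509) (.leaf 2455)))))) (.node (.node (.node (.node (.node (.node (.leaf 154) (.leaf 4150)) (.leaf 7230)) (.node (.leaf 6762) (.leaf 6834))) (.node (.node (.leaf 840) (.leaf 2492)) (.node (.leaf 1553) (.leaf 6581)))) (.node (.node (.node (.leaf 547) (.leaf 4976)) (.node (.leaf 4960) (.leaf 4680))) (.node (.node (.leaf 1151) (.leaf 6008)) (.node (.leaf 6370) (.leaf 6144))))) (.node (.node (.node (.node (.node (.leaf 364) (.leaf 3396)) (.leaf 5563)) (.node (.leaf 4928) (.leaf 5250))) (.node (.node (.leaf 1015) (.leaf 7268)) (.node (.leaf 5969) (.leaf 5280)))) (.node (.node (.node (.leaf 694) (.leaf 8048)) (.node (.leaf 6056) (.leaf 7447))) (.node (.node (.leaf 5930) (.leaf 2072)) (.node (.leaf 5362) (.leaf 7471))))))) (.node (.node (.node (.node (.node (.node (.node (.leaf 101) (.leaf 7075)) (.leaf 4729)) (.node (.leaf 5244) (.leaf 2477))) (.node (.node (.leaf 790) (.leaf 6187))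 (.node (.leaf 1521) (.leaf 5088)))) (.node (.node (.node (.leaf 2841) (.leaf 5931)) (.node (.leaf 3012) (.leaf 3173))) (.node (.node (.leaf 1121) (.leaf 1984)) (.node (.leaf 5087) (.leaf 4893))))) (.node (.node (.node (.node (.node (.leaf 313) (.leaf 5245)) (.leaf 6479)) (.node (.leaf 4717) (.leaf 5823))) (.node (.node (.leaf 972) (.leaf 3449)) (.node (.leaf 5580) (.leaf 8749)))) (.node (.node (.node (.leaf 660) (.leaf 6644)) (.node (.leaf 4259) (.leaf 4857))) (.node (.node (.leaf 2952) (.leaf 6372)) (.node (.leaf 5980) (.leaf 4738)))))) (.node (.node (.node (.node (.node (.node (.leaf 206) (.leaf 8122)) (.leaf 7065)) (.node (.leaf 2530) (.leaf 2474))) (.node (.node (.leaf 8063) (.leaf 6474)) (.node (.leaf 1591) (.leaf 4504)))) (.node (.node (.node (.leaf 4673) (.leaf 5838)) (.node (.leaf 5777) (.leaf 5910))) (.node (.node (.leaf 1172) (.leaf 5869)) (.node (.leaf 8484) (.leaf 5517))))) (.node (.node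 (.node (.node (.node (.leaf 2993) (.leaf 3392)) (.leaf 4138)) (.node (.leaf 4047) (.leaf 4651))) (.node (.node (.leaf 1049) (.leaf 4879)) (.node (.leaf 7485) (.leaf 8759)))) (.node (.node (.node (.leaf 6377) (.leaf 7660)) (.node (.leaf 1434) (.leaf 8680))) (.node (.node (.leaf 1263) (.leaf 7277)) (.node (.leaf 5258) (.leaf 5555))))))))) (.node (.node (.node (.node (.node (.node (.node (.node (.node (.leaf 29) (.leaf 6738)) (.leaf 8313)) (.node (.leaf 6269) (.leaf 6053))) (.node (.node (.leaf 735) (.leaf 7948)) (.node (.leaf 1468) (.leaf 2465)))) (.node (.node (.node (.node (.leaf 4731) (.leaf 4144)) (.leaf 6111)) (.node (.leaf 2525) (.leaf 8044))) (.node (.node (.leaf 1077) (.leaf 6752)) (.node (.leaf 6548) (.leaf 5128))))) (.node (.node (.node (.node (.node (.leaf 245) (.leaf 7033)) (.leaf 6073)) (.node (.leaf 1351) (.leaf 4977))) (.node (.node (.leaf 921) (.leaf 7362)) (.node (.leaf 1618) (.leaf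 2463)))) (.node (.node (.node (.leaf 612) (.leaf 4937)) (.node (.leaf 6052) (.leaf 8519))) (.node (.node (.leaf 8691) (.leaf 2035)) (.node (.leaf 5416) (.leaf 3110)))))) (.node (.node (.node (.node (.node (.node (.leaf 2884) (.leaf 8008)) (.leaf 4258)) (.node (.leaf 1308) (.leaf 6777))) (.node (.node (.leaf 827) (.leaf 5497)) (.node (.leaf 2798) (.leaf 6875)))) (.node (.node (.node (.leaf 535) (.leaf 3854)) (.node (.leaf 7094) (.leaf 8487))) (.node (.node (.leaf 2540) (.leaf 8007)) (.node (.leaf 5900) (.leaf 8075))))) (.node (.node (.node (.node (.node (.leaf 353) (.leaf 7578)) (.leaf 6691)) (.node (.leaf 4550) (.leaf 2990))) (.node (.node (.leaf 1007) (.leaf 8703)) (.node (.leaf 2791) (.leaf 7501)))) (.node (.node (.node (.leaf 684) (.leaf 3397)) (.node (.leaf 4748) (.leaf 2166))) (.node (.node (.leaf 7132) (.leaf 2480)) (.node (.leaf 1841) (.leaf 6349))))))) (.node (.node (.node (.node (.node (.node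 (.node (.leaf 88) (.leaf 8495)) (.leaf 5650)) (.node (.leaf 8505) (.leaf 2114))) (.node (.node (.leaf 2547) (.leaf 8080)) (.node (.leaf 1510) (.leaf 4890)))) (.node (.node (.node (.node (.leaf 495) (.leaf 4515)) (.leaf 5661)) (.node (.leaf 8301) (.leaf 4222))) (.node (.node (.leaf 6216) (.leaf 4511)) (.node (.leaf 1753) (.leaf 5091))))) (.node (.node (.node (.node (.node (.leaf 300) (.leaf 8620)) (.leaf 4223)) (.node (.leaf 1362) (.leaf 8100))) (.node (.node (.leaf 966) (.leaf 5578)) (.node (.leaf 4939) (.leaf 5448)))) (.node (.node (.node (.leaf 649) (.leaf 6129)) (.node (.leaf 7720) (.leaf 7860))) (.node (.node (.leaf 7862) (.leaf 8368)) (.node (.leaf 8189) (.leaf 3487)))))) (.node (.node (.node (.node (.node (.node (.leaf 2802) (.leaf 5375)) (.leaf 7983)) (.node (.leaf 4547) (.leaf 6538))) (.node (.node (.leaf 3283) (.leaf 2979)) (.node (.leaf 1581) (.leaf 6271)))) (.node (.node (.node (.leaf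 578) (.leaf 5537)) (.node (.leaf 7839) (.leaf 5948))) (.node (.node (.leaf 1168) (.leaf 2016)) (.node (.leaf 4032) (.leaf 8568))))) (.node (.node (.node (.node (.node (.leaf 403) (.leaf 4139)) (.leaf 6240)) (.node (.leaf 2527) (.leaf 6923))) (.node (.node (.leaf 5539) (.leaf 3768)) (.node (.leaf 8206) (.leaf 5275)))) (.node (.node (.node (.leaf 714) (.leaf 7007)) (.node (.leaf 1422) (.leaf 7536))) (.node (.node (.leaf 2984) (.leaf 6141)) (.node (.leaf 3490) (.leaf 6310)))))))) (.node (.node (.node (.node (.node (.node (.node (.node (.leaf 2561) (.leaf 7087)) (.leaf 8556)) (.node (.leaf 1289) (.leaf 5180))) (.node (.node (.leaf 750) (.leaf 5498)) (.node (.leaf 1487) (.leaf 8045)))) (.node (.node (.node (.node (.leaf 472) (.leaf 2753)) (.leaf 5863)) (.node (.leaf 6380) (.leaf 5232))) (.node (.node (.leaf 1097) (.leaf 1968)) (.node (.leaf 2908) (.leaf 2975))))) (.node (.node (.node (.node (.node (.leaf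 2813) (.leaf 2449)) (.leaf 7786)) (.node (.leaf 1355) (.leaf 4107))) (.node (.node (.leaf 2897) (.leaf 6977)) (.node (.leaf 1636) (.leaf 4555)))) (.node (.node (.node (.leaf 630) (.leaf 4898)) (.node (.leaf 7924) (.leaf 5445))) (.node (.node (.leaf 2537) (.leaf 3070)) (.node (.leaf 8539) (.leaf 7968)))))) (.node (.node (.node (.node (.node (.node (.leaf 169) (.leaf 8320)) (.leaf 6462)) (.node (.leaf 2937) (.leaf 6576))) (.node (.node (.leaf 2991) (.leaf 7586)) (.node (.leaf 1564) (.leaf 5521)))) (.node (.node (.node (.leaf 560) (.leaf 2497)) (.node (.leaf 5464) (.leaf 7949))) (.node (.node (.leaf 5330) (.leaf 2969)) (.node (.leaf 1779) (.leaf 5904))))) (.node (.node (.node (.node (.node (.leaf 376) (.leaf 8405)) (.leaf 3965)) (.node (.leaf 1371) (.leaf 4533))) (.node (.node (.leaf 5597) (.leaf 2487)) (.node (.leaf 3180) (.leaf 7959)))) (.node (.node (.node (.leaf 6272) (.leaf 8730)) (.node (.leaf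 1405) (.leaf 4647))) (.node (.node (.leaf 6485) (.leaf 2078)) (.node (.leaf 1851) (.leaf 6066))))))) (.node (.node (.node (.node (.node (.node (.node (.leaf 116) (.leaf 4354)) (.leaf 4794)) (.node (.leaf 3074) (.leaf 8210))) (.node (.node (.leaf 801) (.leaf 4987)) (.node (.leaf 2519) (.leaf 5888)))) (.node (.node (.node (.leaf 517) (.leaf 6253)) (.node (.leaf 2523) (.leaf 4712))) (.node (.node (.leaf 1131) (.leaf 6494)) (.node (.leaf 1759) (.leaf 8071))))) (.node (.node (.node (.node (.node (.leaf 324) (.leaf 7089)) (.leaf 6121)) (.node (.leaf 6198) (.leaf 6371))) (.node (.node (.leaf 984) (.leaf 7472)) (.node (.leaf 6559) (.leaf 8166)))) (.node (.node (.node (.leaf 4560) (.leaf 2930)) (.node (.leaf 8614) (.leaf 5857))) (.node (.node (.leaf 6267) (.leaf 4194)) (.node (.leaf 5287) (.leaf 5794)))))) (.node (.node (.node (.node (.node (.node (.leaf 221) (.leaf 6132)) (.leaf 7243)) (.node (.leaf 1342)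 (.leaf 8702))) (.node (.node (.leaf 899) (.leaf 2870)) (.node (.leaf 1600) (.leaf 8573)))) (.node (.node (.node (.leaf 2812) (.leaf 3764)) (.node (.leaf 4462) (.leaf 4435))) (.node (.node (.leaf 1178) (.leaf 6440)) (.node (.leaf 6441) (.leaf 4848))))) (.node (.node (.node (.node (.node (.leaf 429) (.leaf 7395)) (.leaf 6540)) (.node (.leaf 6427) (.leaf 6767))) (.node (.node (.leaf 2796) (.leaf 5757)) (.node (.leaf 3053) (.leaf 3799)))) (.node (.node (.node (.leaf 725) (.leaf 5267)) (.node (.leaf 1447) (.leaf 8764))) (.node (.node (.leaf 1269) (.leaf 8296)) (.node (.leaf 4008) (.leaf 4901)))))))))))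

def threeRank7 : Janko.Tree (ℕ) :=
  (.node (.node (.node (.node (.node (.node (.node (.node (.node (.node (.node (.leaf 7) (.leaf 6901)) (.leaf 3041)) (.node (.leaf 6542) (.leaf 2102))) (.node (.node (.leaf 5265) (.leaf 5717)) (.node (.leaf 3256) (.leaf 5202)))) (.node (.node (.node (.node (.leaf 437) (.leaf 8124)) (.leaf 5269)) (.node (.leaf 1377) (.leaf 7396))) (.node (.node (.leaf 1062) (.leaf 1947)) (.node (.leaf 1720) (.leaf 8121))))) (.node (.node (.node (.node (.node (.leaf 228) (.leaf 3576)) (.leaf 4017)) (.node (.leaf 8574) (.leaf 8779))) (.node (.node (.leaf 3080) (.leaf 5145)) (.node (.leaf 1606) (.leaf 6255)))) (.node (.node (.node (.leaf 7464) (.leaf 4326)) (.node (.leaf 8455) (.leaf 4307))) (.node (.node (.leaf 1185) (.leaf 2598)) (.node (.leaf 5590) (.leaf 5833)))))) (.node (.node (.node (.node (.node (.node (.leaf 125) (.leaf 8104)) (.leaf 7103)) (.node (.leaf 6232) (.leaf 8486)))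 (.node (.node (.leaf 808) (.leaf 6902)) (.node (.leaf 4698) (.leaf 6501)))) (.node (.node (.node (.leaf 523) (.leaf 5905)) (.node (.leaf 5633) (.leaf 4086))) (.node (.node (.leaf 1135) (.leaf 5782)) (.node (.leaf 1762) (.leaf 8722))))) (.node (.node (.node (.node (.node (.leaf 4650) (.leaf 4387)) (.leaf 4133)) (.node (.leaf 4598) (.leaf 7256))) (.node (.node (.leaf 990) (.leaf 3813)) (.node (.leaf 3588) (.leaf 7125)))) (.node (.node (.node (.leaf 3095) (.leaf 6986)) (.node (.leaf 5507) (.leaf 4334))) (.node (.node (.leaf 1235) (.leaf 5183)) (.node (.leaf 7005) (.leaf 8496))))))) (.node (.node (.node (.node (.node (.node (.node (.leaf 66) (.leaf 7381)) (.leaf 8690)) (.node (.leaf 6508) (.leaf 6628))) (.node (.node (.leaf 756) (.leaf 3694)) (.node (.leaf 1494) (.leaf 2580)))) (.node (.node (.node (.node (.leaf 478) (.leaf 4614)) (.leaf 6138)) (.node (.leaf 8367) (.leaf 2588))) (.node (.node (.leaf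 5212) (.leaf 3312)) (.node (.leaf 4260) (.leaf 3579))))) (.node (.node (.node (.node (.node (.leaf 279) (.leaf 8283)) (.leaf 4380)) (.node (.leaf 1358) (.leaf 8786))) (.node (.node (.leaf 3240) (.leaf 6864)) (.node (.leaf 1640) (.leaf 4490)))) (.node (.node (.node (.leaf 3794) (.leaf 2613)) (.node (.leaf 7170) (.leaf 8149))) (.node (.node (.leaf 1209) (.leaf 4779)) (.node (.leaf 3522) (.leaf 3416)))))) (.node (.node (.node (.node (.node (.node (.leaf 3570) (.leaf 3533)) (.leaf 4104)) (.node (.leaf 7142) (.leaf 6911))) (.node (.node (.leaf 860) (.leaf 8541)) (.node (.leaf 5966) (.leaf 8515)))) (.node (.node (.node (.leaf 8740) (.leaf 1927)) (.node (.leaf 2641) (.leaf 3736))) (.node (.node (.leaf 1159) (.leaf 4601)) (.node (.leaf 1782) (.leaf 5484))))) (.node (.node (.node (.node (.node (.leaf 383) (.leaf 6707)) (.leaf 4108)) (.node (.leaf 5174) (.leaf 5721))) (.node (.node (.leaf 4251) (.leaf 7680))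 (.node (.leaf 1691) (.leaf 3081)))) (.node (.node (.node (.leaf 6748) (.leaf 6971)) (.node (.leaf 3078) (.leaf 4134))) (.node (.node (.leaf 1251) (.leaf 2080)) (.node (.leaf 6606) (.leaf 7195)))))))) (.node (.node (.node (.node (.node (.node (.node (.node (.leaf 37) (.leaf 6201)) (.leaf 5392)) (.node (.leaf 3147) (.leaf 8162))) (.node (.node (.leaf 4414) (.leaf 8145)) (.node (.leaf 1474) (.leaf 5592)))) (.node (.node (.node (.node (.leaf 456) (.leaf 4828)) (.leaf 6319)) (.node (.leaf 1379) (.leaf 7946))) (.node (.node (.leaf 1081) (.leaf 1956)) (.node (.leaf 1734) (.leaf 6131))))) (.node (.node (.node (.node (.node (.leaf 254) (.leaf 5270)) (.leaf 4087)) (.node (.leaf 8030) (.leaf 8345))) (.node (.node (.leaf 2659) (.leaf 7923)) (.node (.leaf 3981) (.leaf 8513)))) (.node (.node (.node (.leaf 7565) (.leaf 7408)) (.node (.leaf 6639) (.leaf 3524))) (.node (.node (.leaf 2652) (.leaf 3246)) (.node (.leaf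 1808) (.leaf 5837)))))) (.node (.node (.node (.node (.node (.node (.leaf 148) (.leaf 8081)) (.leaf 7280)) (.node (.leaf 4469) (.leaf 2593))) (.node (.node (.leaf 835) (.leaf 7030)) (.node (.leaf 1547) (.leaf 5110)))) (.node (.node (.node (.leaf 543) (.leaf 4369)) (.node (.leaf 2642) (.leaf 3277))) (.node (.node (.leaf 1146) (.leaf 7920)) (.node (.leaf 3359) (.leaf 5384))))) (.node (.node (.node (.node (.node (.leaf 359) (.leaf 5324)) (.leaf 3082)) (.node (.leaf 5976) (.leaf 3269))) (.node (.node (.leaf 1012) (.leaf 7265)) (.node (.leaf 3230) (.leaf 7202)))) (.node (.node (.node (.leaf 688) (.leaf 3146)) (.node (.leaf 8542) (.leaf 2584))) (.node (.node (.leaf 1241) (.leaf 4859)) (.node (.leaf 5262) (.leaf 2569))))))) (.node (.node (.node (.node (.node (.node (.node (.leaf 95) (.leaf 5619)) (.leaf 7309)) (.node (.leaf 2647) (.leaf 7300))) (.node (.node (.leaf 783) (.leaf 8791)) (.node (.leaf 1517)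 (.leaf 5099)))) (.node (.node (.node (.node (.leaf 501) (.leaf 4512)) (.leaf 3833)) (.node (.leaf 5311) (.leaf 5582))) (.node (.node (.leaf 1117) (.leaf 1982)) (.node (.leaf 4407) (.leaf 7421))))) (.node (.node (.node (.node (.node (.leaf 309) (.leaf 7434)) (.leaf 7833)) (.node (.leaf 7741) (.leaf 4169))) (.node (.node (.leaf 4336) (.leaf 6724)) (.node (.leaf 1656) (.leaf 7844)))) (.node (.node (.node (.leaf 656) (.leaf 4705)) (.node (.leaf 3976) (.leaf 3238))) (.node (.node (.leaf 3311) (.leaf 2051)) (.node (.leaf 4534) (.leaf 4488)))))) (.node (.node (.node (.node (.node (.node (.leaf 3346) (.leaf 3871)) (.leaf 4026)) (.node (.leaf 6872) (.leaf 7643))) (.node (.node (.leaf 886) (.leaf 5724)) (.node (.leaf 2632) (.leaf 4009)))) (.node (.node (.node (.leaf 4571) (.leaf 4343)) (.node (.leaf 3630) (.leaf 7012))) (.node (.node (.leaf 1170) (.leaf 2599)) (.node (.leaf 1791) (.leaf 5471))))) (.node (.node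 (.node (.node (.node (.leaf 412) (.leaf 6159)) (.leaf 3891)) (.node (.leaf 4013) (.leaf 4885))) (.node (.node (.leaf 1046) (.leaf 6817)) (.node (.leaf 6663) (.leaf 7156)))) (.node (.node (.node (.leaf 716) (.leaf 6905)) (.node (.leaf 1429) (.leaf 5239))) (.node (.node (.leaf 1260) (.leaf 3601)) (.node (.leaf 3218) (.leaf 6934))))))))) (.node (.node (.node (.node (.node (.node (.node (.node (.node (.leaf 22) (.leaf 6766)) (.leaf 1874)) (.node (.leaf 1276) (.leaf 8785))) (.node (.node (.leaf 733) (.leaf 8119)) (.node (.leaf 1464) (.leaf 5699)))) (.node (.node (.node (.node (.leaf 449) (.leaf 4280)) (.leaf 2616)) (.node (.leaf 5043) (.leaf 7557))) (.node (.node (.leaf 3969) (.leaf 7329)) (.node (.leaf 3280) (.leaf 2576))))) (.node (.node (.node (.node (.node (.leaf 4344) (.leaf 5444)) (.leaf 5826)) (.node (.leaf 8489) (.leaf 4030))) (.node (.node (.leaf 915) (.leaf 7171)) (.node (.leaf 3744) (.leaf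 8580)))) (.node (.node (.node (.leaf 609) (.leaf 1931)) (.node (.leaf 4454) (.leaf 3725))) (.node (.node (.leaf 1193) (.leaf 2032)) (.node (.leaf 4250) (.leaf 2573)))))) (.node (.node (.node (.node (.node (.node (.leaf 136) (.leaf 5198)) (.leaf 7881)) (.node (.leaf 1306) (.leaf 5978))) (.node (.node (.leaf 820) (.leaf 4233)) (.node (.leaf 1540) (.leaf 5944)))) (.node (.node (.node (.leaf 4402) (.leaf 5571)) (.node (.leaf 4339) (.leaf 3746))) (.node (.node (.leaf 7118) (.leaf 1993)) (.node (.leaf 6499) (.leaf 3255))))) (.node (.node (.node (.node (.node (.leaf 346) (.leaf 5307)) (.leaf 3541)) (.node (.leaf 1367) (.leaf 4264))) (.node (.node (.leaf 5181) (.leaf 7955)) (.node (.leaf 8260) (.leaf 8565)))) (.node (.node (.node (.leaf 680) (.leaf 3226)) (.node (.leaf 1400) (.leaf 7730))) (.node (.node (.leaf 5586) (.leaf 2063)) (.node (.leaf 5548) (.leaf 5708))))))) (.node (.node (.node (.node (.node (.node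 (.node (.leaf 81) (.leaf 3517)) (.leaf 8137)) (.node (.leaf 1292) (.leaf 2594))) (.node (.node (.leaf 5342) (.leaf 5059)) (.node (.leaf 1504) (.leaf 6060)))) (.node (.node (.node (.node (.leaf 2668) (.leaf 4616)) (.leaf 4033)) (.node (.leaf 3878) (.leaf 4218))) (.node (.node (.leaf 3079) (.leaf 1977)) (.node (.leaf 7397) (.leaf 6021))))) (.node (.node (.node (.node (.node (.leaf 293) (.leaf 5388)) (.leaf 4111)) (.node (.leaf 7870) (.leaf 7901))) (.node (.node (.leaf 960) (.leaf 8458)) (.node (.leaf 1651) (.leaf 4606)))) (.node (.node (.node (.leaf 644) (.leaf 6227)) (.node (.leaf 1397) (.leaf 4906))) (.node (.node (.leaf 1219) (.leaf 7487)) (.node (.leaf 5136) (.leaf 4853)))))) (.node (.node (.node (.node (.node (.node (.leaf 188) (.leaf 8146)) (.leaf 8431)) (.node (.leaf 3380) (.leaf 4666))) (.node (.node (.leaf 874) (.leaf 5738)) (.node (.leaf 1576) (.leaf 6032)))) (.node (.node (.node (.leaf 575)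 (.leaf 2614)) (.node (.leaf 6413) (.leaf 4161))) (.node (.node (.leaf 7055) (.leaf 6582)) (.node (.leaf 5696) (.leaf 3591))))) (.node (.node (.node (.node (.node (.leaf 398) (.leaf 4368)) (.leaf 8019)) (.node (.leaf 8716) (.leaf 5538))) (.node (.node (.leaf 5094) (.leaf 2604)) (.node (.leaf 1699) (.leaf 4393)))) (.node (.node (.node (.leaf 709) (.leaf 3615)) (.node (.leaf 2637) (.leaf 3892))) (.node (.node (.leaf 1255) (.leaf 8152)) (.node (.leaf 4213) (.leaf 8665)))))))) (.node (.node (.node (.node (.node (.node (.node (.node (.leaf 51) (.leaf 4411)) (.leaf 5114)) (.node (.leaf 1286) (.leaf 3371))) (.node (.node (.leaf 748) (.leaf 5990)) (.node (.leaf 1485) (.leaf 6904)))) (.node (.node (.node (.node (.leaf 3094) (.leaf 3223)) (.leaf 7691)) (.node (.leaf 1381) (.leaf 2146))) (.node (.node (.leaf 1093) (.leaf 1964)) (.node (.leaf 5971) (.leaf 3611))))) (.node (.node (.node (.node (.node (.leaf 265)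 (.leaf 5486)) (.leaf 1901)) (.node (.leaf 3622) (.leaf 3304))) (.node (.node (.leaf 938) (.leaf 3673)) (.node (.leaf 7726) (.leaf 7750)))) (.node (.node (.node (.leaf 625) (.leaf 1932)) (.node (.leaf 8657) (.leaf 3276))) (.node (.node (.leaf 1204) (.leaf 3732)) (.node (.leaf 1812) (.leaf 5871)))))) (.node (.node (.node (.node (.node (.node (.leaf 162) (.leaf 4669)) (.leaf 3262)) (.node (.leaf 1318) (.leaf 7149))) (.node (.node (.leaf 849) (.leaf 3509)) (.node (.leaf 1559) (.leaf 5647)))) (.node (.node (.node (.leaf 553) (.leaf 4481)) (.node (.leaf 4769) (.leaf 3737))) (.node (.node (.leaf 1153) (.leaf 5485)) (.node (.leaf 5065) (.leaf 5962))))) (.node (.node (.node (.node (.node (.leaf 371) (.leaf 6655)) (.leaf 6855)) (.node (.leaf 3763) (.leaf 7559))) (.node (.node (.leaf 4524) (.leaf 3886)) (.node (.leaf 4228) (.leaf 4089)))) (.node (.node (.node (.leaf 698) (.leaf 2610)) (.node (.leaf 7331) (.leaf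 5933))) (.node (.node (.leaf 4920) (.leaf 7134)) (.node (.leaf 3889) (.leaf 6448))))))) (.node (.node (.node (.node (.node (.node (.node (.leaf 110) (.leaf 7998)) (.leaf 5276)) (.node (.leaf 3442) (.leaf 5674))) (.node (.node (.leaf 796) (.leaf 8103)) (.node (.leaf 1527) (.leaf 8047)))) (.node (.node (.node (.leaf 3263) (.leaf 5162)) (.node (.leaf 8772) (.leaf 4068))) (.node (.node (.leaf 1125) (.leaf 7484)) (.node (.leaf 4969) (.leaf 6078))))) (.node (.node (.node (.node (.node (.leaf 319) (.leaf 6824)) (.leaf 4159)) (.node (.leaf 7161) (.leaf 2136))) (.node (.node (.leaf 980) (.leaf 5945)) (.node (.leaf 4622) (.leaf 5389)))) (.node (.node (.node (.leaf 5315) (.leaf 4695)) (.node (.leaf 4265) (.leaf 8466))) (.node (.node (.leaf 3600) (.leaf 4272)) (.node (.leaf 1827) (.leaf 6459)))))) (.node (.node (.node (.node (.node (.node (.leaf 214) (.leaf 3592)) (.leaf 8559)) (.node (.leaf 1339) (.leaf 5850)))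 (.node (.node (.leaf 893) (.leaf 6982)) (.node (.leaf 3038) (.leaf 5532)))) (.node (.node (.node (.leaf 4269) (.leaf 4309)) (.node (.leaf 2640) (.leaf 4123))) (.node (.node (.leaf 4348) (.leaf 2023)) (.node (.leaf 7709) (.leaf 3029))))) (.node (.node (.node (.node (.node (.leaf 423) (.leaf 4814)) (.leaf 8615)) (.node (.leaf 4484) (.leaf 7269))) (.node (.node (.leaf 6575) (.leaf 7461)) (.node (.leaf 7270) (.leaf 4808)))) (.node (.node (.node (.leaf 722) (.leaf 6505)) (.node (.leaf 1443) (.leaf 7947))) (.node (.node (.leaf 6917) (.leaf 2096)) (.node (.leaf 4056) (.leaf 6516)))))))))) (.node (.node (.node (.node (.node (.node (.node (.node (.node (.node (.leaf 15) (.leaf 6162)) (.leaf 4003)) (.node (.leaf 1273) (.leaf 6027))) (.node (.node (.leaf 4255) (.leaf 5547)) (.node (.leaf 1458) (.leaf 8557)))) (.node (.node (.node (.node (.leaf 442) (.leaf 4291)) (.leaf 6674)) (.node (.leaf 6957) (.leaf 5500)))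 (.node (.node (.leaf 1068) (.leaf 2602)) (.node (.leaf 7302) (.leaf 4839))))) (.node (.node (.node (.node (.node (.leaf 3091) (.leaf 6725)) (.leaf 7354)) (.node (.leaf 1346) (.leaf 2129))) (.node (.node (.leaf 5339) (.leaf 3577)) (.node (.leaf 1612) (.leaf 6480)))) (.node (.node (.node (.leaf 602) (.leaf 4767)) (.node (.leaf 8225) (.leaf 5981))) (.node (.node (.leaf 7682) (.leaf 3032)) (.node (.leaf 4872) (.leaf 6949)))))) (.node (.node (.node (.node (.node (.node (.leaf 2675) (.leaf 4535)) (.leaf 8046)) (.node (.leaf 4254) (.leaf 6853))) (.node (.node (.leaf 814) (.leaf 6679)) (.node (.leaf 2634) (.leaf 4364)))) (.node (.node (.node (.leaf 2667) (.leaf 8465)) (.node (.leaf 1386) (.leaf 7478))) (.node (.node (.leaf 1137) (.leaf 1991)) (.node (.leaf 8459) (.leaf 2575))))) (.node (.node (.node (.node (.node (.leaf 338) (.leaf 2565)) (.leaf 4064)) (.node (.leaf 5446) (.leaf 2592))) (.node (.node (.leaf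 7296) (.leaf 8518)) (.node (.leaf 3623) (.leaf 6016)))) (.node (.node (.node (.leaf 677) (.leaf 3481)) (.node (.leaf 4000) (.leaf 5379))) (.node (.node (.leaf 5622) (.leaf 4322)) (.node (.leaf 3308) (.leaf 3619))))))) (.node (.node (.node (.node (.node (.node (.node (.leaf 74) (.leaf 4189)) (.leaf 1882)) (.node (.leaf 3637) (.leaf 8151))) (.node (.node (.leaf 762) (.leaf 6294)) (.node (.leaf 1499) (.leaf 5306)))) (.node (.node (.node (.node (.leaf 485) (.leaf 3638)) (.leaf 3922)) (.node (.leaf 3510) (.leaf 4063))) (.node (.node (.leaf 1105) (.leaf 3361)) (.node (.leaf 3569) (.leaf 5791))))) (.node (.node (.node (.node (.node (.leaf 286) (.leaf 7036)) (.leaf 8284)) (.node (.leaf 3386) (.leaf 5656))) (.node (.node (.leaf 955) (.leaf 3556)) (.node (.leaf 1645) (.leaf 4925)))) (.node (.node (.node (.leaf 641) (.leaf 6250)) (.node (.leaf 1396) (.leaf 3562))) (.node (.node (.leaf 1214) (.leaf 2597)) (.node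 (.leaf 1817) (.leaf 3270)))))) (.node (.node (.node (.node (.node (.node (.leaf 3542) (.leaf 8101)) (.leaf 7143)) (.node (.leaf 6210) (.leaf 3955))) (.node (.node (.leaf 867) (.leaf 6191)) (.node (.leaf 1572) (.leaf 3261)))) (.node (.node (.node (.leaf 571) (.leaf 6157)) (.node (.leaf 8493) (.leaf 2157))) (.node (.node (.leaf 1163) (.leaf 2010)) (.node (.leaf 1785) (.leaf 2180))))) (.node (.node (.node (.node (.node (.leaf 391) (.leaf 4305)) (.leaf 3148)) (.node (.leaf 8637) (.leaf 3624))) (.node (.node (.leaf 1027) (.leaf 4325)) (.node (.leaf 4342) (.leaf 7098)))) (.node (.node (.node (.leaf 705) (.leaf 6418)) (.node (.leaf 1414) (.leaf 3628))) (.node (.node (.leaf 6666) (.leaf 6760)) (.node (.leaf 2623) (.leaf 7954)))))))) (.node (.node (.node (.node (.node (.node (.node (.node (.leaf 44) (.leaf 5396)) (.leaf 8647)) (.node (.leaf 1282) (.leaf 2108))) (.node (.node (.leaf 742) (.leaf 8504)) (.node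 (.leaf 1480) (.leaf 5598)))) (.node (.node (.node (.node (.leaf 463) (.leaf 2562)) (.leaf 7373)) (.node (.leaf 3793) (.leaf 8102))) (.node (.node (.leaf 7318) (.leaf 1959)) (.node (.leaf 2628) (.leaf 4324))))) (.node (.node (.node (.node (.node (.leaf 3565) (.leaf 6229)) (.leaf 5697)) (.node (.leaf 6991) (.leaf 7977))) (.node (.node (.leaf 933) (.leaf 4014)) (.node (.leaf 1629) (.leaf 7400)))) (.node (.node (.node (.leaf 620) (.leaf 4693)) (.node (.leaf 7110) (.leaf 8766))) (.node (.node (.leaf 6127) (.leaf 6601)) (.node (.leaf 1810) (.leaf 5470)))))) (.node (.node (.node (.node (.node (.node (.leaf 155) (.leaf 5824)) (.leaf 1890)) (.node (.leaf 1313) (.leaf 6985))) (.node (.node (.leaf 841) (.leaf 6099)) (.node (.leaf 5740) (.leaf 5078)))) (.node (.node (.node (.leaf 3446) (.leaf 5921)) (.node (.leaf 4245) (.leaf 3274))) (.node (.node (.leaf 2654) (.leaf 2001)) (.node (.leaf 6366) (.leaf 4371)))))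 (.node (.node (.node (.node (.node (.leaf 365) (.leaf 8413)) (.leaf 3692)) (.node (.leaf 7616) (.leaf 2591))) (.node (.node (.leaf 1016) (.leaf 6488)) (.node (.leaf 3581) (.leaf 2578)))) (.node (.node (.node (.leaf 5228) (.leaf 7577)) (.node (.leaf 4168) (.leaf 6697))) (.node (.node (.leaf 1243) (.leaf 5613)) (.node (.leaf 3342) (.leaf 8784))))))) (.node (.node (.node (.node (.node (.node (.node (.leaf 102) (.leaf 3303)) (.leaf 7906)) (.node (.leaf 8763) (.leaf 5843))) (.node (.node (.leaf 2662) (.leaf 7773)) (.node (.leaf 8079) (.leaf 4660)))) (.node (.node (.node (.leaf 507) (.leaf 3792)) (.node (.leaf 8249) (.leaf 5503))) (.node (.node (.leaf 4744) (.leaf 1985)) (.node (.leaf 1755) (.leaf 4483))))) (.node (.node (.node (.node (.node (.leaf 314) (.leaf 3893)) (.leaf 5391)) (.node (.leaf 2644) (.leaf 4578))) (.node (.node (.leaf 973) (.leaf 6374)) (.node (.leaf 5720) (.leaf 2579)))) (.node (.node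 (.node (.leaf 3508) (.leaf 6231)) (.node (.leaf 4257) (.leaf 4328))) (.node (.node (.leaf 1227) (.leaf 5836)) (.node (.leaf 4740) (.leaf 2571)))))) (.node (.node (.node (.node (.node (.node (.leaf 207) (.leaf 3716)) (.leaf 8600)) (.node (.leaf 7506) (.leaf 2127))) (.node (.node (.leaf 890) (.leaf 6614)) (.node (.leaf 6083) (.leaf 3578)))) (.node (.node (.node (.leaf 3378) (.leaf 5834)) (.node (.leaf 4777) (.leaf 6770))) (.node (.node (.leaf 3149) (.leaf 8224)) (.node (.leaf 1795) (.leaf 2181))))) (.node (.node (.node (.node (.node (.leaf 418) (.leaf 5203)) (.leaf 8014)) (.node (.leaf 5048) (.leaf 7608))) (.node (.node (.leaf 1050) (.leaf 7663)) (.node (.leaf 2630) (.leaf 8273)))) (.node (.node (.node (.leaf 719) (.leaf 2608)) (.node (.leaf 1435) (.leaf 5959))) (.node (.node (.leaf 4964) (.leaf 7785)) (.node (.leaf 6481) (.leaf 6715))))))))) (.node (.node (.node (.node (.node (.node (.node (.node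 (.node (.leaf 30) (.leaf 6224)) (.leaf 2622)) (.node (.leaf 2648) (.leaf 3616))) (.node (.node (.leaf 3154) (.leaf 7820)) (.node (.leaf 1469) (.leaf 7226)))) (.node (.node (.node (.node (.leaf 453) (.leaf 8344)) (.leaf 6710)) (.node (.leaf 5070) (.leaf 8608))) (.node (.node (.leaf 1078) (.leaf 1954)) (.node (.leaf 1729) (.leaf 5131))))) (.node (.node (.node (.node (.node (.leaf 246) (.leaf 8378)) (.leaf 6197)) (.node (.leaf 1352) (.leaf 2131))) (.node (.node (.leaf 922) (.leaf 8674)) (.node (.leaf 1619) (.leaf 4095)))) (.node (.node (.node (.leaf 613) (.leaf 3590)) (.node (.leaf 5569) (.leaf 4676))) (.node (.node (.leaf 1197) (.leaf 2036)) (.node (.leaf 5418) (.leaf 4656)))))) (.node (.node (.node (.node (.node (.node (.leaf 141) (.leaf 7452)) (.leaf 3034)) (.node (.leaf 7315) (.leaf 4125))) (.node (.node (.leaf 828) (.leaf 3356)) (.node (.leaf 7606) (.leaf 7429)))) (.node (.node (.node (.leaf 536)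 (.leaf 6150)) (.node (.leaf 7804) (.leaf 5703))) (.node (.node (.leaf 1142) (.leaf 7006)) (.node (.leaf 3316) (.leaf 4409))))) (.node (.node (.node (.node (.node (.leaf 2671) (.leaf 7080)) (.leaf 4004)) (.node (.leaf 5137) (.leaf 4880))) (.node (.node (.leaf 1008) (.leaf 5689)) (.node (.leaf 1677) (.leaf 3560)))) (.node (.node (.node (.leaf 5080) (.leaf 8558)) (.node (.leaf 4118) (.leaf 6618))) (.node (.node (.leaf 6061) (.leaf 2068)) (.node (.leaf 7655) (.leaf 6276))))))) (.node (.node (.node (.node (.node (.node (.node (.leaf 89) (.leaf 8587)) (.leaf 3264)) (.node (.leaf 4954) (.leaf 6951))) (.node (.node (.leaf 775) (.leaf 8082)) (.node (.leaf 1511) (.leaf 4381)))) (.node (.node (.node (.node (.leaf 496) (.leaf 4499)) (.leaf 5423)) (.node (.leaf 8303) (.leaf 4226))) (.node (.node (.leaf 1114) (.leaf 3606)) (.node (.leaf 2627) (.leaf 4295))))) (.node (.node (.node (.node (.node (.leaf 301) (.leaf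 8627)) (.leaf 3545)) (.node (.leaf 4706) (.leaf 4957))) (.node (.node (.leaf 2658) (.leaf 4888)) (.node (.leaf 4403) (.leaf 7350)))) (.node (.node (.node (.leaf 7238) (.leaf 2612)) (.node (.leaf 2638) (.leaf 7656))) (.node (.node (.leaf 3526) (.leaf 3379)) (.node (.leaf 3372) (.leaf 3031)))))) (.node (.node (.node (.node (.node (.node (.leaf 194) (.leaf 5377)) (.leaf 8051)) (.node (.leaf 1330) (.leaf 4486))) (.node (.node (.leaf 879) (.leaf 4774)) (.node (.leaf 1582) (.leaf 3219)))) (.node (.node (.node (.leaf 579) (.leaf 3328)) (.node (.leaf 5302) (.leaf 2161))) (.node (.node (.leaf 4237) (.leaf 4667)) (.node (.leaf 3301) (.leaf 7448))))) (.node (.node (.node (.node (.node (.leaf 404) (.leaf 5109)) (.leaf 7139)) (.node (.leaf 7827) (.leaf 2590))) (.node (.node (.leaf 1039) (.leaf 8411)) (.node (.leaf 3287) (.leaf 4958)))) (.node (.node (.node (.leaf 2663) (.leaf 5218)) (.node (.leaf 1423) (.leaf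 2582))) (.node (.node (.leaf 8130) (.leaf 2089)) (.node (.leaf 5255) (.leaf 8623)))))))) (.node (.node (.node (.node (.node (.node (.node (.node (.leaf 58) (.leaf 7661)) (.leaf 7758)) (.node (.leaf 3325) (.leaf 5178))) (.node (.node (.leaf 751) (.leaf 6805)) (.node (.leaf 1488) (.leaf 6375)))) (.node (.node (.node (.node (.leaf 4949) (.leaf 3019)) (.leaf 5614)) (.node (.leaf 6382) (.leaf 2147))) (.node (.node (.leaf 3352) (.leaf 1969)) (.node (.leaf 6328) (.leaf 5991))))) (.node (.node (.node (.node (.node (.leaf 272) (.leaf 3963)) (.leaf 8000)) (.node (.leaf 6009) (.leaf 4115))) (.node (.node (.leaf 944) (.leaf 3604)) (.node (.leaf 1637) (.leaf 7523)))) (.node (.node (.node (.leaf 631) (.leaf 3144)) (.node (.leaf 8293) (.leaf 3614))) (.node (.node (.leaf 1206) (.leaf 2042)) (.node (.leaf 3355) (.leaf 7978)))))) (.node (.node (.node (.node (.node (.node (.leaf 170) (.leaf 5051)) (.leaf 6464)) (.node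 (.leaf 8699) (.leaf 6578))) (.node (.node (.leaf 855) (.leaf 5876)) (.node (.leaf 2633) (.leaf 5487)))) (.node (.node (.node (.leaf 5405) (.leaf 8448)) (.node (.leaf 3227) (.leaf 6013))) (.node (.node (.leaf 1156) (.leaf 2005)) (.node (.leaf 3234) (.leaf 4388))))) (.node (.node (.node (.node (.node (.leaf 377) (.leaf 3890)) (.leaf 8109)) (.node (.leaf 2643) (.leaf 6693))) (.node (.node (.leaf 3443) (.leaf 6656)) (.node (.leaf 6249) (.leaf 7957)))) (.node (.node (.node (.leaf 700) (.leaf 8538)) (.node (.leaf 8792) (.leaf 4025))) (.node (.node (.leaf 6392) (.leaf 3365)) (.node (.leaf 6950) (.leaf 6068))))))) (.node (.node (.node (.node (.node (.node (.node (.leaf 117) (.leaf 7353)) (.leaf 1886)) (.node (.leaf 1301) (.leaf 2117))) (.node (.node (.leaf 802) (.leaf 4345)) (.node (.leaf 5049) (.leaf 7135)))) (.node (.node (.node (.leaf 518) (.leaf 7071)) (.node (.leaf 3749) (.leaf 2150))) (.node (.node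 (.leaf 4517) (.leaf 4685)) (.node (.leaf 3295) (.leaf 2176))))) (.node (.node (.node (.node (.node (.leaf 325) (.leaf 8550)) (.leaf 3334)) (.node (.leaf 6463) (.leaf 4405))) (.node (.node (.leaf 3368) (.leaf 7474)) (.node (.leaf 1665) (.leaf 4205)))) (.node (.node (.node (.leaf 668) (.leaf 7286)) (.node (.leaf 7783) (.leaf 3293))) (.node (.node (.leaf 1232) (.leaf 2056)) (.node (.leaf 4437) (.leaf 6661)))))) (.node (.node (.node (.node (.node (.node (.leaf 2673) (.leaf 6778)) (.leaf 7247)) (.node (.leaf 3595) (.leaf 8704))) (.node (.node (.leaf 900) (.leaf 6062)) (.node (.leaf 1601) (.leaf 6844)))) (.node (.node (.node (.leaf 590) (.leaf 6880)) (.node (.leaf 4771) (.leaf 6230))) (.node (.node (.leaf 1179) (.leaf 2026)) (.node (.leaf 3740) (.leaf 2574))))) (.node (.node (.node (.node (.node (.leaf 430) (.leaf 3870)) (.leaf 4347)) (.node (.leaf 6425) (.leaf 4442))) (.node (.node (.leaf 1057) (.leaf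 1943)) (.node (.leaf 3687) (.leaf 5706)))) (.node (.node (.node (.leaf 726) (.leaf 4704)) (.node (.leaf 6064) (.leaf 3894))) (.node (.node (.leaf 2649) (.leaf 8294)) (.node (.leaf 3566) (.leaf 3688)))))))))))

def threeRank : Janko.Tree (ℕ) := (.node (.node (.node threeRank0 threeRank4) (.node threeRank2 threeRank6)) (.node (.node threeRank1 threeRank5) (.node threeRank3 threeRank7)))

def threeVia0 : Janko.Tree (ℕ × ℕ) :=
  (.node (.node (.node (.node (.node (.node (.node (.node (.node (.node (.node (.leaf (0, 0)) (.leaf (0, 2048))) (.leaf (16, 1024))) (.node (.leaf (32, 361)) (.leaf (56, 1499)))) (.node (.node (.leaf (0, 683)) (.leaf (59, 1280))) (.node (.leaf (0, 0)) (.leaf (59, 366))))) (.node (.node (.node (.node (.leaf (0, 0)) (.leaf (17, 1411))) (.leaf (56, 2007))) (.node (.leaf (57, 858)) (.leaf (48, 1346)))) (.node (.node (.leaf (0, 1530)) (.leaf (0, 0))) (.node (.leaf (59, 896)) (.leaf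 (54, 1184)))))) (.node (.node (.node (.node (.node (.leaf (0, 64)) (.leaf (0, 2112))) (.leaf (0, 1088))) (.node (.leaf (17, 293)) (.leaf (59, 349)))) (.node (.node (.leaf (0, 0)) (.leaf (58, 1344))) (.node (.leaf (59, 265)) (.leaf (55, 114))))) (.node (.node (.node (.leaf (0, 1331)) (.leaf (0, 0))) (.node (.leaf (0, 704)) (.leaf (34, 903)))) (.node (.node (.leaf (59, 1421)) (.leaf (48, 1656))) (.node (.leaf (44, 960)) (.leaf (56, 107))))))) (.node (.node (.node (.node (.node (.node (.leaf (0, 0)) (.leaf (12, 2080))) (.leaf (34, 798))) (.node (.leaf (59, 544)) (.leaf (16, 1568)))) (.node (.node (.leaf (0, 0)) (.leaf (13, 1312))) (.node (.leaf (59, 800)) (.leaf (19, 2137))))) (.node (.node (.node (.leaf (0, 0)) (.leaf (15, 449))) (.node (.leaf (16, 225)) (.leaf (32, 878)))) (.node (.node (.leaf (0, 0)) (.leaf (0, 1948))) (.node (.leaf (59, 928)) (.leaf (0, 1952)))))) (.node (.node (.node (.node (.node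 (.leaf (16, 759)) (.leaf (48, 1814))) (.leaf (5, 1120))) (.node (.leaf (51, 608)) (.leaf (58, 1632)))) (.node (.node (.leaf (0, 0)) (.leaf (57, 1754))) (.node (.leaf (0, 0)) (.leaf (32, 1054))))) (.node (.node (.node (.leaf (0, 0)) (.leaf (41, 2))) (.node (.leaf (6, 736)) (.leaf (23, 1760)))) (.node (.node (.leaf (59, 146)) (.leaf (59, 1387))) (.node (.leaf (59, 167)) (.leaf (59, 829)))))))) (.node (.node (.node (.node (.node (.node (.node (.leaf (0, 0)) (.leaf (58, 1151))) (.leaf (59, 1665))) (.node (.leaf (15, 528)) (.leaf (0, 0)))) (.node (.node (.leaf (4, 272)) (.leaf (46, 1296))) (.node (.leaf (16, 347)) (.leaf (50, 1266))))) (.node (.node (.node (.node (.leaf (0, 0)) (.leaf (20, 179))) (.leaf (0, 1168))) (.node (.leaf (58, 656)) (.leaf (59, 2063)))) (.node (.node (.leaf (30, 132)) (.leaf (0, 1424))) (.node (.leaf (0, 0)) (.leaf (56, 911)))))) (.node (.node (.node (.node (.node (.leaf (0, 0))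 (.leaf (53, 2128))) (.leaf (56, 1104))) (.node (.leaf (0, 0)) (.leaf (59, 838)))) (.node (.node (.leaf (17, 331)) (.leaf (48, 677))) (.node (.leaf (59, 1622)) (.leaf (45, 1554))))) (.node (.node (.node (.leaf (0, 0)) (.leaf (18, 1232))) (.node (.leaf (34, 370)) (.leaf (59, 1996)))) (.node (.node (.leaf (24, 273)) (.leaf (50, 1488))) (.node (.leaf (45, 975)) (.leaf (0, 2000))))))) (.node (.node (.node (.node (.node (.node (.leaf (0, 0)) (.leaf (15, 2096))) (.leaf (0, 0))) (.node (.leaf (55, 362)) (.leaf (51, 1409)))) (.node (.node (.leaf (0, 0)) (.leaf (59, 159))) (.node (.leaf (0, 0)) (.leaf (55, 568))))) (.node (.node (.node (.leaf (0, 0)) (.leaf (0, 0))) (.node (.leaf (30, 312)) (.leaf (51, 1712)))) (.node (.node (.leaf (0, 0)) (.leaf (59, 2078))) (.node (.leaf (52, 944)) (.leaf (16, 1968)))))) (.node (.node (.node (.node (.node (.leaf (0, 286)) (.leaf (17, 894))) (.leaf (59, 2133))) (.node (.leaf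 (0, 624)) (.leaf (18, 1648)))) (.node (.node (.leaf (4, 368)) (.leaf (4, 1392))) (.node (.leaf (19, 262)) (.leaf (33, 123))))) (.node (.node (.node (.leaf (0, 675)) (.leaf (53, 1264))) (.node (.leaf (16, 315)) (.leaf (56, 1150)))) (.node (.node (.leaf (53, 1468)) (.leaf (4, 1520))) (.node (.leaf (0, 0)) (.leaf (59, 2032))))))))) (.node (.node (.node (.node (.node (.node (.node (.node (.leaf (0, 0)) (.leaf (59, 1177))) (.leaf (0, 1032))) (.node (.leaf (0, 520)) (.leaf (0, 0)))) (.node (.node (.leaf (7, 90)) (.leaf (56, 1074))) (.node (.leaf (59, 776)) (.leaf (59, 1800))))) (.node (.node (.node (.node (.leaf (4, 274)) (.leaf (58, 1749))) (.leaf (58, 1964))) (.node (.leaf (10, 1578)) (.leaf (45, 1674)))) (.node (.node (.leaf (0, 0)) (.leaf (56, 1199))) (.node (.leaf (59, 904)) (.leaf (59, 1928)))))) (.node (.node (.node (.node (.node (.leaf (0, 0)) (.leaf (54, 147))) (.leaf (59, 1096))) (.node (.leaf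 (24, 17)) (.leaf (59, 834)))) (.node (.node (.leaf (0, 0)) (.leaf (59, 1988))) (.node (.leaf (0, 0)) (.leaf (15, 1070))))) (.node (.node (.node (.leaf (5, 200)) (.leaf (0, 1224))) (.node (.leaf (57, 1907)) (.leaf (55, 227)))) (.node (.node (.leaf (56, 1576)) (.leaf (57, 1065))) (.node (.leaf (0, 968)) (.leaf (0, 1992))))))) (.node (.node (.node (.node (.node (.node (.leaf (0, 0)) (.leaf (53, 1407))) (.leaf (55, 518))) (.node (.leaf (0, 1209)) (.leaf (59, 1576)))) (.node (.node (.leaf (0, 0)) (.leaf (4, 1320))) (.node (.leaf (0, 0)) (.leaf (58, 320))))) (.node (.node (.node (.leaf (0, 0)) (.leaf (48, 2142))) (.node (.leaf (0, 0)) (.leaf (0, 0)))) (.node (.node (.leaf (52, 424)) (.leaf (0, 0))) (.node (.leaf (0, 0)) (.leaf (53, 1960)))))) (.node (.node (.node (.node (.node (.leaf (0, 104)) (.leaf (34, 1697))) (.leaf (4, 1128))) (.node (.leaf (0, 0)) (.leaf (59, 1640)))) (.node (.node (.leaf (58, 1235))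 (.leaf (0, 1384))) (.node (.leaf (59, 2143)) (.leaf (14, 1081))))) (.node (.node (.node (.leaf (0, 0)) (.leaf (59, 505))) (.node (.leaf (59, 35)) (.leaf (20, 1768)))) (.node (.node (.leaf (23, 488)) (.leaf (34, 104))) (.node (.leaf (0, 0)) (.leaf (59, 2024)))))))) (.node (.node (.node (.node (.node (.node (.node (.leaf (0, 0)) (.leaf (57, 1402))) (.leaf (59, 1661))) (.node (.leaf (59, 536)) (.leaf (56, 1145)))) (.node (.node (.leaf (0, 0)) (.leaf (56, 2142))) (.node (.leaf (0, 0)) (.leaf (53, 1816))))) (.node (.node (.node (.node (.leaf (5, 152)) (.leaf (52, 9))) (.leaf (58, 1963))) (.node (.leaf (59, 948)) (.leaf (20, 1688)))) (.node (.node (.leaf (0, 0)) (.leaf (0, 0))) (.node (.leaf (55, 295)) (.leaf (48, 136)))))) (.node (.node (.node (.node (.node (.leaf (0, 0)) (.leaf (57, 2136))) (.leaf (4, 1112))) (.node (.leaf (41, 600)) (.leaf (59, 273)))) (.node (.node (.leaf (0, 0)) (.leaf (59, 1368)))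 (.node (.leaf (45, 87)) (.leaf (32, 1157))))) (.node (.node (.node (.leaf (0, 0)) (.leaf (51, 786))) (.node (.leaf (56, 137)) (.leaf (51, 1114)))) (.node (.node (.leaf (59, 472)) (.leaf (53, 785))) (.node (.leaf (58, 984)) (.leaf (8, 1458))))))) (.node (.node (.node (.node (.node (.node (.leaf (17, 50)) (.leaf (41, 42))) (.leaf (15, 1080))) (.node (.leaf (30, 1919)) (.leaf (57, 1592)))) (.node (.node (.leaf (0, 0)) (.leaf (54, 571))) (.node (.leaf (58, 1946)) (.leaf (17, 109))))) (.node (.node (.node (.leaf (0, 0)) (.leaf (0, 1208))) (.node (.leaf (15, 236)) (.leaf (17, 318)))) (.node (.node (.leaf (0, 0)) (.leaf (0, 0))) (.node (.leaf (0, 0)) (.leaf (41, 1429)))))) (.node (.node (.node (.node (.node (.leaf (0, 0)) (.leaf (32, 1540))) (.leaf (59, 1144))) (.node (.leaf (59, 1895)) (.leaf (4, 1656)))) (.node (.node (.leaf (51, 376)) (.leaf (13, 353))) (.node (.leaf (0, 0)) (.leaf (16, 123))))) (.node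 (.node (.node (.leaf (0, 248)) (.leaf (0, 1272))) (.node (.leaf (0, 0)) (.leaf (58, 1784)))) (.node (.node (.leaf (0, 0)) (.leaf (0, 0))) (.node (.leaf (56, 488)) (.leaf (56, 2040)))))))))) (.node (.node (.node (.node (.node (.node (.node (.node (.node (.leaf (0, 0)) (.leaf (59, 2052))) (.leaf (58, 1636))) (.node (.leaf (50, 1716)) (.leaf (0, 1540)))) (.node (.node (.leaf (0, 0)) (.leaf (54, 742))) (.node (.leaf (0, 0)) (.leaf (58, 1796))))) (.node (.node (.node (.node (.leaf (0, 0)) (.leaf (0, 2180))) (.leaf (59, 1504))) (.node (.leaf (0, 0)) (.leaf (59, 1205)))) (.node (.node (.leaf (0, 0)) (.leaf (0, 0))) (.node (.leaf (55, 773)) (.leaf (4, 1924)))))) (.node (.node (.node (.node (.node (.leaf (0, 0)) (.leaf (58, 2116))) (.leaf (52, 1092))) (.node (.leaf (0, 0)) (.leaf (59, 1604)))) (.node (.node (.leaf (0, 0)) (.leaf (59, 1503))) (.node (.leaf (0, 0)) (.leaf (57, 15))))) (.node (.node (.node (.leaf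 (57, 468)) (.leaf (24, 754))) (.node (.leaf (0, 766)) (.leaf (59, 2085)))) (.node (.node (.leaf (0, 0)) (.leaf (55, 1477))) (.node (.leaf (0, 0)) (.leaf (58, 916))))))) (.node (.node (.node (.node (.node (.node (.leaf (0, 36)) (.leaf (20, 2084))) (.leaf (59, 546))) (.node (.leaf (59, 966)) (.leaf (16, 1905)))) (.node (.node (.leaf (0, 292)) (.leaf (59, 2037))) (.node (.leaf (0, 804)) (.leaf (43, 1335))))) (.node (.node (.node (.leaf (0, 0)) (.leaf (0, 1188))) (.node (.leaf (59, 1270)) (.leaf (59, 1700)))) (.node (.node (.leaf (0, 1112)) (.leaf (24, 142))) (.node (.leaf (0, 0)) (.leaf (50, 456)))))) (.node (.node (.node (.node (.node (.leaf (0, 0)) (.leaf (52, 314))) (.leaf (0, 1124))) (.node (.leaf (6, 199)) (.leaf (0, 1636)))) (.node (.node (.leaf (0, 0)) (.leaf (48, 1956))) (.node (.leaf (0, 0)) (.leaf (54, 1072))))) (.node (.node (.node (.leaf (0, 0)) (.leaf (59, 649))) (.node (.leaf (0, 740))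 (.leaf (59, 930)))) (.node (.node (.leaf (0, 0)) (.leaf (45, 1958))) (.node (.leaf (34, 7)) (.leaf (20, 2020)))))))) (.node (.node (.node (.node (.node (.node (.node (.leaf (0, 0)) (.leaf (59, 2068))) (.leaf (56, 303))) (.node (.leaf (45, 27)) (.leaf (54, 59)))) (.node (.node (.leaf (16, 276)) (.leaf (59, 1300))) (.node (.leaf (0, 0)) (.leaf (59, 1348))))) (.node (.node (.node (.node (.leaf (0, 0)) (.leaf (36, 321))) (.leaf (32, 1566))) (.node (.leaf (0, 0)) (.leaf (48, 113)))) (.node (.node (.leaf (0, 0)) (.leaf (0, 0))) (.node (.leaf (55, 248)) (.leaf (0, 1940)))))) (.node (.node (.node (.node (.node (.leaf (0, 0)) (.leaf (34, 325))) (.leaf (24, 440))) (.node (.leaf (17, 55)) (.leaf (0, 0)))) (.node (.node (.leaf (0, 0)) (.leaf (59, 1597))) (.node (.leaf (0, 0)) (.leaf (59, 2098))))) (.node (.node (.node (.leaf (0, 0)) (.leaf (59, 1236))) (.node (.leaf (56, 1482)) (.leaf (36, 915)))) (.node (.node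 (.leaf (0, 0)) (.leaf (0, 1492))) (.node (.leaf (58, 107)) (.leaf (51, 1453))))))) (.node (.node (.node (.node (.node (.node (.leaf (0, 0)) (.leaf (0, 2100))) (.leaf (59, 391))) (.node (.leaf (59, 1158)) (.leaf (31, 879)))) (.node (.node (.leaf (0, 0)) (.leaf (30, 1332))) (.node (.leaf (0, 0)) (.leaf (47, 1843))))) (.node (.node (.node (.leaf (59, 56)) (.leaf (59, 594))) (.node (.leaf (19, 1128)) (.leaf (34, 199)))) (.node (.node (.leaf (0, 1120)) (.leaf (41, 772))) (.node (.leaf (56, 131)) (.leaf (41, 275)))))) (.node (.node (.node (.node (.node (.leaf (0, 0)) (.leaf (0, 2164))) (.leaf (19, 119))) (.node (.leaf (59, 1714)) (.leaf (0, 1972)))) (.node (.node (.leaf (0, 1848)) (.leaf (57, 2056))) (.node (.leaf (0, 0)) (.leaf (49, 1221))))) (.node (.node (.node (.leaf (57, 466)) (.leaf (59, 1268))) (.node (.leaf (21, 756)) (.leaf (59, 1361)))) (.node (.node (.leaf (0, 500)) (.leaf (0, 0))) (.node (.leaf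 (32, 10)) (.leaf (59, 1260))))))))) (.node (.node (.node (.node (.node (.node (.node (.node (.leaf (16, 82)) (.leaf (54, 1408))) (.leaf (0, 2084))) (.node (.leaf (57, 1212)) (.leaf (58, 672)))) (.node (.node (.leaf (39, 267)) (.leaf (52, 2013))) (.node (.leaf (0, 0)) (.leaf (58, 2108))))) (.node (.node (.node (.node (.leaf (0, 0)) (.leaf (4, 0))) (.leaf (59, 1164))) (.node (.leaf (5, 652)) (.leaf (59, 1010)))) (.node (.node (.leaf (0, 0)) (.leaf (0, 0))) (.node (.leaf (0, 908)) (.leaf (56, 938)))))) (.node (.node (.node (.node (.node (.leaf (0, 0)) (.leaf (54, 1711))) (.leaf (57, 402))) (.node (.leaf (4, 588)) (.leaf (59, 1095)))) (.node (.node (.leaf (5, 332)) (.leaf (51, 1356))) (.node (.leaf (0, 0)) (.leaf (59, 1020))))) (.node (.node (.node (.leaf (0, 1013)) (.leaf (59, 1492))) (.node (.leaf (54, 1633)) (.leaf (32, 753)))) (.node (.node (.leaf (52, 460)) (.leaf (59, 490))) (.node (.leaf (59,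 972)) (.leaf (56, 1923))))))) (.node (.node (.node (.node (.node (.node (.leaf (0, 0)) (.leaf (54, 212))) (.leaf (59, 1563))) (.node (.leaf (59, 1218)) (.leaf (59, 378)))) (.node (.node (.leaf (0, 0)) (.leaf (59, 1454))) (.node (.leaf (0, 0)) (.leaf (32, 1740))))) (.node (.node (.node (.leaf (0, 0)) (.leaf (55, 1013))) (.node (.leaf (15, 441)) (.leaf (56, 1828)))) (.node (.node (.leaf (0, 428)) (.leaf (41, 1406))) (.node (.leaf (14, 334)) (.leaf (59, 923)))))) (.node (.node (.node (.node (.node (.leaf (0, 0)) (.leaf (32, 332))) (.leaf (59, 1648))) (.node (.leaf (53, 620)) (.leaf (0, 1644)))) (.node (.node (.leaf (0, 0)) (.leaf (0, 1863))) (.node (.leaf (0, 0)) (.leaf (58, 1279))))) (.node (.node (.node (.leaf (0, 0)) (.leaf (34, 808))) (.node (.leaf (49, 747)) (.leaf (56, 143)))) (.node (.node (.leaf (57, 1698)) (.leaf (48, 802))) (.node (.leaf (0, 1837)) (.leaf (51, 2028)))))))) (.node (.node (.node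 (.node (.node (.node (.node (.leaf (0, 0)) (.leaf (0, 2076))) (.leaf (21, 104))) (.node (.leaf (22, 47)) (.leaf (59, 1161)))) (.node (.node (.leaf (0, 284)) (.leaf (41, 514))) (.node (.leaf (0, 0)) (.leaf (59, 409))))) (.node (.node (.node (.leaf (17, 151)) (.leaf (0, 0))) (.node (.leaf (54, 668)) (.leaf (45, 311)))) (.node (.node (.leaf (0, 0)) (.leaf (46, 927))) (.node (.leaf (58, 119)) (.leaf (16, 1948)))))) (.node (.node (.node (.node (.node (.leaf (4, 92)) (.leaf (59, 1394))) (.leaf (55, 386))) (.node (.leaf (53, 604)) (.leaf (59, 2122)))) (.node (.node (.leaf (0, 0)) (.leaf (59, 673))) (.node (.leaf (59, 463)) (.leaf (59, 1884))))) (.node (.node (.node (.leaf (23, 220)) (.leaf (0, 2150))) (.node (.leaf (59, 732)) (.leaf (19, 283)))) (.node (.node (.leaf (59, 1058)) (.leaf (24, 1492))) (.node (.leaf (41, 988)) (.leaf (32, 473))))))) (.node (.node (.node (.node (.node (.node (.leaf (0, 0)) (.leaf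 (56, 399))) (.leaf (59, 647))) (.node (.leaf (17, 290)) (.leaf (59, 574)))) (.node (.node (.leaf (6, 316)) (.leaf (57, 1615))) (.node (.leaf (0, 0)) (.leaf (56, 190))))) (.node (.node (.node (.leaf (4, 188)) (.leaf (54, 1212))) (.node (.leaf (34, 515)) (.leaf (59, 1163)))) (.node (.node (.leaf (7, 20)) (.leaf (4, 2022))) (.node (.leaf (0, 0)) (.leaf (34, 1467)))))) (.node (.node (.node (.node (.node (.leaf (0, 0)) (.leaf (32, 769))) (.leaf (59, 1810))) (.node (.leaf (55, 704)) (.leaf (55, 1660)))) (.node (.node (.leaf (5, 380)) (.leaf (0, 1404))) (.node (.leaf (0, 0)) (.leaf (32, 1382))))) (.node (.node (.node (.leaf (0, 0)) (.leaf (59, 1276))) (.node (.leaf (0, 0)) (.leaf (58, 2132)))) (.node (.node (.leaf (0, 0)) (.leaf (35, 1531))) (.node (.leaf (0, 0)) (.leaf (59, 1168))))))))))) (.node (.node (.node (.node (.node (.node (.node (.node (.node (.node (.leaf (0, 0)) (.leaf (56, 1857))) (.leaf (8,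 371))) (.node (.leaf (12, 201)) (.leaf (24, 87)))) (.node (.node (.leaf (0, 0)) (.leaf (59, 2120))) (.node (.leaf (0, 0)) (.leaf (59, 1794))))) (.node (.node (.node (.node (.leaf (0, 0)) (.leaf (33, 38))) (.leaf (56, 320))) (.node (.leaf (59, 642)) (.leaf (59, 1390)))) (.node (.node (.leaf (0, 0)) (.leaf (59, 1410))) (.node (.leaf (16, 898)) (.leaf (20, 1922)))))) (.node (.node (.node (.node (.node (.leaf (0, 0)) (.leaf (59, 2114))) (.leaf (0, 0))) (.node (.leaf (55, 578)) (.leaf (59, 1066)))) (.node (.node (.leaf (34, 271)) (.leaf (15, 1346))) (.node (.leaf (0, 0)) (.leaf (56, 1289))))) (.node (.node (.node (.leaf (0, 0)) (.leaf (10, 276))) (.node (.leaf (48, 1879)) (.leaf (17, 1726)))) (.node (.node (.leaf (0, 0)) (.leaf (0, 1474))) (.node (.leaf (59, 962)) (.leaf (59, 1986))))))) (.node (.node (.node (.node (.node (.node (.leaf (0, 0)) (.leaf (30, 2082))) (.leaf (16, 1058))) (.node (.leaf (24,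 538)) (.leaf (0, 0)))) (.node (.node (.leaf (0, 0)) (.leaf (55, 1054))) (.node (.leaf (57, 802)) (.leaf (41, 1455))))) (.node (.node (.node (.leaf (59, 522)) (.leaf (54, 1999))) (.node (.leaf (59, 1832)) (.leaf (59, 20)))) (.node (.node (.leaf (4, 418)) (.leaf (55, 1108))) (.node (.leaf (0, 0)) (.leaf (23, 1952)))))) (.node (.node (.node (.node (.node (.leaf (0, 0)) (.leaf (59, 2146))) (.leaf (56, 609))) (.node (.leaf (59, 610)) (.leaf (0, 0)))) (.node (.node (.leaf (0, 0)) (.leaf (52, 2060))) (.node (.leaf (51, 865)) (.leaf (56, 1633))))) (.node (.node (.node (.leaf (53, 69)) (.leaf (0, 1250))) (.node (.leaf (45, 76)) (.leaf (24, 935)))) (.node (.node (.leaf (46, 1444)) (.leaf (0, 1959))) (.node (.leaf (0, 0)) (.leaf (56, 1412)))))))) (.node (.node (.node (.node (.node (.node (.node (.leaf (0, 0)) (.leaf (56, 1111))) (.leaf (56, 1952))) (.node (.leaf (59, 927)) (.leaf (32, 1273)))) (.node (.node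 (.leaf (0, 274)) (.leaf (0, 1989))) (.node (.leaf (52, 785)) (.leaf (18, 1810))))) (.node (.node (.node (.node (.leaf (0, 0)) (.leaf (28, 1623))) (.leaf (24, 2003))) (.node (.leaf (59, 658)) (.leaf (45, 1792)))) (.node (.node (.leaf (0, 0)) (.leaf (48, 946))) (.node (.leaf (41, 7)) (.leaf (0, 1938)))))) (.node (.node (.node (.node (.node (.leaf (16, 27)) (.leaf (59, 1363))) (.leaf (16, 1106))) (.node (.leaf (57, 1109)) (.leaf (59, 1618)))) (.node (.node (.leaf (0, 0)) (.leaf (0, 1362))) (.node (.leaf (15, 850)) (.leaf (48, 1874))))) (.node (.node (.node (.leaf (55, 1412)) (.leaf (56, 1966))) (.node (.leaf (59, 1527)) (.leaf (57, 1746)))) (.node (.node (.leaf (0, 0)) (.leaf (59, 690))) (.node (.leaf (58, 1906)) (.leaf (41, 1106))))))) (.node (.node (.node (.node (.node (.node (.leaf (0, 0)) (.leaf (59, 986))) (.leaf (51, 1074))) (.node (.leaf (59, 562)) (.leaf (57, 1586)))) (.node (.node (.leaf (19,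 844)) (.leaf (53, 14))) (.node (.leaf (0, 0)) (.leaf (5, 1842))))) (.node (.node (.node (.leaf (0, 0)) (.leaf (0, 1202))) (.node (.leaf (0, 690)) (.leaf (59, 963)))) (.node (.node (.leaf (59, 1868)) (.leaf (0, 0))) (.node (.leaf (59, 88)) (.leaf (24, 317)))))) (.node (.node (.node (.node (.node (.leaf (0, 0)) (.leaf (48, 2162))) (.leaf (59, 1138))) (.node (.leaf (59, 1617)) (.leaf (59, 306)))) (.node (.node (.leaf (0, 1003)) (.leaf (4, 2048))) (.node (.leaf (10, 445)) (.leaf (33, 1106))))) (.node (.node (.node (.leaf (0, 0)) (.leaf (58, 212))) (.node (.leaf (16, 754)) (.leaf (0, 1778)))) (.node (.node (.leaf (41, 452)) (.leaf (5, 2070))) (.node (.leaf (59, 4)) (.leaf (59, 2034))))))))) (.node (.node (.node (.node (.node (.node (.node (.node (.leaf (0, 0)) (.leaf (41, 1468))) (.leaf (59, 2073))) (.node (.leaf (56, 96)) (.leaf (0, 0)))) (.node (.node (.leaf (57, 325)) (.leaf (59, 1290))) (.node (.leaf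 (0, 0)) (.leaf (51, 1573))))) (.node (.node (.node (.node (.leaf (0, 0)) (.leaf (57, 2186))) (.leaf (59, 1715))) (.node (.leaf (58, 1484)) (.leaf (34, 190)))) (.node (.node (.leaf (0, 0)) (.leaf (24, 93))) (.node (.leaf (59, 1733)) (.leaf (57, 361)))))) (.node (.node (.node (.node (.node (.leaf (0, 0)) (.leaf (57, 1233))) (.leaf (15, 1098))) (.node (.leaf (53, 1919)) (.leaf (59, 1610)))) (.node (.node (.leaf (0, 330)) (.leaf (15, 590))) (.node (.leaf (0, 0)) (.leaf (58, 2159))))) (.node (.node (.node (.leaf (18, 202)) (.leaf (41, 475))) (.node (.leaf (58, 1722)) (.leaf (56, 850)))) (.node (.node (.leaf (0, 0)) (.leaf (15, 1482))) (.node (.leaf (54, 345)) (.leaf (0, 1994))))))) (.node (.node (.node (.node (.node (.node (.leaf (0, 0)) (.leaf (55, 665))) (.leaf (59, 1436))) (.node (.leaf (56, 912)) (.leaf (0, 1578)))) (.node (.node (.leaf (0, 0)) (.leaf (58, 1941))) (.node (.leaf (0, 0)) (.leaf (56,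 103))))) (.node (.node (.node (.leaf (48, 170)) (.leaf (0, 1944))) (.node (.leaf (0, 682)) (.leaf (57, 2165)))) (.node (.node (.leaf (59, 1145)) (.leaf (53, 951))) (.node (.leaf (4, 938)) (.leaf (48, 1517)))))) (.node (.node (.node (.node (.node (.leaf (5, 106)) (.leaf (0, 2154))) (.leaf (6, 1131))) (.node (.leaf (16, 2138)) (.leaf (24, 1642)))) (.node (.node (.leaf (0, 0)) (.leaf (54, 666))) (.node (.leaf (54, 1949)) (.leaf (59, 1898))))) (.node (.node (.node (.leaf (0, 0)) (.leaf (0, 1770))) (.node (.leaf (59, 746)) (.leaf (8, 889)))) (.node (.node (.leaf (24, 322)) (.leaf (57, 805))) (.node (.leaf (0, 1002)) (.leaf (51, 1471)))))))) (.node (.node (.node (.node (.node (.node (.node (.leaf (0, 0)) (.leaf (59, 1902))) (.leaf (58, 701))) (.node (.leaf (0, 538)) (.leaf (56, 1752)))) (.node (.node (.leaf (0, 0)) (.leaf (59, 1694))) (.node (.leaf (0, 0)) (.leaf (59, 454))))) (.node (.node (.node (.leaf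 (0, 0)) (.leaf (59, 149))) (.node (.leaf (0, 0)) (.leaf (6, 1690)))) (.node (.node (.leaf (0, 0)) (.leaf (56, 1268))) (.node (.leaf (54, 340)) (.leaf (31, 142)))))) (.node (.node (.node (.node (.node (.leaf (0, 0)) (.leaf (0, 2138))) (.leaf (23, 949))) (.node (.leaf (58, 72)) (.leaf (16, 842)))) (.node (.node (.leaf (52, 393)) (.leaf (52, 2115))) (.node (.leaf (57, 87)) (.leaf (59, 1282))))) (.node (.node (.node (.leaf (59, 654)) (.leaf (0, 1995))) (.node (.leaf (48, 293)) (.leaf (59, 1277)))) (.node (.node (.leaf (0, 0)) (.leaf (59, 1313))) (.node (.leaf (0, 986)) (.leaf (23, 2010))))))) (.node (.node (.node (.node (.node (.node (.leaf (0, 0)) (.leaf (47, 2106))) (.leaf (45, 115))) (.node (.leaf (0, 0)) (.leaf (59, 421)))) (.node (.node (.leaf (0, 0)) (.leaf (59, 1338))) (.node (.leaf (0, 826)) (.leaf (53, 1850))))) (.node (.node (.node (.leaf (0, 0)) (.leaf (53, 1210))) (.node (.leaf (0, 1916))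 (.leaf (33, 132)))) (.node (.node (.leaf (6, 737)) (.leaf (32, 181))) (.node (.leaf (0, 0)) (.leaf (59, 1978)))))) (.node (.node (.node (.node (.node (.leaf (0, 0)) (.leaf (58, 2170))) (.leaf (56, 644))) (.node (.leaf (31, 262)) (.leaf (0, 1658)))) (.node (.node (.leaf (59, 862)) (.leaf (34, 743))) (.node (.leaf (0, 0)) (.leaf (57, 2105))))) (.node (.node (.node (.leaf (5, 250)) (.leaf (59, 1274))) (.node (.leaf (0, 0)) (.leaf (57, 1786)))) (.node (.node (.leaf (41, 155)) (.leaf (17, 113))) (.node (.leaf (0, 0)) (.leaf (55, 2084)))))))))) (.node (.node (.node (.node (.node (.node (.node (.node (.node (.leaf (0, 0)) (.leaf (47, 1792))) (.leaf (58, 1874))) (.node (.leaf (59, 226)) (.leaf (4, 1542)))) (.node (.node (.leaf (6, 1691)) (.leaf (59, 1777))) (.node (.leaf (41, 279)) (.leaf (22, 2092))))) (.node (.node (.node (.node (.leaf (0, 0)) (.leaf (24, 2182))) (.leaf (0, 1158))) (.node (.leaf (59, 646))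 (.leaf (55, 1581)))) (.node (.node (.leaf (44, 389)) (.leaf (59, 625))) (.node (.leaf (0, 0)) (.leaf (0, 1926)))))) (.node (.node (.node (.node (.node (.leaf (0, 0)) (.leaf (59, 2118))) (.leaf (59, 1094))) (.node (.leaf (57, 764)) (.leaf (5, 1606)))) (.node (.node (.leaf (0, 0)) (.leaf (0, 1350))) (.node (.leaf (0, 0)) (.leaf (59, 478))))) (.node (.node (.node (.leaf (51, 1778)) (.leaf (32, 40))) (.node (.leaf (48, 1863)) (.leaf (54, 1046)))) (.node (.node (.leaf (0, 0)) (.leaf (57, 1962))) (.node (.leaf (51, 482)) (.leaf (51, 349))))))) (.node (.node (.node (.node (.node (.node (.leaf (34, 758)) (.leaf (59, 2086))) (.leaf (59, 1062))) (.node (.leaf (53, 1440)) (.leaf (53, 1574)))) (.node (.node (.leaf (0, 0)) (.leaf (57, 236))) (.node (.leaf (59, 393)) (.leaf (59, 1830))))) (.node (.node (.node (.leaf (56, 1471)) (.leaf (0, 1190))) (.node (.leaf (54, 1504)) (.leaf (39, 1701)))) (.node (.node (.leaf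 (0, 0)) (.leaf (58, 659))) (.node (.leaf (59, 1924)) (.leaf (0, 1958)))))) (.node (.node (.node (.node (.node (.leaf (0, 0)) (.leaf (33, 48))) (.leaf (0, 1126))) (.node (.leaf (16, 614)) (.leaf (24, 1638)))) (.node (.node (.leaf (0, 0)) (.leaf (34, 762))) (.node (.leaf (59, 1656)) (.leaf (48, 71))))) (.node (.node (.node (.leaf (0, 0)) (.leaf (59, 1934))) (.node (.leaf (32, 261)) (.leaf (56, 1307)))) (.node (.node (.leaf (10, 137)) (.leaf (59, 1968))) (.node (.leaf (0, 0)) (.leaf (0, 2022)))))))) (.node (.node (.node (.node (.node (.node (.node (.leaf (0, 0)) (.leaf (4, 2070))) (.leaf (58, 1497))) (.node (.leaf (59, 60)) (.leaf (59, 1558)))) (.node (.node (.leaf (0, 0)) (.leaf (59, 1302))) (.node (.leaf (0, 0)) (.leaf (45, 974))))) (.node (.node (.node (.node (.leaf (0, 150)) (.leaf (44, 109))) (.leaf (4, 1174))) (.node (.leaf (59, 2178)) (.leaf (56, 884)))) (.node (.node (.leaf (56, 162)) (.leaf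 (55, 216))) (.node (.leaf (59, 1496)) (.leaf (56, 1451)))))) (.node (.node (.node (.node (.node (.leaf (0, 0)) (.leaf (0, 2134))) (.leaf (59, 1110))) (.node (.leaf (0, 0)) (.leaf (54, 23)))) (.node (.node (.leaf (57, 1608)) (.leaf (59, 1366))) (.node (.leaf (0, 854)) (.leaf (58, 1878))))) (.node (.node (.node (.leaf (0, 0)) (.leaf (59, 1433))) (.node (.leaf (59, 726)) (.leaf (52, 1237)))) (.node (.node (.leaf (0, 1906)) (.leaf (22, 282))) (.node (.leaf (21, 120)) (.leaf (59, 2006))))))) (.node (.node (.node (.node (.node (.node (.leaf (0, 0)) (.leaf (48, 691))) (.leaf (55, 1119))) (.node (.leaf (4, 566)) (.leaf (59, 1590)))) (.node (.node (.leaf (0, 0)) (.leaf (20, 1334))) (.node (.leaf (0, 0)) (.leaf (59, 1846))))) (.node (.node (.node (.leaf (0, 0)) (.leaf (59, 1206))) (.node (.leaf (18, 694)) (.leaf (57, 1160)))) (.node (.node (.leaf (0, 0)) (.leaf (0, 0))) (.node (.leaf (0, 0)) (.leaf (0, 1974))))))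 (.node (.node (.node (.node (.node (.leaf (0, 0)) (.leaf (24, 2166))) (.leaf (51, 545))) (.node (.leaf (59, 1734)) (.leaf (19, 88)))) (.node (.node (.leaf (0, 0)) (.leaf (58, 1930))) (.node (.leaf (0, 0)) (.leaf (59, 470))))) (.node (.node (.node (.leaf (59, 708)) (.leaf (57, 2041))) (.node (.leaf (18, 758)) (.leaf (59, 945)))) (.node (.node (.leaf (50, 704)) (.leaf (17, 110))) (.node (.leaf (0, 1842)) (.leaf (59, 1803))))))))) (.node (.node (.node (.node (.node (.node (.node (.node (.leaf (0, 0)) (.leaf (13, 2062))) (.leaf (0, 1526))) (.node (.leaf (52, 1582)) (.leaf (32, 1549)))) (.node (.node (.leaf (0, 0)) (.leaf (59, 1294))) (.node (.leaf (0, 0)) (.leaf (59, 964))))) (.node (.node (.node (.node (.leaf (34, 91)) (.leaf (12, 28))) (.leaf (24, 1166))) (.node (.leaf (59, 939)) (.leaf (56, 965)))) (.node (.node (.leaf (56, 129)) (.leaf (0, 0))) (.node (.leaf (30, 753)) (.leaf (18, 1934)))))) (.node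 (.node (.node (.node (.node (.leaf (0, 0)) (.leaf (56, 198))) (.leaf (54, 1962))) (.node (.leaf (0, 0)) (.leaf (0, 0)))) (.node (.node (.leaf (0, 0)) (.leaf (56, 836))) (.node (.leaf (16, 846)) (.leaf (56, 262))))) (.node (.node (.node (.leaf (0, 0)) (.leaf (34, 513))) (.node (.leaf (59, 251)) (.leaf (59, 1742)))) (.node (.node (.leaf (56, 622)) (.leaf (45, 12))) (.node (.leaf (0, 0)) (.leaf (19, 277))))))) (.node (.node (.node (.node (.node (.node (.leaf (0, 0)) (.leaf (58, 2094))) (.leaf (24, 2084))) (.node (.leaf (34, 284)) (.leaf (20, 1848)))) (.node (.node (.leaf (0, 0)) (.leaf (0, 1326))) (.node (.leaf (0, 0)) (.leaf (59, 2148))))) (.node (.node (.node (.leaf (0, 0)) (.leaf (16, 1198))) (.node (.leaf (56, 232)) (.leaf (19, 135)))) (.node (.node (.leaf (5, 430)) (.leaf (0, 1454))) (.node (.leaf (31, 349)) (.leaf (0, 0)))))) (.node (.node (.node (.node (.node (.leaf (0, 0)) (.leaf (19, 757)))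 (.leaf (14, 729))) (.node (.leaf (48, 614)) (.leaf (34, 1909)))) (.node (.node (.leaf (0, 0)) (.leaf (59, 1911))) (.node (.leaf (0, 878)) (.leaf (56, 1336))))) (.node (.node (.node (.leaf (4, 238)) (.leaf (32, 910))) (.node (.leaf (0, 0)) (.leaf (59, 554)))) (.node (.node (.leaf (0, 0)) (.leaf (59, 1518))) (.node (.leaf (34, 599)) (.leaf (59, 1031)))))))) (.node (.node (.node (.node (.node (.node (.node (.leaf (0, 0)) (.leaf (52, 2078))) (.leaf (0, 1054))) (.node (.leaf (56, 185)) (.leaf (9, 816)))) (.node (.node (.leaf (5, 286)) (.leaf (59, 1724))) (.node (.leaf (41, 30)) (.leaf (59, 1822))))) (.node (.node (.node (.leaf (0, 0)) (.leaf (59, 634))) (.node (.leaf (59, 38)) (.leaf (0, 1694)))) (.node (.node (.leaf (0, 0)) (.leaf (0, 0))) (.node (.leaf (59, 926)) (.leaf (0, 0)))))) (.node (.node (.node (.node (.node (.leaf (0, 272)) (.leaf (6, 1909))) (.leaf (19, 149))) (.node (.leaf (58, 1817)) (.leaf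 (59, 2020)))) (.node (.node (.leaf (17, 1123)) (.leaf (59, 1792))) (.node (.leaf (0, 0)) (.leaf (58, 1053))))) (.node (.node (.node (.leaf (0, 0)) (.leaf (59, 1531))) (.node (.leaf (45, 898)) (.leaf (34, 1427)))) (.node (.node (.leaf (0, 0)) (.leaf (59, 1207))) (.node (.leaf (16, 24)) (.leaf (31, 1469))))))) (.node (.node (.node (.node (.node (.node (.leaf (0, 0)) (.leaf (59, 2110))) (.leaf (45, 997))) (.node (.leaf (0, 0)) (.leaf (0, 0)))) (.node (.node (.leaf (0, 0)) (.leaf (59, 1507))) (.node (.leaf (59, 1887)) (.leaf (55, 151))))) (.node (.node (.node (.leaf (0, 566)) (.leaf (59, 1440))) (.node (.leaf (4, 702)) (.leaf (4, 1726)))) (.node (.node (.leaf (58, 446)) (.leaf (48, 1199))) (.node (.leaf (59, 1726)) (.leaf (18, 1982)))))) (.node (.node (.node (.node (.node (.leaf (17, 120)) (.leaf (19, 140))) (.leaf (52, 2179))) (.node (.leaf (59, 773)) (.leaf (33, 846)))) (.node (.node (.leaf (22, 380))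 (.leaf (0, 0))) (.node (.leaf (0, 0)) (.leaf (59, 1918))))) (.node (.node (.node (.leaf (59, 254)) (.leaf (45, 903))) (.node (.leaf (34, 71)) (.leaf (41, 952)))) (.node (.node (.leaf (0, 0)) (.leaf (0, 0))) (.node (.leaf (56, 928)) (.leaf (57, 880))))))))))))

def threeVia1 : Janko.Tree (ℕ × ℕ) :=
  (.node (.node (.node (.node (.node (.node (.node (.node (.node (.node (.node (.leaf (0, 0)) (.leaf (58, 699))) (.leaf (58, 1157))) (.node (.leaf (1, 1231)) (.leaf (1, 1536)))) (.node (.node (.leaf (58, 683)) (.leaf (59, 1079))) (.node (.leaf (17, 689)) (.leaf (59, 1517))))) (.node (.node (.node (.node (.leaf (0, 0)) (.leaf (34, 1623))) (.leaf (7, 1843))) (.node (.leaf (53, 1042)) (.leaf (13, 1662)))) (.node (.node (.leaf (0, 0)) (.leaf (59, 1945))) (.node (.leaf (1, 896)) (.leaf (1, 1920)))))) (.node (.node (.node (.node (.node (.leaf (0, 0)) (.leaf (59, 398))) (.leaf (59, 881))) (.node (.leaf (54, 821))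 (.leaf (57, 161)))) (.node (.node (.leaf (0, 0)) (.leaf (25, 669))) (.node (.leaf (0, 0)) (.leaf (1, 1856))))) (.node (.node (.node (.leaf (0, 0)) (.leaf (59, 780))) (.node (.leaf (59, 1992)) (.leaf (58, 1595)))) (.node (.node (.leaf (0, 0)) (.leaf (0, 0))) (.node (.leaf (59, 1378)) (.leaf (58, 608))))))) (.node (.node (.node (.node (.node (.node (.leaf (0, 0)) (.leaf (18, 804))) (.leaf (58, 1226))) (.node (.leaf (0, 0)) (.leaf (59, 1637)))) (.node (.node (.leaf (0, 0)) (.leaf (56, 889))) (.node (.leaf (12, 1139)) (.leaf (41, 383))))) (.node (.node (.node (.leaf (50, 35)) (.leaf (59, 1642))) (.node (.leaf (59, 1944)) (.leaf (57, 644)))) (.node (.node (.leaf (58, 2100)) (.leaf (35, 1948))) (.node (.leaf (1, 928)) (.leaf (59, 2123)))))) (.node (.node (.node (.node (.node (.leaf (0, 0)) (.leaf (17, 1815))) (.leaf (55, 129))) (.node (.leaf (58, 514)) (.leaf (58, 1437)))) (.node (.node (.leaf (0, 0))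 (.leaf (59, 239))) (.node (.leaf (0, 0)) (.leaf (59, 1652))))) (.node (.node (.node (.leaf (59, 1699)) (.leaf (1, 1248))) (.node (.leaf (53, 26)) (.leaf (59, 1815)))) (.node (.node (.leaf (53, 1867)) (.leaf (18, 1968))) (.node (.leaf (0, 0)) (.leaf (59, 2158)))))))) (.node (.node (.node (.node (.node (.node (.node (.leaf (0, 0)) (.leaf (59, 481))) (.leaf (0, 0))) (.node (.leaf (56, 901)) (.leaf (12, 1976)))) (.node (.node (.leaf (0, 0)) (.leaf (55, 1775))) (.node (.leaf (18, 1909)) (.leaf (59, 1917))))) (.node (.node (.node (.node (.leaf (53, 758)) (.leaf (21, 284))) (.leaf (52, 618))) (.node (.leaf (53, 1192)) (.leaf (59, 1852)))) (.node (.node (.leaf (25, 400)) (.leaf (0, 0))) (.node (.leaf (0, 0)) (.leaf (1, 1936)))))) (.node (.node (.node (.node (.node (.leaf (1, 80)) (.leaf (55, 703))) (.leaf (53, 2127))) (.node (.leaf (59, 587)) (.leaf (58, 192)))) (.node (.node (.leaf (0, 0)) (.leaf (53, 359)))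 (.node (.leaf (58, 1320)) (.leaf (53, 1273))))) (.node (.node (.node (.leaf (0, 0)) (.leaf (1, 1232))) (.node (.leaf (53, 29)) (.leaf (53, 2083)))) (.node (.node (.leaf (58, 780)) (.leaf (57, 224))) (.node (.leaf (49, 1307)) (.leaf (10, 768))))))) (.node (.node (.node (.node (.node (.node (.leaf (0, 0)) (.leaf (57, 386))) (.leaf (0, 0))) (.node (.leaf (1, 560)) (.leaf (58, 1825)))) (.node (.node (.leaf (1, 304)) (.leaf (57, 860))) (.node (.leaf (53, 1467)) (.leaf (57, 1529))))) (.node (.node (.node (.leaf (59, 1524)) (.leaf (0, 0))) (.node (.leaf (50, 1566)) (.leaf (17, 891)))) (.node (.node (.leaf (0, 0)) (.leaf (54, 1598))) (.node (.leaf (7, 98)) (.leaf (1, 1968)))))) (.node (.node (.node (.node (.node (.leaf (0, 0)) (.leaf (34, 1106))) (.leaf (35, 32))) (.node (.leaf (58, 290)) (.leaf (1, 1648)))) (.node (.node (.leaf (0, 0)) (.leaf (19, 235))) (.node (.leaf (0, 0)) (.leaf (56, 550))))) (.node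 (.node (.node (.leaf (0, 0)) (.leaf (53, 475))) (.node (.leaf (0, 0)) (.leaf (1, 2167)))) (.node (.node (.leaf (0, 0)) (.leaf (41, 289))) (.node (.leaf (0, 0)) (.leaf (59, 609))))))))) (.node (.node (.node (.node (.node (.node (.node (.node (.leaf (0, 0)) (.leaf (59, 2062))) (.leaf (41, 110))) (.node (.leaf (58, 331)) (.leaf (1, 2079)))) (.node (.node (.leaf (0, 0)) (.leaf (57, 1197))) (.node (.leaf (0, 0)) (.leaf (59, 1646))))) (.node (.node (.node (.node (.leaf (1, 136)) (.leaf (51, 1936))) (.leaf (57, 923))) (.node (.leaf (58, 697)) (.leaf (12, 225)))) (.node (.node (.leaf (59, 2002)) (.leaf (0, 0))) (.node (.leaf (0, 0)) (.leaf (59, 232)))))) (.node (.node (.node (.node (.node (.leaf (0, 0)) (.leaf (59, 392))) (.leaf (0, 0))) (.node (.leaf (54, 359)) (.leaf (59, 1728)))) (.node (.node (.leaf (0, 0)) (.leaf (53, 824))) (.node (.leaf (0, 0)) (.leaf (59, 388))))) (.node (.node (.node (.leaf (0,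 0)) (.leaf (59, 1051))) (.node (.leaf (58, 649)) (.leaf (58, 1432)))) (.node (.node (.leaf (51, 1119)) (.leaf (0, 0))) (.node (.leaf (32, 82)) (.leaf (50, 1243))))))) (.node (.node (.node (.node (.node (.node (.leaf (0, 0)) (.leaf (58, 2144))) (.leaf (59, 1174))) (.node (.leaf (0, 0)) (.leaf (53, 412)))) (.node (.node (.leaf (59, 295)) (.leaf (53, 995))) (.node (.leaf (0, 0)) (.leaf (1, 1832))))) (.node (.node (.node (.leaf (0, 0)) (.leaf (0, 0))) (.node (.leaf (18, 1293)) (.leaf (57, 98)))) (.node (.node (.leaf (0, 0)) (.leaf (59, 101))) (.node (.leaf (0, 0)) (.leaf (25, 2138)))))) (.node (.node (.node (.node (.node (.leaf (0, 0)) (.leaf (34, 1837))) (.leaf (34, 167))) (.node (.leaf (49, 466)) (.leaf (59, 235)))) (.node (.node (.leaf (0, 0)) (.leaf (58, 787))) (.node (.leaf (0, 0)) (.leaf (58, 742))))) (.node (.node (.node (.leaf (56, 1443)) (.leaf (58, 1002))) (.node (.leaf (1, 744)) (.leaf (6,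 612)))) (.node (.node (.leaf (54, 841)) (.leaf (32, 355))) (.node (.leaf (0, 0)) (.leaf (59, 313)))))))) (.node (.node (.node (.node (.node (.node (.node (.leaf (0, 0)) (.leaf (53, 1258))) (.leaf (0, 0))) (.node (.leaf (0, 0)) (.leaf (59, 2090)))) (.node (.node (.leaf (0, 0)) (.leaf (59, 1014))) (.node (.leaf (0, 0)) (.leaf (58, 1741))))) (.node (.node (.node (.node (.leaf (0, 0)) (.leaf (53, 80))) (.leaf (0, 0))) (.node (.leaf (58, 663)) (.leaf (20, 1171)))) (.node (.node (.leaf (59, 2109)) (.leaf (0, 0))) (.node (.leaf (58, 1175)) (.leaf (48, 753)))))) (.node (.node (.node (.node (.node (.leaf (0, 0)) (.leaf (57, 2064))) (.leaf (19, 120))) (.node (.leaf (53, 155)) (.leaf (17, 841)))) (.node (.node (.leaf (59, 298)) (.leaf (53, 240))) (.node (.leaf (13, 854)) (.leaf (53, 2113))))) (.node (.node (.node (.leaf (57, 213)) (.leaf (55, 1537))) (.node (.leaf (1, 728)) (.leaf (51, 1419)))) (.node (.node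 (.leaf (1, 1215)) (.leaf (1, 1496))) (.node (.leaf (59, 244)) (.leaf (54, 417))))))) (.node (.node (.node (.node (.node (.node (.leaf (0, 0)) (.leaf (4, 1544))) (.leaf (58, 785))) (.node (.leaf (0, 0)) (.leaf (59, 1411)))) (.node (.node (.leaf (0, 0)) (.leaf (54, 1877))) (.node (.leaf (0, 0)) (.leaf (55, 128))))) (.node (.node (.node (.leaf (0, 0)) (.leaf (4, 1904))) (.node (.leaf (0, 0)) (.leaf (18, 1953)))) (.node (.node (.leaf (59, 1170)) (.leaf (59, 2018))) (.node (.leaf (32, 1790)) (.leaf (17, 1549)))))) (.node (.node (.node (.node (.node (.leaf (0, 0)) (.leaf (57, 2185))) (.leaf (59, 788))) (.node (.leaf (49, 1208)) (.leaf (59, 2138)))) (.node (.node (.leaf (0, 0)) (.leaf (1, 1400))) (.node (.leaf (0, 0)) (.leaf (1, 1912))))) (.node (.node (.node (.leaf (0, 0)) (.leaf (36, 158))) (.node (.leaf (0, 0)) (.leaf (55, 2123)))) (.node (.node (.leaf (0, 0)) (.leaf (0, 0))) (.node (.leaf (59, 1042))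 (.leaf (57, 2054)))))))))) (.node (.node (.node (.node (.node (.node (.node (.node (.node (.leaf (0, 0)) (.leaf (58, 309))) (.leaf (49, 1257))) (.node (.leaf (59, 491)) (.leaf (1, 1540)))) (.node (.node (.leaf (49, 733)) (.leaf (59, 817))) (.node (.leaf (0, 0)) (.leaf (58, 1791))))) (.node (.node (.node (.node (.leaf (0, 0)) (.leaf (13, 784))) (.leaf (59, 1649))) (.node (.leaf (50, 99)) (.leaf (0, 0)))) (.node (.node (.leaf (0, 0)) (.leaf (0, 0))) (.node (.leaf (57, 74)) (.leaf (59, 1873)))))) (.node (.node (.node (.node (.node (.leaf (0, 0)) (.leaf (58, 584))) (.leaf (1, 1092))) (.node (.leaf (0, 0)) (.leaf (59, 664)))) (.node (.node (.leaf (21, 751)) (.leaf (57, 1113))) (.node (.leaf (57, 904)) (.leaf (53, 933))))) (.node (.node (.node (.leaf (0, 0)) (.leaf (50, 9))) (.node (.leaf (58, 2029)) (.leaf (41, 1688)))) (.node (.node (.leaf (0, 0)) (.leaf (59, 139))) (.node (.leaf (59, 1343)) (.leaf (44,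 2003))))))) (.node (.node (.node (.node (.node (.node (.leaf (18, 321)) (.leaf (1, 2084))) (.leaf (59, 1297))) (.node (.leaf (52, 1697)) (.leaf (53, 775)))) (.node (.node (.leaf (0, 0)) (.leaf (59, 1395))) (.node (.leaf (6, 1521)) (.leaf (13, 82))))) (.node (.node (.node (.leaf (57, 129)) (.leaf (54, 1369))) (.node (.leaf (33, 94)) (.leaf (51, 86)))) (.node (.node (.leaf (0, 0)) (.leaf (58, 86))) (.node (.leaf (12, 1643)) (.leaf (1, 1956)))))) (.node (.node (.node (.node (.node (.leaf (0, 0)) (.leaf (58, 314))) (.leaf (58, 977))) (.node (.leaf (53, 1232)) (.leaf (52, 301)))) (.node (.node (.leaf (59, 570)) (.leaf (59, 1285))) (.node (.leaf (0, 0)) (.leaf (58, 1472))))) (.node (.node (.node (.leaf (58, 109)) (.leaf (38, 2080))) (.node (.leaf (53, 1679)) (.leaf (12, 97)))) (.node (.node (.leaf (1, 484)) (.leaf (0, 0))) (.node (.leaf (0, 0)) (.leaf (51, 332)))))))) (.node (.node (.node (.node (.node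 (.node (.node (.leaf (0, 0)) (.leaf (45, 1230))) (.leaf (54, 882))) (.node (.leaf (1, 1627)) (.leaf (59, 523)))) (.node (.node (.leaf (0, 0)) (.leaf (59, 30))) (.node (.leaf (58, 763)) (.leaf (59, 580))))) (.node (.node (.node (.node (.leaf (0, 0)) (.leaf (37, 5))) (.leaf (1, 1572))) (.node (.leaf (59, 383)) (.leaf (58, 1683)))) (.node (.node (.leaf (57, 1947)) (.leaf (0, 0))) (.node (.leaf (42, 851)) (.leaf (0, 0)))))) (.node (.node (.node (.node (.node (.leaf (0, 0)) (.leaf (18, 1054))) (.leaf (54, 71))) (.node (.leaf (57, 1007)) (.leaf (56, 1826)))) (.node (.node (.leaf (55, 1199)) (.leaf (59, 1819))) (.node (.leaf (0, 0)) (.leaf (51, 199))))) (.node (.node (.node (.leaf (53, 2091)) (.leaf (59, 2181))) (.node (.leaf (49, 1242)) (.leaf (12, 337)))) (.node (.node (.leaf (0, 0)) (.leaf (0, 0))) (.node (.leaf (27, 2149)) (.leaf (56, 371))))))) (.node (.node (.node (.node (.node (.node (.leaf (0, 0))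 (.leaf (59, 801))) (.leaf (59, 1265))) (.node (.leaf (59, 1016)) (.leaf (48, 297)))) (.node (.node (.leaf (0, 0)) (.leaf (55, 1667))) (.node (.leaf (53, 279)) (.leaf (58, 1711))))) (.node (.node (.node (.leaf (0, 0)) (.leaf (54, 915))) (.node (.leaf (36, 808)) (.leaf (50, 1166)))) (.node (.node (.leaf (59, 312)) (.leaf (0, 0))) (.node (.leaf (53, 461)) (.leaf (57, 275)))))) (.node (.node (.node (.node (.node (.leaf (58, 190)) (.leaf (13, 347))) (.leaf (34, 1715))) (.node (.leaf (59, 2092)) (.leaf (41, 1790)))) (.node (.node (.leaf (0, 0)) (.leaf (58, 867))) (.node (.leaf (0, 0)) (.leaf (54, 2160))))) (.node (.node (.node (.leaf (0, 0)) (.leaf (58, 1036))) (.node (.leaf (0, 0)) (.leaf (59, 2042)))) (.node (.node (.leaf (32, 43)) (.leaf (0, 0))) (.node (.leaf (1, 1012)) (.leaf (58, 2048))))))))) (.node (.node (.node (.node (.node (.node (.node (.node (.leaf (0, 0)) (.leaf (53, 1506))) (.leaf (1, 1036)))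 (.node (.leaf (59, 2132)) (.leaf (46, 127)))) (.node (.node (.leaf (0, 0)) (.leaf (58, 1052))) (.node (.leaf (0, 0)) (.leaf (59, 2066))))) (.node (.node (.node (.node (.leaf (0, 0)) (.leaf (5, 0))) (.leaf (53, 1248))) (.node (.leaf (18, 1654)) (.leaf (59, 1675)))) (.node (.node (.leaf (58, 1088)) (.leaf (0, 0))) (.node (.leaf (0, 0)) (.leaf (58, 1730)))))) (.node (.node (.node (.node (.node (.leaf (0, 0)) (.leaf (59, 2000))) (.leaf (59, 1580))) (.node (.leaf (34, 995)) (.leaf (59, 1498)))) (.node (.node (.leaf (0, 0)) (.leaf (51, 1845))) (.node (.leaf (1, 844)) (.leaf (59, 434))))) (.node (.node (.node (.leaf (0, 0)) (.leaf (56, 859))) (.node (.leaf (59, 2153)) (.leaf (1, 1740)))) (.node (.node (.leaf (53, 1412)) (.leaf (0, 0))) (.node (.leaf (52, 729)) (.leaf (59, 671))))))) (.node (.node (.node (.node (.node (.node (.leaf (0, 0)) (.leaf (59, 2082))) (.leaf (55, 1530))) (.node (.leaf (0, 0)) (.leaf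 (58, 257)))) (.node (.node (.leaf (0, 0)) (.leaf (59, 1112))) (.node (.leaf (0, 0)) (.leaf (1, 1836))))) (.node (.node (.node (.leaf (0, 0)) (.leaf (53, 1869))) (.node (.leaf (59, 337)) (.leaf (59, 2072)))) (.node (.node (.leaf (0, 0)) (.leaf (0, 0))) (.node (.leaf (0, 0)) (.leaf (59, 1973)))))) (.node (.node (.node (.node (.node (.leaf (0, 0)) (.leaf (1, 2156))) (.leaf (36, 693))) (.node (.leaf (20, 1837)) (.leaf (6, 694)))) (.node (.node (.leaf (0, 0)) (.leaf (18, 237))) (.node (.leaf (52, 1685)) (.leaf (48, 700))))) (.node (.node (.node (.leaf (54, 1523)) (.leaf (59, 1208))) (.node (.leaf (0, 0)) (.leaf (0, 0)))) (.node (.node (.leaf (59, 2136)) (.leaf (0, 0))) (.node (.leaf (0, 0)) (.leaf (36, 1346)))))))) (.node (.node (.node (.node (.node (.node (.node (.leaf (0, 0)) (.leaf (54, 2144))) (.leaf (36, 379))) (.node (.leaf (55, 430)) (.leaf (59, 1508)))) (.node (.node (.leaf (0, 0)) (.leaf (36,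 110))) (.node (.leaf (0, 0)) (.leaf (59, 181))))) (.node (.node (.node (.leaf (0, 0)) (.leaf (19, 190))) (.node (.leaf (1, 668)) (.leaf (48, 311)))) (.node (.node (.leaf (58, 293)) (.leaf (53, 784))) (.node (.leaf (0, 0)) (.leaf (36, 173)))))) (.node (.node (.node (.node (.node (.leaf (0, 0)) (.leaf (53, 2149))) (.leaf (59, 1275))) (.node (.leaf (1, 604)) (.leaf (59, 2053)))) (.node (.node (.leaf (0, 0)) (.leaf (58, 1202))) (.node (.leaf (0, 0)) (.leaf (59, 1473))))) (.node (.node (.node (.leaf (59, 1776)) (.leaf (58, 1829))) (.node (.leaf (59, 551)) (.leaf (29, 1756)))) (.node (.node (.leaf (59, 1068)) (.leaf (0, 0))) (.node (.leaf (0, 0)) (.leaf (59, 303))))))) (.node (.node (.node (.node (.node (.node (.leaf (0, 0)) (.leaf (52, 1862))) (.leaf (58, 1271))) (.node (.leaf (44, 588)) (.leaf (59, 585)))) (.node (.node (.leaf (1, 316)) (.leaf (59, 57))) (.node (.leaf (0, 0)) (.leaf (57, 85))))) (.node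 (.node (.node (.leaf (0, 0)) (.leaf (1, 1212))) (.node (.leaf (1, 700)) (.leaf (59, 94)))) (.node (.node (.leaf (0, 0)) (.leaf (1, 1468))) (.node (.leaf (0, 0)) (.leaf (53, 575)))))) (.node (.node (.node (.node (.node (.leaf (1, 124)) (.leaf (1, 2172))) (.leaf (59, 958))) (.node (.leaf (58, 1982)) (.leaf (58, 1477)))) (.node (.node (.leaf (0, 0)) (.leaf (59, 270))) (.node (.leaf (0, 0)) (.leaf (31, 1571))))) (.node (.node (.node (.leaf (0, 0)) (.leaf (59, 1545))) (.node (.leaf (0, 0)) (.leaf (53, 950)))) (.node (.node (.leaf (59, 2043)) (.leaf (0, 0))) (.node (.leaf (59, 1389)) (.leaf (59, 1306))))))))))) (.node (.node (.node (.node (.node (.node (.node (.node (.node (.node (.leaf (0, 0)) (.leaf (59, 719))) (.leaf (57, 1452))) (.node (.leaf (1, 514)) (.leaf (57, 235)))) (.node (.node (.leaf (0, 0)) (.leaf (53, 147))) (.node (.leaf (0, 0)) (.leaf (13, 729))))) (.node (.node (.node (.node (.leaf (51,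 1521)) (.leaf (48, 1929))) (.leaf (59, 1012))) (.node (.leaf (52, 229)) (.leaf (55, 506)))) (.node (.node (.leaf (59, 1064)) (.leaf (51, 682))) (.node (.leaf (33, 1415)) (.leaf (58, 222)))))) (.node (.node (.node (.node (.node (.leaf (0, 0)) (.leaf (59, 2014))) (.leaf (59, 1057))) (.node (.leaf (0, 0)) (.leaf (58, 603)))) (.node (.node (.leaf (0, 0)) (.leaf (34, 2028))) (.node (.leaf (0, 0)) (.leaf (50, 1250))))) (.node (.node (.node (.leaf (0, 0)) (.leaf (33, 1440))) (.node (.leaf (59, 994)) (.leaf (56, 739)))) (.node (.node (.leaf (16, 121)) (.leaf (58, 151))) (.node (.leaf (0, 0)) (.leaf (58, 1978))))))) (.node (.node (.node (.node (.node (.node (.leaf (0, 0)) (.leaf (55, 1150))) (.leaf (48, 1415))) (.node (.leaf (0, 0)) (.leaf (57, 1453)))) (.node (.node (.leaf (0, 0)) (.leaf (58, 1043))) (.node (.leaf (58, 1319)) (.leaf (53, 1173))))) (.node (.node (.node (.leaf (0, 0)) (.leaf (59, 1104))) (.node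 (.leaf (59, 1982)) (.leaf (1, 1698)))) (.node (.node (.leaf (0, 0)) (.leaf (59, 404))) (.node (.leaf (0, 0)) (.leaf (57, 672)))))) (.node (.node (.node (.node (.node (.leaf (0, 0)) (.leaf (59, 321))) (.leaf (51, 1464))) (.node (.leaf (43, 759)) (.leaf (34, 846)))) (.node (.node (.leaf (0, 0)) (.leaf (59, 50))) (.node (.leaf (55, 1547)) (.leaf (53, 1952))))) (.node (.node (.node (.leaf (0, 0)) (.leaf (10, 151))) (.node (.leaf (56, 883)) (.leaf (50, 951)))) (.node (.node (.leaf (49, 273)) (.leaf (0, 0))) (.node (.leaf (0, 0)) (.leaf (58, 599)))))))) (.node (.node (.node (.node (.node (.node (.node (.leaf (0, 0)) (.leaf (59, 2145))) (.leaf (53, 2081))) (.node (.leaf (0, 0)) (.leaf (36, 1333)))) (.node (.node (.leaf (0, 0)) (.leaf (57, 796))) (.node (.leaf (0, 0)) (.leaf (13, 1814))))) (.node (.node (.node (.node (.leaf (56, 480)) (.leaf (29, 1710))) (.leaf (50, 569))) (.node (.leaf (53, 781)) (.leaf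 (1, 1682)))) (.node (.node (.leaf (0, 0)) (.leaf (1, 1965))) (.node (.leaf (0, 0)) (.leaf (59, 751)))))) (.node (.node (.node (.node (.node (.leaf (0, 0)) (.leaf (59, 1975))) (.leaf (1, 2160))) (.node (.leaf (29, 604)) (.leaf (59, 530)))) (.node (.node (.leaf (0, 0)) (.leaf (59, 835))) (.node (.leaf (42, 1634)) (.leaf (57, 223))))) (.node (.node (.node (.leaf (0, 0)) (.leaf (59, 1758))) (.node (.leaf (59, 721)) (.leaf (58, 1571)))) (.node (.node (.leaf (0, 0)) (.leaf (0, 0))) (.node (.leaf (0, 0)) (.leaf (29, 2002))))))) (.node (.node (.node (.node (.node (.node (.leaf (0, 0)) (.leaf (58, 340))) (.leaf (1, 1074))) (.node (.leaf (0, 0)) (.leaf (51, 1958)))) (.node (.node (.leaf (0, 0)) (.leaf (18, 187))) (.node (.leaf (1, 1980)) (.leaf (59, 228))))) (.node (.node (.node (.leaf (1, 178)) (.leaf (53, 138))) (.node (.leaf (1, 1909)) (.leaf (1, 1714)))) (.node (.node (.leaf (58, 477)) (.leaf (0, 0)))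 (.node (.leaf (59, 934)) (.leaf (54, 464)))))) (.node (.node (.node (.node (.node (.leaf (0, 0)) (.leaf (48, 2178))) (.leaf (59, 1331))) (.node (.leaf (59, 2094)) (.leaf (0, 0)))) (.node (.node (.leaf (0, 0)) (.leaf (17, 2048))) (.node (.leaf (1, 882)) (.leaf (59, 1741))))) (.node (.node (.node (.leaf (58, 704)) (.leaf (51, 55))) (.node (.leaf (0, 0)) (.leaf (53, 1218)))) (.node (.node (.leaf (0, 0)) (.leaf (0, 0))) (.node (.leaf (0, 0)) (.leaf (59, 657))))))))) (.node (.node (.node (.node (.node (.node (.node (.node (.leaf (1, 10)) (.leaf (53, 1363))) (.leaf (57, 1005))) (.node (.leaf (36, 160)) (.leaf (58, 1405)))) (.node (.node (.leaf (0, 0)) (.leaf (59, 1408))) (.node (.leaf (47, 1173)) (.leaf (1, 1802))))) (.node (.node (.node (.node (.leaf (0, 0)) (.leaf (59, 1925))) (.leaf (53, 1694))) (.node (.leaf (59, 1101)) (.leaf (36, 565)))) (.node (.node (.leaf (59, 624)) (.leaf (59, 343))) (.node (.leaf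 (59, 1179)) (.leaf (58, 1900)))))) (.node (.node (.node (.node (.node (.leaf (0, 0)) (.leaf (58, 1952))) (.leaf (59, 767))) (.node (.leaf (1, 586)) (.leaf (58, 1668)))) (.node (.node (.leaf (0, 0)) (.leaf (4, 1707))) (.node (.leaf (0, 0)) (.leaf (59, 1431))))) (.node (.node (.node (.leaf (1, 202)) (.leaf (17, 595))) (.node (.leaf (0, 0)) (.leaf (1, 1738)))) (.node (.node (.leaf (0, 0)) (.leaf (59, 158))) (.node (.leaf (59, 832)) (.leaf (59, 2093))))))) (.node (.node (.node (.node (.node (.node (.leaf (0, 0)) (.leaf (59, 292))) (.leaf (59, 825))) (.node (.leaf (0, 0)) (.leaf (58, 110)))) (.node (.node (.leaf (0, 0)) (.leaf (59, 1321))) (.node (.leaf (0, 0)) (.leaf (54, 706))))) (.node (.node (.node (.leaf (0, 0)) (.leaf (45, 136))) (.node (.leaf (59, 66)) (.leaf (1, 1706)))) (.node (.node (.leaf (0, 0)) (.leaf (0, 0))) (.node (.leaf (55, 1776)) (.leaf (1, 1962)))))) (.node (.node (.node (.node (.node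 (.leaf (0, 0)) (.leaf (54, 887))) (.leaf (0, 0))) (.node (.leaf (32, 1768)) (.leaf (57, 1787)))) (.node (.node (.leaf (0, 0)) (.leaf (59, 1703))) (.node (.leaf (0, 0)) (.leaf (59, 2166))))) (.node (.node (.node (.leaf (0, 0)) (.leaf (55, 1727))) (.node (.leaf (57, 2005)) (.leaf (1, 1770)))) (.node (.node (.leaf (49, 919)) (.leaf (1, 1514))) (.node (.leaf (53, 735)) (.leaf (59, 572)))))))) (.node (.node (.node (.node (.node (.node (.node (.leaf (0, 0)) (.leaf (54, 1227))) (.leaf (58, 898))) (.node (.leaf (0, 0)) (.leaf (57, 1496)))) (.node (.node (.leaf (0, 0)) (.leaf (59, 1913))) (.node (.leaf (0, 0)) (.leaf (55, 416))))) (.node (.node (.node (.leaf (1, 154)) (.leaf (59, 1033))) (.node (.leaf (59, 2167)) (.leaf (53, 11)))) (.node (.node (.leaf (19, 957)) (.leaf (58, 1886))) (.node (.leaf (59, 1463)) (.leaf (58, 2086)))))) (.node (.node (.node (.node (.node (.leaf (0, 0)) (.leaf (18, 854))) (.leaf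 (0, 0))) (.node (.leaf (57, 601)) (.leaf (58, 1584)))) (.node (.node (.leaf (52, 235)) (.leaf (58, 2186))) (.node (.leaf (22, 209)) (.leaf (58, 1912))))) (.node (.node (.node (.leaf (0, 0)) (.leaf (59, 1047))) (.node (.leaf (59, 983)) (.leaf (59, 1684)))) (.node (.node (.leaf (0, 0)) (.leaf (0, 0))) (.node (.leaf (34, 103)) (.leaf (56, 369))))))) (.node (.node (.node (.node (.node (.node (.leaf (0, 0)) (.leaf (58, 577))) (.leaf (48, 115))) (.node (.leaf (0, 0)) (.leaf (59, 1593)))) (.node (.node (.leaf (22, 1549)) (.leaf (50, 2142))) (.node (.leaf (51, 160)) (.leaf (32, 595))))) (.node (.node (.node (.leaf (59, 584)) (.leaf (25, 1388))) (.node (.leaf (41, 2023)) (.leaf (0, 0)))) (.node (.node (.leaf (53, 131)) (.leaf (1, 1981))) (.node (.leaf (58, 1103)) (.leaf (55, 854)))))) (.node (.node (.node (.node (.node (.leaf (0, 0)) (.leaf (58, 669))) (.leaf (1, 1146))) (.node (.leaf (56, 633)) (.leaf (56,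 305)))) (.node (.node (.leaf (53, 972)) (.leaf (34, 2070))) (.node (.leaf (0, 0)) (.leaf (59, 1732))))) (.node (.node (.node (.leaf (58, 181)) (.leaf (54, 1217))) (.node (.leaf (0, 0)) (.leaf (59, 1761)))) (.node (.node (.leaf (0, 0)) (.leaf (58, 158))) (.node (.leaf (1, 1990)) (.leaf (59, 615)))))))))) (.node (.node (.node (.node (.node (.node (.node (.node (.node (.leaf (0, 0)) (.leaf (59, 577))) (.leaf (58, 1382))) (.node (.leaf (0, 0)) (.leaf (34, 558)))) (.node (.node (.leaf (53, 76)) (.leaf (58, 1298))) (.node (.leaf (0, 0)) (.leaf (57, 1797))))) (.node (.node (.node (.node (.leaf (41, 762)) (.leaf (59, 883))) (.leaf (58, 1004))) (.node (.leaf (58, 598)) (.leaf (58, 89)))) (.node (.node (.leaf (0, 0)) (.leaf (53, 895))) (.node (.leaf (0, 0)) (.leaf (54, 457)))))) (.node (.node (.node (.node (.node (.leaf (48, 1457)) (.leaf (59, 744))) (.leaf (56, 1678))) (.node (.leaf (1, 582)) (.leaf (45,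 1469)))) (.node (.node (.leaf (58, 2080)) (.leaf (59, 925))) (.node (.leaf (57, 837)) (.leaf (1, 1862))))) (.node (.node (.node (.leaf (59, 401)) (.leaf (59, 779))) (.node (.leaf (13, 708)) (.leaf (1, 1734)))) (.node (.node (.leaf (58, 1195)) (.leaf (59, 1899))) (.node (.leaf (59, 965)) (.leaf (53, 1018))))))) (.node (.node (.node (.node (.node (.node (.leaf (0, 0)) (.leaf (57, 2083))) (.leaf (0, 0))) (.node (.leaf (1, 1218)) (.leaf (20, 1320)))) (.node (.node (.leaf (0, 0)) (.leaf (59, 2186))) (.node (.leaf (58, 43)) (.leaf (53, 1695))))) (.node (.node (.node (.leaf (59, 213)) (.leaf (0, 0))) (.node (.leaf (54, 7)) (.leaf (0, 0)))) (.node (.node (.leaf (58, 1141)) (.leaf (57, 90))) (.node (.leaf (59, 45)) (.leaf (4, 1968)))))) (.node (.node (.node (.node (.node (.leaf (0, 0)) (.leaf (1, 2150))) (.leaf (59, 154))) (.node (.leaf (54, 1013)) (.leaf (27, 1959)))) (.node (.node (.leaf (1, 358)) (.leaf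 (18, 1571))) (.node (.leaf (1, 870)) (.leaf (59, 700))))) (.node (.node (.node (.leaf (56, 226)) (.leaf (59, 1312))) (.node (.leaf (57, 1081)) (.leaf (59, 2009)))) (.node (.node (.leaf (33, 1198)) (.leaf (0, 0))) (.node (.leaf (0, 0)) (.leaf (36, 775)))))))) (.node (.node (.node (.node (.node (.node (.node (.leaf (0, 0)) (.leaf (53, 558))) (.leaf (53, 483))) (.node (.leaf (58, 1980)) (.leaf (1, 1558)))) (.node (.node (.leaf (0, 0)) (.leaf (59, 1876))) (.node (.leaf (0, 0)) (.leaf (50, 2144))))) (.node (.node (.node (.node (.leaf (0, 0)) (.leaf (45, 1691))) (.leaf (34, 1691))) (.node (.leaf (59, 310)) (.leaf (59, 1505)))) (.node (.node (.leaf (0, 0)) (.leaf (59, 1484))) (.node (.leaf (0, 0)) (.leaf (0, 0)))))) (.node (.node (.node (.node (.node (.leaf (0, 0)) (.leaf (49, 836))) (.leaf (16, 136))) (.node (.leaf (12, 1226)) (.leaf (1, 1622)))) (.node (.node (.leaf (0, 0)) (.leaf (55, 1740))) (.node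 (.leaf (1, 2138)) (.leaf (32, 912))))) (.node (.node (.node (.leaf (41, 1356)) (.leaf (59, 905))) (.node (.leaf (57, 688)) (.leaf (59, 1756)))) (.node (.node (.leaf (0, 0)) (.leaf (54, 350))) (.node (.leaf (0, 0)) (.leaf (59, 326))))))) (.node (.node (.node (.node (.node (.node (.leaf (1, 54)) (.leaf (59, 921))) (.leaf (58, 1015))) (.node (.leaf (41, 54)) (.leaf (43, 124)))) (.node (.node (.leaf (50, 876)) (.leaf (1, 1334))) (.node (.leaf (59, 789)) (.leaf (12, 105))))) (.node (.node (.node (.leaf (0, 0)) (.leaf (1, 1206))) (.node (.leaf (1, 694)) (.leaf (55, 449)))) (.node (.node (.leaf (0, 0)) (.leaf (58, 1871))) (.node (.leaf (32, 113)) (.leaf (59, 614)))))) (.node (.node (.node (.node (.node (.leaf (0, 0)) (.leaf (57, 435))) (.leaf (59, 1736))) (.node (.leaf (57, 455)) (.leaf (1, 1654)))) (.node (.node (.leaf (0, 0)) (.leaf (59, 62))) (.node (.leaf (0, 0)) (.leaf (59, 1466))))) (.node (.node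 (.node (.leaf (0, 0)) (.leaf (58, 1783))) (.node (.leaf (4, 321)) (.leaf (59, 1626)))) (.node (.node (.leaf (59, 644)) (.leaf (59, 1929))) (.node (.leaf (0, 0)) (.leaf (53, 1216))))))))) (.node (.node (.node (.node (.node (.node (.node (.node (.leaf (0, 0)) (.leaf (48, 1400))) (.leaf (59, 1526))) (.node (.leaf (0, 0)) (.leaf (58, 1549)))) (.node (.node (.leaf (16, 66)) (.leaf (54, 2179))) (.node (.leaf (1, 782)) (.leaf (59, 1554))))) (.node (.node (.node (.node (.leaf (0, 0)) (.leaf (10, 0))) (.leaf (59, 1651))) (.node (.leaf (58, 506)) (.leaf (58, 1641)))) (.node (.node (.leaf (0, 0)) (.leaf (0, 0))) (.node (.leaf (0, 0)) (.leaf (41, 758)))))) (.node (.node (.node (.node (.node (.leaf (0, 0)) (.leaf (59, 856))) (.leaf (51, 1408))) (.node (.leaf (1, 1329)) (.leaf (55, 442)))) (.node (.node (.leaf (1, 334)) (.leaf (59, 1054))) (.node (.leaf (0, 0)) (.leaf (42, 80))))) (.node (.node (.node (.leaf (58,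 1524)) (.leaf (53, 1012))) (.node (.leaf (58, 679)) (.leaf (56, 1741)))) (.node (.node (.leaf (0, 0)) (.leaf (33, 753))) (.node (.leaf (0, 0)) (.leaf (1, 1998))))))) (.node (.node (.node (.node (.node (.node (.leaf (0, 0)) (.leaf (54, 2075))) (.leaf (58, 821))) (.node (.leaf (32, 792)) (.leaf (58, 1572)))) (.node (.node (.leaf (0, 0)) (.leaf (51, 200))) (.node (.leaf (0, 0)) (.leaf (59, 2079))))) (.node (.node (.node (.leaf (0, 0)) (.leaf (36, 353))) (.node (.leaf (59, 1305)) (.leaf (1, 1710)))) (.node (.node (.leaf (29, 2146)) (.leaf (32, 278))) (.node (.leaf (38, 349)) (.leaf (50, 1647)))))) (.node (.node (.node (.node (.node (.leaf (0, 0)) (.leaf (1, 2158))) (.leaf (52, 442))) (.node (.leaf (56, 614)) (.leaf (36, 371)))) (.node (.node (.leaf (29, 366)) (.leaf (52, 702))) (.node (.leaf (34, 737)) (.leaf (59, 2074))))) (.node (.node (.node (.leaf (0, 0)) (.leaf (59, 68))) (.node (.leaf (59, 278))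 (.leaf (57, 1572)))) (.node (.node (.leaf (58, 2019)) (.leaf (59, 1556))) (.node (.leaf (4, 1262)) (.leaf (59, 1048)))))))) (.node (.node (.node (.node (.node (.node (.node (.leaf (0, 0)) (.leaf (57, 2173))) (.leaf (9, 113))) (.node (.leaf (1, 542)) (.leaf (53, 1982)))) (.node (.node (.leaf (0, 0)) (.leaf (58, 1093))) (.node (.leaf (0, 0)) (.leaf (1, 1822))))) (.node (.node (.node (.leaf (0, 0)) (.leaf (57, 1342))) (.node (.leaf (17, 224)) (.leaf (56, 1623)))) (.node (.node (.leaf (0, 0)) (.leaf (1, 1438))) (.node (.leaf (48, 1701)) (.leaf (0, 0)))))) (.node (.node (.node (.node (.node (.leaf (0, 0)) (.leaf (19, 852))) (.leaf (29, 1131))) (.node (.leaf (56, 2160)) (.leaf (33, 39)))) (.node (.node (.leaf (0, 0)) (.leaf (59, 1250))) (.node (.leaf (0, 0)) (.leaf (59, 1639))))) (.node (.node (.node (.leaf (0, 0)) (.leaf (59, 1108))) (.node (.leaf (53, 85)) (.leaf (54, 1889)))) (.node (.node (.leaf (0,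 0)) (.leaf (57, 222))) (.node (.leaf (1, 990)) (.leaf (53, 1429))))))) (.node (.node (.node (.node (.node (.node (.leaf (0, 0)) (.leaf (9, 1429))) (.leaf (59, 1258))) (.node (.leaf (0, 0)) (.leaf (50, 44)))) (.node (.node (.leaf (0, 0)) (.leaf (57, 1293))) (.node (.leaf (59, 189)) (.leaf (51, 223))))) (.node (.node (.node (.leaf (0, 0)) (.leaf (58, 1677))) (.node (.leaf (55, 675)) (.leaf (34, 486)))) (.node (.node (.leaf (0, 0)) (.leaf (48, 440))) (.node (.leaf (59, 762)) (.leaf (1, 1982)))))) (.node (.node (.node (.node (.node (.leaf (0, 0)) (.leaf (1, 2174))) (.leaf (0, 0))) (.node (.leaf (52, 137)) (.leaf (59, 329)))) (.node (.node (.leaf (1, 382)) (.leaf (0, 0))) (.node (.leaf (59, 1053)) (.leaf (59, 1470))))) (.node (.node (.node (.leaf (57, 1605)) (.leaf (28, 195))) (.node (.leaf (0, 0)) (.leaf (31, 1919)))) (.node (.node (.leaf (57, 377)) (.leaf (0, 0))) (.node (.leaf (59, 1686)) (.leaf (27,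 122))))))))))))

def threeVia2 : Janko.Tree (ℕ × ℕ) :=
  (.node (.node (.node (.node (.node (.node (.node (.node (.node (.node (.node (.leaf (0, 0)) (.leaf (59, 359))) (.leaf (59, 1089))) (.node (.leaf (0, 0)) (.leaf (51, 1021)))) (.node (.node (.leaf (59, 1013)) (.leaf (14, 172))) (.node (.leaf (0, 0)) (.leaf (58, 928))))) (.node (.node (.node (.node (.leaf (0, 0)) (.leaf (59, 750))) (.leaf (58, 991))) (.node (.leaf (54, 1645)) (.leaf (32, 2000)))) (.node (.node (.leaf (57, 794)) (.leaf (58, 966))) (.node (.leaf (37, 1379)) (.leaf (47, 2142)))))) (.node (.node (.node (.node (.node (.leaf (0, 0)) (.leaf (56, 1337))) (.leaf (57, 1741))) (.node (.leaf (15, 279)) (.leaf (58, 161)))) (.node (.node (.leaf (0, 0)) (.leaf (56, 1512))) (.node (.leaf (0, 0)) (.leaf (53, 89))))) (.node (.node (.node (.leaf (0, 0)) (.leaf (2, 1991))) (.node (.leaf (56, 1038)) (.leaf (59, 1901)))) (.node (.node (.leaf (0, 0))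 (.leaf (47, 1481))) (.node (.leaf (0, 0)) (.leaf (59, 1615))))))) (.node (.node (.node (.node (.node (.node (.leaf (0, 0)) (.leaf (58, 84))) (.leaf (59, 826))) (.node (.leaf (0, 0)) (.leaf (57, 288)))) (.node (.node (.leaf (21, 286)) (.leaf (56, 1553))) (.node (.leaf (0, 0)) (.leaf (54, 1632))))) (.node (.node (.node (.leaf (44, 1297)) (.leaf (57, 1773))) (.node (.leaf (14, 1168)) (.leaf (52, 202)))) (.node (.node (.leaf (0, 0)) (.leaf (58, 1349))) (.node (.leaf (54, 2080)) (.leaf (58, 396)))))) (.node (.node (.node (.node (.node (.leaf (0, 0)) (.leaf (58, 1455))) (.leaf (55, 432))) (.node (.leaf (53, 1158)) (.leaf (59, 260)))) (.node (.node (.leaf (2, 1797)) (.leaf (59, 1950))) (.node (.leaf (0, 0)) (.leaf (2, 1977))))) (.node (.node (.node (.leaf (0, 0)) (.leaf (53, 1878))) (.node (.leaf (53, 338)) (.leaf (50, 1937)))) (.node (.node (.leaf (57, 37)) (.leaf (54, 1004))) (.node (.leaf (59, 989))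 (.leaf (54, 1860)))))))) (.node (.node (.node (.node (.node (.node (.node (.leaf (0, 0)) (.leaf (59, 1897))) (.leaf (38, 1813))) (.node (.leaf (15, 172)) (.leaf (58, 1540)))) (.node (.node (.leaf (30, 321)) (.leaf (57, 588))) (.node (.leaf (0, 0)) (.leaf (55, 886))))) (.node (.node (.node (.node (.leaf (0, 0)) (.leaf (22, 1569))) (.leaf (2, 1580))) (.node (.leaf (58, 1476)) (.leaf (59, 36)))) (.node (.node (.leaf (15, 131)) (.leaf (59, 1391))) (.node (.leaf (36, 9)) (.leaf (8, 1332)))))) (.node (.node (.node (.node (.node (.leaf (0, 0)) (.leaf (59, 103))) (.leaf (21, 34))) (.node (.leaf (59, 1633)) (.leaf (59, 173)))) (.node (.node (.leaf (0, 0)) (.leaf (8, 1405))) (.node (.leaf (0, 0)) (.leaf (53, 1837))))) (.node (.node (.node (.leaf (0, 0)) (.leaf (36, 44))) (.node (.leaf (15, 1880)) (.leaf (53, 110)))) (.node (.node (.leaf (59, 678)) (.leaf (2, 1488))) (.node (.leaf (2, 2024)) (.leaf (0, 0)))))))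 (.node (.node (.node (.node (.node (.node (.leaf (0, 0)) (.leaf (2, 2096))) (.leaf (2, 1597))) (.node (.leaf (52, 914)) (.leaf (8, 1038)))) (.node (.node (.leaf (0, 0)) (.leaf (59, 2065))) (.node (.leaf (0, 0)) (.leaf (2, 1840))))) (.node (.node (.node (.leaf (0, 0)) (.leaf (24, 457))) (.node (.leaf (0, 0)) (.leaf (59, 42)))) (.node (.node (.leaf (58, 1682)) (.leaf (59, 1863))) (.node (.leaf (0, 0)) (.leaf (54, 2102)))))) (.node (.node (.node (.node (.node (.leaf (0, 0)) (.leaf (57, 126))) (.leaf (58, 1242))) (.node (.leaf (23, 400)) (.leaf (52, 475)))) (.node (.node (.leaf (2, 1852)) (.leaf (58, 1184))) (.node (.leaf (0, 0)) (.leaf (59, 908))))) (.node (.node (.node (.leaf (59, 1181)) (.leaf (9, 42))) (.node (.leaf (51, 1754)) (.leaf (59, 2172)))) (.node (.node (.leaf (31, 940)) (.leaf (55, 758))) (.node (.leaf (2, 1008)) (.leaf (2, 2032))))))))) (.node (.node (.node (.node (.node (.node (.node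 (.node (.leaf (0, 0)) (.leaf (59, 219))) (.leaf (0, 0))) (.node (.leaf (59, 1591)) (.leaf (0, 0)))) (.node (.node (.leaf (53, 220)) (.leaf (59, 2164))) (.node (.leaf (0, 0)) (.leaf (59, 1292))))) (.node (.node (.node (.node (.leaf (53, 141)) (.leaf (9, 767))) (.leaf (0, 0))) (.node (.leaf (59, 1667)) (.leaf (14, 399)))) (.node (.node (.leaf (0, 0)) (.leaf (58, 87))) (.node (.leaf (51, 1491)) (.leaf (58, 951)))))) (.node (.node (.node (.node (.node (.leaf (0, 0)) (.leaf (44, 106))) (.leaf (49, 792))) (.node (.leaf (30, 852)) (.leaf (21, 1606)))) (.node (.node (.leaf (0, 0)) (.leaf (2, 1352))) (.node (.leaf (54, 338)) (.leaf (58, 163))))) (.node (.node (.node (.leaf (0, 0)) (.leaf (59, 2121))) (.node (.leaf (57, 1232)) (.leaf (2, 1736)))) (.node (.node (.leaf (0, 0)) (.leaf (2, 1480))) (.node (.leaf (58, 398)) (.leaf (59, 2051))))))) (.node (.node (.node (.node (.node (.node (.leaf (0, 0)) (.leaf (54,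 2058))) (.leaf (55, 462))) (.node (.leaf (54, 702)) (.leaf (57, 323)))) (.node (.node (.leaf (0, 0)) (.leaf (41, 14))) (.node (.leaf (53, 36)) (.leaf (54, 51))))) (.node (.node (.node (.leaf (0, 0)) (.leaf (59, 1951))) (.node (.leaf (55, 1204)) (.leaf (58, 1032)))) (.node (.node (.leaf (54, 487)) (.leaf (50, 1873))) (.node (.leaf (2, 936)) (.leaf (41, 1880)))))) (.node (.node (.node (.node (.node (.leaf (0, 0)) (.leaf (53, 371))) (.leaf (59, 2064))) (.node (.leaf (2, 616)) (.leaf (55, 900)))) (.node (.node (.leaf (58, 1785)) (.leaf (59, 1341))) (.node (.leaf (0, 0)) (.leaf (53, 1504))))) (.node (.node (.node (.leaf (2, 232)) (.leaf (59, 663))) (.node (.leaf (57, 41)) (.leaf (0, 0)))) (.node (.node (.leaf (0, 0)) (.leaf (59, 1790))) (.node (.leaf (2, 1000)) (.leaf (57, 2172)))))))) (.node (.node (.node (.node (.node (.node (.node (.leaf (31, 84)) (.leaf (28, 1515))) (.leaf (57, 231))) (.node (.leaf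 (47, 2087)) (.leaf (54, 1089)))) (.node (.node (.leaf (0, 0)) (.leaf (59, 274))) (.node (.leaf (0, 0)) (.leaf (59, 147))))) (.node (.node (.node (.node (.leaf (0, 0)) (.leaf (54, 6))) (.leaf (58, 1994))) (.node (.leaf (52, 1296)) (.leaf (0, 0)))) (.node (.node (.leaf (59, 1541)) (.leaf (20, 734))) (.node (.leaf (59, 900)) (.leaf (52, 951)))))) (.node (.node (.node (.node (.node (.leaf (0, 0)) (.leaf (59, 1905))) (.leaf (54, 2104))) (.node (.leaf (2, 1320)) (.leaf (56, 2055)))) (.node (.node (.leaf (21, 282)) (.leaf (57, 1535))) (.node (.leaf (54, 14)) (.leaf (36, 1002))))) (.node (.node (.node (.leaf (0, 0)) (.leaf (59, 2129))) (.node (.leaf (58, 1733)) (.leaf (2, 1752)))) (.node (.node (.leaf (59, 1784)) (.leaf (59, 785))) (.node (.leaf (59, 1970)) (.leaf (58, 277))))))) (.node (.node (.node (.node (.node (.node (.leaf (0, 0)) (.leaf (49, 2102))) (.leaf (30, 262))) (.node (.leaf (55, 1311)) (.leaf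 (59, 1434)))) (.node (.node (.leaf (59, 2044)) (.leaf (59, 1333))) (.node (.leaf (0, 0)) (.leaf (59, 1339))))) (.node (.node (.node (.leaf (0, 0)) (.leaf (57, 1673))) (.node (.leaf (59, 1903)) (.leaf (42, 769)))) (.node (.node (.leaf (57, 31)) (.leaf (53, 226))) (.node (.leaf (2, 1764)) (.leaf (28, 1552)))))) (.node (.node (.node (.node (.node (.leaf (0, 0)) (.leaf (9, 330))) (.leaf (59, 1941))) (.node (.leaf (38, 558)) (.leaf (59, 840)))) (.node (.node (.leaf (0, 0)) (.leaf (56, 1432))) (.node (.leaf (31, 92)) (.leaf (41, 743))))) (.node (.node (.node (.leaf (55, 68)) (.leaf (41, 28))) (.node (.leaf (0, 0)) (.leaf (59, 851)))) (.node (.node (.leaf (53, 274)) (.leaf (59, 774))) (.node (.leaf (0, 0)) (.leaf (52, 734)))))))))) (.node (.node (.node (.node (.node (.node (.node (.node (.node (.leaf (0, 0)) (.leaf (58, 1908))) (.leaf (0, 0))) (.node (.leaf (54, 1415)) (.leaf (8, 2082)))) (.node (.node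 (.leaf (59, 956)) (.leaf (52, 1542))) (.node (.leaf (36, 316)) (.leaf (58, 1160))))) (.node (.node (.node (.node (.leaf (59, 794)) (.leaf (57, 1768))) (.leaf (59, 373))) (.node (.leaf (15, 878)) (.leaf (59, 1239)))) (.node (.node (.leaf (0, 0)) (.leaf (7, 38))) (.node (.leaf (2, 900)) (.leaf (47, 441)))))) (.node (.node (.node (.node (.node (.leaf (2, 685)) (.leaf (59, 2165))) (.leaf (53, 1058))) (.node (.leaf (59, 1458)) (.leaf (59, 1444)))) (.node (.node (.leaf (0, 0)) (.leaf (56, 261))) (.node (.leaf (0, 0)) (.leaf (2, 1860))))) (.node (.node (.node (.leaf (0, 0)) (.leaf (59, 338))) (.node (.leaf (55, 1598)) (.leaf (23, 617)))) (.node (.node (.leaf (2, 452)) (.leaf (58, 1409))) (.node (.leaf (0, 0)) (.leaf (53, 828))))))) (.node (.node (.node (.node (.node (.node (.leaf (0, 0)) (.leaf (42, 1427))) (.leaf (0, 0))) (.node (.leaf (53, 690)) (.leaf (53, 1825)))) (.node (.node (.leaf (0, 0)) (.leaf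 (12, 172))) (.node (.leaf (55, 2070)) (.leaf (58, 1553))))) (.node (.node (.node (.leaf (21, 102)) (.leaf (59, 601))) (.node (.leaf (54, 677)) (.leaf (59, 977)))) (.node (.node (.leaf (55, 1802)) (.leaf (0, 0))) (.node (.leaf (58, 1244)) (.leaf (57, 210)))))) (.node (.node (.node (.node (.node (.leaf (0, 0)) (.leaf (24, 46))) (.leaf (59, 2170))) (.node (.leaf (7, 106)) (.leaf (59, 806)))) (.node (.node (.leaf (0, 0)) (.leaf (56, 1850))) (.node (.leaf (52, 1320)) (.leaf (59, 1224))))) (.node (.node (.node (.leaf (59, 1024)) (.leaf (59, 477))) (.node (.leaf (54, 1770)) (.leaf (41, 26)))) (.node (.node (.leaf (57, 1006)) (.leaf (56, 323))) (.node (.leaf (22, 1052)) (.leaf (50, 5)))))))) (.node (.node (.node (.node (.node (.node (.node (.leaf (0, 0)) (.leaf (52, 1023))) (.leaf (59, 593))) (.node (.leaf (54, 109)) (.leaf (52, 2028)))) (.node (.node (.leaf (0, 0)) (.leaf (51, 2152))) (.node (.leaf (0,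 0)) (.leaf (53, 2142))))) (.node (.node (.node (.node (.leaf (0, 0)) (.leaf (38, 898))) (.leaf (59, 710))) (.node (.leaf (52, 2155)) (.leaf (59, 1721)))) (.node (.node (.leaf (0, 0)) (.leaf (31, 9))) (.node (.leaf (58, 652)) (.leaf (57, 1118)))))) (.node (.node (.node (.node (.node (.leaf (0, 0)) (.leaf (58, 113))) (.leaf (2, 1108))) (.node (.leaf (0, 0)) (.leaf (59, 1826)))) (.node (.node (.leaf (53, 411)) (.leaf (59, 1955))) (.node (.leaf (0, 0)) (.leaf (44, 2139))))) (.node (.node (.node (.leaf (0, 0)) (.leaf (59, 1111))) (.node (.leaf (58, 1506)) (.leaf (54, 780)))) (.node (.node (.leaf (59, 1584)) (.leaf (53, 652))) (.node (.leaf (8, 164)) (.leaf (59, 1860))))))) (.node (.node (.node (.node (.node (.node (.leaf (0, 0)) (.leaf (56, 1351))) (.leaf (59, 848))) (.node (.leaf (0, 0)) (.leaf (58, 882)))) (.node (.node (.leaf (0, 0)) (.leaf (12, 567))) (.node (.leaf (12, 83)) (.leaf (58, 1452)))))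 (.node (.node (.node (.leaf (53, 1578)) (.leaf (58, 1109))) (.node (.leaf (59, 1689)) (.leaf (2, 1716)))) (.node (.node (.leaf (54, 1715)) (.leaf (0, 0))) (.node (.leaf (0, 0)) (.leaf (59, 578)))))) (.node (.node (.node (.node (.node (.leaf (0, 0)) (.leaf (59, 2101))) (.leaf (7, 283))) (.node (.leaf (59, 1910)) (.leaf (23, 2132)))) (.node (.node (.leaf (0, 0)) (.leaf (58, 486))) (.node (.leaf (0, 0)) (.leaf (2, 1908))))) (.node (.node (.node (.leaf (53, 1948)) (.leaf (24, 510))) (.node (.leaf (0, 0)) (.leaf (53, 1831)))) (.node (.node (.leaf (55, 1921)) (.leaf (0, 0))) (.node (.leaf (0, 0)) (.leaf (59, 1979))))))))) (.node (.node (.node (.node (.node (.node (.node (.node (.leaf (0, 0)) (.leaf (54, 1919))) (.leaf (0, 0))) (.node (.leaf (0, 0)) (.leaf (57, 2032)))) (.node (.node (.leaf (0, 0)) (.leaf (59, 1334))) (.node (.leaf (0, 0)) (.leaf (49, 736))))) (.node (.node (.node (.node (.leaf (0, 0))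 (.leaf (6, 0))) (.leaf (59, 1037))) (.node (.leaf (58, 213)) (.leaf (58, 849)))) (.node (.node (.leaf (0, 0)) (.leaf (58, 1021))) (.node (.leaf (59, 2149)) (.leaf (57, 474)))))) (.node (.node (.node (.node (.node (.leaf (2, 633)) (.leaf (51, 1572))) (.leaf (54, 2165))) (.node (.leaf (9, 566)) (.leaf (59, 968)))) (.node (.node (.leaf (0, 0)) (.leaf (57, 1451))) (.node (.leaf (51, 1990)) (.leaf (24, 1020))))) (.node (.node (.node (.leaf (54, 1106)) (.leaf (50, 155))) (.node (.leaf (53, 291)) (.leaf (59, 81)))) (.node (.node (.leaf (59, 702)) (.leaf (58, 1174))) (.node (.leaf (59, 2011)) (.leaf (47, 1272))))))) (.node (.node (.node (.node (.node (.node (.leaf (2, 44)) (.leaf (59, 155))) (.leaf (2, 1068))) (.node (.leaf (0, 0)) (.leaf (24, 284)))) (.node (.node (.leaf (0, 0)) (.leaf (53, 1455))) (.node (.leaf (22, 70)) (.leaf (52, 2077))))) (.node (.node (.node (.leaf (2, 1280)) (.leaf (44, 322))) (.node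 (.leaf (54, 1849)) (.leaf (53, 191)))) (.node (.node (.leaf (54, 558)) (.leaf (57, 941))) (.node (.leaf (32, 758)) (.leaf (52, 0)))))) (.node (.node (.node (.node (.node (.leaf (21, 106)) (.leaf (59, 1849))) (.leaf (59, 290))) (.node (.leaf (0, 0)) (.leaf (59, 938)))) (.node (.node (.leaf (0, 0)) (.leaf (59, 643))) (.node (.leaf (0, 0)) (.leaf (59, 996))))) (.node (.node (.node (.leaf (0, 0)) (.leaf (47, 850))) (.node (.leaf (57, 1141)) (.leaf (2, 2171)))) (.node (.node (.leaf (0, 0)) (.leaf (0, 0))) (.node (.leaf (58, 720)) (.leaf (59, 1677)))))))) (.node (.node (.node (.node (.node (.node (.node (.leaf (0, 0)) (.leaf (53, 2145))) (.leaf (58, 1955))) (.node (.leaf (57, 888)) (.leaf (58, 1498)))) (.node (.node (.leaf (0, 0)) (.leaf (55, 292))) (.node (.leaf (0, 0)) (.leaf (54, 1036))))) (.node (.node (.node (.leaf (0, 0)) (.leaf (59, 683))) (.node (.leaf (59, 651)) (.leaf (53, 2132)))) (.node (.node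 (.leaf (2, 412)) (.leaf (0, 0))) (.node (.leaf (58, 920)) (.leaf (59, 1674)))))) (.node (.node (.node (.node (.node (.leaf (30, 141)) (.leaf (58, 1789))) (.leaf (59, 1114))) (.node (.leaf (59, 180)) (.leaf (24, 2113)))) (.node (.node (.leaf (0, 0)) (.leaf (59, 2162))) (.node (.leaf (2, 860)) (.leaf (59, 1308))))) (.node (.node (.node (.leaf (15, 76)) (.leaf (46, 302))) (.node (.leaf (51, 103)) (.leaf (56, 2001)))) (.node (.node (.leaf (0, 0)) (.leaf (46, 1327))) (.node (.leaf (0, 0)) (.leaf (0, 0))))))) (.node (.node (.node (.node (.node (.node (.leaf (0, 0)) (.leaf (59, 1475))) (.leaf (2, 1084))) (.node (.leaf (0, 0)) (.leaf (59, 1244)))) (.node (.node (.leaf (7, 1429)) (.leaf (59, 1102))) (.node (.leaf (0, 0)) (.leaf (9, 104))))) (.node (.node (.node (.leaf (2, 1335)) (.leaf (58, 343))) (.node (.leaf (59, 237)) (.leaf (49, 2055)))) (.node (.node (.leaf (53, 312)) (.leaf (32, 1690))) (.node (.leaf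 (52, 30)) (.leaf (57, 1571)))))) (.node (.node (.node (.node (.node (.leaf (0, 0)) (.leaf (57, 2082))) (.leaf (59, 1127))) (.node (.leaf (0, 0)) (.leaf (57, 444)))) (.node (.node (.leaf (0, 0)) (.leaf (7, 278))) (.node (.leaf (59, 731)) (.leaf (24, 205))))) (.node (.node (.node (.leaf (59, 227)) (.leaf (55, 682))) (.node (.leaf (0, 0)) (.leaf (53, 337)))) (.node (.node (.leaf (58, 1654)) (.leaf (53, 2001))) (.node (.leaf (0, 0)) (.leaf (59, 1854))))))))))) (.node (.node (.node (.node (.node (.node (.node (.node (.node (.node (.leaf (0, 0)) (.leaf (57, 1638))) (.leaf (59, 666))) (.node (.leaf (23, 880)) (.leaf (30, 415)))) (.node (.node (.leaf (51, 1208)) (.leaf (2, 1282))) (.node (.leaf (21, 769)) (.leaf (57, 425))))) (.node (.node (.node (.node (.leaf (0, 0)) (.leaf (54, 436))) (.leaf (57, 123))) (.node (.leaf (58, 1645)) (.leaf (57, 1982)))) (.node (.node (.leaf (0, 0)) (.leaf (0, 0))) (.node (.leaf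 (59, 441)) (.leaf (7, 769)))))) (.node (.node (.node (.node (.node (.leaf (0, 0)) (.leaf (59, 1722))) (.leaf (52, 933))) (.node (.leaf (9, 762)) (.leaf (57, 2126)))) (.node (.node (.leaf (0, 0)) (.leaf (2, 1346))) (.node (.leaf (0, 0)) (.leaf (24, 1011))))) (.node (.node (.node (.leaf (0, 0)) (.leaf (59, 1289))) (.node (.leaf (42, 881)) (.leaf (58, 1325)))) (.node (.node (.leaf (53, 2112)) (.leaf (59, 1074))) (.node (.leaf (0, 0)) (.leaf (56, 966))))))) (.node (.node (.node (.node (.node (.node (.leaf (0, 0)) (.leaf (41, 277))) (.leaf (59, 1952))) (.node (.leaf (51, 1906)) (.leaf (2, 1570)))) (.node (.node (.leaf (30, 92)) (.leaf (57, 199))) (.node (.leaf (57, 350)) (.leaf (24, 1494))))) (.node (.node (.node (.leaf (0, 0)) (.leaf (46, 387))) (.node (.leaf (24, 1363)) (.leaf (57, 1992)))) (.node (.node (.leaf (54, 362)) (.leaf (0, 0))) (.node (.leaf (53, 774)) (.leaf (59, 1552)))))) (.node (.node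 (.node (.node (.node (.leaf (0, 0)) (.leaf (47, 567))) (.leaf (8, 123))) (.node (.leaf (51, 1728)) (.leaf (14, 1954)))) (.node (.node (.leaf (0, 0)) (.leaf (56, 1696))) (.node (.leaf (59, 2081)) (.leaf (57, 1940))))) (.node (.node (.node (.leaf (59, 1716)) (.leaf (0, 0))) (.node (.leaf (58, 1852)) (.leaf (2, 1762)))) (.node (.node (.leaf (0, 0)) (.leaf (49, 300))) (.node (.leaf (2, 994)) (.leaf (24, 1464)))))))) (.node (.node (.node (.node (.node (.node (.node (.leaf (0, 0)) (.leaf (2, 2066))) (.leaf (0, 0))) (.node (.leaf (58, 1691)) (.leaf (8, 2070)))) (.node (.node (.leaf (12, 50)) (.leaf (11, 1912))) (.node (.leaf (0, 0)) (.leaf (55, 447))))) (.node (.node (.node (.node (.leaf (0, 0)) (.leaf (30, 84))) (.leaf (11, 439))) (.node (.leaf (59, 1485)) (.leaf (59, 873)))) (.node (.node (.leaf (0, 0)) (.leaf (43, 1267))) (.node (.leaf (57, 1722)) (.leaf (58, 2061)))))) (.node (.node (.node (.node (.node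 (.leaf (0, 0)) (.leaf (57, 1209))) (.leaf (50, 1460))) (.node (.leaf (58, 2128)) (.leaf (59, 1172)))) (.node (.node (.leaf (0, 0)) (.leaf (58, 734))) (.node (.leaf (0, 0)) (.leaf (59, 1022))))) (.node (.node (.node (.leaf (0, 0)) (.leaf (59, 661))) (.node (.leaf (59, 1835)) (.leaf (38, 1725)))) (.node (.node (.leaf (58, 1538)) (.leaf (53, 691))) (.node (.leaf (58, 1131)) (.leaf (58, 1687))))))) (.node (.node (.node (.node (.node (.node (.leaf (0, 0)) (.leaf (56, 1379))) (.leaf (59, 2173))) (.node (.leaf (0, 0)) (.leaf (59, 1834)))) (.node (.node (.leaf (0, 0)) (.leaf (59, 14))) (.node (.leaf (36, 816)) (.leaf (56, 1008))))) (.node (.node (.node (.leaf (0, 0)) (.leaf (57, 1922))) (.node (.leaf (54, 518)) (.leaf (53, 1773)))) (.node (.node (.leaf (2, 1104)) (.leaf (53, 94))) (.node (.leaf (0, 0)) (.leaf (50, 1158)))))) (.node (.node (.node (.node (.node (.leaf (0, 0)) (.leaf (57, 1039))) (.leaf (59,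 2171))) (.node (.leaf (24, 49)) (.leaf (58, 1647)))) (.node (.node (.leaf (31, 0)) (.leaf (59, 539))) (.node (.leaf (38, 261)) (.leaf (54, 768))))) (.node (.node (.node (.leaf (58, 240)) (.leaf (57, 1632))) (.node (.leaf (0, 0)) (.leaf (50, 349)))) (.node (.node (.leaf (57, 1213)) (.leaf (59, 1027))) (.node (.leaf (59, 1995)) (.leaf (54, 115))))))))) (.node (.node (.node (.node (.node (.node (.node (.node (.leaf (0, 0)) (.leaf (59, 2008))) (.leaf (59, 2111))) (.node (.leaf (58, 1640)) (.leaf (51, 901)))) (.node (.node (.leaf (56, 288)) (.leaf (59, 2007))) (.node (.leaf (0, 0)) (.leaf (58, 752))))) (.node (.node (.node (.node (.leaf (0, 0)) (.leaf (58, 798))) (.leaf (59, 2083))) (.node (.leaf (58, 1726)) (.leaf (41, 79)))) (.node (.node (.leaf (0, 0)) (.leaf (53, 441))) (.node (.leaf (0, 0)) (.leaf (58, 1118)))))) (.node (.node (.node (.node (.node (.leaf (2, 74)) (.leaf (59, 150))) (.leaf (2, 1672)))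 (.node (.leaf (23, 1332)) (.leaf (59, 1356)))) (.node (.node (.leaf (0, 0)) (.leaf (57, 332))) (.node (.leaf (0, 0)) (.leaf (53, 2160))))) (.node (.node (.node (.leaf (0, 0)) (.leaf (38, 68))) (.node (.leaf (57, 1756)) (.leaf (59, 1248)))) (.node (.node (.leaf (7, 93)) (.leaf (15, 789))) (.node (.leaf (8, 82)) (.leaf (56, 941))))))) (.node (.node (.node (.node (.node (.node (.leaf (0, 0)) (.leaf (49, 2132))) (.leaf (57, 1419))) (.node (.leaf (57, 760)) (.leaf (24, 822)))) (.node (.node (.leaf (0, 0)) (.leaf (59, 1135))) (.node (.leaf (0, 0)) (.leaf (59, 1698))))) (.node (.node (.node (.leaf (2, 170)) (.leaf (43, 2000))) (.node (.leaf (57, 1285)) (.leaf (0, 0)))) (.node (.node (.leaf (53, 388)) (.leaf (58, 1690))) (.node (.leaf (2, 2168)) (.leaf (56, 1166)))))) (.node (.node (.node (.node (.node (.leaf (0, 0)) (.leaf (2, 2154))) (.leaf (41, 1237))) (.node (.leaf (58, 263)) (.leaf (0, 0)))) (.node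 (.node (.leaf (2, 362)) (.leaf (59, 1314))) (.node (.leaf (54, 409)) (.leaf (56, 413))))) (.node (.node (.node (.leaf (15, 1863)) (.leaf (59, 455))) (.node (.leaf (57, 48)) (.leaf (59, 782)))) (.node (.node (.leaf (0, 0)) (.leaf (53, 1520))) (.node (.leaf (0, 0)) (.leaf (59, 410)))))))) (.node (.node (.node (.node (.node (.node (.node (.leaf (0, 0)) (.leaf (59, 194))) (.leaf (58, 910))) (.node (.leaf (58, 1716)) (.leaf (56, 62)))) (.node (.node (.leaf (0, 0)) (.leaf (59, 399))) (.node (.leaf (58, 289)) (.leaf (57, 747))))) (.node (.node (.node (.leaf (0, 0)) (.leaf (59, 332))) (.node (.leaf (59, 2059)) (.leaf (53, 158)))) (.node (.node (.leaf (0, 0)) (.leaf (57, 272))) (.node (.leaf (59, 340)) (.leaf (57, 865)))))) (.node (.node (.node (.node (.node (.leaf (0, 0)) (.leaf (57, 57))) (.leaf (58, 802))) (.node (.leaf (52, 1278)) (.leaf (14, 731)))) (.node (.node (.leaf (0, 0)) (.leaf (58, 410))) (.node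 (.leaf (59, 16)) (.leaf (2, 1882))))) (.node (.node (.node (.leaf (2, 218)) (.leaf (52, 1691))) (.node (.leaf (52, 757)) (.leaf (50, 141)))) (.node (.node (.leaf (32, 316)) (.leaf (0, 0))) (.node (.leaf (11, 103)) (.leaf (58, 237))))))) (.node (.node (.node (.node (.node (.node (.leaf (0, 0)) (.leaf (50, 1138))) (.leaf (59, 898))) (.node (.leaf (0, 0)) (.leaf (59, 1128)))) (.node (.node (.leaf (0, 0)) (.leaf (57, 453))) (.node (.leaf (0, 0)) (.leaf (41, 1674))))) (.node (.node (.node (.leaf (0, 0)) (.leaf (41, 2113))) (.node (.leaf (23, 1382)) (.leaf (58, 911)))) (.node (.node (.leaf (2, 1699)) (.leaf (0, 0))) (.node (.leaf (57, 188)) (.leaf (51, 1755)))))) (.node (.node (.node (.node (.node (.leaf (0, 0)) (.leaf (59, 361))) (.leaf (46, 2096))) (.node (.leaf (52, 908)) (.leaf (59, 924)))) (.node (.node (.leaf (0, 0)) (.leaf (53, 808))) (.node (.leaf (59, 529)) (.leaf (57, 1135))))) (.node (.node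 (.node (.leaf (57, 345)) (.leaf (58, 62))) (.node (.leaf (2, 762)) (.leaf (57, 1022)))) (.node (.node (.leaf (0, 0)) (.leaf (15, 99))) (.node (.leaf (59, 650)) (.leaf (57, 1275)))))))))) (.node (.node (.node (.node (.node (.node (.node (.node (.node (.leaf (0, 0)) (.leaf (51, 22))) (.leaf (54, 1231))) (.node (.leaf (26, 777)) (.leaf (9, 1520)))) (.node (.node (.leaf (2, 1182)) (.leaf (59, 556))) (.node (.leaf (59, 770)) (.leaf (59, 974))))) (.node (.node (.node (.node (.leaf (0, 0)) (.leaf (11, 1607))) (.leaf (56, 1568))) (.node (.leaf (59, 1900)) (.leaf (58, 971)))) (.node (.node (.leaf (0, 0)) (.leaf (54, 1000))) (.node (.leaf (59, 451)) (.leaf (57, 508)))))) (.node (.node (.node (.node (.node (.leaf (0, 0)) (.leaf (59, 1673))) (.leaf (49, 1813))) (.node (.leaf (58, 205)) (.leaf (57, 2012)))) (.node (.node (.leaf (0, 0)) (.leaf (54, 600))) (.node (.leaf (59, 381)) (.leaf (58, 1399))))) (.node (.node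 (.node (.leaf (0, 0)) (.leaf (59, 1015))) (.node (.leaf (32, 1250)) (.leaf (58, 41)))) (.node (.node (.leaf (57, 871)) (.leaf (0, 0))) (.node (.leaf (58, 851)) (.leaf (59, 2102))))))) (.node (.node (.node (.node (.node (.node (.leaf (0, 0)) (.leaf (59, 1772))) (.leaf (58, 874))) (.node (.leaf (59, 1521)) (.leaf (0, 0)))) (.node (.node (.leaf (0, 0)) (.leaf (53, 789))) (.node (.leaf (49, 1717)) (.leaf (52, 81))))) (.node (.node (.node (.leaf (0, 0)) (.leaf (52, 1441))) (.node (.leaf (59, 1449)) (.leaf (53, 1626)))) (.node (.node (.leaf (59, 1536)) (.leaf (0, 0))) (.node (.leaf (59, 1377)) (.leaf (58, 2056)))))) (.node (.node (.node (.node (.node (.leaf (0, 0)) (.leaf (47, 1089))) (.leaf (57, 1626))) (.node (.leaf (59, 1499)) (.leaf (57, 660)))) (.node (.node (.leaf (0, 0)) (.leaf (55, 293))) (.node (.leaf (8, 2028)) (.leaf (2, 1894))))) (.node (.node (.node (.leaf (0, 0)) (.leaf (59, 808))) (.node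 (.leaf (53, 680)) (.leaf (59, 1764)))) (.node (.node (.leaf (59, 1690)) (.leaf (0, 0))) (.node (.leaf (0, 0)) (.leaf (8, 51)))))))) (.node (.node (.node (.node (.node (.node (.node (.leaf (0, 0)) (.leaf (41, 84))) (.leaf (2, 1046))) (.node (.leaf (2, 534)) (.leaf (54, 97)))) (.node (.node (.leaf (0, 0)) (.leaf (59, 739))) (.node (.leaf (59, 560)) (.leaf (58, 817))))) (.node (.node (.node (.node (.leaf (0, 0)) (.leaf (46, 141))) (.leaf (9, 879))) (.node (.leaf (52, 1055)) (.leaf (59, 1298)))) (.node (.node (.leaf (52, 975)) (.leaf (0, 0))) (.node (.leaf (0, 0)) (.leaf (58, 412)))))) (.node (.node (.node (.node (.node (.leaf (0, 0)) (.leaf (2, 2134))) (.leaf (58, 532))) (.node (.leaf (59, 1740)) (.leaf (59, 23)))) (.node (.node (.leaf (0, 0)) (.leaf (56, 92))) (.node (.leaf (54, 335)) (.leaf (53, 187))))) (.node (.node (.node (.leaf (0, 0)) (.leaf (9, 773))) (.node (.leaf (58, 1424)) (.leaf (47, 466))))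 (.node (.node (.leaf (53, 425)) (.leaf (54, 54))) (.node (.leaf (56, 412)) (.leaf (54, 2007))))))) (.node (.node (.node (.node (.node (.node (.leaf (0, 0)) (.leaf (2, 2102))) (.leaf (2, 1078))) (.node (.leaf (43, 1034)) (.leaf (0, 0)))) (.node (.node (.leaf (0, 0)) (.leaf (53, 190))) (.node (.leaf (0, 0)) (.leaf (9, 1572))))) (.node (.node (.node (.leaf (2, 182)) (.leaf (52, 1647))) (.node (.leaf (47, 919)) (.leaf (57, 407)))) (.node (.node (.leaf (51, 1725)) (.leaf (46, 2178))) (.node (.leaf (59, 887)) (.leaf (58, 179)))))) (.node (.node (.node (.node (.node (.leaf (0, 0)) (.leaf (43, 1872))) (.leaf (53, 1535))) (.node (.leaf (59, 1882)) (.leaf (56, 854)))) (.node (.node (.leaf (0, 0)) (.leaf (59, 622))) (.node (.leaf (2, 886)) (.leaf (49, 1427))))) (.node (.node (.node (.leaf (54, 1235)) (.leaf (54, 389))) (.node (.leaf (12, 151)) (.leaf (59, 1442)))) (.node (.node (.leaf (59, 1773)) (.leaf (0,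 0))) (.node (.leaf (57, 219)) (.leaf (59, 1931))))))))) (.node (.node (.node (.node (.node (.node (.node (.node (.leaf (0, 0)) (.leaf (51, 1472))) (.leaf (59, 2124))) (.node (.leaf (2, 526)) (.leaf (0, 0)))) (.node (.node (.leaf (58, 1824)) (.leaf (59, 1303))) (.node (.leaf (59, 12)) (.leaf (59, 1287))))) (.node (.node (.node (.node (.leaf (0, 0)) (.leaf (14, 771))) (.leaf (59, 992))) (.node (.leaf (21, 652)) (.leaf (59, 1243)))) (.node (.node (.leaf (2, 398)) (.leaf (58, 47))) (.node (.leaf (59, 304)) (.leaf (36, 1690)))))) (.node (.node (.node (.node (.node (.leaf (0, 0)) (.leaf (59, 1717))) (.leaf (2, 1102))) (.node (.leaf (0, 0)) (.leaf (52, 1922)))) (.node (.node (.leaf (0, 0)) (.leaf (59, 1374))) (.node (.leaf (59, 565)) (.leaf (51, 2070))))) (.node (.node (.node (.leaf (0, 0)) (.leaf (57, 617))) (.node (.leaf (14, 836)) (.leaf (58, 1398)))) (.node (.node (.leaf (50, 399)) (.leaf (22, 1168)))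 (.node (.leaf (44, 1449)) (.leaf (14, 1715))))))) (.node (.node (.node (.node (.node (.node (.leaf (0, 0)) (.leaf (56, 1693))) (.leaf (14, 131))) (.node (.leaf (59, 1520)) (.leaf (58, 899)))) (.node (.node (.leaf (0, 0)) (.leaf (59, 1032))) (.node (.leaf (0, 0)) (.leaf (58, 1813))))) (.node (.node (.node (.leaf (0, 0)) (.leaf (59, 720))) (.node (.leaf (59, 319)) (.leaf (55, 752)))) (.node (.node (.leaf (24, 2043)) (.leaf (55, 1404))) (.node (.leaf (0, 0)) (.leaf (2, 1966)))))) (.node (.node (.node (.node (.node (.leaf (32, 9)) (.leaf (36, 1989))) (.leaf (2, 1134))) (.node (.leaf (26, 2104)) (.leaf (36, 1406)))) (.node (.node (.leaf (0, 0)) (.leaf (54, 708))) (.node (.leaf (15, 644)) (.leaf (58, 1311))))) (.node (.node (.node (.leaf (46, 952)) (.leaf (0, 0))) (.node (.leaf (50, 65)) (.leaf (20, 612)))) (.node (.node (.leaf (51, 1911)) (.leaf (0, 0))) (.node (.leaf (53, 1690)) (.leaf (14, 789))))))))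 (.node (.node (.node (.node (.node (.node (.node (.leaf (2, 30)) (.leaf (58, 1492))) (.leaf (53, 798))) (.node (.leaf (59, 168)) (.leaf (7, 51)))) (.node (.node (.leaf (0, 0)) (.leaf (59, 2152))) (.node (.leaf (44, 2132)) (.leaf (53, 1637))))) (.node (.node (.node (.leaf (0, 0)) (.leaf (9, 882))) (.node (.leaf (47, 1080)) (.leaf (59, 1623)))) (.node (.node (.leaf (11, 258)) (.leaf (56, 754))) (.node (.leaf (2, 926)) (.leaf (52, 1960)))))) (.node (.node (.node (.node (.node (.leaf (30, 1)) (.leaf (58, 122))) (.leaf (0, 0))) (.node (.leaf (54, 1606)) (.leaf (51, 1345)))) (.node (.node (.leaf (2, 350)) (.leaf (57, 1671))) (.node (.leaf (59, 333)) (.leaf (59, 1840))))) (.node (.node (.node (.leaf (0, 0)) (.leaf (58, 1355))) (.node (.leaf (0, 0)) (.leaf (8, 1966)))) (.node (.node (.leaf (53, 15)) (.leaf (53, 1644))) (.node (.leaf (55, 352)) (.leaf (53, 772))))))) (.node (.node (.node (.node (.node (.node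 (.leaf (0, 0)) (.leaf (8, 888))) (.leaf (59, 1212))) (.node (.leaf (59, 157)) (.leaf (32, 441)))) (.node (.node (.leaf (0, 0)) (.leaf (59, 335))) (.node (.leaf (59, 2030)) (.leaf (56, 2184))))) (.node (.node (.node (.leaf (30, 51)) (.leaf (52, 1))) (.node (.leaf (24, 2065)) (.leaf (59, 1398)))) (.node (.node (.leaf (53, 51)) (.leaf (50, 439))) (.node (.leaf (57, 1481)) (.leaf (36, 279)))))) (.node (.node (.node (.node (.node (.leaf (0, 0)) (.leaf (57, 2077))) (.leaf (53, 1052))) (.node (.leaf (58, 1412)) (.leaf (59, 2176)))) (.node (.node (.leaf (0, 0)) (.leaf (2, 1406))) (.node (.leaf (0, 0)) (.leaf (53, 1458))))) (.node (.node (.node (.leaf (2, 667)) (.leaf (28, 518))) (.node (.leaf (0, 0)) (.leaf (59, 1747)))) (.node (.node (.leaf (50, 441)) (.leaf (52, 1520))) (.node (.leaf (15, 234)) (.leaf (59, 1542))))))))))))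

def threeVia3 : Janko.Tree (ℕ × ℕ) :=
  (.node (.node (.node (.node (.node (.node (.node (.node (.node (.node (.node (.leaf (0, 0)) (.leaf (29, 1507))) (.leaf (34, 355))) (.node (.leaf (52, 201)) (.leaf (52, 330)))) (.node (.node (.leaf (14, 683)) (.leaf (59, 1448))) (.node (.leaf (0, 0)) (.leaf (3, 1792))))) (.node (.node (.node (.node (.leaf (0, 0)) (.leaf (11, 1531))) (.leaf (59, 1760))) (.node (.leaf (58, 1448)) (.leaf (58, 862)))) (.node (.node (.leaf (0, 0)) (.leaf (3, 1408))) (.node (.leaf (58, 1589)) (.leaf (26, 449)))))) (.node (.node (.node (.node (.node (.leaf (0, 0)) (.leaf (59, 990))) (.leaf (14, 878))) (.node (.leaf (34, 1468)) (.leaf (59, 2013)))) (.node (.node (.leaf (3, 320)) (.leaf (47, 2062))) (.node (.leaf (59, 1471)) (.leaf (25, 2053))))) (.node (.node (.node (.leaf (0, 0)) (.leaf (33, 24))) (.node (.leaf (57, 2009)) (.leaf (59, 884)))) (.node (.node (.leaf (0, 0)) (.leaf (0,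 0))) (.node (.leaf (0, 0)) (.leaf (59, 1307))))))) (.node (.node (.node (.node (.node (.node (.leaf (0, 0)) (.leaf (3, 2080))) (.leaf (58, 382))) (.node (.leaf (59, 74)) (.leaf (59, 1192)))) (.node (.node (.leaf (0, 0)) (.leaf (54, 1579))) (.node (.leaf (0, 0)) (.leaf (59, 1003))))) (.node (.node (.node (.leaf (0, 0)) (.leaf (24, 1740))) (.node (.leaf (15, 1036)) (.leaf (34, 477)))) (.node (.node (.leaf (0, 0)) (.leaf (0, 0))) (.node (.leaf (0, 0)) (.leaf (0, 0)))))) (.node (.node (.node (.node (.node (.leaf (0, 0)) (.leaf (59, 1455))) (.leaf (23, 121))) (.node (.leaf (57, 2087)) (.leaf (59, 850)))) (.node (.node (.leaf (0, 0)) (.leaf (59, 1493))) (.node (.leaf (3, 864)) (.leaf (51, 1559))))) (.node (.node (.node (.leaf (23, 1166)) (.leaf (52, 1817))) (.node (.leaf (19, 97)) (.leaf (54, 687)))) (.node (.node (.leaf (59, 912)) (.leaf (52, 1540))) (.node (.leaf (0, 0)) (.leaf (3, 2016)))))))) (.node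 (.node (.node (.node (.node (.node (.node (.leaf (0, 0)) (.leaf (58, 1350))) (.leaf (3, 1040))) (.node (.leaf (24, 48)) (.leaf (57, 768)))) (.node (.node (.leaf (0, 0)) (.leaf (58, 1441))) (.node (.leaf (0, 0)) (.leaf (59, 513))))) (.node (.node (.node (.node (.leaf (0, 0)) (.leaf (11, 0))) (.leaf (23, 225))) (.node (.leaf (59, 1476)) (.leaf (58, 2041)))) (.node (.node (.leaf (11, 1184)) (.leaf (3, 1424))) (.node (.leaf (0, 0)) (.leaf (59, 1953)))))) (.node (.node (.node (.node (.node (.leaf (0, 0)) (.leaf (3, 2186))) (.leaf (59, 1893))) (.node (.leaf (0, 0)) (.leaf (58, 556)))) (.node (.node (.leaf (0, 0)) (.leaf (57, 1341))) (.node (.leaf (59, 1969)) (.leaf (11, 743))))) (.node (.node (.node (.leaf (3, 208)) (.leaf (58, 1543))) (.node (.leaf (3, 720)) (.leaf (59, 437)))) (.node (.node (.leaf (14, 452)) (.leaf (0, 0))) (.node (.leaf (39, 107)) (.leaf (59, 1090))))))) (.node (.node (.node (.node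 (.node (.node (.leaf (3, 48)) (.leaf (15, 1553))) (.leaf (51, 708))) (.node (.leaf (59, 1166)) (.leaf (0, 0)))) (.node (.node (.leaf (16, 790)) (.leaf (59, 538))) (.node (.leaf (0, 0)) (.leaf (58, 739))))) (.node (.node (.node (.leaf (0, 0)) (.leaf (3, 2120))) (.node (.leaf (16, 683)) (.leaf (59, 487)))) (.node (.node (.leaf (48, 127)) (.leaf (58, 529))) (.node (.leaf (58, 1836)) (.leaf (59, 47)))))) (.node (.node (.node (.node (.node (.leaf (14, 286)) (.leaf (58, 1014))) (.leaf (40, 355))) (.node (.leaf (54, 988)) (.leaf (3, 2047)))) (.node (.node (.leaf (0, 0)) (.leaf (34, 1645))) (.node (.leaf (17, 1656)) (.leaf (52, 1195))))) (.node (.node (.node (.leaf (0, 0)) (.leaf (13, 1781))) (.node (.leaf (0, 0)) (.leaf (58, 1143)))) (.node (.node (.leaf (49, 251)) (.leaf (14, 289))) (.node (.leaf (54, 1584)) (.leaf (59, 1180))))))))) (.node (.node (.node (.node (.node (.node (.node (.node (.leaf (0, 0))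 (.leaf (59, 920))) (.leaf (3, 1032))) (.node (.leaf (58, 1700)) (.leaf (14, 302)))) (.node (.node (.leaf (0, 0)) (.leaf (50, 1926))) (.node (.leaf (0, 0)) (.leaf (59, 496))))) (.node (.node (.node (.node (.leaf (3, 842)) (.leaf (58, 1505))) (.leaf (0, 0))) (.node (.leaf (59, 1278)) (.leaf (59, 607)))) (.node (.node (.leaf (34, 1004)) (.leaf (54, 16))) (.node (.leaf (0, 0)) (.leaf (59, 951)))))) (.node (.node (.node (.node (.node (.leaf (0, 0)) (.leaf (16, 710))) (.leaf (3, 1842))) (.node (.leaf (15, 753)) (.leaf (58, 1949)))) (.node (.node (.leaf (0, 0)) (.leaf (59, 460))) (.node (.leaf (0, 0)) (.leaf (15, 720))))) (.node (.node (.node (.leaf (58, 1218)) (.leaf (14, 144))) (.node (.leaf (59, 1543)) (.leaf (58, 2055)))) (.node (.node (.leaf (59, 1251)) (.leaf (57, 1512))) (.node (.leaf (48, 1691)) (.leaf (14, 274))))))) (.node (.node (.node (.node (.node (.node (.leaf (0, 0)) (.leaf (58, 857))) (.leaf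 (59, 677))) (.node (.leaf (0, 0)) (.leaf (58, 2172)))) (.node (.node (.leaf (0, 0)) (.leaf (59, 1641))) (.node (.leaf (0, 0)) (.leaf (42, 103))))) (.node (.node (.node (.leaf (0, 0)) (.leaf (33, 0))) (.node (.leaf (19, 1927)) (.leaf (48, 1990)))) (.node (.node (.leaf (58, 42)) (.leaf (24, 640))) (.node (.leaf (59, 275)) (.leaf (58, 1419)))))) (.node (.node (.node (.node (.node (.leaf (14, 7)) (.leaf (58, 1818))) (.leaf (48, 302))) (.node (.leaf (58, 53)) (.leaf (34, 2172)))) (.node (.node (.leaf (0, 0)) (.leaf (15, 219))) (.node (.leaf (0, 0)) (.leaf (44, 524))))) (.node (.node (.node (.leaf (0, 0)) (.leaf (58, 1812))) (.node (.leaf (52, 777)) (.leaf (17, 15)))) (.node (.node (.leaf (57, 2132)) (.leaf (17, 367))) (.node (.leaf (50, 1955)) (.leaf (3, 2024)))))))) (.node (.node (.node (.node (.node (.node (.node (.leaf (0, 0)) (.leaf (58, 1794))) (.leaf (54, 179))) (.node (.leaf (0, 0)) (.leaf (0,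 0)))) (.node (.node (.leaf (0, 0)) (.leaf (59, 302))) (.node (.leaf (54, 1520)) (.leaf (57, 759))))) (.node (.node (.node (.node (.leaf (3, 1207)) (.leaf (55, 1674))) (.leaf (13, 2138))) (.node (.leaf (0, 0)) (.leaf (16, 90)))) (.node (.node (.leaf (59, 1793)) (.leaf (11, 436))) (.node (.leaf (59, 1681)) (.leaf (59, 1263)))))) (.node (.node (.node (.node (.node (.leaf (0, 0)) (.leaf (58, 1898))) (.leaf (0, 0))) (.node (.leaf (59, 1643)) (.leaf (42, 1379)))) (.node (.node (.leaf (0, 0)) (.leaf (58, 613))) (.node (.leaf (0, 0)) (.leaf (11, 2080))))) (.node (.node (.node (.leaf (0, 0)) (.leaf (54, 1492))) (.node (.leaf (43, 10)) (.leaf (54, 1961)))) (.node (.node (.leaf (58, 1672)) (.leaf (0, 0))) (.node (.leaf (24, 12)) (.leaf (3, 2008))))))) (.node (.node (.node (.node (.node (.node (.leaf (0, 0)) (.leaf (59, 1195))) (.leaf (58, 1418))) (.node (.leaf (11, 952)) (.leaf (59, 730)))) (.node (.node (.leaf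 (0, 0)) (.leaf (59, 1510))) (.node (.leaf (0, 0)) (.leaf (51, 56))))) (.node (.node (.node (.leaf (59, 598)) (.leaf (17, 203))) (.node (.leaf (59, 1187)) (.leaf (58, 2185)))) (.node (.node (.leaf (24, 1636)) (.leaf (0, 0))) (.node (.leaf (0, 0)) (.leaf (3, 1976)))))) (.node (.node (.node (.node (.node (.leaf (0, 0)) (.leaf (54, 1336))) (.leaf (59, 2131))) (.node (.leaf (3, 1326)) (.leaf (3, 1656)))) (.node (.node (.leaf (0, 0)) (.leaf (57, 850))) (.node (.leaf (58, 228)) (.leaf (3, 2164))))) (.node (.node (.node (.leaf (19, 108)) (.leaf (59, 1479))) (.node (.leaf (57, 515)) (.leaf (59, 402)))) (.node (.node (.leaf (59, 1635)) (.leaf (3, 1528))) (.node (.leaf (0, 0)) (.leaf (58, 1610)))))))))) (.node (.node (.node (.node (.node (.node (.node (.node (.node (.leaf (0, 0)) (.leaf (57, 1825))) (.leaf (59, 2127))) (.node (.leaf (0, 0)) (.leaf (17, 284)))) (.node (.node (.leaf (24, 1119)) (.leaf (54, 1894)))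 (.node (.leaf (0, 0)) (.leaf (57, 1182))))) (.node (.node (.node (.node (.leaf (0, 0)) (.leaf (19, 864))) (.leaf (58, 581))) (.node (.leaf (15, 209)) (.leaf (29, 882)))) (.node (.node (.leaf (3, 388)) (.leaf (19, 1203))) (.node (.leaf (0, 0)) (.leaf (49, 1232)))))) (.node (.node (.node (.node (.node (.leaf (0, 0)) (.leaf (3, 2116))) (.leaf (59, 17))) (.node (.leaf (19, 187)) (.leaf (57, 1885)))) (.node (.node (.leaf (0, 0)) (.leaf (59, 2039))) (.node (.leaf (17, 112)) (.leaf (59, 22))))) (.node (.node (.node (.leaf (0, 0)) (.leaf (3, 1454))) (.node (.leaf (48, 652)) (.leaf (58, 904)))) (.node (.node (.leaf (59, 1083)) (.leaf (13, 277))) (.node (.leaf (3, 1707)) (.leaf (35, 1297))))))) (.node (.node (.node (.node (.node (.node (.leaf (0, 0)) (.leaf (14, 1036))) (.leaf (3, 1060))) (.node (.leaf (59, 1420)) (.leaf (0, 0)))) (.node (.node (.leaf (14, 51)) (.leaf (59, 87))) (.node (.leaf (14, 84)) (.leaf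 (19, 1137))))) (.node (.node (.node (.leaf (0, 0)) (.leaf (14, 134))) (.node (.leaf (48, 2106)) (.leaf (59, 935)))) (.node (.node (.leaf (0, 0)) (.leaf (3, 1444))) (.node (.leaf (23, 2026)) (.leaf (42, 273)))))) (.node (.node (.node (.node (.node (.leaf (0, 0)) (.leaf (59, 1770))) (.leaf (14, 758))) (.node (.leaf (59, 1572)) (.leaf (14, 301)))) (.node (.node (.leaf (0, 0)) (.leaf (59, 1614))) (.node (.leaf (0, 0)) (.leaf (59, 305))))) (.node (.node (.node (.leaf (59, 374)) (.leaf (3, 1252))) (.node (.leaf (15, 78)) (.leaf (59, 2049)))) (.node (.node (.leaf (33, 77)) (.leaf (16, 1506))) (.node (.leaf (51, 267)) (.leaf (43, 2171)))))))) (.node (.node (.node (.node (.node (.node (.node (.leaf (3, 20)) (.leaf (52, 5))) (.leaf (59, 1985))) (.node (.leaf (0, 0)) (.leaf (59, 2041)))) (.node (.node (.leaf (0, 0)) (.leaf (59, 697))) (.node (.leaf (17, 187)) (.leaf (57, 990))))) (.node (.node (.node (.node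 (.leaf (0, 0)) (.leaf (39, 384))) (.leaf (59, 1855))) (.node (.leaf (24, 209)) (.leaf (57, 1178)))) (.node (.node (.leaf (24, 32)) (.leaf (58, 837))) (.node (.leaf (0, 0)) (.leaf (14, 769)))))) (.node (.node (.node (.node (.node (.leaf (0, 0)) (.leaf (3, 2132))) (.leaf (34, 2083))) (.node (.leaf (59, 1142)) (.leaf (58, 2017)))) (.node (.node (.leaf (0, 0)) (.leaf (44, 1274))) (.node (.leaf (54, 167)) (.leaf (15, 370))))) (.node (.node (.node (.leaf (34, 567)) (.leaf (3, 1460))) (.node (.leaf (59, 754)) (.leaf (16, 385)))) (.node (.node (.leaf (0, 0)) (.leaf (14, 282))) (.node (.leaf (0, 0)) (.leaf (59, 1813))))))) (.node (.node (.node (.node (.node (.node (.leaf (0, 0)) (.leaf (57, 1621))) (.leaf (57, 311))) (.node (.leaf (59, 1175)) (.leaf (42, 1175)))) (.node (.node (.leaf (0, 0)) (.leaf (11, 660))) (.node (.leaf (0, 0)) (.leaf (57, 1049))))) (.node (.node (.node (.leaf (0, 0)) (.leaf (57, 2142)))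 (.node (.leaf (3, 1388)) (.leaf (47, 2178)))) (.node (.node (.leaf (14, 1120)) (.leaf (14, 473))) (.node (.leaf (3, 948)) (.leaf (54, 1188)))))) (.node (.node (.node (.node (.node (.leaf (0, 0)) (.leaf (19, 427))) (.leaf (59, 2108))) (.node (.leaf (59, 1416)) (.leaf (59, 1006)))) (.node (.node (.leaf (0, 0)) (.leaf (58, 258))) (.node (.leaf (0, 0)) (.leaf (51, 453))))) (.node (.node (.node (.leaf (57, 769)) (.leaf (59, 1781))) (.node (.leaf (0, 0)) (.leaf (59, 684)))) (.node (.node (.leaf (14, 43)) (.leaf (52, 1032))) (.node (.leaf (15, 145)) (.leaf (59, 1874))))))))) (.node (.node (.node (.node (.node (.node (.node (.node (.leaf (0, 0)) (.leaf (10, 1959))) (.leaf (47, 697))) (.node (.leaf (58, 997)) (.leaf (3, 1548)))) (.node (.node (.leaf (0, 0)) (.leaf (3, 1292))) (.node (.leaf (3, 780)) (.leaf (59, 2157))))) (.node (.node (.node (.node (.leaf (3, 140)) (.leaf (7, 0))) (.leaf (3, 1164))) (.node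 (.leaf (23, 212)) (.leaf (59, 514)))) (.node (.node (.leaf (0, 0)) (.leaf (0, 0))) (.node (.leaf (14, 95)) (.leaf (29, 1943)))))) (.node (.node (.node (.node (.node (.leaf (0, 0)) (.leaf (59, 1008))) (.leaf (59, 1429))) (.node (.leaf (3, 588)) (.leaf (59, 870)))) (.node (.node (.leaf (3, 1724)) (.leaf (59, 363))) (.node (.leaf (0, 0)) (.leaf (59, 600))))) (.node (.node (.node (.leaf (0, 0)) (.leaf (59, 1551))) (.node (.leaf (59, 949)) (.leaf (15, 475)))) (.node (.node (.leaf (0, 0)) (.leaf (59, 612))) (.node (.leaf (57, 575)) (.leaf (54, 1135))))))) (.node (.node (.node (.node (.node (.node (.leaf (0, 0)) (.leaf (57, 1543))) (.leaf (54, 99))) (.node (.leaf (54, 1301)) (.leaf (3, 1981)))) (.node (.node (.leaf (0, 0)) (.leaf (57, 559))) (.node (.leaf (0, 0)) (.leaf (15, 282))))) (.node (.node (.node (.leaf (0, 0)) (.leaf (33, 21))) (.node (.leaf (24, 1173)) (.leaf (59, 2179)))) (.node (.node (.leaf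 (19, 288)) (.leaf (3, 1452))) (.node (.leaf (50, 1389)) (.leaf (50, 1004)))))) (.node (.node (.node (.node (.node (.leaf (0, 0)) (.leaf (59, 1059))) (.leaf (52, 1035))) (.node (.leaf (58, 1807)) (.leaf (17, 1377)))) (.node (.node (.leaf (59, 1035)) (.leaf (16, 234))) (.node (.leaf (24, 299)) (.leaf (58, 1368))))) (.node (.node (.node (.leaf (0, 0)) (.leaf (11, 2008))) (.node (.leaf (59, 41)) (.leaf (50, 2028)))) (.node (.node (.leaf (0, 0)) (.leaf (57, 1404))) (.node (.leaf (0, 0)) (.leaf (59, 987)))))))) (.node (.node (.node (.node (.node (.node (.node (.leaf (0, 0)) (.leaf (14, 817))) (.leaf (59, 358))) (.node (.leaf (3, 1836)) (.leaf (3, 1564)))) (.node (.node (.leaf (14, 22)) (.leaf (59, 743))) (.node (.leaf (0, 0)) (.leaf (57, 1262))))) (.node (.node (.node (.leaf (0, 0)) (.leaf (34, 178))) (.node (.leaf (3, 1730)) (.leaf (58, 515)))) (.node (.node (.leaf (0, 0)) (.leaf (3, 1436))) (.node (.leaf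 (59, 1743)) (.leaf (0, 0)))))) (.node (.node (.node (.node (.node (.leaf (0, 0)) (.leaf (59, 1116))) (.leaf (59, 1789))) (.node (.leaf (59, 58)) (.leaf (15, 23)))) (.node (.node (.leaf (0, 0)) (.leaf (59, 1853))) (.node (.leaf (0, 0)) (.leaf (59, 1109))))) (.node (.node (.node (.leaf (15, 413)) (.leaf (19, 12))) (.node (.leaf (57, 702)) (.leaf (3, 1756)))) (.node (.node (.leaf (15, 1109)) (.leaf (14, 79))) (.node (.leaf (59, 1601)) (.leaf (14, 299))))))) (.node (.node (.node (.node (.node (.node (.leaf (0, 0)) (.leaf (58, 1248))) (.leaf (57, 384))) (.node (.leaf (59, 240)) (.leaf (58, 504)))) (.node (.node (.leaf (3, 316)) (.leaf (59, 1605))) (.node (.leaf (0, 0)) (.leaf (59, 1157))))) (.node (.node (.node (.leaf (0, 0)) (.leaf (3, 1966))) (.node (.leaf (24, 1849)) (.leaf (15, 314)))) (.node (.node (.leaf (0, 0)) (.leaf (16, 651))) (.node (.leaf (3, 956)) (.leaf (34, 819)))))) (.node (.node (.node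 (.node (.node (.leaf (16, 353)) (.leaf (59, 122))) (.leaf (59, 216))) (.node (.leaf (34, 191)) (.leaf (59, 1115)))) (.node (.node (.leaf (48, 1911)) (.leaf (58, 2065))) (.node (.leaf (0, 0)) (.leaf (59, 1956))))) (.node (.node (.node (.leaf (54, 460)) (.leaf (59, 1880))) (.node (.leaf (0, 0)) (.leaf (59, 1025)))) (.node (.node (.leaf (0, 0)) (.leaf (59, 1380))) (.node (.leaf (0, 0)) (.leaf (59, 1388))))))))))) (.node (.node (.node (.node (.node (.node (.node (.node (.node (.node (.leaf (0, 0)) (.leaf (59, 805))) (.leaf (3, 2019))) (.node (.leaf (16, 1088)) (.leaf (15, 316)))) (.node (.node (.leaf (15, 7)) (.leaf (59, 307))) (.node (.leaf (0, 0)) (.leaf (57, 1297))))) (.node (.node (.node (.node (.leaf (14, 85)) (.leaf (57, 567))) (.leaf (59, 175))) (.node (.leaf (52, 2057)) (.leaf (59, 1026)))) (.node (.node (.leaf (0, 0)) (.leaf (59, 707))) (.node (.leaf (0, 0)) (.leaf (52, 769)))))) (.node (.node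 (.node (.node (.node (.leaf (0, 0)) (.leaf (59, 1203))) (.leaf (0, 0))) (.node (.leaf (59, 1065)) (.leaf (59, 2071)))) (.node (.node (.leaf (0, 0)) (.leaf (34, 1629))) (.node (.leaf (0, 0)) (.leaf (59, 2140))))) (.node (.node (.node (.leaf (58, 1243)) (.leaf (58, 200))) (.node (.leaf (59, 1365)) (.leaf (29, 668)))) (.node (.node (.leaf (34, 43)) (.leaf (59, 498))) (.node (.leaf (0, 0)) (.leaf (3, 1986))))))) (.node (.node (.node (.node (.node (.node (.leaf (0, 0)) (.leaf (15, 1027))) (.leaf (19, 318))) (.node (.leaf (15, 29)) (.leaf (58, 288)))) (.node (.node (.leaf (0, 0)) (.leaf (59, 473))) (.node (.leaf (57, 659)) (.leaf (52, 2108))))) (.node (.node (.node (.leaf (0, 0)) (.leaf (59, 571))) (.node (.leaf (15, 4)) (.leaf (57, 1211)))) (.node (.node (.leaf (16, 989)) (.leaf (59, 416))) (.node (.leaf (59, 1596)) (.leaf (24, 907)))))) (.node (.node (.node (.node (.node (.leaf (0, 0)) (.leaf (57, 317)))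 (.leaf (59, 276))) (.node (.leaf (3, 774)) (.leaf (19, 2176)))) (.node (.node (.leaf (0, 0)) (.leaf (3, 1937))) (.node (.leaf (0, 0)) (.leaf (58, 1210))))) (.node (.node (.node (.leaf (0, 0)) (.leaf (44, 728))) (.node (.leaf (54, 991)) (.leaf (54, 1966)))) (.node (.node (.leaf (3, 482)) (.leaf (0, 0))) (.node (.leaf (0, 0)) (.leaf (59, 1264)))))))) (.node (.node (.node (.node (.node (.node (.node (.leaf (0, 0)) (.leaf (57, 1483))) (.leaf (59, 1754))) (.node (.leaf (59, 1049)) (.leaf (58, 1145)))) (.node (.node (.leaf (0, 0)) (.leaf (29, 553))) (.node (.leaf (0, 0)) (.leaf (58, 444))))) (.node (.node (.node (.node (.leaf (0, 0)) (.leaf (31, 286))) (.leaf (34, 1450))) (.node (.leaf (49, 1466)) (.leaf (57, 765)))) (.node (.node (.leaf (0, 0)) (.leaf (57, 59))) (.node (.leaf (3, 2109)) (.leaf (14, 751)))))) (.node (.node (.node (.node (.node (.leaf (0, 0)) (.leaf (59, 1097))) (.leaf (57, 357))) (.node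 (.leaf (3, 594)) (.leaf (0, 0)))) (.node (.node (.leaf (0, 0)) (.leaf (57, 2038))) (.node (.leaf (0, 0)) (.leaf (33, 1512))))) (.node (.node (.node (.leaf (59, 426)) (.leaf (59, 1824))) (.node (.leaf (58, 826)) (.leaf (0, 0)))) (.node (.node (.leaf (0, 0)) (.leaf (0, 0))) (.node (.leaf (34, 83)) (.leaf (3, 2002))))))) (.node (.node (.node (.node (.node (.node (.leaf (0, 0)) (.leaf (59, 1122))) (.leaf (25, 1512))) (.node (.leaf (59, 1113)) (.leaf (11, 2076)))) (.node (.node (.leaf (0, 0)) (.leaf (3, 1330))) (.node (.leaf (59, 206)) (.leaf (14, 362))))) (.node (.node (.node (.leaf (45, 349)) (.leaf (0, 0))) (.node (.leaf (34, 1131)) (.leaf (25, 673)))) (.node (.node (.leaf (0, 0)) (.leaf (57, 1445))) (.node (.leaf (58, 616)) (.leaf (3, 1970)))))) (.node (.node (.node (.node (.node (.leaf (0, 0)) (.leaf (59, 1029))) (.leaf (3, 1138))) (.node (.leaf (3, 1231)) (.leaf (59, 377)))) (.node (.node (.leaf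 (58, 22)) (.leaf (13, 1623))) (.node (.leaf (13, 265)) (.leaf (48, 515))))) (.node (.node (.node (.leaf (57, 157)) (.leaf (3, 1266))) (.node (.leaf (0, 0)) (.leaf (3, 1778)))) (.node (.node (.leaf (3, 1759)) (.leaf (11, 515))) (.node (.leaf (0, 0)) (.leaf (54, 1377))))))))) (.node (.node (.node (.node (.node (.node (.node (.node (.leaf (0, 0)) (.leaf (58, 1634))) (.leaf (59, 370))) (.node (.leaf (13, 42)) (.leaf (0, 0)))) (.node (.node (.leaf (34, 878)) (.leaf (59, 1574))) (.node (.leaf (0, 0)) (.leaf (59, 752))))) (.node (.node (.node (.node (.leaf (0, 0)) (.leaf (11, 1542))) (.leaf (0, 0))) (.node (.leaf (58, 1294)) (.leaf (3, 1674)))) (.node (.node (.leaf (0, 0)) (.leaf (14, 1406))) (.node (.leaf (0, 0)) (.leaf (29, 1212)))))) (.node (.node (.node (.node (.node (.leaf (0, 0)) (.leaf (52, 323))) (.leaf (34, 1554))) (.node (.leaf (17, 49)) (.leaf (59, 2040)))) (.node (.node (.leaf (59, 869)) (.leaf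 (59, 1712))) (.node (.leaf (34, 92)) (.leaf (57, 1568))))) (.node (.node (.node (.leaf (0, 0)) (.leaf (3, 2166))) (.node (.leaf (34, 132)) (.leaf (0, 0)))) (.node (.node (.leaf (19, 1720)) (.leaf (24, 283))) (.node (.leaf (0, 0)) (.leaf (29, 782))))))) (.node (.node (.node (.node (.node (.node (.leaf (57, 423)) (.leaf (59, 1088))) (.leaf (58, 386))) (.node (.leaf (16, 552)) (.leaf (34, 775)))) (.node (.node (.leaf (3, 298)) (.leaf (59, 2169))) (.node (.leaf (59, 1906)) (.leaf (24, 361))))) (.node (.node (.node (.leaf (0, 0)) (.leaf (59, 1780))) (.node (.leaf (14, 66)) (.leaf (59, 480)))) (.node (.node (.leaf (0, 0)) (.leaf (59, 1129))) (.node (.leaf (0, 0)) (.leaf (3, 2179)))))) (.node (.node (.node (.node (.node (.leaf (34, 512)) (.leaf (59, 1357))) (.leaf (59, 1861))) (.node (.leaf (0, 0)) (.leaf (16, 1637)))) (.node (.node (.leaf (54, 901)) (.leaf (54, 1647))) (.node (.leaf (58, 1793)) (.leaf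 (58, 2136))))) (.node (.node (.node (.leaf (0, 0)) (.leaf (24, 1777))) (.node (.leaf (59, 957)) (.leaf (14, 504)))) (.node (.node (.leaf (14, 371)) (.leaf (57, 1801))) (.node (.leaf (15, 105)) (.leaf (58, 822)))))))) (.node (.node (.node (.node (.node (.node (.node (.leaf (0, 0)) (.leaf (57, 1513))) (.leaf (0, 0))) (.node (.leaf (14, 47)) (.leaf (58, 1362)))) (.node (.node (.leaf (0, 0)) (.leaf (59, 405))) (.node (.leaf (59, 116)) (.leaf (58, 2152))))) (.node (.node (.node (.leaf (0, 0)) (.leaf (0, 0))) (.node (.leaf (44, 1905)) (.leaf (19, 42)))) (.node (.node (.leaf (0, 0)) (.leaf (10, 451))) (.node (.leaf (59, 220)) (.leaf (33, 6)))))) (.node (.node (.node (.node (.node (.leaf (3, 90)) (.leaf (3, 2138))) (.leaf (16, 1726))) (.node (.leaf (59, 1400)) (.leaf (15, 599)))) (.node (.node (.leaf (0, 0)) (.leaf (19, 2160))) (.node (.leaf (59, 2035)) (.leaf (58, 1147))))) (.node (.node (.node (.leaf (0,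 0)) (.leaf (15, 109))) (.node (.leaf (58, 1592)) (.leaf (58, 2097)))) (.node (.node (.leaf (57, 633)) (.leaf (58, 358))) (.node (.leaf (0, 0)) (.leaf (11, 1775))))))) (.node (.node (.node (.node (.node (.node (.leaf (0, 0)) (.leaf (58, 1911))) (.leaf (59, 1513))) (.node (.leaf (52, 387)) (.leaf (59, 2095)))) (.node (.node (.leaf (57, 1551)) (.leaf (26, 570))) (.node (.leaf (24, 1606)) (.leaf (59, 543))))) (.node (.node (.node (.leaf (3, 186)) (.leaf (48, 2113))) (.node (.leaf (57, 1880)) (.leaf (3, 1722)))) (.node (.node (.leaf (51, 90)) (.leaf (57, 149))) (.node (.leaf (0, 0)) (.leaf (57, 1738)))))) (.node (.node (.node (.node (.node (.leaf (34, 274)) (.leaf (11, 1025))) (.leaf (16, 1829))) (.node (.leaf (50, 1054)) (.leaf (57, 1776)))) (.node (.node (.leaf (3, 378)) (.leaf (57, 1184))) (.node (.leaf (0, 0)) (.leaf (3, 1914))))) (.node (.node (.node (.leaf (11, 17)) (.leaf (3, 1906))) (.node (.leaf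 (0, 0)) (.leaf (11, 589)))) (.node (.node (.leaf (14, 910)) (.leaf (34, 951))) (.node (.leaf (57, 2102)) (.leaf (3, 2042)))))))))) (.node (.node (.node (.node (.node (.node (.node (.node (.node (.leaf (0, 0)) (.leaf (47, 1911))) (.leaf (0, 0))) (.node (.leaf (0, 0)) (.leaf (16, 295)))) (.node (.node (.leaf (54, 578)) (.leaf (59, 1662))) (.node (.leaf (14, 181)) (.leaf (59, 2112))))) (.node (.node (.node (.node (.leaf (48, 1444)) (.leaf (11, 1743))) (.leaf (57, 2039))) (.node (.leaf (52, 1578)) (.leaf (57, 27)))) (.node (.node (.leaf (59, 863)) (.leaf (0, 0))) (.node (.leaf (0, 0)) (.leaf (45, 71)))))) (.node (.node (.node (.node (.node (.leaf (0, 0)) (.leaf (59, 1383))) (.leaf (59, 238))) (.node (.leaf (59, 1332)) (.leaf (15, 915)))) (.node (.node (.leaf (0, 0)) (.leaf (57, 667))) (.node (.leaf (57, 2029)) (.leaf (59, 447))))) (.node (.node (.node (.leaf (3, 198)) (.leaf (59, 1557))) (.node (.leaf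 (58, 1365)) (.leaf (35, 415)))) (.node (.node (.leaf (3, 454)) (.leaf (58, 560))) (.node (.leaf (59, 1578)) (.leaf (59, 197))))))) (.node (.node (.node (.node (.node (.node (.leaf (0, 0)) (.leaf (59, 993))) (.leaf (58, 88))) (.node (.leaf (49, 140)) (.leaf (58, 714)))) (.node (.node (.leaf (0, 0)) (.leaf (48, 873))) (.node (.leaf (3, 1482)) (.leaf (59, 1184))))) (.node (.node (.node (.leaf (0, 0)) (.leaf (14, 152))) (.node (.leaf (58, 227)) (.leaf (50, 1982)))) (.node (.node (.leaf (58, 1669)) (.leaf (0, 0))) (.node (.leaf (0, 0)) (.leaf (17, 820)))))) (.node (.node (.node (.node (.node (.leaf (0, 0)) (.leaf (57, 1458))) (.leaf (3, 1126))) (.node (.leaf (59, 1709)) (.leaf (24, 736)))) (.node (.node (.leaf (50, 786)) (.leaf (3, 1382))) (.node (.leaf (0, 0)) (.leaf (19, 65))))) (.node (.node (.node (.leaf (0, 0)) (.leaf (59, 1560))) (.node (.leaf (34, 914)) (.leaf (58, 2167)))) (.node (.node (.leaf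 (0, 0)) (.leaf (13, 1248))) (.node (.leaf (59, 1592)) (.leaf (49, 1566)))))))) (.node (.node (.node (.node (.node (.node (.node (.leaf (0, 0)) (.leaf (59, 1124))) (.leaf (59, 264))) (.node (.leaf (0, 0)) (.leaf (57, 1062)))) (.node (.node (.leaf (0, 0)) (.leaf (59, 2141))) (.node (.leaf (0, 0)) (.leaf (34, 852))))) (.node (.node (.node (.node (.leaf (59, 933)) (.leaf (47, 1873))) (.leaf (58, 531))) (.node (.leaf (47, 220)) (.leaf (57, 1656)))) (.node (.node (.leaf (0, 0)) (.leaf (15, 672))) (.node (.leaf (0, 0)) (.leaf (33, 5)))))) (.node (.node (.node (.node (.node (.leaf (0, 0)) (.leaf (24, 115))) (.leaf (57, 451))) (.node (.leaf (59, 1842)) (.leaf (3, 1622)))) (.node (.node (.leaf (0, 0)) (.leaf (3, 1366))) (.node (.leaf (0, 0)) (.leaf (57, 2171))))) (.node (.node (.node (.leaf (0, 0)) (.leaf (35, 1814))) (.node (.leaf (59, 816)) (.leaf (3, 1750)))) (.node (.node (.leaf (3, 470)) (.leaf (3, 1494)))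 (.node (.leaf (59, 2096)) (.leaf (58, 1295))))))) (.node (.node (.node (.node (.node (.node (.leaf (0, 0)) (.leaf (59, 1414))) (.leaf (0, 0))) (.node (.leaf (15, 54)) (.leaf (24, 295)))) (.node (.node (.leaf (14, 15)) (.leaf (3, 2097))) (.node (.leaf (0, 0)) (.leaf (57, 804))))) (.node (.node (.node (.leaf (48, 1311)) (.leaf (57, 17))) (.node (.leaf (19, 1953)) (.leaf (0, 0)))) (.node (.node (.leaf (15, 22)) (.leaf (0, 0))) (.node (.leaf (59, 2150)) (.leaf (14, 761)))))) (.node (.node (.node (.node (.node (.leaf (3, 118)) (.leaf (11, 1226))) (.leaf (59, 1829))) (.node (.leaf (0, 0)) (.leaf (17, 299)))) (.node (.node (.leaf (59, 982)) (.leaf (58, 1493))) (.node (.leaf (0, 0)) (.leaf (57, 1130))))) (.node (.node (.node (.leaf (0, 0)) (.leaf (59, 1922))) (.node (.leaf (16, 141)) (.leaf (59, 2117)))) (.node (.node (.leaf (51, 42)) (.leaf (59, 2058))) (.node (.leaf (58, 2160)) (.leaf (59, 49)))))))))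 (.node (.node (.node (.node (.node (.node (.node (.node (.leaf (0, 0)) (.leaf (57, 1432))) (.leaf (58, 1470))) (.node (.leaf (49, 1850)) (.leaf (57, 807)))) (.node (.node (.leaf (34, 278)) (.leaf (54, 258))) (.node (.leaf (29, 1828)) (.leaf (48, 1381))))) (.node (.node (.node (.node (.leaf (0, 0)) (.leaf (15, 292))) (.leaf (24, 428))) (.node (.leaf (54, 947)) (.leaf (11, 569)))) (.node (.node (.leaf (0, 0)) (.leaf (0, 0))) (.node (.leaf (14, 155)) (.leaf (59, 659)))))) (.node (.node (.node (.node (.node (.leaf (0, 0)) (.leaf (59, 976))) (.leaf (51, 792))) (.node (.leaf (14, 67)) (.leaf (23, 826)))) (.node (.node (.leaf (0, 0)) (.leaf (57, 1976))) (.node (.leaf (0, 0)) (.leaf (58, 373))))) (.node (.node (.node (.leaf (0, 0)) (.leaf (34, 202))) (.node (.leaf (50, 407)) (.leaf (49, 2175)))) (.node (.node (.leaf (59, 1625)) (.leaf (0, 0))) (.node (.leaf (3, 974)) (.leaf (49, 1454))))))) (.node (.node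 (.node (.node (.node (.node (.leaf (0, 0)) (.leaf (52, 1829))) (.leaf (24, 118))) (.node (.leaf (3, 975)) (.leaf (58, 318)))) (.node (.node (.leaf (34, 39)) (.leaf (14, 200))) (.node (.leaf (0, 0)) (.leaf (59, 2142))))) (.node (.node (.node (.leaf (0, 0)) (.leaf (0, 0))) (.node (.leaf (34, 1923)) (.leaf (25, 1971)))) (.node (.node (.leaf (11, 32)) (.leaf (14, 278))) (.node (.leaf (0, 0)) (.leaf (33, 9)))))) (.node (.node (.node (.node (.node (.leaf (0, 0)) (.leaf (3, 2158))) (.leaf (11, 1779))) (.node (.leaf (59, 1713)) (.leaf (19, 854)))) (.node (.node (.leaf (3, 366)) (.leaf (54, 1792))) (.node (.leaf (0, 0)) (.leaf (58, 601))))) (.node (.node (.node (.leaf (29, 1311)) (.leaf (14, 64))) (.node (.leaf (58, 1650)) (.leaf (16, 340)))) (.node (.node (.leaf (59, 1117)) (.leaf (57, 851))) (.node (.leaf (58, 1431)) (.leaf (59, 931)))))))) (.node (.node (.node (.node (.node (.node (.node (.leaf (0, 0))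 (.leaf (10, 453))) (.leaf (58, 1561))) (.node (.leaf (0, 0)) (.leaf (59, 1055)))) (.node (.node (.leaf (34, 949)) (.leaf (10, 1209))) (.node (.leaf (0, 0)) (.leaf (25, 473))))) (.node (.node (.node (.leaf (0, 0)) (.leaf (59, 142))) (.node (.leaf (58, 777)) (.leaf (15, 313)))) (.node (.node (.leaf (0, 0)) (.leaf (29, 1209))) (.node (.leaf (0, 0)) (.leaf (3, 1950)))))) (.node (.node (.node (.node (.node (.leaf (0, 0)) (.leaf (34, 1128))) (.leaf (3, 1118))) (.node (.leaf (0, 0)) (.leaf (58, 843)))) (.node (.node (.leaf (0, 0)) (.leaf (59, 1676))) (.node (.leaf (0, 0)) (.leaf (58, 1348))))) (.node (.node (.node (.leaf (0, 0)) (.leaf (57, 655))) (.node (.leaf (48, 1089)) (.leaf (58, 350)))) (.node (.node (.leaf (11, 873)) (.leaf (59, 903))) (.node (.leaf (16, 1815)) (.leaf (13, 1264))))))) (.node (.node (.node (.node (.node (.node (.leaf (0, 0)) (.leaf (59, 1197))) (.leaf (0, 0))) (.node (.leaf (3, 574))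 (.leaf (24, 684)))) (.node (.node (.leaf (0, 0)) (.leaf (59, 205))) (.node (.leaf (0, 0)) (.leaf (58, 1387))))) (.node (.node (.node (.leaf (58, 7)) (.leaf (58, 2081))) (.node (.leaf (16, 76)) (.leaf (25, 739)))) (.node (.node (.leaf (34, 261)) (.leaf (0, 0))) (.node (.leaf (3, 1774)) (.leaf (57, 1705)))))) (.node (.node (.node (.node (.node (.leaf (0, 0)) (.leaf (3, 2174))) (.leaf (58, 1862))) (.node (.leaf (59, 1412)) (.leaf (13, 303)))) (.node (.node (.leaf (0, 0)) (.leaf (57, 1368))) (.node (.leaf (3, 894)) (.leaf (57, 1038))))) (.node (.node (.node (.leaf (0, 0)) (.leaf (59, 428))) (.node (.leaf (3, 766)) (.leaf (57, 1331)))) (.node (.node (.leaf (0, 0)) (.leaf (10, 1521))) (.node (.leaf (59, 465)) (.leaf (57, 1659))))))))))))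

def threeVia4 : Janko.Tree (ℕ × ℕ) :=
  (.node (.node (.node (.node (.node (.node (.node (.node (.node (.node (.node (.leaf (0, 0)) (.leaf (51, 2049))) (.leaf (4, 1025))) (.node (.leaf (0, 0)) (.leaf (0, 0)))) (.node (.node (.leaf (59, 787)) (.leaf (59, 2019))) (.node (.leaf (5, 769)) (.leaf (51, 954))))) (.node (.node (.node (.node (.leaf (0, 0)) (.leaf (55, 775))) (.leaf (59, 679))) (.node (.leaf (59, 641)) (.leaf (59, 973)))) (.node (.node (.leaf (0, 0)) (.leaf (0, 0))) (.node (.leaf (59, 433)) (.leaf (0, 1921)))))) (.node (.node (.node (.node (.node (.leaf (0, 0)) (.leaf (15, 2113))) (.leaf (5, 1089))) (.node (.leaf (0, 1325)) (.leaf (59, 517)))) (.node (.node (.leaf (6, 321)) (.leaf (56, 1345))) (.node (.leaf (0, 0)) (.leaf (58, 661))))) (.node (.node (.node (.leaf (0, 0)) (.leaf (56, 56))) (.node (.leaf (52, 638)) (.leaf (58, 990)))) (.node (.node (.leaf (0, 0)) (.leaf (0, 0))) (.node (.leaf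 (59, 1729)) (.leaf (54, 1631))))))) (.node (.node (.node (.node (.node (.node (.leaf (0, 0)) (.leaf (17, 289))) (.leaf (53, 1057))) (.node (.leaf (56, 146)) (.leaf (7, 1517)))) (.node (.node (.leaf (0, 0)) (.leaf (52, 1178))) (.node (.leaf (0, 0)) (.leaf (41, 951))))) (.node (.node (.node (.leaf (0, 0)) (.leaf (50, 1184))) (.node (.leaf (59, 1891)) (.leaf (0, 0)))) (.node (.node (.leaf (0, 417)) (.leaf (59, 299))) (.node (.leaf (54, 929)) (.leaf (17, 755)))))) (.node (.node (.node (.node (.node (.leaf (0, 0)) (.leaf (16, 303))) (.leaf (24, 1121))) (.node (.leaf (51, 1584)) (.leaf (59, 318)))) (.node (.node (.leaf (0, 0)) (.leaf (24, 661))) (.node (.leaf (0, 865)) (.leaf (59, 1983))))) (.node (.node (.node (.leaf (0, 0)) (.leaf (57, 494))) (.node (.leaf (12, 737)) (.leaf (0, 2062)))) (.node (.node (.leaf (59, 979)) (.leaf (53, 1055))) (.node (.leaf (59, 1735)) (.leaf (59, 61)))))))) (.node (.node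 (.node (.node (.node (.node (.node (.leaf (0, 0)) (.leaf (45, 1540))) (.leaf (57, 2107))) (.node (.leaf (58, 1072)) (.leaf (0, 2012)))) (.node (.node (.leaf (16, 273)) (.leaf (45, 537))) (.node (.leaf (0, 0)) (.leaf (56, 1005))))) (.node (.node (.node (.node (.leaf (0, 0)) (.leaf (24, 90))) (.leaf (59, 1169))) (.node (.leaf (59, 1564)) (.leaf (59, 2005)))) (.node (.node (.leaf (0, 0)) (.leaf (0, 1425))) (.node (.leaf (59, 1575)) (.leaf (23, 1937)))))) (.node (.node (.node (.node (.node (.leaf (0, 0)) (.leaf (15, 1598))) (.leaf (59, 256))) (.node (.leaf (54, 1605)) (.leaf (54, 1185)))) (.node (.node (.leaf (41, 99)) (.leaf (59, 1516))) (.node (.leaf (0, 0)) (.leaf (0, 1873))))) (.node (.node (.node (.leaf (0, 209)) (.leaf (56, 1131))) (.node (.leaf (0, 721)) (.leaf (59, 1745)))) (.node (.node (.leaf (0, 0)) (.leaf (59, 1971))) (.node (.leaf (22, 102)) (.leaf (20, 2001))))))) (.node (.node (.node (.node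 (.node (.node (.leaf (0, 49)) (.leaf (15, 1587))) (.leaf (56, 483))) (.node (.leaf (0, 0)) (.leaf (59, 913)))) (.node (.node (.leaf (0, 0)) (.leaf (59, 188))) (.node (.leaf (5, 817)) (.leaf (55, 1655))))) (.node (.node (.node (.leaf (0, 0)) (.leaf (59, 1892))) (.node (.leaf (14, 1458)) (.leaf (58, 1713)))) (.node (.node (.leaf (55, 468)) (.leaf (15, 771))) (.node (.leaf (0, 0)) (.leaf (57, 1969)))))) (.node (.node (.node (.node (.node (.leaf (0, 0)) (.leaf (57, 1764))) (.leaf (34, 952))) (.node (.leaf (52, 625)) (.leaf (59, 694)))) (.node (.node (.leaf (54, 369)) (.leaf (56, 693))) (.node (.leaf (7, 35)) (.leaf (0, 2096))))) (.node (.node (.node (.leaf (58, 17)) (.leaf (59, 508))) (.node (.leaf (18, 753)) (.leaf (23, 1777)))) (.node (.node (.leaf (54, 156)) (.leaf (0, 2070))) (.node (.leaf (19, 194)) (.leaf (59, 2033))))))))) (.node (.node (.node (.node (.node (.node (.node (.node (.leaf (0, 0))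 (.leaf (19, 1387))) (.leaf (32, 1032))) (.node (.leaf (59, 246)) (.leaf (59, 682)))) (.node (.node (.leaf (53, 882)) (.leaf (46, 527))) (.node (.leaf (0, 0)) (.leaf (54, 1179))))) (.node (.node (.node (.node (.leaf (16, 41)) (.leaf (56, 474))) (.leaf (57, 1498))) (.node (.leaf (59, 1478)) (.leaf (58, 1673)))) (.node (.node (.leaf (33, 2080)) (.leaf (55, 156))) (.node (.leaf (0, 0)) (.leaf (0, 2178)))))) (.node (.node (.node (.node (.node (.leaf (0, 0)) (.leaf (32, 1571))) (.leaf (0, 0))) (.node (.leaf (57, 1596)) (.leaf (52, 1609)))) (.node (.node (.leaf (0, 1662)) (.leaf (53, 2027))) (.node (.leaf (0, 0)) (.leaf (55, 2182))))) (.node (.node (.node (.leaf (0, 0)) (.leaf (58, 712))) (.node (.leaf (54, 1491)) (.leaf (24, 137)))) (.node (.node (.leaf (0, 0)) (.leaf (0, 0))) (.node (.leaf (45, 82)) (.leaf (23, 1993))))))) (.node (.node (.node (.node (.node (.node (.leaf (16, 322)) (.leaf (59, 955)))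 (.leaf (51, 764))) (.node (.leaf (16, 9)) (.leaf (59, 1954)))) (.node (.node (.leaf (0, 0)) (.leaf (54, 561))) (.node (.leaf (0, 2081)) (.leaf (59, 1833))))) (.node (.node (.node (.leaf (59, 345)) (.leaf (50, 2157))) (.node (.leaf (19, 766)) (.leaf (0, 1705)))) (.node (.node (.leaf (0, 0)) (.leaf (0, 0))) (.node (.leaf (0, 937)) (.leaf (34, 1420)))))) (.node (.node (.node (.node (.node (.leaf (0, 0)) (.leaf (48, 1748))) (.leaf (19, 1645))) (.node (.leaf (0, 617)) (.leaf (11, 1641)))) (.node (.node (.leaf (41, 15)) (.leaf (58, 1914))) (.node (.leaf (0, 1637)) (.leaf (59, 2113))))) (.node (.node (.node (.leaf (15, 233)) (.leaf (58, 1257))) (.node (.leaf (59, 1588)) (.leaf (59, 709)))) (.node (.node (.leaf (59, 841)) (.leaf (34, 22))) (.node (.leaf (54, 339)) (.leaf (59, 1920)))))))) (.node (.node (.node (.node (.node (.node (.node (.leaf (0, 0)) (.leaf (51, 2145))) (.leaf (32, 286))) (.node (.leaf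 (0, 0)) (.leaf (50, 814)))) (.node (.node (.leaf (0, 0)) (.leaf (59, 686))) (.node (.leaf (0, 0)) (.leaf (59, 2160))))) (.node (.node (.node (.node (.leaf (0, 0)) (.leaf (56, 1457))) (.leaf (0, 1177))) (.node (.leaf (56, 665)) (.leaf (32, 612)))) (.node (.node (.leaf (16, 409)) (.leaf (58, 428))) (.node (.leaf (0, 0)) (.leaf (49, 1968)))))) (.node (.node (.node (.node (.node (.leaf (0, 0)) (.leaf (33, 303))) (.leaf (49, 1113))) (.node (.leaf (0, 1009)) (.leaf (57, 867)))) (.node (.node (.leaf (0, 0)) (.leaf (59, 616))) (.node (.leaf (0, 1629)) (.leaf (59, 1881))))) (.node (.node (.node (.leaf (0, 0)) (.leaf (34, 910))) (.node (.leaf (24, 729)) (.leaf (55, 1628)))) (.node (.node (.leaf (30, 316)) (.leaf (59, 287))) (.node (.leaf (59, 1483)) (.leaf (53, 1923))))))) (.node (.node (.node (.node (.node (.node (.leaf (0, 106)) (.leaf (32, 1919))) (.leaf (0, 0))) (.node (.leaf (53, 179)) (.leaf (59, 348))))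 (.node (.node (.leaf (0, 0)) (.leaf (36, 1337))) (.node (.leaf (0, 0)) (.leaf (32, 2152))))) (.node (.node (.node (.leaf (38, 1108)) (.leaf (4, 1209))) (.node (.leaf (14, 1683)) (.leaf (48, 244)))) (.node (.node (.leaf (0, 441)) (.leaf (56, 311))) (.node (.leaf (59, 1949)) (.leaf (59, 1977)))))) (.node (.node (.node (.node (.node (.leaf (0, 0)) (.leaf (56, 1429))) (.leaf (0, 1145))) (.node (.leaf (24, 1851)) (.leaf (19, 299)))) (.node (.node (.leaf (0, 0)) (.leaf (59, 1401))) (.node (.leaf (0, 0)) (.leaf (56, 1387))))) (.node (.node (.node (.leaf (48, 248)) (.leaf (41, 515))) (.node (.leaf (0, 0)) (.leaf (57, 1990)))) (.node (.node (.leaf (59, 1093)) (.leaf (21, 289))) (.node (.leaf (0, 0)) (.leaf (59, 1261)))))))))) (.node (.node (.node (.node (.node (.node (.node (.node (.node (.leaf (0, 5)) (.leaf (59, 1628))) (.leaf (0, 0))) (.node (.leaf (0, 0)) (.leaf (16, 1541)))) (.node (.node (.leaf (0,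 261)) (.leaf (59, 636))) (.node (.leaf (17, 768)) (.leaf (54, 956))))) (.node (.node (.node (.node (.leaf (0, 0)) (.leaf (56, 514))) (.leaf (34, 807))) (.node (.leaf (59, 645)) (.leaf (56, 2021)))) (.node (.node (.leaf (0, 389)) (.leaf (51, 1413))) (.node (.leaf (24, 38)) (.leaf (19, 320)))))) (.node (.node (.node (.node (.node (.leaf (0, 0)) (.leaf (59, 1801))) (.leaf (59, 1464))) (.node (.leaf (0, 0)) (.leaf (0, 1605)))) (.node (.node (.leaf (0, 0)) (.leaf (55, 956))) (.node (.leaf (23, 837)) (.leaf (59, 1254))))) (.node (.node (.node (.leaf (0, 0)) (.leaf (24, 1221))) (.node (.leaf (56, 1598)) (.leaf (0, 0)))) (.node (.node (.leaf (0, 0)) (.leaf (59, 509))) (.node (.leaf (15, 965)) (.leaf (34, 466))))))) (.node (.node (.node (.node (.node (.node (.leaf (4, 37)) (.leaf (59, 1036))) (.leaf (0, 1061))) (.node (.leaf (0, 549)) (.leaf (34, 181)))) (.node (.node (.leaf (0, 0)) (.leaf (59, 557))) (.node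 (.leaf (4, 805)) (.leaf (13, 1829))))) (.node (.node (.node (.leaf (0, 0)) (.leaf (59, 2130))) (.node (.leaf (53, 677)) (.leaf (11, 1701)))) (.node (.node (.leaf (52, 421)) (.leaf (59, 1445))) (.node (.leaf (53, 514)) (.leaf (59, 1957)))))) (.node (.node (.node (.node (.node (.leaf (0, 0)) (.leaf (32, 1899))) (.leaf (30, 77))) (.node (.leaf (59, 613)) (.leaf (5, 1637)))) (.node (.node (.leaf (0, 0)) (.leaf (56, 366))) (.node (.leaf (0, 0)) (.leaf (55, 163))))) (.node (.node (.node (.leaf (16, 229)) (.leaf (0, 2008))) (.node (.leaf (59, 1509)) (.leaf (41, 6)))) (.node (.node (.leaf (59, 485)) (.leaf (59, 347))) (.node (.leaf (57, 997)) (.leaf (57, 1382)))))))) (.node (.node (.node (.node (.node (.node (.node (.leaf (0, 0)) (.leaf (53, 1523))) (.leaf (53, 481))) (.node (.leaf (59, 165)) (.leaf (58, 711)))) (.node (.node (.leaf (0, 0)) (.leaf (0, 1301))) (.node (.leaf (0, 0)) (.leaf (54, 1025))))) (.node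 (.node (.node (.node (.leaf (34, 126)) (.leaf (40, 2106))) (.leaf (41, 1173))) (.node (.leaf (23, 661)) (.leaf (0, 1685)))) (.node (.node (.leaf (0, 0)) (.leaf (0, 0))) (.node (.leaf (57, 1720)) (.leaf (59, 1522)))))) (.node (.node (.node (.node (.node (.leaf (0, 0)) (.leaf (54, 1411))) (.leaf (15, 836))) (.node (.leaf (56, 597)) (.leaf (54, 1621)))) (.node (.node (.leaf (0, 0)) (.leaf (57, 1365))) (.node (.leaf (0, 0)) (.leaf (57, 335))))) (.node (.node (.node (.leaf (51, 61)) (.leaf (59, 1538))) (.node (.leaf (55, 2054)) (.leaf (18, 1749)))) (.node (.node (.leaf (59, 1216)) (.leaf (59, 917))) (.node (.leaf (57, 1908)) (.leaf (53, 1932))))))) (.node (.node (.node (.node (.node (.node (.leaf (0, 0)) (.leaf (58, 976))) (.leaf (59, 241))) (.node (.leaf (0, 565)) (.leaf (0, 0)))) (.node (.node (.leaf (0, 0)) (.leaf (0, 1550))) (.node (.leaf (0, 1568)) (.leaf (52, 1845))))) (.node (.node (.node (.leaf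 (32, 14)) (.leaf (34, 77))) (.node (.leaf (0, 1128)) (.leaf (0, 0)))) (.node (.node (.leaf (54, 1716)) (.leaf (56, 1842))) (.node (.leaf (32, 798)) (.leaf (31, 136)))))) (.node (.node (.node (.node (.node (.leaf (0, 0)) (.leaf (56, 1455))) (.leaf (0, 1141))) (.node (.leaf (58, 629)) (.leaf (58, 2153)))) (.node (.node (.leaf (0, 0)) (.leaf (54, 698))) (.node (.leaf (59, 467)) (.leaf (34, 1392))))) (.node (.node (.node (.leaf (0, 0)) (.leaf (59, 1269))) (.node (.leaf (0, 0)) (.leaf (41, 1469)))) (.node (.node (.leaf (4, 501)) (.leaf (0, 0))) (.node (.leaf (17, 58)) (.leaf (32, 1043))))))))) (.node (.node (.node (.node (.node (.node (.node (.node (.leaf (0, 0)) (.leaf (48, 2061))) (.leaf (12, 734))) (.node (.leaf (54, 1547)) (.leaf (0, 1549)))) (.node (.node (.leaf (0, 0)) (.leaf (19, 82))) (.node (.leaf (0, 0)) (.leaf (59, 1805))))) (.node (.node (.node (.node (.leaf (18, 141)) (.leaf (8, 99))) (.leaf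 (57, 1430))) (.node (.leaf (0, 0)) (.leaf (55, 1835)))) (.node (.node (.leaf (0, 0)) (.leaf (59, 1961))) (.node (.leaf (59, 1453)) (.leaf (59, 1933)))))) (.node (.node (.node (.node (.node (.leaf (0, 0)) (.leaf (57, 1589))) (.leaf (59, 1465))) (.node (.leaf (41, 191)) (.leaf (58, 1613)))) (.node (.node (.leaf (0, 0)) (.leaf (57, 1855))) (.node (.leaf (0, 0)) (.leaf (59, 1238))))) (.node (.node (.node (.leaf (0, 0)) (.leaf (59, 1229))) (.node (.leaf (59, 1194)) (.leaf (0, 1741)))) (.node (.node (.leaf (10, 93)) (.leaf (0, 1485))) (.node (.leaf (59, 1644)) (.leaf (59, 1447))))))) (.node (.node (.node (.node (.node (.node (.leaf (0, 0)) (.leaf (58, 30))) (.leaf (59, 1500))) (.node (.leaf (0, 0)) (.leaf (52, 823)))) (.node (.node (.leaf (0, 0)) (.leaf (5, 1325))) (.node (.leaf (57, 1422)) (.leaf (4, 1837))))) (.node (.node (.node (.leaf (0, 0)) (.leaf (32, 2164))) (.node (.leaf (57, 783)) (.leaf (55,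 232)))) (.node (.node (.leaf (56, 123)) (.leaf (0, 0))) (.node (.leaf (0, 0)) (.leaf (59, 1335)))))) (.node (.node (.node (.node (.node (.leaf (0, 0)) (.leaf (4, 2157))) (.leaf (56, 747))) (.node (.leaf (35, 621)) (.leaf (4, 1645)))) (.node (.node (.leaf (58, 1625)) (.leaf (33, 669))) (.node (.leaf (0, 0)) (.leaf (0, 1901))))) (.node (.node (.node (.leaf (0, 237)) (.leaf (0, 1261))) (.node (.leaf (56, 1309)) (.leaf (59, 942)))) (.node (.node (.leaf (0, 0)) (.leaf (0, 0))) (.node (.leaf (32, 2023)) (.leaf (34, 299)))))))) (.node (.node (.node (.node (.node (.node (.node (.leaf (0, 0)) (.leaf (56, 1566))) (.leaf (0, 0))) (.node (.leaf (59, 541)) (.leaf (59, 1565)))) (.node (.node (.leaf (0, 0)) (.leaf (41, 938))) (.node (.leaf (56, 797)) (.leaf (57, 1821))))) (.node (.node (.node (.leaf (41, 44)) (.leaf (58, 1181))) (.node (.leaf (16, 669)) (.leaf (57, 514)))) (.node (.node (.leaf (15, 220)) (.leaf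 (56, 60))) (.node (.leaf (53, 305)) (.leaf (34, 379)))))) (.node (.node (.node (.node (.node (.leaf (16, 93)) (.leaf (53, 2141))) (.leaf (0, 0))) (.node (.leaf (57, 1029)) (.leaf (4, 1629)))) (.node (.node (.leaf (38, 348)) (.leaf (54, 318))) (.node (.leaf (57, 1420)) (.leaf (59, 1885))))) (.node (.node (.node (.leaf (0, 0)) (.leaf (24, 498))) (.node (.leaf (24, 1770)) (.leaf (59, 1256)))) (.node (.node (.leaf (41, 145)) (.leaf (59, 1501))) (.node (.leaf (0, 1726)) (.leaf (57, 1334))))))) (.node (.node (.node (.node (.node (.node (.leaf (0, 0)) (.leaf (58, 2109))) (.leaf (59, 1085))) (.node (.leaf (36, 429)) (.leaf (15, 1597)))) (.node (.node (.leaf (16, 96)) (.leaf (45, 2059))) (.node (.leaf (0, 0)) (.leaf (55, 888))))) (.node (.node (.node (.leaf (59, 2028)) (.leaf (34, 48))) (.node (.leaf (58, 1635)) (.leaf (0, 1725)))) (.node (.node (.leaf (16, 5)) (.leaf (0, 0))) (.node (.leaf (0, 957)) (.leaf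 (36, 1432)))))) (.node (.node (.node (.node (.node (.leaf (0, 0)) (.leaf (4, 2173))) (.leaf (57, 2140))) (.node (.leaf (59, 1451)) (.leaf (51, 1661)))) (.node (.node (.leaf (0, 0)) (.leaf (0, 0))) (.node (.leaf (59, 893)) (.leaf (33, 283))))) (.node (.node (.node (.leaf (54, 72)) (.leaf (55, 1295))) (.node (.leaf (0, 0)) (.leaf (0, 1789)))) (.node (.node (.leaf (59, 33)) (.leaf (59, 1533))) (.node (.leaf (14, 366)) (.leaf (58, 1128))))))))))) (.node (.node (.node (.node (.node (.node (.node (.node (.node (.node (.leaf (0, 0)) (.leaf (56, 2131))) (.leaf (0, 0))) (.node (.leaf (0, 0)) (.leaf (57, 1539)))) (.node (.node (.leaf (0, 0)) (.leaf (52, 2117))) (.node (.leaf (0, 0)) (.leaf (59, 1105))))) (.node (.node (.node (.node (.leaf (0, 0)) (.leaf (56, 1330))) (.leaf (59, 1155))) (.node (.leaf (15, 643)) (.leaf (56, 1667)))) (.node (.node (.leaf (48, 387)) (.leaf (0, 0))) (.node (.leaf (59, 1413)) (.leaf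 (32, 152)))))) (.node (.node (.node (.node (.node (.leaf (0, 0)) (.leaf (50, 2102))) (.leaf (58, 1091))) (.node (.leaf (59, 859)) (.leaf (59, 961)))) (.node (.node (.leaf (0, 0)) (.leaf (15, 633))) (.node (.leaf (55, 307)) (.leaf (51, 1859))))) (.node (.node (.node (.leaf (0, 0)) (.leaf (59, 705))) (.node (.leaf (59, 1489)) (.leaf (59, 1731)))) (.node (.node (.leaf (0, 0)) (.leaf (56, 1959))) (.node (.leaf (59, 1573)) (.leaf (59, 1021))))))) (.node (.node (.node (.node (.node (.node (.leaf (0, 0)) (.leaf (0, 2083))) (.leaf (59, 86))) (.node (.leaf (54, 171)) (.leaf (0, 1571)))) (.node (.node (.leaf (17, 285)) (.leaf (59, 1315))) (.node (.leaf (0, 0)) (.leaf (59, 1069))))) (.node (.node (.node (.leaf (0, 0)) (.leaf (0, 0))) (.node (.leaf (4, 675)) (.leaf (59, 492)))) (.node (.node (.leaf (45, 32)) (.leaf (56, 124))) (.node (.leaf (0, 0)) (.leaf (33, 312)))))) (.node (.node (.node (.node (.node (.leaf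 (0, 0)) (.leaf (53, 1652))) (.leaf (24, 1180))) (.node (.leaf (47, 611)) (.leaf (19, 329)))) (.node (.node (.leaf (0, 0)) (.leaf (14, 644))) (.node (.leaf (5, 867)) (.leaf (59, 2025))))) (.node (.node (.node (.leaf (0, 0)) (.leaf (20, 1251))) (.node (.leaf (57, 951)) (.leaf (59, 1763)))) (.node (.node (.leaf (45, 486)) (.leaf (16, 79))) (.node (.leaf (34, 49)) (.leaf (48, 1468)))))))) (.node (.node (.node (.node (.node (.node (.node (.leaf (0, 0)) (.leaf (59, 2067))) (.leaf (59, 1043))) (.node (.leaf (0, 531)) (.leaf (0, 1555)))) (.node (.node (.leaf (0, 0)) (.leaf (59, 582))) (.node (.leaf (31, 300)) (.leaf (57, 1396))))) (.node (.node (.node (.node (.leaf (0, 0)) (.leaf (32, 79))) (.leaf (34, 882))) (.node (.leaf (48, 1994)) (.leaf (11, 875)))) (.node (.node (.leaf (0, 0)) (.leaf (0, 1427))) (.node (.leaf (0, 0)) (.leaf (57, 2181)))))) (.node (.node (.node (.node (.node (.leaf (0, 0)) (.leaf (0,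 2182))) (.leaf (58, 93))) (.node (.leaf (0, 595)) (.leaf (53, 1195)))) (.node (.node (.leaf (59, 899)) (.leaf (32, 720))) (.node (.leaf (0, 0)) (.leaf (59, 2126))))) (.node (.node (.node (.leaf (0, 0)) (.leaf (50, 1235))) (.node (.leaf (59, 723)) (.leaf (34, 950)))) (.node (.node (.leaf (58, 1211)) (.leaf (0, 0))) (.node (.leaf (57, 363)) (.leaf (41, 371))))))) (.node (.node (.node (.node (.node (.node (.leaf (5, 51)) (.leaf (59, 1858))) (.leaf (59, 156))) (.node (.leaf (0, 0)) (.leaf (24, 1334)))) (.node (.node (.leaf (0, 0)) (.leaf (17, 54))) (.node (.leaf (18, 819)) (.leaf (0, 1843))))) (.node (.node (.node (.leaf (0, 0)) (.leaf (17, 138))) (.node (.leaf (19, 691)) (.leaf (16, 1715)))) (.node (.node (.leaf (45, 435)) (.leaf (59, 1240))) (.node (.leaf (0, 0)) (.leaf (52, 680)))))) (.node (.node (.node (.node (.node (.leaf (0, 0)) (.leaf (49, 714))) (.leaf (4, 1139))) (.node (.leaf (53, 206)) (.leaf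 (14, 1166)))) (.node (.node (.leaf (0, 0)) (.leaf (16, 68))) (.node (.leaf (57, 145)) (.leaf (59, 2144))))) (.node (.node (.node (.leaf (54, 1219)) (.leaf (52, 1267))) (.node (.leaf (0, 0)) (.leaf (32, 1427)))) (.node (.node (.leaf (0, 0)) (.leaf (34, 1036))) (.node (.leaf (0, 0)) (.leaf (53, 217))))))))) (.node (.node (.node (.node (.node (.node (.node (.node (.leaf (0, 0)) (.leaf (41, 501))) (.leaf (0, 0))) (.node (.leaf (55, 1485)) (.leaf (59, 1056)))) (.node (.node (.leaf (0, 0)) (.leaf (59, 1778))) (.node (.leaf (57, 1476)) (.leaf (59, 2010))))) (.node (.node (.node (.node (.leaf (59, 458)) (.leaf (0, 0))) (.leaf (56, 699))) (.node (.leaf (0, 651)) (.leaf (0, 1675)))) (.node (.node (.leaf (59, 882)) (.leaf (0, 0))) (.node (.leaf (0, 2139)) (.leaf (0, 1931)))))) (.node (.node (.node (.node (.node (.leaf (0, 0)) (.leaf (51, 2123))) (.leaf (58, 1099))) (.node (.leaf (16, 587)) (.leaf (56, 1503))))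 (.node (.node (.leaf (0, 0)) (.leaf (41, 293))) (.node (.leaf (59, 843)) (.leaf (0, 1867))))) (.node (.node (.node (.leaf (0, 0)) (.leaf (52, 1226))) (.node (.leaf (58, 1774)) (.leaf (4, 1739)))) (.node (.node (.leaf (54, 93)) (.leaf (48, 95))) (.node (.leaf (57, 489)) (.leaf (24, 1452))))))) (.node (.node (.node (.node (.node (.node (.leaf (0, 0)) (.leaf (50, 2108))) (.leaf (59, 1967))) (.node (.leaf (55, 552)) (.leaf (56, 1624)))) (.node (.node (.leaf (0, 299)) (.leaf (16, 615))) (.node (.leaf (0, 0)) (.leaf (45, 1879))))) (.node (.node (.node (.leaf (0, 0)) (.leaf (53, 466))) (.node (.leaf (5, 683)) (.leaf (0, 1707)))) (.node (.node (.leaf (0, 0)) (.leaf (51, 773))) (.node (.leaf (57, 1845)) (.leaf (34, 283)))))) (.node (.node (.node (.node (.node (.leaf (0, 0)) (.leaf (20, 2155))) (.leaf (18, 1131))) (.node (.leaf (34, 361)) (.leaf (14, 941)))) (.node (.node (.leaf (53, 107)) (.leaf (33, 68)))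 (.node (.leaf (0, 0)) (.leaf (34, 145))))) (.node (.node (.node (.leaf (0, 0)) (.leaf (59, 1259))) (.node (.leaf (0, 1125)) (.leaf (59, 1771)))) (.node (.node (.leaf (38, 1810)) (.leaf (0, 0))) (.node (.leaf (4, 1003)) (.leaf (59, 2027)))))))) (.node (.node (.node (.node (.node (.node (.node (.leaf (34, 753)) (.leaf (5, 2075))) (.leaf (16, 1051))) (.node (.leaf (57, 1434)) (.leaf (56, 1658)))) (.node (.node (.leaf (0, 0)) (.leaf (19, 1904))) (.node (.leaf (0, 0)) (.leaf (57, 1364))))) (.node (.node (.node (.leaf (0, 0)) (.leaf (0, 2129))) (.node (.leaf (56, 1535)) (.leaf (12, 1174)))) (.node (.node (.leaf (59, 411)) (.leaf (53, 1435))) (.node (.leaf (10, 317)) (.leaf (59, 1947)))))) (.node (.node (.node (.node (.node (.leaf (0, 91)) (.leaf (33, 1623))) (.leaf (57, 1115))) (.node (.leaf (59, 1148)) (.leaf (59, 1627)))) (.node (.node (.leaf (10, 82)) (.leaf (32, 617))) (.node (.leaf (0, 0)) (.leaf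 (59, 2076))))) (.node (.node (.node (.leaf (0, 0)) (.leaf (23, 1243))) (.node (.leaf (0, 731)) (.leaf (44, 1422)))) (.node (.node (.leaf (0, 0)) (.leaf (55, 142))) (.node (.leaf (52, 987)) (.leaf (0, 2011))))))) (.node (.node (.node (.node (.node (.node (.leaf (0, 0)) (.leaf (55, 403))) (.leaf (48, 2030))) (.node (.leaf (0, 0)) (.leaf (59, 1595)))) (.node (.node (.leaf (34, 5)) (.leaf (59, 1472))) (.node (.leaf (48, 901)) (.leaf (20, 1851))))) (.node (.node (.node (.leaf (0, 187)) (.leaf (6, 1948))) (.node (.leaf (48, 1825)) (.leaf (57, 946)))) (.node (.node (.leaf (19, 879)) (.leaf (0, 0))) (.node (.leaf (57, 1793)) (.leaf (59, 1153)))))) (.node (.node (.node (.node (.node (.leaf (0, 0)) (.leaf (20, 2171))) (.leaf (45, 1147))) (.node (.leaf (0, 0)) (.leaf (41, 1592)))) (.node (.node (.leaf (0, 0)) (.leaf (56, 552))) (.node (.leaf (0, 0)) (.leaf (59, 2163))))) (.node (.node (.node (.leaf (0, 0))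 (.leaf (56, 1392))) (.node (.leaf (0, 0)) (.leaf (59, 413)))) (.node (.node (.leaf (54, 1836)) (.leaf (0, 2075))) (.node (.leaf (57, 147)) (.leaf (18, 2043)))))))))) (.node (.node (.node (.node (.node (.node (.node (.node (.node (.leaf (0, 0)) (.leaf (53, 2055))) (.leaf (49, 1970))) (.node (.leaf (0, 0)) (.leaf (41, 808)))) (.node (.node (.leaf (19, 442)) (.leaf (59, 1875))) (.node (.leaf (0, 0)) (.leaf (52, 1799))))) (.node (.node (.node (.node (.leaf (16, 752)) (.leaf (18, 2183))) (.leaf (45, 1158))) (.node (.leaf (57, 954)) (.leaf (57, 872)))) (.node (.node (.leaf (0, 0)) (.leaf (16, 1415))) (.node (.leaf (0, 0)) (.leaf (17, 457)))))) (.node (.node (.node (.node (.node (.leaf (17, 65)) (.leaf (59, 1570))) (.leaf (59, 1547))) (.node (.leaf (0, 0)) (.leaf (0, 0)))) (.node (.node (.leaf (0, 0)) (.leaf (56, 583))) (.node (.leaf (0, 0)) (.leaf (24, 76))))) (.node (.node (.node (.leaf (0, 0)) (.leaf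 (31, 316))) (.node (.leaf (58, 1293)) (.leaf (16, 1735)))) (.node (.node (.leaf (0, 0)) (.leaf (59, 1030))) (.node (.leaf (57, 967)) (.leaf (59, 1991))))))) (.node (.node (.node (.node (.node (.node (.leaf (0, 92)) (.leaf (51, 2087))) (.leaf (58, 198))) (.node (.leaf (53, 1572)) (.leaf (48, 898)))) (.node (.node (.leaf (0, 0)) (.leaf (15, 50))) (.node (.leaf (0, 1520)) (.leaf (55, 1571))))) (.node (.node (.node (.leaf (16, 784)) (.leaf (49, 1190))) (.node (.leaf (56, 228)) (.leaf (57, 2059)))) (.node (.node (.leaf (59, 423)) (.leaf (0, 0))) (.node (.leaf (41, 889)) (.leaf (4, 1959)))))) (.node (.node (.node (.node (.node (.leaf (0, 0)) (.leaf (57, 1037))) (.leaf (0, 1127))) (.node (.leaf (32, 58)) (.leaf (58, 1044)))) (.node (.node (.leaf (0, 0)) (.leaf (50, 2029))) (.node (.leaf (59, 871)) (.leaf (56, 1384))))) (.node (.node (.node (.leaf (59, 668)) (.leaf (54, 1255))) (.node (.leaf (0, 0)) (.leaf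 (0, 1767)))) (.node (.node (.leaf (59, 148)) (.leaf (0, 0))) (.node (.leaf (59, 356)) (.leaf (20, 2154)))))))) (.node (.node (.node (.node (.node (.node (.node (.leaf (0, 0)) (.leaf (58, 1515))) (.leaf (57, 1490))) (.node (.leaf (59, 535)) (.leaf (55, 1624)))) (.node (.node (.leaf (0, 0)) (.leaf (59, 674))) (.node (.leaf (0, 0)) (.leaf (0, 2145))))) (.node (.node (.node (.node (.leaf (0, 0)) (.leaf (48, 272))) (.leaf (45, 131))) (.node (.leaf (55, 1626)) (.leaf (24, 1253)))) (.node (.node (.leaf (0, 0)) (.leaf (41, 22))) (.node (.leaf (48, 1003)) (.leaf (59, 1943)))))) (.node (.node (.node (.node (.node (.leaf (0, 0)) (.leaf (59, 1744))) (.leaf (59, 1889))) (.node (.leaf (53, 599)) (.leaf (16, 1623)))) (.node (.node (.leaf (0, 0)) (.leaf (57, 118))) (.node (.leaf (4, 855)) (.leaf (0, 1879))))) (.node (.node (.node (.leaf (59, 215)) (.leaf (19, 103))) (.node (.leaf (53, 1454)) (.leaf (59, 2100))))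 (.node (.node (.leaf (0, 471)) (.leaf (59, 2139))) (.node (.leaf (24, 975)) (.leaf (52, 1826))))))) (.node (.node (.node (.node (.node (.node (.leaf (0, 0)) (.leaf (59, 2103))) (.leaf (59, 1528))) (.node (.leaf (0, 1320)) (.leaf (59, 387)))) (.node (.node (.leaf (0, 0)) (.leaf (57, 1553))) (.node (.leaf (0, 0)) (.leaf (12, 1847))))) (.node (.node (.node (.leaf (52, 52)) (.leaf (52, 2182))) (.node (.leaf (55, 2103)) (.leaf (0, 1719)))) (.node (.node (.leaf (0, 0)) (.leaf (56, 822))) (.node (.leaf (4, 1789)) (.leaf (59, 1666)))))) (.node (.node (.node (.node (.node (.leaf (0, 119)) (.leaf (18, 2167))) (.leaf (59, 1143))) (.node (.leaf (59, 1046)) (.leaf (58, 1655)))) (.node (.node (.leaf (0, 0)) (.leaf (23, 1399))) (.node (.leaf (0, 0)) (.leaf (48, 1297))))) (.node (.node (.node (.leaf (0, 0)) (.leaf (56, 570))) (.node (.leaf (34, 36)) (.leaf (58, 392)))) (.node (.node (.leaf (15, 154)) (.leaf (59,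 8))) (.node (.leaf (45, 90)) (.leaf (46, 1481))))))))) (.node (.node (.node (.node (.node (.node (.node (.node (.leaf (0, 0)) (.leaf (57, 1679))) (.leaf (54, 1039))) (.node (.leaf (0, 0)) (.leaf (58, 1551)))) (.node (.node (.leaf (0, 271)) (.leaf (59, 1645))) (.node (.leaf (52, 783)) (.leaf (57, 1807))))) (.node (.node (.node (.node (.leaf (0, 0)) (.leaf (16, 311))) (.leaf (59, 1167))) (.node (.leaf (55, 1990)) (.leaf (59, 981)))) (.node (.node (.leaf (0, 0)) (.leaf (59, 1423))) (.node (.leaf (0, 0)) (.leaf (56, 1428)))))) (.node (.node (.node (.node (.node (.leaf (0, 0)) (.leaf (32, 1606))) (.leaf (0, 0))) (.node (.leaf (59, 1119)) (.leaf (34, 1486)))) (.node (.node (.leaf (0, 0)) (.leaf (59, 1865))) (.node (.leaf (0, 0)) (.leaf (0, 2082))))) (.node (.node (.node (.leaf (59, 1196)) (.leaf (36, 478))) (.node (.leaf (59, 1495)) (.leaf (41, 912)))) (.node (.node (.leaf (56, 180)) (.leaf (50, 1487)))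 (.node (.leaf (0, 975)) (.leaf (55, 713))))))) (.node (.node (.node (.node (.node (.node (.leaf (0, 0)) (.leaf (56, 915))) (.leaf (31, 442))) (.node (.leaf (34, 3)) (.leaf (59, 1040)))) (.node (.node (.leaf (0, 0)) (.leaf (51, 713))) (.node (.leaf (59, 815)) (.leaf (53, 1253))))) (.node (.node (.node (.leaf (0, 0)) (.leaf (34, 816))) (.node (.leaf (0, 1687)) (.leaf (35, 1711)))) (.node (.node (.leaf (0, 0)) (.leaf (4, 1455))) (.node (.leaf (41, 335)) (.leaf (59, 953)))))) (.node (.node (.node (.node (.node (.leaf (17, 105)) (.leaf (0, 2159))) (.leaf (0, 2149))) (.node (.leaf (59, 1204)) (.leaf (6, 1648)))) (.node (.node (.leaf (0, 367)) (.leaf (54, 1971))) (.node (.leaf (6, 1174)) (.leaf (59, 1103))))) (.node (.node (.node (.leaf (45, 17)) (.leaf (59, 1851))) (.node (.leaf (0, 0)) (.leaf (0, 2003)))) (.node (.node (.leaf (0, 0)) (.leaf (0, 1519))) (.node (.leaf (0, 0)) (.leaf (57, 2031)))))))) (.node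 (.node (.node (.node (.node (.node (.node (.leaf (0, 0)) (.leaf (43, 2104))) (.leaf (16, 1388))) (.node (.leaf (58, 52)) (.leaf (58, 2022)))) (.node (.node (.leaf (0, 0)) (.leaf (56, 370))) (.node (.leaf (0, 0)) (.leaf (53, 836))))) (.node (.node (.node (.leaf (58, 462)) (.leaf (59, 1183))) (.node (.leaf (57, 250)) (.leaf (56, 881)))) (.node (.node (.leaf (0, 0)) (.leaf (59, 1439))) (.node (.leaf (24, 759)) (.leaf (57, 1951)))))) (.node (.node (.node (.node (.node (.leaf (0, 0)) (.leaf (54, 1510))) (.leaf (0, 1119))) (.node (.leaf (57, 197)) (.leaf (55, 185)))) (.node (.node (.leaf (0, 0)) (.leaf (59, 1375))) (.node (.leaf (58, 395)) (.leaf (56, 971))))) (.node (.node (.node (.leaf (0, 0)) (.leaf (58, 1688))) (.node (.leaf (32, 1049)) (.leaf (0, 1993)))) (.node (.node (.leaf (59, 1477)) (.leaf (0, 1503))) (.node (.leaf (57, 991)) (.leaf (57, 1462))))))) (.node (.node (.node (.node (.node (.node (.leaf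 (0, 0)) (.leaf (53, 2111))) (.leaf (59, 1769))) (.node (.leaf (32, 80)) (.leaf (54, 1162)))) (.node (.node (.leaf (59, 895)) (.leaf (59, 85))) (.node (.leaf (0, 0)) (.leaf (59, 2015))))) (.node (.node (.node (.leaf (0, 0)) (.leaf (59, 1215))) (.node (.leaf (19, 64)) (.leaf (53, 1727)))) (.node (.node (.leaf (0, 0)) (.leaf (0, 0))) (.node (.leaf (55, 892)) (.leaf (57, 1295)))))) (.node (.node (.node (.node (.node (.leaf (0, 0)) (.leaf (0, 2175))) (.leaf (34, 881))) (.node (.leaf (59, 211)) (.leaf (56, 1081)))) (.node (.node (.leaf (0, 0)) (.leaf (0, 0))) (.node (.leaf (0, 0)) (.leaf (9, 53))))) (.node (.node (.node (.leaf (59, 2137)) (.leaf (34, 64))) (.node (.leaf (0, 767)) (.leaf (59, 1791)))) (.node (.node (.leaf (41, 881)) (.leaf (0, 0))) (.node (.leaf (0, 2152)) (.leaf (45, 2047))))))))))))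

def threeVia5 : Janko.Tree (ℕ × ℕ) :=
  (.node (.node (.node (.node (.node (.node (.node (.node (.node (.node (.node (.leaf (0, 0)) (.leaf (54, 939))) (.leaf (34, 1512))) (.node (.leaf (1, 513)) (.leaf (22, 2018)))) (.node (.node (.leaf (0, 0)) (.leaf (52, 559))) (.node (.leaf (0, 0)) (.leaf (54, 591))))) (.node (.node (.node (.node (.leaf (0, 0)) (.leaf (58, 1168))) (.leaf (58, 34))) (.node (.leaf (58, 578)) (.leaf (58, 1546)))) (.node (.node (.leaf (48, 1280)) (.leaf (0, 0))) (.node (.leaf (53, 458)) (.leaf (58, 1695)))))) (.node (.node (.node (.node (.node (.leaf (0, 0)) (.leaf (36, 772))) (.leaf (45, 952))) (.node (.leaf (0, 0)) (.leaf (59, 1817)))) (.node (.node (.leaf (1, 321)) (.leaf (1, 1345))) (.node (.leaf (58, 1006)) (.leaf (58, 1585))))) (.node (.node (.node (.leaf (0, 0)) (.leaf (1, 1217))) (.node (.leaf (59, 1219)) (.leaf (1, 1729)))) (.node (.node (.leaf (0, 0)) (.leaf (0, 0))) (.node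 (.leaf (59, 1382)) (.leaf (59, 844))))))) (.node (.node (.node (.node (.node (.node (.leaf (0, 0)) (.leaf (59, 308))) (.leaf (20, 2070))) (.node (.leaf (0, 0)) (.leaf (1, 2021)))) (.node (.node (.leaf (1, 289)) (.leaf (59, 1178))) (.node (.leaf (0, 0)) (.leaf (48, 2096))))) (.node (.node (.node (.leaf (58, 1428)) (.leaf (0, 0))) (.node (.leaf (16, 753)) (.leaf (53, 2152)))) (.node (.node (.leaf (1, 1905)) (.leaf (0, 0))) (.node (.leaf (51, 1215)) (.leaf (17, 93)))))) (.node (.node (.node (.node (.node (.leaf (0, 0)) (.leaf (1, 2145))) (.leaf (32, 352))) (.node (.leaf (28, 1088)) (.leaf (57, 1631)))) (.node (.node (.leaf (0, 0)) (.leaf (53, 1472))) (.node (.leaf (0, 0)) (.leaf (58, 1719))))) (.node (.node (.node (.leaf (0, 0)) (.leaf (54, 1027))) (.node (.leaf (4, 1691)) (.leaf (57, 2062)))) (.node (.node (.leaf (0, 0)) (.leaf (0, 0))) (.node (.leaf (0, 0)) (.leaf (59, 2029)))))))) (.node (.node (.node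 (.node (.node (.node (.node (.leaf (0, 0)) (.leaf (1, 2065))) (.leaf (1, 1041))) (.node (.leaf (59, 528)) (.leaf (1, 1553)))) (.node (.node (.leaf (0, 0)) (.leaf (38, 1911))) (.node (.leaf (0, 0)) (.leaf (59, 1856))))) (.node (.node (.node (.node (.leaf (0, 0)) (.leaf (12, 0))) (.leaf (58, 1245))) (.node (.leaf (59, 2023)) (.leaf (57, 1554)))) (.node (.node (.leaf (57, 400)) (.leaf (0, 0))) (.node (.leaf (59, 1585)) (.leaf (58, 2158)))))) (.node (.node (.node (.node (.node (.leaf (0, 0)) (.leaf (58, 1179))) (.leaf (1, 1105))) (.node (.leaf (37, 1847)) (.leaf (59, 1804)))) (.node (.node (.leaf (0, 0)) (.leaf (53, 598))) (.node (.leaf (58, 58)) (.leaf (51, 2078))))) (.node (.node (.node (.leaf (53, 858)) (.leaf (51, 44))) (.node (.leaf (59, 2031)) (.leaf (58, 1902)))) (.node (.node (.leaf (0, 0)) (.leaf (59, 1544))) (.node (.leaf (55, 124)) (.leaf (6, 1049))))))) (.node (.node (.node (.node (.node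 (.node (.leaf (0, 0)) (.leaf (59, 1960))) (.leaf (58, 1232))) (.node (.leaf (0, 0)) (.leaf (59, 2089)))) (.node (.node (.leaf (57, 2115)) (.leaf (41, 274))) (.node (.leaf (0, 0)) (.leaf (56, 1461))))) (.node (.node (.node (.leaf (0, 0)) (.leaf (50, 743))) (.node (.leaf (59, 540)) (.leaf (38, 759)))) (.node (.node (.leaf (1, 433)) (.leaf (0, 0))) (.node (.leaf (59, 1293)) (.leaf (58, 478)))))) (.node (.node (.node (.node (.node (.leaf (0, 0)) (.leaf (59, 412))) (.leaf (1, 1137))) (.node (.leaf (0, 0)) (.leaf (53, 1128)))) (.node (.node (.leaf (13, 367)) (.leaf (58, 1301))) (.node (.leaf (0, 0)) (.leaf (18, 417))))) (.node (.node (.node (.leaf (22, 389)) (.leaf (58, 1334))) (.node (.leaf (1, 753)) (.leaf (35, 191)))) (.node (.node (.leaf (57, 2127)) (.leaf (0, 0))) (.node (.leaf (53, 2100)) (.leaf (59, 692))))))))) (.node (.node (.node (.node (.node (.node (.node (.node (.leaf (0, 0)) (.leaf (41, 820)))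 (.leaf (55, 1032))) (.node (.leaf (59, 325)) (.leaf (59, 1600)))) (.node (.node (.leaf (1, 265)) (.leaf (58, 918))) (.node (.leaf (17, 280)) (.leaf (58, 1751))))) (.node (.node (.node (.node (.leaf (0, 0)) (.leaf (1, 2185))) (.leaf (54, 1271))) (.node (.leaf (58, 295)) (.leaf (57, 1672)))) (.node (.node (.leaf (12, 2102)) (.leaf (52, 803))) (.node (.leaf (0, 0)) (.leaf (35, 93)))))) (.node (.node (.node (.node (.node (.leaf (0, 0)) (.leaf (58, 723))) (.leaf (59, 820))) (.node (.leaf (59, 738)) (.leaf (1, 1609)))) (.node (.node (.leaf (0, 0)) (.leaf (59, 1213))) (.node (.leaf (58, 995)) (.leaf (59, 2045))))) (.node (.node (.node (.leaf (18, 514)) (.leaf (26, 474))) (.node (.leaf (0, 0)) (.leaf (59, 1418)))) (.node (.node (.leaf (58, 419)) (.leaf (56, 2039))) (.node (.leaf (1, 969)) (.leaf (49, 348))))))) (.node (.node (.node (.node (.node (.node (.leaf (0, 0)) (.leaf (1, 2089))) (.leaf (58, 1055)))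 (.node (.leaf (1, 553)) (.leaf (59, 1864)))) (.node (.node (.leaf (0, 0)) (.leaf (57, 1296))) (.node (.leaf (0, 0)) (.leaf (50, 1223))))) (.node (.node (.node (.leaf (0, 0)) (.leaf (1, 1193))) (.node (.leaf (29, 694)) (.leaf (53, 1150)))) (.node (.node (.leaf (0, 0)) (.leaf (12, 689))) (.node (.leaf (32, 98)) (.leaf (59, 283)))))) (.node (.node (.node (.node (.node (.leaf (0, 0)) (.leaf (1, 2153))) (.leaf (53, 1646))) (.node (.leaf (30, 58)) (.leaf (58, 1494)))) (.node (.node (.leaf (0, 0)) (.leaf (54, 1334))) (.node (.leaf (59, 77)) (.leaf (59, 1802))))) (.node (.node (.node (.leaf (58, 298)) (.leaf (59, 1669))) (.node (.leaf (59, 1353)) (.leaf (53, 524)))) (.node (.node (.leaf (53, 1494)) (.leaf (0, 0))) (.node (.leaf (59, 902)) (.leaf (59, 563)))))))) (.node (.node (.node (.node (.node (.node (.node (.leaf (1, 25)) (.leaf (57, 2145))) (.leaf (53, 1749))) (.node (.leaf (0, 0)) (.leaf (55, 2036))))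 (.node (.node (.leaf (0, 0)) (.leaf (1, 1305))) (.node (.leaf (53, 1836)) (.leaf (51, 105))))) (.node (.node (.node (.node (.leaf (0, 0)) (.leaf (57, 2104))) (.leaf (53, 725))) (.node (.leaf (53, 1632)) (.leaf (1, 1689)))) (.node (.node (.leaf (0, 0)) (.leaf (59, 1927))) (.node (.leaf (1, 921)) (.leaf (17, 1408)))))) (.node (.node (.node (.node (.node (.leaf (0, 0)) (.leaf (36, 1198))) (.leaf (33, 274))) (.node (.leaf (58, 564)) (.leaf (58, 1776)))) (.node (.node (.leaf (1, 345)) (.leaf (57, 1323))) (.node (.leaf (0, 0)) (.leaf (59, 1583))))) (.node (.node (.node (.leaf (0, 0)) (.leaf (58, 810))) (.node (.leaf (59, 1134)) (.leaf (59, 1702)))) (.node (.node (.leaf (0, 0)) (.leaf (59, 1908))) (.node (.leaf (57, 1214)) (.leaf (1, 2183))))))) (.node (.node (.node (.node (.node (.node (.leaf (0, 0)) (.leaf (53, 1790))) (.leaf (57, 1896))) (.node (.leaf (32, 1223)) (.leaf (57, 2017)))) (.node (.node (.leaf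 (0, 0)) (.leaf (55, 1540))) (.node (.leaf (0, 0)) (.leaf (59, 1480))))) (.node (.node (.node (.leaf (31, 82)) (.leaf (34, 1440))) (.node (.leaf (52, 262)) (.leaf (59, 1432)))) (.node (.node (.leaf (1, 1691)) (.leaf (53, 898))) (.node (.leaf (49, 888)) (.leaf (53, 1333)))))) (.node (.node (.node (.node (.node (.leaf (0, 0)) (.leaf (1, 2169))) (.leaf (39, 149))) (.node (.leaf (57, 1347)) (.leaf (34, 1948)))) (.node (.node (.leaf (0, 0)) (.leaf (55, 1466))) (.node (.leaf (0, 0)) (.leaf (59, 1870))))) (.node (.node (.node (.leaf (57, 291)) (.leaf (48, 126))) (.node (.leaf (53, 321)) (.leaf (52, 904)))) (.node (.node (.leaf (46, 277)) (.leaf (1, 1529))) (.node (.leaf (0, 0)) (.leaf (52, 1908)))))))))) (.node (.node (.node (.node (.node (.node (.node (.node (.node (.leaf (0, 0)) (.leaf (1, 2053))) (.leaf (58, 888))) (.node (.leaf (58, 666)) (.leaf (31, 308)))) (.node (.node (.leaf (34, 1174)) (.leaf (1,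 1285))) (.node (.leaf (0, 0)) (.leaf (51, 1993))))) (.node (.node (.node (.node (.leaf (0, 0)) (.leaf (59, 797))) (.leaf (53, 84))) (.node (.leaf (50, 178)) (.leaf (57, 1508)))) (.node (.node (.leaf (58, 2007)) (.leaf (1, 1413))) (.node (.leaf (54, 2171)) (.leaf (1, 1925)))))) (.node (.node (.node (.node (.node (.leaf (1, 69)) (.leaf (59, 1283))) (.leaf (59, 1193))) (.node (.leaf (59, 2056)) (.leaf (55, 303)))) (.node (.node (.leaf (0, 0)) (.leaf (57, 969))) (.node (.leaf (53, 1418)) (.leaf (58, 1842))))) (.node (.node (.node (.leaf (0, 0)) (.leaf (1, 1630))) (.node (.leaf (1, 709)) (.leaf (54, 163)))) (.node (.node (.leaf (0, 0)) (.leaf (59, 479))) (.node (.leaf (54, 803)) (.leaf (29, 1989))))))) (.node (.node (.node (.node (.node (.node (.leaf (0, 0)) (.leaf (53, 1325))) (.leaf (58, 55))) (.node (.leaf (7, 48)) (.leaf (58, 1743)))) (.node (.node (.leaf (0, 0)) (.leaf (50, 512))) (.node (.leaf (0,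 0)) (.leaf (58, 2150))))) (.node (.node (.node (.leaf (1, 165)) (.leaf (1, 1652))) (.node (.leaf (0, 0)) (.leaf (59, 91)))) (.node (.node (.leaf (22, 826)) (.leaf (1, 1445))) (.node (.leaf (0, 0)) (.leaf (59, 985)))))) (.node (.node (.node (.node (.node (.leaf (0, 0)) (.leaf (53, 1781))) (.leaf (59, 1052))) (.node (.leaf (56, 473)) (.leaf (59, 309)))) (.node (.node (.leaf (0, 0)) (.leaf (59, 1403))) (.node (.leaf (0, 0)) (.leaf (49, 419))))) (.node (.node (.node (.leaf (0, 0)) (.leaf (1, 1253))) (.node (.leaf (59, 740)) (.leaf (1, 1765)))) (.node (.node (.leaf (59, 527)) (.leaf (0, 0))) (.node (.leaf (1, 997)) (.leaf (22, 817)))))))) (.node (.node (.node (.node (.node (.node (.node (.leaf (0, 0)) (.leaf (1, 2069))) (.leaf (57, 979))) (.node (.leaf (58, 835)) (.leaf (0, 0)))) (.node (.node (.leaf (0, 0)) (.leaf (59, 998))) (.node (.leaf (0, 0)) (.leaf (59, 368))))) (.node (.node (.node (.node (.leaf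 (0, 0)) (.leaf (41, 85))) (.leaf (53, 81))) (.node (.leaf (57, 842)) (.leaf (38, 767)))) (.node (.node (.leaf (0, 0)) (.leaf (0, 0))) (.node (.leaf (52, 2055)) (.leaf (59, 1940)))))) (.node (.node (.node (.node (.node (.leaf (0, 0)) (.leaf (55, 972))) (.leaf (58, 1067))) (.node (.leaf (57, 568)) (.leaf (59, 1654)))) (.node (.node (.leaf (47, 736)) (.leaf (59, 1352))) (.node (.leaf (53, 414)) (.leaf (9, 912))))) (.node (.node (.node (.leaf (53, 1119)) (.leaf (59, 880))) (.node (.leaf (59, 2003)) (.leaf (1, 1749)))) (.node (.node (.leaf (59, 742)) (.leaf (26, 785))) (.node (.leaf (0, 0)) (.leaf (0, 0))))))) (.node (.node (.node (.node (.node (.node (.leaf (0, 0)) (.leaf (45, 2012))) (.leaf (57, 1076))) (.node (.leaf (50, 50)) (.leaf (0, 0)))) (.node (.node (.leaf (0, 0)) (.leaf (53, 1553))) (.node (.leaf (0, 0)) (.leaf (57, 1407))))) (.node (.node (.node (.leaf (0, 0)) (.leaf (0, 0))) (.node (.leaf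 (0, 0)) (.leaf (0, 0)))) (.node (.node (.leaf (0, 0)) (.leaf (53, 569))) (.node (.leaf (18, 382)) (.leaf (22, 37)))))) (.node (.node (.node (.node (.node (.leaf (0, 0)) (.leaf (41, 105))) (.leaf (57, 125))) (.node (.leaf (59, 2087)) (.leaf (35, 87)))) (.node (.node (.leaf (0, 0)) (.leaf (57, 2179))) (.node (.leaf (0, 0)) (.leaf (19, 415))))) (.node (.node (.node (.leaf (0, 0)) (.leaf (57, 853))) (.node (.leaf (0, 0)) (.leaf (53, 912)))) (.node (.node (.leaf (57, 551)) (.leaf (0, 0))) (.node (.leaf (58, 775)) (.leaf (59, 2105))))))))) (.node (.node (.node (.node (.node (.node (.node (.node (.leaf (0, 0)) (.leaf (13, 12))) (.leaf (53, 335))) (.node (.leaf (0, 0)) (.leaf (41, 290)))) (.node (.node (.leaf (0, 0)) (.leaf (34, 229))) (.node (.leaf (53, 1487)) (.leaf (59, 236))))) (.node (.node (.node (.node (.leaf (1, 271)) (.leaf (9, 83))) (.leaf (1, 1165))) (.node (.leaf (59, 620)) (.leaf (58, 1910))))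 (.node (.node (.leaf (0, 0)) (.leaf (0, 0))) (.node (.leaf (1, 1732)) (.leaf (57, 255)))))) (.node (.node (.node (.node (.node (.leaf (0, 0)) (.leaf (54, 1146))) (.leaf (53, 1792))) (.node (.leaf (55, 935)) (.leaf (0, 0)))) (.node (.node (.leaf (0, 0)) (.leaf (58, 906))) (.node (.leaf (58, 54)) (.leaf (59, 484))))) (.node (.node (.node (.leaf (56, 128)) (.leaf (59, 1751))) (.node (.leaf (59, 1393)) (.leaf (58, 1509)))) (.node (.node (.leaf (36, 898)) (.leaf (32, 12))) (.node (.leaf (0, 0)) (.leaf (12, 277))))))) (.node (.node (.node (.node (.node (.node (.leaf (0, 0)) (.leaf (53, 1450))) (.leaf (58, 1058))) (.node (.leaf (0, 0)) (.leaf (59, 1691)))) (.node (.node (.leaf (0, 0)) (.leaf (59, 182))) (.node (.leaf (0, 0)) (.leaf (53, 1512))))) (.node (.node (.node (.leaf (0, 0)) (.leaf (1, 1197))) (.node (.leaf (53, 947)) (.leaf (0, 0)))) (.node (.node (.leaf (50, 1810)) (.leaf (0, 0))) (.node (.leaf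 (0, 0)) (.leaf (41, 734)))))) (.node (.node (.node (.node (.node (.leaf (1, 109)) (.leaf (59, 2106))) (.leaf (0, 0))) (.node (.leaf (13, 895)) (.leaf (34, 347)))) (.node (.node (.leaf (58, 2069)) (.leaf (58, 1203))) (.node (.leaf (59, 1687)) (.leaf (47, 399))))) (.node (.node (.node (.leaf (1, 1388)) (.leaf (55, 186))) (.node (.leaf (55, 1307)) (.leaf (58, 1519)))) (.node (.node (.leaf (0, 0)) (.leaf (0, 0))) (.node (.leaf (0, 0)) (.leaf (54, 709)))))))) (.node (.node (.node (.node (.node (.node (.node (.leaf (0, 0)) (.leaf (59, 864))) (.leaf (59, 1886))) (.node (.leaf (0, 0)) (.leaf (0, 0)))) (.node (.node (.leaf (0, 0)) (.leaf (32, 618))) (.node (.leaf (0, 0)) (.leaf (59, 1502))))) (.node (.node (.node (.leaf (0, 0)) (.leaf (1, 1181))) (.node (.leaf (1, 1927)) (.leaf (0, 0)))) (.node (.node (.leaf (58, 364)) (.leaf (59, 198))) (.node (.leaf (59, 224)) (.leaf (59, 486)))))) (.node (.node (.node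 (.node (.node (.leaf (0, 0)) (.leaf (59, 2151))) (.leaf (34, 409))) (.node (.leaf (59, 632)) (.leaf (34, 652)))) (.node (.node (.leaf (0, 0)) (.leaf (48, 1880))) (.node (.leaf (0, 0)) (.leaf (58, 1905))))) (.node (.node (.node (.leaf (57, 220)) (.leaf (39, 611))) (.node (.leaf (56, 1124)) (.leaf (59, 169)))) (.node (.node (.leaf (0, 0)) (.leaf (48, 488))) (.node (.leaf (0, 0)) (.leaf (58, 427))))))) (.node (.node (.node (.node (.node (.node (.leaf (44, 1529)) (.leaf (59, 362))) (.leaf (59, 1147))) (.node (.leaf (0, 0)) (.leaf (58, 168)))) (.node (.node (.leaf (0, 0)) (.leaf (59, 1866))) (.node (.leaf (58, 61)) (.leaf (57, 1917))))) (.node (.node (.node (.leaf (59, 1786)) (.leaf (55, 83))) (.node (.leaf (59, 1050)) (.leaf (4, 2137)))) (.node (.node (.leaf (1, 445)) (.leaf (22, 2121))) (.node (.leaf (48, 100)) (.leaf (12, 774)))))) (.node (.node (.node (.node (.node (.leaf (58, 95)) (.leaf (59, 1710)))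 (.leaf (59, 980))) (.node (.leaf (1, 637)) (.leaf (59, 1768)))) (.node (.node (.leaf (1, 1747)) (.leaf (0, 0))) (.node (.leaf (58, 887)) (.leaf (1, 1917))))) (.node (.node (.node (.leaf (1, 253)) (.leaf (13, 1683))) (.node (.leaf (0, 0)) (.leaf (36, 338)))) (.node (.node (.leaf (59, 497)) (.leaf (58, 1406))) (.node (.leaf (37, 417)) (.leaf (59, 1017))))))))))) (.node (.node (.node (.node (.node (.node (.node (.node (.node (.node (.leaf (0, 0)) (.leaf (53, 904))) (.leaf (1, 1846))) (.node (.leaf (53, 145)) (.leaf (52, 807)))) (.node (.node (.leaf (53, 1198)) (.leaf (50, 367))) (.node (.leaf (1, 771)) (.leaf (27, 1795))))) (.node (.node (.node (.node (.leaf (0, 0)) (.leaf (59, 1937))) (.leaf (52, 1875))) (.node (.leaf (59, 606)) (.leaf (0, 0)))) (.node (.node (.leaf (0, 0)) (.leaf (58, 1413))) (.node (.leaf (0, 0)) (.leaf (1, 2104)))))) (.node (.node (.node (.node (.node (.leaf (0, 0)) (.leaf (58,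 2145))) (.leaf (59, 1241))) (.node (.leaf (59, 1228)) (.leaf (59, 1775)))) (.node (.node (.leaf (0, 0)) (.leaf (59, 1210))) (.node (.leaf (0, 0)) (.leaf (58, 230))))) (.node (.node (.node (.leaf (0, 0)) (.leaf (51, 1499))) (.node (.leaf (59, 2001)) (.leaf (55, 268)))) (.node (.node (.leaf (0, 0)) (.leaf (52, 1171))) (.node (.leaf (0, 0)) (.leaf (57, 730))))))) (.node (.node (.node (.node (.node (.node (.leaf (0, 0)) (.leaf (53, 1036))) (.leaf (51, 1443))) (.node (.leaf (53, 229)) (.leaf (9, 293)))) (.node (.node (.leaf (0, 0)) (.leaf (1, 1315))) (.node (.leaf (38, 367)) (.leaf (59, 1774))))) (.node (.node (.node (.leaf (0, 0)) (.leaf (59, 43))) (.node (.leaf (1, 1089)) (.leaf (50, 1012)))) (.node (.node (.leaf (13, 417)) (.leaf (57, 86))) (.node (.leaf (58, 1269)) (.leaf (0, 0)))))) (.node (.node (.node (.node (.node (.leaf (0, 0)) (.leaf (59, 1965))) (.leaf (59, 852))) (.node (.leaf (0, 0)) (.leaf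 (29, 1648)))) (.node (.node (.leaf (0, 0)) (.leaf (59, 1696))) (.node (.leaf (53, 1530)) (.leaf (45, 2013))))) (.node (.node (.node (.leaf (1, 227)) (.leaf (6, 1566))) (.node (.leaf (0, 0)) (.leaf (58, 220)))) (.node (.node (.leaf (59, 2036)) (.leaf (1, 1507))) (.node (.leaf (32, 175)) (.leaf (59, 1281)))))))) (.node (.node (.node (.node (.node (.node (.node (.leaf (0, 0)) (.leaf (45, 436))) (.leaf (59, 999))) (.node (.leaf (32, 27)) (.leaf (58, 1922)))) (.node (.node (.leaf (0, 0)) (.leaf (57, 47))) (.node (.leaf (0, 0)) (.leaf (58, 1533))))) (.node (.node (.node (.node (.leaf (0, 0)) (.leaf (33, 1948))) (.leaf (36, 202))) (.node (.leaf (0, 0)) (.leaf (50, 697)))) (.node (.node (.leaf (0, 0)) (.leaf (0, 0))) (.node (.leaf (0, 0)) (.leaf (1, 1939)))))) (.node (.node (.node (.node (.node (.leaf (0, 0)) (.leaf (54, 2182))) (.leaf (17, 404))) (.node (.leaf (41, 55)) (.leaf (59, 1904)))) (.node (.node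 (.leaf (0, 0)) (.leaf (53, 1880))) (.node (.leaf (0, 0)) (.leaf (59, 1859))))) (.node (.node (.node (.leaf (0, 0)) (.leaf (50, 690))) (.node (.leaf (59, 1980)) (.leaf (53, 1529)))) (.node (.node (.leaf (0, 0)) (.leaf (0, 0))) (.node (.leaf (1, 979)) (.leaf (1, 2003))))))) (.node (.node (.node (.node (.node (.node (.leaf (0, 0)) (.leaf (54, 2098))) (.leaf (59, 1417))) (.node (.leaf (0, 0)) (.leaf (59, 2097)))) (.node (.node (.leaf (0, 0)) (.leaf (59, 73))) (.node (.leaf (1, 819)) (.leaf (53, 380))))) (.node (.node (.node (.leaf (0, 0)) (.leaf (18, 1720))) (.node (.leaf (34, 784)) (.leaf (36, 790)))) (.node (.node (.leaf (0, 0)) (.leaf (53, 1536))) (.node (.leaf (57, 814)) (.leaf (1, 1971)))))) (.node (.node (.node (.node (.node (.leaf (0, 0)) (.leaf (54, 2100))) (.leaf (48, 1905))) (.node (.leaf (59, 737)) (.leaf (59, 1811)))) (.node (.node (.leaf (0, 0)) (.leaf (1, 1395))) (.node (.leaf (0, 0)) (.leaf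 (48, 392))))) (.node (.node (.node (.leaf (0, 0)) (.leaf (59, 1279))) (.node (.leaf (0, 0)) (.leaf (59, 2084)))) (.node (.node (.leaf (0, 0)) (.leaf (4, 1779))) (.node (.leaf (0, 0)) (.leaf (1, 2035))))))))) (.node (.node (.node (.node (.node (.node (.node (.node (.leaf (0, 0)) (.leaf (32, 1572))) (.leaf (12, 1743))) (.node (.leaf (59, 2128)) (.leaf (59, 1537)))) (.node (.node (.leaf (0, 0)) (.leaf (59, 1087))) (.node (.leaf (0, 0)) (.leaf (48, 383))))) (.node (.node (.node (.node (.leaf (0, 0)) (.leaf (1, 0))) (.leaf (59, 1125))) (.node (.leaf (59, 444)) (.leaf (52, 308)))) (.node (.node (.leaf (0, 0)) (.leaf (0, 0))) (.node (.leaf (0, 0)) (.leaf (48, 2047)))))) (.node (.node (.node (.node (.node (.leaf (57, 1110)) (.leaf (52, 1373))) (.leaf (40, 400))) (.node (.leaf (46, 1331)) (.leaf (58, 1464)))) (.node (.node (.leaf (17, 1643)) (.leaf (53, 2023))) (.node (.leaf (0, 0)) (.leaf (59, 1783)))))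 (.node (.node (.node (.leaf (53, 44)) (.leaf (1, 1850))) (.node (.leaf (42, 1969)) (.leaf (59, 95)))) (.node (.node (.leaf (1, 459)) (.leaf (55, 1482))) (.node (.leaf (43, 136)) (.leaf (50, 1468))))))) (.node (.node (.node (.node (.node (.node (.leaf (0, 0)) (.leaf (52, 1917))) (.leaf (58, 892))) (.node (.leaf (0, 0)) (.leaf (0, 0)))) (.node (.node (.leaf (0, 0)) (.leaf (29, 1388))) (.node (.leaf (0, 0)) (.leaf (57, 1834))))) (.node (.node (.node (.leaf (58, 146)) (.leaf (17, 454))) (.node (.leaf (59, 320)) (.leaf (0, 0)))) (.node (.node (.leaf (0, 0)) (.leaf (59, 100))) (.node (.leaf (59, 1081)) (.leaf (59, 1176)))))) (.node (.node (.node (.node (.node (.leaf (0, 0)) (.leaf (54, 2078))) (.leaf (1, 1131))) (.node (.leaf (59, 2125)) (.leaf (59, 334)))) (.node (.node (.leaf (12, 702)) (.leaf (59, 1404))) (.node (.leaf (0, 0)) (.leaf (18, 617))))) (.node (.node (.node (.leaf (0, 0)) (.leaf (1, 1934)))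 (.node (.leaf (55, 1130)) (.leaf (45, 1644)))) (.node (.node (.leaf (1, 856)) (.leaf (0, 0))) (.node (.leaf (41, 109)) (.leaf (13, 1166)))))))) (.node (.node (.node (.node (.node (.node (.node (.leaf (0, 0)) (.leaf (59, 799))) (.leaf (55, 1120))) (.node (.leaf (59, 763)) (.leaf (58, 1469)))) (.node (.node (.leaf (0, 0)) (.leaf (41, 203))) (.node (.leaf (1, 795)) (.leaf (58, 129))))) (.node (.node (.node (.leaf (0, 0)) (.leaf (58, 1013))) (.node (.leaf (53, 1894)) (.leaf (18, 445)))) (.node (.node (.leaf (55, 410)) (.leaf (0, 0))) (.node (.leaf (33, 1715)) (.leaf (1, 1947)))))) (.node (.node (.node (.node (.node (.leaf (30, 274)) (.leaf (59, 1974))) (.leaf (42, 49))) (.node (.leaf (0, 0)) (.leaf (16, 316)))) (.node (.node (.leaf (33, 784)) (.leaf (53, 1135))) (.node (.leaf (58, 1658)) (.leaf (59, 1888))))) (.node (.node (.node (.leaf (50, 55)) (.leaf (59, 1762))) (.node (.leaf (59, 293)) (.leaf (53,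 317)))) (.node (.node (.leaf (0, 0)) (.leaf (0, 0))) (.node (.leaf (18, 1735)) (.leaf (53, 1735))))))) (.node (.node (.node (.node (.node (.node (.leaf (0, 0)) (.leaf (59, 469))) (.leaf (59, 1594))) (.node (.leaf (0, 0)) (.leaf (54, 1799)))) (.node (.node (.leaf (0, 0)) (.leaf (1, 1339))) (.node (.leaf (0, 0)) (.leaf (1, 1851))))) (.node (.node (.node (.leaf (1, 1330)) (.leaf (59, 1657))) (.node (.leaf (35, 17)) (.leaf (1, 1723)))) (.node (.node (.leaf (0, 0)) (.leaf (32, 293))) (.node (.leaf (0, 0)) (.leaf (58, 617)))))) (.node (.node (.node (.node (.node (.leaf (0, 0)) (.leaf (59, 1329))) (.leaf (13, 1145))) (.node (.leaf (0, 0)) (.leaf (52, 64)))) (.node (.node (.leaf (1, 950)) (.leaf (1, 1403))) (.node (.leaf (59, 932)) (.leaf (59, 2147))))) (.node (.node (.node (.leaf (0, 0)) (.leaf (59, 1000))) (.node (.leaf (59, 1347)) (.leaf (59, 2016)))) (.node (.node (.leaf (53, 1006)) (.leaf (0, 0))) (.node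 (.leaf (1, 1019)) (.leaf (13, 2047)))))))))) (.node (.node (.node (.node (.node (.node (.node (.node (.node (.leaf (0, 0)) (.leaf (1, 2055))) (.leaf (49, 27))) (.node (.leaf (0, 0)) (.leaf (58, 1766)))) (.node (.node (.leaf (0, 0)) (.leaf (49, 845))) (.node (.leaf (0, 0)) (.leaf (59, 1672))))) (.node (.node (.node (.node (.leaf (0, 0)) (.leaf (41, 321))) (.leaf (53, 432))) (.node (.leaf (58, 2021)) (.leaf (59, 1529)))) (.node (.node (.leaf (0, 0)) (.leaf (36, 461))) (.node (.leaf (0, 0)) (.leaf (34, 669)))))) (.node (.node (.node (.node (.node (.leaf (0, 0)) (.leaf (59, 909))) (.leaf (58, 782))) (.node (.leaf (59, 1351)) (.leaf (48, 1982)))) (.node (.node (.leaf (0, 0)) (.leaf (58, 1333))) (.node (.leaf (0, 0)) (.leaf (45, 1825))))) (.node (.node (.node (.leaf (53, 513)) (.leaf (22, 92))) (.node (.leaf (59, 1342)) (.leaf (1, 1735)))) (.node (.node (.leaf (0, 0)) (.leaf (0, 0))) (.node (.leaf (0,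 0)) (.leaf (31, 621))))))) (.node (.node (.node (.node (.node (.node (.leaf (0, 0)) (.leaf (42, 796))) (.leaf (59, 1344))) (.node (.leaf (0, 0)) (.leaf (48, 461)))) (.node (.node (.leaf (0, 0)) (.leaf (1, 1976))) (.node (.leaf (0, 0)) (.leaf (59, 144))))) (.node (.node (.node (.leaf (18, 2142)) (.leaf (59, 1839))) (.node (.leaf (59, 631)) (.leaf (52, 1150)))) (.node (.node (.leaf (0, 0)) (.leaf (0, 0))) (.node (.leaf (0, 0)) (.leaf (34, 923)))))) (.node (.node (.node (.node (.node (.leaf (0, 0)) (.leaf (58, 2063))) (.leaf (34, 2142))) (.node (.leaf (36, 199)) (.leaf (50, 1269)))) (.node (.node (.leaf (0, 0)) (.leaf (59, 1653))) (.node (.leaf (57, 976)) (.leaf (59, 105))))) (.node (.node (.node (.leaf (59, 230)) (.leaf (0, 0))) (.node (.leaf (53, 1402)) (.leaf (10, 331)))) (.node (.node (.leaf (0, 0)) (.leaf (0, 0))) (.node (.leaf (0, 0)) (.leaf (53, 1171)))))))) (.node (.node (.node (.node (.node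 (.node (.node (.leaf (0, 0)) (.leaf (53, 2171))) (.leaf (59, 991))) (.node (.leaf (52, 1683)) (.leaf (55, 702)))) (.node (.node (.leaf (0, 0)) (.leaf (58, 830))) (.node (.leaf (0, 0)) (.leaf (57, 179))))) (.node (.node (.node (.node (.leaf (17, 1126)) (.leaf (49, 638))) (.leaf (58, 266))) (.node (.leaf (59, 1063)) (.leaf (57, 687)))) (.node (.node (.leaf (1, 407)) (.leaf (0, 0))) (.node (.leaf (53, 347)) (.leaf (1, 1943)))))) (.node (.node (.node (.node (.node (.leaf (0, 0)) (.leaf (57, 1996))) (.leaf (59, 1820))) (.node (.leaf (1, 599)) (.leaf (13, 1950)))) (.node (.node (.leaf (0, 0)) (.leaf (51, 260))) (.node (.leaf (0, 0)) (.leaf (57, 374))))) (.node (.node (.node (.leaf (0, 0)) (.leaf (29, 1239))) (.node (.leaf (59, 489)) (.leaf (59, 1562)))) (.node (.node (.leaf (0, 0)) (.leaf (0, 0))) (.node (.leaf (0, 0)) (.leaf (59, 689))))))) (.node (.node (.node (.node (.node (.node (.leaf (0, 0)) (.leaf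 (49, 363))) (.leaf (58, 834))) (.node (.leaf (0, 0)) (.leaf (1, 1591)))) (.node (.node (.leaf (0, 0)) (.leaf (57, 30))) (.node (.leaf (59, 822)) (.leaf (18, 367))))) (.node (.node (.node (.leaf (12, 1656)) (.leaf (59, 39))) (.node (.leaf (36, 1647)) (.leaf (51, 625)))) (.node (.node (.leaf (58, 305)) (.leaf (58, 108))) (.node (.leaf (1, 951)) (.leaf (58, 1974)))))) (.node (.node (.node (.node (.node (.leaf (0, 0)) (.leaf (41, 141))) (.leaf (59, 1511))) (.node (.leaf (59, 372)) (.leaf (59, 1848)))) (.node (.node (.leaf (0, 0)) (.leaf (53, 2014))) (.node (.leaf (16, 301)) (.leaf (17, 1298))))) (.node (.node (.node (.leaf (0, 0)) (.leaf (22, 200))) (.node (.leaf (0, 0)) (.leaf (51, 110)))) (.node (.node (.leaf (0, 0)) (.leaf (0, 0))) (.node (.leaf (0, 0)) (.leaf (44, 1235))))))))) (.node (.node (.node (.node (.node (.node (.node (.node (.leaf (0, 0)) (.leaf (59, 2012))) (.leaf (47, 912))) (.node (.leaf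 (58, 508)) (.leaf (58, 1486)))) (.node (.node (.leaf (4, 316)) (.leaf (58, 859))) (.node (.leaf (52, 415)) (.leaf (51, 1688))))) (.node (.node (.node (.node (.leaf (0, 0)) (.leaf (17, 300))) (.leaf (58, 1166))) (.node (.leaf (1, 655)) (.leaf (45, 743)))) (.node (.node (.leaf (51, 512)) (.leaf (51, 428))) (.node (.leaf (0, 0)) (.leaf (57, 2169)))))) (.node (.node (.node (.node (.node (.leaf (0, 0)) (.leaf (59, 407))) (.leaf (59, 2183))) (.node (.leaf (52, 1579)) (.leaf (54, 405)))) (.node (.node (.leaf (0, 0)) (.leaf (50, 565))) (.node (.leaf (53, 1474)) (.leaf (12, 1940))))) (.node (.node (.node (.leaf (0, 0)) (.leaf (12, 157))) (.node (.leaf (57, 718)) (.leaf (32, 1973)))) (.node (.node (.leaf (54, 347)) (.leaf (35, 789))) (.node (.leaf (0, 0)) (.leaf (59, 590))))))) (.node (.node (.node (.node (.node (.node (.leaf (0, 0)) (.leaf (1, 2095))) (.leaf (56, 1070))) (.node (.leaf (0, 0)) (.leaf (55,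 2162)))) (.node (.node (.leaf (0, 0)) (.leaf (59, 247))) (.node (.leaf (58, 783)) (.leaf (55, 321))))) (.node (.node (.node (.leaf (0, 0)) (.leaf (58, 1027))) (.node (.leaf (46, 877)) (.leaf (48, 316)))) (.node (.node (.leaf (0, 0)) (.leaf (58, 1998))) (.node (.leaf (0, 0)) (.leaf (1, 1967)))))) (.node (.node (.node (.node (.node (.leaf (0, 0)) (.leaf (54, 699))) (.leaf (41, 1273))) (.node (.leaf (51, 478)) (.leaf (0, 0)))) (.node (.node (.leaf (1, 1847)) (.leaf (53, 2131))) (.node (.leaf (53, 311)) (.leaf (59, 749))))) (.node (.node (.node (.leaf (13, 237)) (.leaf (59, 1809))) (.node (.leaf (41, 325)) (.leaf (54, 237)))) (.node (.node (.leaf (12, 1126)) (.leaf (56, 1878))) (.node (.leaf (0, 0)) (.leaf (59, 734)))))))) (.node (.node (.node (.node (.node (.node (.node (.leaf (0, 0)) (.leaf (41, 94))) (.leaf (32, 2001))) (.node (.leaf (58, 2008)) (.leaf (59, 161)))) (.node (.node (.leaf (0, 0)) (.leaf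 (13, 27))) (.node (.leaf (0, 0)) (.leaf (58, 1577))))) (.node (.node (.node (.leaf (0, 0)) (.leaf (59, 771))) (.node (.leaf (54, 306)) (.leaf (59, 1550)))) (.node (.node (.leaf (0, 0)) (.leaf (59, 1481))) (.node (.leaf (58, 31)) (.leaf (50, 1697)))))) (.node (.node (.node (.node (.node (.leaf (0, 0)) (.leaf (57, 2051))) (.leaf (56, 752))) (.node (.leaf (58, 1122)) (.leaf (0, 0)))) (.node (.node (.leaf (29, 2080)) (.leaf (59, 1663))) (.node (.leaf (0, 0)) (.leaf (59, 212))))) (.node (.node (.node (.leaf (0, 0)) (.leaf (12, 42))) (.node (.leaf (1, 1055)) (.leaf (58, 1637)))) (.node (.node (.leaf (58, 356)) (.leaf (4, 1961))) (.node (.leaf (0, 0)) (.leaf (59, 672))))))) (.node (.node (.node (.node (.node (.node (.leaf (0, 0)) (.leaf (53, 1552))) (.leaf (57, 927))) (.node (.leaf (1, 575)) (.leaf (59, 1923)))) (.node (.node (.leaf (0, 0)) (.leaf (53, 496))) (.node (.leaf (59, 1061)) (.leaf (59, 2088)))))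 (.node (.node (.node (.leaf (0, 0)) (.leaf (4, 2121))) (.node (.leaf (34, 1198)) (.leaf (25, 1905)))) (.node (.node (.leaf (0, 0)) (.leaf (59, 2026))) (.node (.leaf (57, 892)) (.leaf (44, 1377)))))) (.node (.node (.node (.node (.node (.leaf (0, 0)) (.leaf (57, 886))) (.leaf (0, 0))) (.node (.leaf (56, 411)) (.leaf (1, 1663)))) (.node (.node (.leaf (53, 99)) (.leaf (0, 0))) (.node (.leaf (0, 0)) (.leaf (34, 1320))))) (.node (.node (.node (.leaf (0, 0)) (.leaf (48, 1894))) (.node (.leaf (0, 0)) (.leaf (52, 1119)))) (.node (.node (.leaf (59, 2104)) (.leaf (59, 1459))) (.node (.leaf (1, 1023)) (.leaf (59, 1990))))))))))))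

def threeVia6 : Janko.Tree (ℕ × ℕ) :=
  (.node (.node (.node (.node (.node (.node (.node (.node (.node (.node (.node (.leaf (0, 0)) (.leaf (57, 1624))) (.leaf (9, 1003))) (.node (.leaf (57, 106)) (.leaf (0, 0)))) (.node (.node (.leaf (52, 1954)) (.leaf (59, 537))) (.node (.leaf (0, 0)) (.leaf (54, 1187))))) (.node (.node (.node (.node (.leaf (2, 129)) (.leaf (59, 1171))) (.leaf (59, 755))) (.node (.leaf (2, 641)) (.leaf (59, 868)))) (.node (.node (.leaf (0, 0)) (.leaf (56, 604))) (.node (.leaf (53, 1013)) (.leaf (2, 1921)))))) (.node (.node (.node (.node (.node (.leaf (0, 0)) (.leaf (36, 1519))) (.leaf (59, 518))) (.node (.leaf (57, 836)) (.leaf (2, 1601)))) (.node (.node (.leaf (12, 768)) (.leaf (59, 1386))) (.node (.leaf (0, 0)) (.leaf (58, 1619))))) (.node (.node (.node (.leaf (0, 0)) (.leaf (58, 276))) (.node (.leaf (57, 185)) (.leaf (52, 279)))) (.node (.node (.leaf (2, 449)) (.leaf (59, 1360)))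 (.node (.leaf (0, 0)) (.leaf (2, 1985))))))) (.node (.node (.node (.node (.node (.node (.leaf (0, 0)) (.leaf (58, 1777))) (.leaf (0, 0))) (.node (.leaf (59, 1711)) (.leaf (58, 795)))) (.node (.node (.leaf (0, 0)) (.leaf (59, 1198))) (.node (.leaf (0, 0)) (.leaf (58, 1180))))) (.node (.node (.node (.leaf (0, 0)) (.leaf (51, 1944))) (.node (.leaf (57, 1486)) (.leaf (59, 1120)))) (.node (.node (.leaf (54, 155)) (.leaf (56, 453))) (.node (.leaf (0, 0)) (.leaf (58, 125)))))) (.node (.node (.node (.node (.node (.leaf (0, 0)) (.leaf (57, 1180))) (.leaf (57, 1614))) (.node (.leaf (2, 609)) (.leaf (59, 813)))) (.node (.node (.leaf (59, 1514)) (.leaf (2, 1377))) (.node (.leaf (57, 263)) (.leaf (58, 1835))))) (.node (.node (.node (.leaf (0, 0)) (.leaf (59, 1247))) (.node (.leaf (53, 445)) (.leaf (57, 503)))) (.node (.node (.leaf (0, 0)) (.leaf (0, 0))) (.node (.leaf (0, 0)) (.leaf (46, 28)))))))) (.node (.node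 (.node (.node (.node (.node (.node (.leaf (0, 0)) (.leaf (59, 106))) (.leaf (58, 360))) (.node (.leaf (59, 414)) (.leaf (0, 0)))) (.node (.node (.leaf (0, 0)) (.leaf (57, 380))) (.node (.leaf (0, 0)) (.leaf (59, 2174))))) (.node (.node (.node (.node (.leaf (2, 145)) (.leaf (13, 0))) (.leaf (59, 611))) (.node (.leaf (59, 1798)) (.leaf (51, 458)))) (.node (.node (.leaf (59, 201)) (.leaf (53, 199))) (.node (.leaf (0, 0)) (.leaf (56, 2132)))))) (.node (.node (.node (.node (.node (.leaf (0, 0)) (.leaf (59, 1611))) (.leaf (54, 2184))) (.node (.leaf (58, 1931)) (.leaf (59, 1616)))) (.node (.node (.leaf (43, 1747)) (.leaf (59, 2048))) (.node (.leaf (2, 849)) (.leaf (57, 496))))) (.node (.node (.node (.leaf (0, 0)) (.leaf (59, 2134))) (.node (.leaf (58, 1942)) (.leaf (57, 743)))) (.node (.node (.leaf (59, 1405)) (.leaf (58, 131))) (.node (.leaf (54, 289)) (.leaf (0, 0))))))) (.node (.node (.node (.node (.node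 (.node (.leaf (0, 0)) (.leaf (38, 9))) (.leaf (0, 0))) (.node (.leaf (0, 0)) (.leaf (2, 1585)))) (.node (.node (.leaf (0, 0)) (.leaf (9, 178))) (.node (.leaf (0, 0)) (.leaf (59, 811))))) (.node (.node (.node (.leaf (59, 54)) (.leaf (12, 1557))) (.node (.leaf (47, 1231)) (.leaf (59, 1530)))) (.node (.node (.leaf (59, 127)) (.leaf (32, 141))) (.node (.leaf (58, 700)) (.leaf (2, 1969)))))) (.node (.node (.node (.node (.node (.leaf (0, 0)) (.leaf (57, 1643))) (.leaf (59, 814))) (.node (.leaf (59, 1890)) (.leaf (59, 55)))) (.node (.node (.leaf (49, 28)) (.leaf (56, 556))) (.node (.leaf (56, 1418)) (.leaf (57, 292))))) (.node (.node (.node (.leaf (59, 31)) (.leaf (59, 1959))) (.node (.leaf (7, 475)) (.leaf (57, 698)))) (.node (.node (.leaf (58, 2127)) (.leaf (36, 1756))) (.node (.leaf (0, 0)) (.leaf (53, 1992))))))))) (.node (.node (.node (.node (.node (.node (.node (.node (.leaf (32, 29)) (.leaf (59,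 1658))) (.leaf (0, 0))) (.node (.leaf (51, 1297)) (.leaf (0, 0)))) (.node (.node (.leaf (53, 1415)) (.leaf (55, 1623))) (.node (.leaf (54, 537)) (.leaf (52, 1406))))) (.node (.node (.node (.node (.leaf (0, 0)) (.leaf (12, 1521))) (.leaf (59, 1993))) (.node (.leaf (59, 1962)) (.leaf (51, 1320)))) (.node (.node (.leaf (59, 1797)) (.leaf (2, 1417))) (.node (.leaf (50, 1911)) (.leaf (59, 258)))))) (.node (.node (.node (.node (.node (.leaf (0, 0)) (.leaf (2, 2121))) (.leaf (59, 1989))) (.node (.leaf (15, 851)) (.leaf (59, 833)))) (.node (.node (.leaf (0, 0)) (.leaf (59, 929))) (.node (.leaf (0, 0)) (.leaf (56, 2129))))) (.node (.node (.node (.leaf (22, 58)) (.leaf (55, 2144))) (.node (.leaf (59, 252)) (.leaf (49, 1468)))) (.node (.node (.leaf (0, 0)) (.leaf (0, 0))) (.node (.leaf (46, 289)) (.leaf (54, 107))))))) (.node (.node (.node (.node (.node (.node (.leaf (0, 0)) (.leaf (59, 249))) (.leaf (46, 1549)))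 (.node (.leaf (52, 889)) (.leaf (0, 0)))) (.node (.node (.leaf (0, 0)) (.leaf (56, 97))) (.node (.leaf (0, 0)) (.leaf (2, 1833))))) (.node (.node (.node (.leaf (0, 0)) (.leaf (57, 1468))) (.node (.leaf (0, 0)) (.leaf (59, 1828)))) (.node (.node (.leaf (59, 153)) (.leaf (58, 1332))) (.node (.leaf (55, 2154)) (.leaf (54, 2096)))))) (.node (.node (.node (.node (.node (.leaf (0, 0)) (.leaf (51, 1644))) (.leaf (59, 1190))) (.node (.leaf (56, 1175)) (.leaf (57, 2128)))) (.node (.node (.leaf (50, 677)) (.leaf (57, 198))) (.node (.leaf (54, 1948)) (.leaf (59, 1843))))) (.node (.node (.node (.leaf (0, 0)) (.leaf (20, 1566))) (.node (.leaf (8, 879)) (.leaf (59, 914)))) (.node (.node (.leaf (2, 489)) (.leaf (21, 85))) (.node (.leaf (0, 0)) (.leaf (57, 989)))))))) (.node (.node (.node (.node (.node (.node (.node (.leaf (0, 0)) (.leaf (2, 2073))) (.leaf (7, 286))) (.node (.leaf (51, 1606)) (.leaf (58, 253))))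 (.node (.node (.leaf (0, 0)) (.leaf (59, 777))) (.node (.leaf (0, 0)) (.leaf (59, 1121))))) (.node (.node (.node (.node (.leaf (21, 152)) (.leaf (58, 123))) (.leaf (59, 1106))) (.node (.leaf (2, 665)) (.leaf (53, 478)))) (.node (.node (.leaf (59, 1519)) (.leaf (58, 1089))) (.node (.leaf (59, 317)) (.leaf (59, 97)))))) (.node (.node (.node (.node (.node (.leaf (0, 0)) (.leaf (43, 1353))) (.leaf (59, 11))) (.node (.leaf (59, 722)) (.leaf (2, 1625)))) (.node (.node (.leaf (15, 2062)) (.leaf (59, 1323))) (.node (.leaf (59, 1123)) (.leaf (58, 1212))))) (.node (.node (.node (.leaf (0, 0)) (.leaf (8, 1733))) (.node (.leaf (59, 1936)) (.leaf (57, 637)))) (.node (.node (.leaf (59, 124)) (.leaf (2, 1497))) (.node (.leaf (57, 100)) (.leaf (57, 1307))))))) (.node (.node (.node (.node (.node (.node (.leaf (0, 0)) (.leaf (53, 2070))) (.leaf (15, 261))) (.node (.leaf (36, 290)) (.leaf (57, 533)))) (.node (.node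 (.leaf (0, 0)) (.leaf (59, 2168))) (.node (.leaf (0, 0)) (.leaf (41, 97))))) (.node (.node (.node (.leaf (55, 56)) (.leaf (59, 1948))) (.node (.leaf (2, 697)) (.leaf (59, 63)))) (.node (.node (.leaf (11, 1864)) (.leaf (0, 0))) (.node (.leaf (43, 461)) (.leaf (53, 290)))))) (.node (.node (.node (.node (.node (.leaf (0, 0)) (.leaf (12, 1004))) (.leaf (52, 1849))) (.node (.leaf (14, 76)) (.leaf (2, 1657)))) (.node (.node (.leaf (0, 0)) (.leaf (58, 596))) (.node (.leaf (2, 889)) (.leaf (57, 2162))))) (.node (.node (.node (.leaf (58, 1331)) (.leaf (59, 1230))) (.node (.leaf (0, 0)) (.leaf (24, 947)))) (.node (.node (.leaf (0, 0)) (.leaf (0, 0))) (.node (.leaf (59, 504)) (.leaf (57, 269)))))))))) (.node (.node (.node (.node (.node (.node (.node (.node (.node (.leaf (0, 0)) (.leaf (59, 1553))) (.leaf (54, 551))) (.node (.leaf (51, 1656)) (.leaf (59, 1606)))) (.node (.node (.leaf (15, 1081)) (.leaf (59,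 397))) (.node (.leaf (0, 0)) (.leaf (14, 352))))) (.node (.node (.node (.node (.leaf (0, 0)) (.leaf (57, 1428))) (.leaf (14, 1553))) (.node (.leaf (57, 752)) (.leaf (56, 337)))) (.node (.node (.leaf (0, 0)) (.leaf (49, 2061))) (.node (.leaf (58, 1115)) (.leaf (57, 2080)))))) (.node (.node (.node (.node (.node (.leaf (0, 0)) (.leaf (59, 1825))) (.leaf (58, 947))) (.node (.leaf (58, 2038)) (.leaf (58, 27)))) (.node (.node (.leaf (2, 325)) (.leaf (59, 969))) (.node (.leaf (15, 311)) (.leaf (59, 975))))) (.node (.node (.node (.leaf (0, 0)) (.leaf (59, 1998))) (.node (.leaf (53, 1306)) (.leaf (2, 1733)))) (.node (.node (.leaf (52, 877)) (.leaf (0, 0))) (.node (.leaf (15, 352)) (.leaf (59, 617))))))) (.node (.node (.node (.node (.node (.node (.leaf (30, 758)) (.leaf (9, 284))) (.leaf (24, 385))) (.node (.leaf (11, 48)) (.leaf (57, 471)))) (.node (.node (.leaf (0, 0)) (.leaf (52, 1900))) (.node (.leaf (2,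 2085)) (.leaf (40, 2096))))) (.node (.node (.node (.leaf (15, 1829)) (.leaf (0, 0))) (.node (.leaf (58, 1442)) (.leaf (54, 204)))) (.node (.node (.leaf (50, 687)) (.leaf (59, 1660))) (.node (.leaf (53, 883)) (.leaf (50, 600)))))) (.node (.node (.node (.node (.node (.leaf (0, 0)) (.leaf (41, 95))) (.leaf (0, 0))) (.node (.leaf (59, 1668)) (.leaf (46, 1221)))) (.node (.node (.leaf (59, 109)) (.leaf (15, 696))) (.node (.leaf (57, 266)) (.leaf (56, 1200))))) (.node (.node (.node (.leaf (59, 1002)) (.leaf (57, 1761))) (.node (.leaf (59, 152)) (.leaf (59, 26)))) (.node (.node (.leaf (59, 1683)) (.leaf (59, 1506))) (.node (.leaf (55, 1431)) (.leaf (53, 330)))))))) (.node (.node (.node (.node (.node (.node (.node (.leaf (0, 0)) (.leaf (59, 1879))) (.leaf (59, 2159))) (.node (.leaf (7, 164)) (.leaf (51, 949)))) (.node (.node (.leaf (0, 0)) (.leaf (47, 1697))) (.node (.leaf (2, 2030)) (.leaf (51, 30))))) (.node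 (.node (.node (.node (.leaf (0, 0)) (.leaf (42, 2000))) (.leaf (15, 1468))) (.node (.leaf (24, 1332)) (.leaf (2, 1685)))) (.node (.node (.leaf (0, 0)) (.leaf (36, 24))) (.node (.leaf (59, 1137)) (.leaf (20, 1404)))))) (.node (.node (.node (.node (.node (.leaf (2, 85)) (.leaf (52, 2048))) (.leaf (14, 1685))) (.node (.leaf (51, 1520)) (.leaf (21, 89)))) (.node (.node (.leaf (0, 0)) (.leaf (2, 1365))) (.node (.leaf (0, 0)) (.leaf (8, 451))))) (.node (.node (.node (.leaf (57, 713)) (.leaf (53, 852))) (.node (.leaf (58, 2141)) (.leaf (36, 99)))) (.node (.node (.leaf (0, 0)) (.leaf (59, 1720))) (.node (.leaf (0, 0)) (.leaf (2, 2005))))))) (.node (.node (.node (.node (.node (.node (.leaf (41, 13)) (.leaf (59, 1725))) (.leaf (58, 786))) (.node (.leaf (0, 0)) (.leaf (2, 1589)))) (.node (.node (.leaf (2, 309)) (.leaf (41, 1157))) (.node (.leaf (54, 370)) (.leaf (59, 243))))) (.node (.node (.node (.leaf (50,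 587)) (.leaf (56, 1524))) (.node (.leaf (56, 1909)) (.leaf (53, 1906)))) (.node (.node (.leaf (59, 328)) (.leaf (0, 0))) (.node (.leaf (0, 0)) (.leaf (56, 110)))))) (.node (.node (.node (.node (.node (.leaf (0, 0)) (.leaf (57, 911))) (.leaf (57, 487))) (.node (.leaf (59, 1823)) (.leaf (58, 1759)))) (.node (.node (.leaf (0, 0)) (.leaf (58, 2179))) (.node (.leaf (0, 0)) (.leaf (59, 1701))))) (.node (.node (.node (.leaf (58, 1598)) (.leaf (58, 690))) (.node (.leaf (0, 0)) (.leaf (9, 97)))) (.node (.node (.leaf (2, 1935)) (.leaf (2, 1525))) (.node (.leaf (15, 44)) (.leaf (59, 1607))))))))) (.node (.node (.node (.node (.node (.node (.node (.node (.leaf (0, 0)) (.leaf (56, 795))) (.leaf (2, 1837))) (.node (.leaf (0, 0)) (.leaf (0, 0)))) (.node (.node (.leaf (2, 269)) (.leaf (53, 1391))) (.node (.leaf (21, 47)) (.leaf (58, 2180))))) (.node (.node (.node (.node (.leaf (12, 331)) (.leaf (8, 0))) (.leaf (59,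 466))) (.node (.leaf (54, 252)) (.leaf (0, 0)))) (.node (.node (.leaf (0, 0)) (.leaf (54, 895))) (.node (.leaf (58, 279)) (.leaf (59, 1355)))))) (.node (.node (.node (.node (.node (.leaf (53, 879)) (.leaf (55, 1021))) (.leaf (59, 2054))) (.node (.leaf (51, 31)) (.leaf (59, 1678)))) (.node (.node (.leaf (21, 332)) (.leaf (56, 1931))) (.node (.leaf (58, 2026)) (.leaf (2, 1869))))) (.node (.node (.node (.leaf (0, 0)) (.leaf (57, 1540))) (.node (.leaf (54, 722)) (.leaf (56, 2104)))) (.node (.node (.leaf (59, 261)) (.leaf (54, 1756))) (.node (.leaf (53, 1645)) (.leaf (41, 81))))))) (.node (.node (.node (.node (.node (.node (.leaf (0, 0)) (.leaf (8, 807))) (.leaf (51, 1523))) (.node (.leaf (2, 557)) (.leaf (58, 1114)))) (.node (.node (.leaf (0, 0)) (.leaf (58, 571))) (.node (.leaf (0, 0)) (.leaf (41, 29))))) (.node (.node (.node (.leaf (59, 997)) (.leaf (55, 322))) (.node (.leaf (8, 68)) (.leaf (56, 728))))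 (.node (.node (.leaf (58, 1848)) (.leaf (2, 1453))) (.node (.leaf (53, 39)) (.leaf (23, 1054)))))) (.node (.node (.node (.node (.node (.leaf (0, 0)) (.leaf (53, 2078))) (.leaf (59, 1130))) (.node (.leaf (57, 1719)) (.leaf (59, 784)))) (.node (.node (.leaf (59, 170)) (.leaf (59, 331))) (.node (.leaf (53, 2175)) (.leaf (49, 608))))) (.node (.node (.node (.leaf (59, 1785)) (.leaf (59, 464))) (.node (.leaf (56, 49)) (.leaf (54, 1774)))) (.node (.node (.leaf (44, 949)) (.leaf (2, 1517))) (.node (.leaf (52, 814)) (.leaf (59, 1424)))))))) (.node (.node (.node (.node (.node (.node (.node (.leaf (0, 0)) (.leaf (59, 1474))) (.leaf (2, 1053))) (.node (.leaf (59, 1766)) (.leaf (59, 1548)))) (.node (.node (.leaf (0, 0)) (.leaf (24, 977))) (.node (.leaf (59, 1286)) (.leaf (59, 186))))) (.node (.node (.node (.leaf (51, 1151)) (.leaf (58, 447))) (.node (.leaf (59, 1926)) (.leaf (53, 97)))) (.node (.node (.leaf (0,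 0)) (.leaf (59, 1217))) (.node (.leaf (0, 0)) (.leaf (2, 1949)))))) (.node (.node (.node (.node (.node (.leaf (0, 0)) (.leaf (2, 2141))) (.leaf (59, 2182))) (.node (.leaf (0, 0)) (.leaf (50, 578)))) (.node (.node (.leaf (0, 0)) (.leaf (59, 2091))) (.node (.leaf (59, 2135)) (.leaf (57, 1112))))) (.node (.node (.node (.leaf (59, 919)) (.leaf (2, 1245))) (.node (.leaf (11, 259)) (.leaf (59, 1379)))) (.node (.node (.leaf (58, 182)) (.leaf (58, 1220))) (.node (.leaf (54, 2055)) (.leaf (58, 1457))))))) (.node (.node (.node (.node (.node (.node (.leaf (0, 0)) (.leaf (52, 1389))) (.leaf (59, 1987))) (.node (.leaf (58, 1966)) (.leaf (30, 442)))) (.node (.node (.leaf (0, 0)) (.leaf (24, 574))) (.node (.leaf (0, 0)) (.leaf (56, 2009))))) (.node (.node (.node (.leaf (54, 1297)) (.leaf (59, 2075))) (.node (.leaf (56, 1032)) (.leaf (57, 987)))) (.node (.node (.leaf (59, 98)) (.leaf (2, 1997))) (.node (.leaf (52,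 1926)) (.leaf (54, 1733)))))) (.node (.node (.node (.node (.node (.leaf (0, 0)) (.leaf (58, 369))) (.leaf (59, 1939))) (.node (.leaf (58, 2157)) (.leaf (59, 1738)))) (.node (.node (.leaf (5, 1052)) (.leaf (30, 272))) (.node (.leaf (0, 0)) (.leaf (59, 1523))))) (.node (.node (.node (.leaf (58, 1422)) (.leaf (55, 584))) (.node (.leaf (0, 0)) (.leaf (41, 83)))) (.node (.node (.leaf (0, 0)) (.leaf (0, 0))) (.node (.leaf (30, 235)) (.leaf (53, 1392))))))))))) (.node (.node (.node (.node (.node (.node (.node (.node (.node (.node (.leaf (0, 0)) (.leaf (57, 64))) (.leaf (0, 0))) (.node (.leaf (2, 1247)) (.leaf (15, 414)))) (.node (.node (.leaf (0, 0)) (.leaf (52, 798))) (.node (.leaf (0, 0)) (.leaf (59, 1139))))) (.node (.node (.node (.node (.leaf (2, 1070)) (.leaf (59, 301))) (.leaf (15, 661))) (.node (.leaf (30, 879)) (.leaf (56, 332)))) (.node (.node (.leaf (0, 0)) (.leaf (0, 0))) (.node (.leaf (58, 32))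 (.leaf (55, 1332)))))) (.node (.node (.node (.node (.node (.leaf (0, 0)) (.leaf (2, 2115))) (.leaf (21, 1089))) (.node (.leaf (0, 0)) (.leaf (59, 1005)))) (.node (.node (.leaf (0, 0)) (.leaf (38, 24))) (.node (.leaf (2, 835)) (.leaf (59, 772))))) (.node (.node (.node (.leaf (57, 355)) (.leaf (2, 1219))) (.node (.leaf (59, 1708)) (.leaf (53, 352)))) (.node (.node (.leaf (31, 37)) (.leaf (57, 526))) (.node (.leaf (2, 963)) (.leaf (58, 439))))))) (.node (.node (.node (.node (.node (.node (.leaf (0, 0)) (.leaf (41, 720))) (.leaf (59, 353))) (.node (.leaf (59, 1838)) (.leaf (53, 181)))) (.node (.node (.leaf (0, 0)) (.leaf (59, 846))) (.node (.leaf (0, 0)) (.leaf (59, 1402))))) (.node (.node (.node (.leaf (0, 0)) (.leaf (55, 2057))) (.node (.leaf (54, 1871)) (.leaf (9, 265)))) (.node (.node (.leaf (59, 84)) (.leaf (2, 1443))) (.node (.leaf (58, 2095)) (.leaf (54, 441)))))) (.node (.node (.node (.node (.node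 (.leaf (2, 99)) (.leaf (58, 1747))) (.leaf (58, 2123))) (.node (.leaf (59, 1655)) (.leaf (0, 0)))) (.node (.node (.leaf (0, 0)) (.leaf (56, 251))) (.node (.leaf (50, 48)) (.leaf (50, 1914))))) (.node (.node (.node (.leaf (59, 64)) (.leaf (0, 0))) (.node (.leaf (53, 1049)) (.leaf (55, 1224)))) (.node (.node (.leaf (42, 137)) (.leaf (58, 789))) (.node (.leaf (55, 566)) (.leaf (58, 1644)))))))) (.node (.node (.node (.node (.node (.node (.node (.leaf (0, 0)) (.leaf (59, 1567))) (.leaf (58, 688))) (.node (.leaf (49, 1150)) (.leaf (58, 1676)))) (.node (.node (.leaf (0, 0)) (.leaf (56, 1782))) (.node (.leaf (2, 787)) (.leaf (57, 2137))))) (.node (.node (.node (.node (.leaf (0, 0)) (.leaf (34, 1521))) (.leaf (0, 0))) (.node (.leaf (59, 104)) (.leaf (50, 1844)))) (.node (.node (.leaf (59, 1482)) (.leaf (59, 69))) (.node (.leaf (53, 30)) (.leaf (0, 0)))))) (.node (.node (.node (.node (.node (.leaf (0, 0))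 (.leaf (30, 1623))) (.leaf (22, 32))) (.node (.leaf (0, 0)) (.leaf (2, 1619)))) (.node (.node (.leaf (0, 0)) (.leaf (32, 1674))) (.node (.leaf (11, 438)) (.leaf (56, 663))))) (.node (.node (.node (.leaf (0, 0)) (.leaf (2, 1235))) (.node (.leaf (0, 0)) (.leaf (59, 2180)))) (.node (.node (.leaf (59, 1515)) (.leaf (57, 1395))) (.node (.leaf (55, 630)) (.leaf (57, 1244))))))) (.node (.node (.node (.node (.node (.node (.leaf (0, 0)) (.leaf (50, 1055))) (.leaf (59, 415))) (.node (.leaf (2, 563)) (.leaf (14, 311)))) (.node (.node (.leaf (0, 0)) (.leaf (58, 2010))) (.node (.leaf (0, 0)) (.leaf (51, 38))))) (.node (.node (.node (.leaf (0, 0)) (.leaf (53, 897))) (.node (.leaf (59, 1831)) (.leaf (57, 430)))) (.node (.node (.leaf (0, 0)) (.leaf (0, 0))) (.node (.leaf (57, 2035)) (.leaf (59, 1765)))))) (.node (.node (.node (.node (.node (.leaf (0, 0)) (.leaf (59, 121))) (.leaf (54, 617))) (.node (.leaf (59, 573))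 (.leaf (2, 1651)))) (.node (.node (.leaf (53, 271)) (.leaf (55, 1697))) (.node (.leaf (56, 108)) (.leaf (56, 1940))))) (.node (.node (.node (.leaf (2, 243)) (.leaf (54, 414))) (.node (.leaf (0, 0)) (.leaf (0, 0)))) (.node (.node (.leaf (2, 499)) (.leaf (53, 736))) (.node (.leaf (57, 1563)) (.leaf (59, 520))))))))) (.node (.node (.node (.node (.node (.node (.node (.node (.leaf (0, 0)) (.leaf (24, 540))) (.leaf (58, 1973))) (.node (.leaf (0, 0)) (.leaf (54, 1402)))) (.node (.node (.leaf (0, 0)) (.leaf (58, 311))) (.node (.leaf (0, 0)) (.leaf (51, 747))))) (.node (.node (.node (.node (.leaf (0, 0)) (.leaf (2, 0))) (.leaf (58, 470))) (.node (.leaf (57, 1196)) (.leaf (59, 809)))) (.node (.node (.leaf (0, 0)) (.leaf (59, 888))) (.node (.leaf (51, 1849)) (.leaf (55, 787)))))) (.node (.node (.node (.node (.node (.leaf (0, 0)) (.leaf (58, 1527))) (.leaf (59, 790))) (.node (.leaf (59, 652)) (.leaf (59, 1490))))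 (.node (.node (.leaf (0, 0)) (.leaf (53, 1320))) (.node (.leaf (59, 1199)) (.leaf (42, 942))))) (.node (.node (.node (.leaf (2, 559)) (.leaf (53, 55))) (.node (.leaf (53, 1981)) (.leaf (59, 1532)))) (.node (.node (.leaf (51, 132)) (.leaf (59, 876))) (.node (.leaf (2, 971)) (.leaf (2, 1995))))))) (.node (.node (.node (.node (.node (.node (.leaf (0, 0)) (.leaf (24, 1528))) (.leaf (59, 2115))) (.node (.leaf (59, 552)) (.leaf (59, 257)))) (.node (.node (.leaf (0, 0)) (.leaf (2, 1323))) (.node (.leaf (0, 0)) (.leaf (59, 877))))) (.node (.node (.node (.leaf (0, 0)) (.leaf (59, 277))) (.node (.leaf (58, 226)) (.leaf (54, 65)))) (.node (.node (.leaf (0, 0)) (.leaf (58, 1894))) (.node (.leaf (56, 142)) (.leaf (57, 770)))))) (.node (.node (.node (.node (.node (.leaf (0, 0)) (.leaf (7, 152))) (.leaf (57, 414))) (.node (.leaf (57, 908)) (.leaf (54, 789)))) (.node (.node (.leaf (0, 0)) (.leaf (59, 2060))) (.node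 (.leaf (58, 409)) (.leaf (52, 1464))))) (.node (.node (.node (.leaf (0, 0)) (.leaf (59, 2156))) (.node (.leaf (59, 1912)) (.leaf (53, 1532)))) (.node (.node (.leaf (56, 2182)) (.leaf (0, 0))) (.node (.leaf (57, 2152)) (.leaf (58, 234)))))))) (.node (.node (.node (.node (.node (.node (.node (.leaf (0, 0)) (.leaf (59, 1636))) (.leaf (57, 108))) (.node (.leaf (44, 1880)) (.leaf (2, 1563)))) (.node (.node (.leaf (0, 0)) (.leaf (59, 704))) (.node (.leaf (0, 0)) (.leaf (52, 1523))))) (.node (.node (.node (.leaf (36, 753)) (.leaf (59, 706))) (.node (.leaf (21, 19)) (.leaf (53, 265)))) (.node (.node (.leaf (0, 0)) (.leaf (0, 0))) (.node (.leaf (59, 736)) (.leaf (58, 142)))))) (.node (.node (.node (.node (.node (.leaf (0, 0)) (.leaf (46, 151))) (.leaf (54, 1137))) (.node (.leaf (57, 852)) (.leaf (53, 644)))) (.node (.node (.leaf (0, 0)) (.leaf (2, 1744))) (.node (.leaf (59, 857)) (.leaf (59, 1932))))) (.node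 (.node (.node (.leaf (0, 0)) (.leaf (58, 884))) (.node (.leaf (2, 1626)) (.leaf (24, 921)))) (.node (.node (.leaf (36, 79)) (.leaf (58, 1346))) (.node (.leaf (43, 320)) (.leaf (56, 76))))))) (.node (.node (.node (.node (.node (.node (.leaf (0, 0)) (.leaf (57, 1001))) (.leaf (59, 778))) (.node (.leaf (2, 571)) (.leaf (2, 1595)))) (.node (.node (.leaf (58, 1709)) (.leaf (59, 429))) (.node (.leaf (0, 0)) (.leaf (53, 370))))) (.node (.node (.node (.leaf (59, 1320)) (.leaf (54, 1346))) (.node (.leaf (58, 1992)) (.leaf (57, 827)))) (.node (.node (.leaf (0, 0)) (.leaf (57, 51))) (.node (.leaf (58, 376)) (.leaf (30, 1575)))))) (.node (.node (.node (.node (.node (.leaf (2, 1122)) (.leaf (7, 332))) (.leaf (32, 1767))) (.node (.leaf (2, 1080)) (.leaf (27, 860)))) (.node (.node (.leaf (0, 0)) (.leaf (55, 366))) (.node (.leaf (59, 727)) (.leaf (59, 1369))))) (.node (.node (.node (.leaf (52, 1837)) (.leaf (59,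 1133))) (.node (.leaf (0, 0)) (.leaf (59, 1151)))) (.node (.node (.leaf (0, 0)) (.leaf (59, 99))) (.node (.leaf (54, 2113)) (.leaf (59, 1697)))))))))) (.node (.node (.node (.node (.node (.node (.node (.node (.node (.leaf (0, 0)) (.leaf (59, 1589))) (.leaf (57, 1800))) (.node (.leaf (52, 805)) (.leaf (47, 537)))) (.node (.node (.leaf (0, 0)) (.leaf (57, 1711))) (.node (.leaf (0, 0)) (.leaf (2, 1799))))) (.node (.node (.node (.node (.leaf (56, 432)) (.leaf (36, 1173))) (.leaf (59, 604))) (.node (.leaf (2, 647)) (.leaf (59, 1232)))) (.node (.node (.leaf (0, 0)) (.leaf (57, 878))) (.node (.leaf (59, 2116)) (.leaf (59, 71)))))) (.node (.node (.node (.node (.node (.leaf (0, 0)) (.leaf (55, 1453))) (.leaf (59, 531))) (.node (.leaf (0, 0)) (.leaf (52, 1450)))) (.node (.node (.leaf (0, 0)) (.leaf (59, 1958))) (.node (.leaf (0, 0)) (.leaf (2, 1863))))) (.node (.node (.node (.leaf (0, 0)) (.leaf (56, 1540)))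 (.node (.leaf (39, 1543)) (.leaf (54, 1869)))) (.node (.node (.leaf (59, 1685)) (.leaf (0, 0))) (.node (.leaf (58, 737)) (.leaf (8, 1216))))))) (.node (.node (.node (.node (.node (.node (.leaf (31, 106)) (.leaf (59, 1935))) (.leaf (24, 104))) (.node (.leaf (0, 0)) (.leaf (56, 1202)))) (.node (.node (.leaf (0, 0)) (.leaf (59, 768))) (.node (.leaf (12, 1520)) (.leaf (57, 379))))) (.node (.node (.node (.leaf (0, 0)) (.leaf (20, 1921))) (.node (.leaf (58, 677)) (.leaf (57, 1249)))) (.node (.node (.leaf (2, 423)) (.leaf (59, 1165))) (.node (.leaf (57, 504)) (.leaf (55, 1696)))))) (.node (.node (.node (.node (.node (.leaf (0, 0)) (.leaf (57, 881))) (.leaf (59, 501))) (.node (.leaf (53, 1230)) (.leaf (8, 303)))) (.node (.node (.leaf (0, 0)) (.leaf (58, 1396))) (.node (.leaf (2, 1621)) (.leaf (59, 1399))))) (.node (.node (.node (.leaf (0, 0)) (.leaf (2, 2155))) (.node (.leaf (32, 1230)) (.leaf (0, 0))))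 (.node (.node (.leaf (54, 1829)) (.leaf (2, 1511))) (.node (.leaf (0, 0)) (.leaf (58, 1872)))))))) (.node (.node (.node (.node (.node (.node (.node (.leaf (0, 0)) (.leaf (59, 2046))) (.leaf (52, 1230))) (.node (.leaf (59, 1467)) (.leaf (0, 0)))) (.node (.node (.leaf (2, 279)) (.leaf (59, 599))) (.node (.leaf (0, 0)) (.leaf (59, 179))))) (.node (.node (.node (.node (.leaf (0, 0)) (.leaf (50, 315))) (.leaf (59, 819))) (.node (.leaf (57, 847)) (.leaf (11, 876)))) (.node (.node (.leaf (57, 819)) (.leaf (11, 760))) (.node (.leaf (0, 0)) (.leaf (54, 157)))))) (.node (.node (.node (.node (.node (.leaf (0, 0)) (.leaf (57, 815))) (.leaf (24, 1880))) (.node (.leaf (0, 0)) (.leaf (59, 2175)))) (.node (.node (.leaf (0, 0)) (.leaf (59, 733))) (.node (.leaf (59, 59)) (.leaf (56, 2087))))) (.node (.node (.node (.leaf (0, 0)) (.leaf (56, 1768))) (.node (.leaf (58, 600)) (.leaf (58, 779)))) (.node (.node (.leaf (59,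 1916)) (.leaf (58, 1364))) (.node (.leaf (59, 2077)) (.leaf (20, 1049))))))) (.node (.node (.node (.node (.node (.node (.leaf (53, 753)) (.leaf (59, 203))) (.leaf (59, 1994))) (.node (.leaf (58, 1674)) (.leaf (57, 826)))) (.node (.node (.leaf (2, 1587)) (.leaf (9, 49))) (.node (.leaf (0, 0)) (.leaf (59, 1877))))) (.node (.node (.node (.leaf (0, 0)) (.leaf (50, 1037))) (.node (.leaf (59, 110)) (.leaf (57, 1203)))) (.node (.node (.leaf (0, 0)) (.leaf (0, 0))) (.node (.leaf (11, 76)) (.leaf (59, 1915)))))) (.node (.node (.node (.node (.node (.leaf (0, 0)) (.leaf (36, 736))) (.leaf (52, 1027))) (.node (.leaf (2, 631)) (.leaf (53, 2012)))) (.node (.node (.leaf (57, 792)) (.leaf (53, 762))) (.node (.leaf (59, 1984)) (.leaf (53, 1788))))) (.node (.node (.node (.leaf (0, 0)) (.leaf (59, 637))) (.node (.leaf (0, 0)) (.leaf (59, 233)))) (.node (.node (.leaf (32, 321)) (.leaf (59, 1245))) (.node (.leaf (53,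 1768)) (.leaf (55, 1106))))))))) (.node (.node (.node (.node (.node (.node (.node (.node (.leaf (2, 15)) (.leaf (59, 1650))) (.leaf (59, 294))) (.node (.leaf (0, 0)) (.leaf (56, 357)))) (.node (.node (.leaf (0, 0)) (.leaf (52, 1844))) (.node (.leaf (0, 0)) (.leaf (58, 1201))))) (.node (.node (.node (.node (.leaf (0, 0)) (.leaf (18, 136))) (.leaf (53, 1212))) (.node (.leaf (58, 216)) (.leaf (44, 23)))) (.node (.node (.leaf (0, 0)) (.leaf (0, 0))) (.node (.leaf (22, 595)) (.leaf (9, 150)))))) (.node (.node (.node (.node (.node (.leaf (53, 91)) (.leaf (2, 2127))) (.leaf (57, 1650))) (.node (.leaf (0, 0)) (.leaf (2, 1615)))) (.node (.node (.leaf (32, 37)) (.leaf (57, 1906))) (.node (.leaf (0, 0)) (.leaf (55, 769))))) (.node (.node (.node (.leaf (0, 0)) (.leaf (54, 343))) (.node (.leaf (59, 193)) (.leaf (28, 1035)))) (.node (.node (.leaf (2, 463)) (.leaf (8, 12))) (.node (.leaf (57, 502)) (.leaf (59,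 1997))))))) (.node (.node (.node (.node (.node (.node (.leaf (0, 0)) (.leaf (58, 1916))) (.leaf (59, 427))) (.node (.leaf (41, 3)) (.leaf (57, 465)))) (.node (.node (.leaf (2, 1639)) (.leaf (58, 935))) (.node (.leaf (0, 0)) (.leaf (56, 1253))))) (.node (.node (.node (.leaf (0, 0)) (.leaf (2, 1199))) (.node (.leaf (57, 60)) (.leaf (54, 1088)))) (.node (.node (.leaf (57, 1089)) (.leaf (2, 2184))) (.node (.leaf (0, 0)) (.leaf (58, 96)))))) (.node (.node (.node (.node (.node (.leaf (0, 0)) (.leaf (59, 1706))) (.leaf (23, 1899))) (.node (.leaf (0, 0)) (.leaf (53, 235)))) (.node (.node (.leaf (59, 1837)) (.leaf (2, 1391))) (.node (.leaf (2, 879)) (.leaf (58, 1323))))) (.node (.node (.node (.leaf (59, 29)) (.leaf (59, 376))) (.node (.leaf (0, 0)) (.leaf (58, 97)))) (.node (.node (.leaf (58, 1849)) (.leaf (0, 0))) (.node (.leaf (0, 0)) (.leaf (59, 1491)))))))) (.node (.node (.node (.node (.node (.node (.node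 (.leaf (0, 0)) (.leaf (9, 618))) (.leaf (56, 1431))) (.node (.leaf (2, 781)) (.leaf (59, 1350)))) (.node (.node (.leaf (0, 0)) (.leaf (57, 178))) (.node (.leaf (2, 799)) (.leaf (59, 836))))) (.node (.node (.node (.leaf (0, 0)) (.leaf (57, 103))) (.node (.leaf (2, 671)) (.leaf (59, 769)))) (.node (.node (.leaf (0, 0)) (.leaf (57, 686))) (.node (.leaf (0, 0)) (.leaf (58, 405)))))) (.node (.node (.node (.node (.node (.leaf (0, 0)) (.leaf (59, 1549))) (.leaf (59, 369))) (.node (.leaf (58, 1752)) (.leaf (59, 1346)))) (.node (.node (.leaf (0, 0)) (.leaf (55, 1538))) (.node (.leaf (50, 914)) (.leaf (58, 847))))) (.node (.node (.node (.leaf (36, 237)) (.leaf (41, 11))) (.node (.leaf (59, 1664)) (.leaf (59, 1818)))) (.node (.node (.leaf (58, 1606)) (.leaf (11, 283))) (.node (.leaf (59, 915)) (.leaf (59, 488))))))) (.node (.node (.node (.node (.node (.node (.leaf (0, 0)) (.leaf (57, 1004))) (.leaf (58, 1959)))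 (.node (.leaf (0, 0)) (.leaf (59, 1415)))) (.node (.node (.leaf (0, 0)) (.leaf (12, 187))) (.node (.leaf (0, 0)) (.leaf (51, 939))))) (.node (.node (.node (.leaf (36, 758)) (.leaf (23, 1571))) (.node (.leaf (7, 103)) (.leaf (41, 1363)))) (.node (.node (.leaf (0, 0)) (.leaf (59, 1140))) (.node (.leaf (43, 340)) (.leaf (52, 903)))))) (.node (.node (.node (.node (.node (.leaf (0, 0)) (.leaf (58, 2043))) (.leaf (57, 1425))) (.node (.leaf (54, 1810)) (.leaf (59, 1222)))) (.node (.node (.leaf (2, 996)) (.leaf (52, 440))) (.node (.leaf (7, 273)) (.leaf (36, 3))))) (.node (.node (.node (.leaf (0, 0)) (.leaf (51, 1850))) (.node (.leaf (0, 0)) (.leaf (59, 1162)))) (.node (.node (.leaf (0, 0)) (.leaf (58, 962))) (.node (.leaf (32, 1849)) (.leaf (57, 200))))))))))))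

def threeVia7 : Janko.Tree (ℕ × ℕ) :=
  (.node (.node (.node (.node (.node (.node (.node (.node (.node (.node (.node (.leaf (0, 0)) (.leaf (59, 1262))) (.leaf (3, 1025))) (.node (.leaf (58, 1251)) (.leaf (0, 0)))) (.node (.node (.leaf (44, 1130)) (.leaf (50, 1879))) (.node (.leaf (3, 1957)) (.leaf (35, 2132))))) (.node (.node (.node (.node (.leaf (0, 0)) (.leaf (59, 1539))) (.leaf (57, 12))) (.node (.leaf (0, 0)) (.leaf (59, 886)))) (.node (.node (.leaf (0, 0)) (.leaf (0, 0))) (.node (.leaf (0, 0)) (.leaf (59, 2107)))))) (.node (.node (.node (.node (.node (.leaf (0, 0)) (.leaf (15, 1363))) (.leaf (34, 265))) (.node (.leaf (51, 766)) (.leaf (58, 988)))) (.node (.node (.leaf (34, 37)) (.leaf (50, 1752))) (.node (.leaf (0, 0)) (.leaf (58, 2000))))) (.node (.node (.node (.leaf (59, 583)) (.leaf (35, 235))) (.node (.leaf (58, 1241)) (.leaf (3, 2163)))) (.node (.node (.leaf (0, 0)) (.leaf (3, 1473)))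 (.node (.leaf (58, 1514)) (.leaf (50, 1211))))))) (.node (.node (.node (.node (.node (.node (.leaf (0, 0)) (.leaf (58, 1521))) (.leaf (58, 2040))) (.node (.leaf (44, 600)) (.leaf (59, 406)))) (.node (.node (.leaf (0, 0)) (.leaf (59, 185))) (.node (.leaf (51, 488)) (.leaf (54, 692))))) (.node (.node (.node (.leaf (0, 0)) (.leaf (59, 96))) (.node (.leaf (57, 1405)) (.leaf (14, 2152)))) (.node (.node (.leaf (0, 0)) (.leaf (59, 1976))) (.node (.leaf (0, 0)) (.leaf (59, 1371)))))) (.node (.node (.node (.node (.node (.leaf (38, 790)) (.leaf (3, 2180))) (.leaf (24, 1690))) (.node (.leaf (54, 1320)) (.leaf (59, 2022)))) (.node (.node (.leaf (0, 0)) (.leaf (19, 300))) (.node (.leaf (19, 53)) (.leaf (58, 353))))) (.node (.node (.node (.leaf (34, 272)) (.leaf (52, 895))) (.node (.leaf (58, 1485)) (.leaf (19, 27)))) (.node (.node (.leaf (0, 0)) (.leaf (59, 1004))) (.node (.leaf (59, 1746)) (.leaf (59, 1755))))))))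 (.node (.node (.node (.node (.node (.node (.node (.leaf (0, 0)) (.leaf (58, 1404))) (.leaf (52, 153))) (.node (.leaf (59, 1598)) (.leaf (59, 1327)))) (.node (.node (.leaf (0, 0)) (.leaf (34, 415))) (.node (.leaf (0, 0)) (.leaf (3, 1809))))) (.node (.node (.node (.node (.leaf (0, 0)) (.leaf (27, 430))) (.leaf (59, 699))) (.node (.leaf (58, 217)) (.leaf (3, 1681)))) (.node (.node (.leaf (50, 888)) (.leaf (14, 275))) (.node (.leaf (15, 1626)) (.leaf (11, 588)))))) (.node (.node (.node (.node (.node (.leaf (0, 0)) (.leaf (59, 1630))) (.leaf (3, 1963))) (.node (.leaf (0, 0)) (.leaf (49, 1116)))) (.node (.node (.leaf (14, 798)) (.leaf (49, 625))) (.node (.leaf (0, 0)) (.leaf (42, 2152))))) (.node (.node (.node (.leaf (15, 16)) (.leaf (3, 1233))) (.node (.leaf (59, 1349)) (.leaf (59, 597)))) (.node (.node (.leaf (0, 0)) (.leaf (57, 1012))) (.node (.leaf (15, 285)) (.leaf (17, 30))))))) (.node (.node (.node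 (.node (.node (.node (.leaf (14, 3)) (.leaf (15, 1157))) (.leaf (34, 371))) (.node (.leaf (59, 1075)) (.leaf (59, 1044)))) (.node (.node (.leaf (0, 0)) (.leaf (59, 1608))) (.node (.leaf (58, 1968)) (.leaf (58, 1289))))) (.node (.node (.node (.leaf (59, 296)) (.leaf (0, 0))) (.node (.leaf (3, 689)) (.leaf (33, 2)))) (.node (.node (.leaf (0, 0)) (.leaf (50, 1906))) (.node (.leaf (0, 0)) (.leaf (57, 1909)))))) (.node (.node (.node (.node (.node (.leaf (0, 0)) (.leaf (57, 1573))) (.leaf (24, 2082))) (.node (.leaf (54, 38)) (.leaf (57, 774)))) (.node (.node (.leaf (3, 965)) (.leaf (59, 1488))) (.node (.leaf (0, 0)) (.leaf (16, 414))))) (.node (.node (.node (.leaf (57, 1850)) (.leaf (58, 185))) (.node (.leaf (16, 119)) (.leaf (11, 1258)))) (.node (.node (.leaf (0, 0)) (.leaf (0, 0))) (.node (.leaf (59, 420)) (.leaf (59, 970))))))))) (.node (.node (.node (.node (.node (.node (.node (.node (.leaf (0, 0))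 (.leaf (57, 249))) (.leaf (57, 370))) (.node (.leaf (3, 1257)) (.leaf (59, 380)))) (.node (.node (.leaf (19, 1924)) (.leaf (59, 1841))) (.node (.leaf (0, 0)) (.leaf (54, 2127))))) (.node (.node (.node (.node (.leaf (0, 0)) (.leaf (48, 757))) (.leaf (59, 137))) (.node (.leaf (0, 0)) (.leaf (51, 1121)))) (.node (.node (.leaf (0, 0)) (.leaf (0, 0))) (.node (.leaf (0, 0)) (.leaf (51, 621)))))) (.node (.node (.node (.node (.node (.leaf (0, 0)) (.leaf (38, 515))) (.leaf (24, 389))) (.node (.leaf (57, 1517)) (.leaf (57, 1140)))) (.node (.node (.leaf (3, 329)) (.leaf (59, 1719))) (.node (.leaf (23, 729)) (.leaf (59, 685))))) (.node (.node (.node (.leaf (59, 386)) (.leaf (59, 1535))) (.node (.leaf (58, 1345)) (.leaf (3, 1737)))) (.node (.node (.leaf (3, 457)) (.leaf (3, 1940))) (.node (.leaf (0, 0)) (.leaf (51, 1013))))))) (.node (.node (.node (.node (.node (.node (.leaf (0, 0)) (.leaf (57, 1733))) (.leaf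 (59, 462))) (.node (.leaf (16, 1298)) (.leaf (3, 1577)))) (.node (.node (.leaf (0, 0)) (.leaf (59, 1909))) (.node (.leaf (0, 0)) (.leaf (57, 1412))))) (.node (.node (.node (.leaf (0, 0)) (.leaf (3, 2165))) (.node (.leaf (3, 681)) (.leaf (14, 314)))) (.node (.node (.leaf (0, 0)) (.leaf (58, 13))) (.node (.leaf (14, 98)) (.leaf (59, 52)))))) (.node (.node (.node (.node (.node (.leaf (0, 0)) (.leaf (27, 674))) (.leaf (3, 1905))) (.node (.leaf (59, 1469)) (.leaf (15, 334)))) (.node (.node (.leaf (0, 0)) (.leaf (59, 1555))) (.node (.leaf (14, 1637)) (.leaf (59, 660))))) (.node (.node (.node (.leaf (0, 0)) (.leaf (16, 160))) (.node (.leaf (58, 1608)) (.leaf (3, 1769)))) (.node (.node (.leaf (0, 0)) (.leaf (52, 1716))) (.node (.leaf (59, 1692)) (.leaf (3, 2025)))))))) (.node (.node (.node (.node (.node (.node (.node (.leaf (0, 0)) (.leaf (59, 854))) (.leaf (59, 1581))) (.node (.leaf (3, 537)) (.leaf (59,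 1235)))) (.node (.node (.leaf (0, 0)) (.leaf (59, 667))) (.node (.leaf (0, 0)) (.leaf (48, 107))))) (.node (.node (.node (.node (.leaf (0, 0)) (.leaf (59, 1428))) (.leaf (24, 652))) (.node (.leaf (51, 355)) (.leaf (57, 244)))) (.node (.node (.leaf (0, 0)) (.leaf (0, 0))) (.node (.leaf (29, 1959)) (.leaf (58, 1855)))))) (.node (.node (.node (.node (.node (.leaf (0, 0)) (.leaf (59, 922))) (.leaf (57, 548))) (.node (.leaf (59, 1311)) (.leaf (34, 1333)))) (.node (.node (.leaf (3, 1761)) (.leaf (57, 1379))) (.node (.leaf (0, 0)) (.leaf (58, 568))))) (.node (.node (.node (.leaf (0, 0)) (.leaf (54, 1844))) (.node (.leaf (24, 248)) (.leaf (3, 1753)))) (.node (.node (.leaf (14, 772)) (.leaf (0, 0))) (.node (.leaf (51, 1037)) (.leaf (26, 2183))))))) (.node (.node (.node (.node (.node (.node (.leaf (14, 106)) (.leaf (48, 306))) (.leaf (15, 389))) (.node (.leaf (59, 1788)) (.leaf (57, 76)))) (.node (.node (.leaf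 (0, 0)) (.leaf (59, 2154))) (.node (.leaf (3, 825)) (.leaf (11, 2105))))) (.node (.node (.node (.leaf (46, 440)) (.leaf (25, 1693))) (.node (.leaf (11, 1262)) (.leaf (59, 2017)))) (.node (.node (.leaf (0, 0)) (.leaf (3, 1465))) (.node (.leaf (0, 0)) (.leaf (58, 949)))))) (.node (.node (.node (.node (.node (.leaf (0, 0)) (.leaf (58, 1892))) (.leaf (13, 123))) (.node (.leaf (24, 63)) (.leaf (52, 303)))) (.node (.node (.leaf (0, 0)) (.leaf (59, 1759))) (.node (.leaf (58, 1552)) (.leaf (54, 459))))) (.node (.node (.node (.leaf (0, 0)) (.leaf (59, 284))) (.node (.leaf (0, 0)) (.leaf (47, 898)))) (.node (.node (.leaf (0, 0)) (.leaf (15, 325))) (.node (.leaf (19, 367)) (.leaf (58, 950)))))))))) (.node (.node (.node (.node (.node (.node (.node (.node (.node (.leaf (0, 0)) (.leaf (57, 122))) (.leaf (0, 0))) (.node (.leaf (0, 0)) (.leaf (38, 218)))) (.node (.node (.leaf (0, 0)) (.leaf (58, 1417))) (.node (.leaf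 (0, 0)) (.leaf (59, 494))))) (.node (.node (.node (.node (.leaf (0, 0)) (.leaf (3, 2181))) (.leaf (3, 1157))) (.node (.leaf (44, 113)) (.leaf (59, 1362)))) (.node (.node (.leaf (23, 1089)) (.leaf (57, 1267))) (.node (.leaf (14, 889)) (.leaf (3, 1925)))))) (.node (.node (.node (.node (.node (.leaf (16, 173)) (.leaf (50, 1035))) (.leaf (59, 1807))) (.node (.leaf (58, 1742)) (.leaf (14, 261)))) (.node (.node (.leaf (0, 0)) (.leaf (57, 569))) (.node (.leaf (23, 1973)) (.leaf (59, 1964))))) (.node (.node (.node (.leaf (0, 0)) (.leaf (0, 0))) (.node (.leaf (16, 1312)) (.leaf (33, 79)))) (.node (.node (.leaf (0, 0)) (.leaf (0, 0))) (.node (.leaf (24, 103)) (.leaf (3, 1989))))))) (.node (.node (.node (.node (.node (.node (.leaf (0, 0)) (.leaf (58, 880))) (.leaf (57, 2184))) (.node (.leaf (0, 0)) (.leaf (58, 819)))) (.node (.node (.leaf (0, 0)) (.leaf (24, 181))) (.node (.leaf (0, 0)) (.leaf (54, 625)))))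 (.node (.node (.node (.leaf (3, 1244)) (.leaf (3, 1434))) (.node (.leaf (19, 4)) (.leaf (24, 1973)))) (.node (.node (.leaf (59, 1086)) (.leaf (0, 0))) (.node (.leaf (54, 1899)) (.leaf (15, 751)))))) (.node (.node (.node (.node (.node (.leaf (0, 0)) (.leaf (44, 1273))) (.leaf (16, 1120))) (.node (.leaf (0, 0)) (.leaf (23, 301)))) (.node (.node (.leaf (58, 807)) (.leaf (59, 135))) (.node (.leaf (59, 728)) (.leaf (59, 713))))) (.node (.node (.node (.leaf (0, 0)) (.leaf (15, 1458))) (.node (.leaf (0, 0)) (.leaf (58, 451)))) (.node (.node (.leaf (59, 837)) (.leaf (0, 0))) (.node (.leaf (57, 739)) (.leaf (59, 1301)))))))) (.node (.node (.node (.node (.node (.node (.node (.leaf (0, 0)) (.leaf (15, 47))) (.leaf (59, 1688))) (.node (.leaf (0, 0)) (.leaf (3, 1557)))) (.node (.node (.leaf (58, 244)) (.leaf (59, 204))) (.node (.leaf (0, 0)) (.leaf (45, 996))))) (.node (.node (.node (.node (.leaf (3, 149)) (.leaf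 (43, 1688))) (.leaf (23, 263))) (.node (.leaf (10, 600)) (.leaf (24, 405)))) (.node (.node (.leaf (3, 753)) (.leaf (0, 0))) (.node (.leaf (59, 396)) (.leaf (57, 1449)))))) (.node (.node (.node (.node (.node (.leaf (0, 0)) (.leaf (58, 1885))) (.leaf (15, 1615))) (.node (.leaf (59, 1340)) (.leaf (59, 2161)))) (.node (.node (.leaf (0, 0)) (.leaf (59, 1739))) (.node (.leaf (0, 0)) (.leaf (29, 1947))))) (.node (.node (.node (.leaf (0, 0)) (.leaf (57, 556))) (.node (.leaf (0, 0)) (.leaf (57, 1188)))) (.node (.node (.leaf (0, 0)) (.leaf (59, 725))) (.node (.leaf (51, 1867)) (.leaf (48, 690))))))) (.node (.node (.node (.node (.node (.node (.leaf (0, 0)) (.leaf (59, 1629))) (.leaf (59, 1862))) (.node (.leaf (3, 1495)) (.leaf (59, 901)))) (.node (.node (.leaf (0, 0)) (.leaf (54, 1553))) (.node (.leaf (0, 0)) (.leaf (43, 61))))) (.node (.node (.node (.leaf (0, 0)) (.leaf (3, 1205))) (.node (.leaf (58, 903))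 (.leaf (3, 1717)))) (.node (.node (.leaf (57, 620)) (.leaf (58, 877))) (.node (.leaf (59, 90)) (.leaf (15, 912)))))) (.node (.node (.node (.node (.node (.leaf (0, 0)) (.leaf (29, 1193))) (.leaf (59, 1695))) (.node (.leaf (59, 818)) (.leaf (40, 792)))) (.node (.node (.leaf (59, 1730)) (.leaf (3, 1397))) (.node (.leaf (0, 0)) (.leaf (34, 691))))) (.node (.node (.node (.leaf (0, 0)) (.leaf (11, 1543))) (.node (.leaf (3, 757)) (.leaf (13, 2014)))) (.node (.node (.leaf (0, 0)) (.leaf (54, 2061))) (.node (.leaf (34, 514)) (.leaf (59, 1619))))))))) (.node (.node (.node (.node (.node (.node (.node (.node (.leaf (0, 0)) (.leaf (19, 1654))) (.leaf (51, 60))) (.node (.leaf (0, 0)) (.leaf (14, 290)))) (.node (.node (.leaf (0, 0)) (.leaf (58, 264))) (.node (.leaf (0, 0)) (.leaf (58, 1273))))) (.node (.node (.node (.node (.leaf (16, 321)) (.leaf (9, 0))) (.leaf (59, 1966))) (.node (.leaf (0, 0)) (.leaf (0, 0))))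 (.node (.node (.leaf (0, 0)) (.leaf (0, 0))) (.node (.leaf (49, 1958)) (.leaf (11, 1976)))))) (.node (.node (.node (.node (.node (.leaf (0, 0)) (.leaf (58, 852))) (.leaf (0, 0))) (.node (.leaf (3, 1786)) (.leaf (3, 2075)))) (.node (.node (.leaf (0, 0)) (.leaf (33, 995))) (.node (.leaf (59, 221)) (.leaf (59, 897))))) (.node (.node (.node (.leaf (0, 0)) (.leaf (0, 0))) (.node (.leaf (59, 1750)) (.leaf (14, 324)))) (.node (.node (.leaf (0, 0)) (.leaf (33, 12))) (.node (.leaf (0, 0)) (.leaf (58, 1224))))))) (.node (.node (.node (.node (.node (.node (.leaf (0, 0)) (.leaf (37, 2132))) (.leaf (3, 1843))) (.node (.leaf (0, 0)) (.leaf (51, 822)))) (.node (.node (.leaf (0, 0)) (.leaf (14, 182))) (.node (.leaf (0, 0)) (.leaf (59, 687))))) (.node (.node (.node (.leaf (0, 0)) (.leaf (25, 1627))) (.node (.leaf (52, 2142)) (.leaf (33, 1)))) (.node (.node (.leaf (0, 0)) (.leaf (51, 690))) (.node (.leaf (57, 1972))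 (.leaf (59, 202)))))) (.node (.node (.node (.node (.node (.leaf (0, 0)) (.leaf (57, 233))) (.leaf (59, 1704))) (.node (.leaf (19, 138)) (.leaf (59, 2004)))) (.node (.node (.leaf (57, 2014)) (.leaf (48, 1469))) (.node (.leaf (24, 682)) (.leaf (24, 60))))) (.node (.node (.node (.leaf (0, 0)) (.leaf (3, 1261))) (.node (.leaf (57, 1413)) (.leaf (57, 2182)))) (.node (.node (.leaf (58, 1025)) (.leaf (58, 483))) (.node (.leaf (11, 1469)) (.leaf (58, 1327)))))))) (.node (.node (.node (.node (.node (.node (.node (.leaf (0, 0)) (.leaf (59, 151))) (.leaf (49, 691))) (.node (.leaf (3, 1002)) (.leaf (54, 420)))) (.node (.node (.leaf (0, 0)) (.leaf (58, 2099))) (.node (.leaf (0, 0)) (.leaf (59, 1946))))) (.node (.node (.node (.leaf (14, 361)) (.leaf (54, 1837))) (.node (.leaf (59, 1857)) (.leaf (13, 1388)))) (.node (.node (.leaf (0, 0)) (.leaf (58, 315))) (.node (.leaf (59, 350)) (.leaf (51, 1494)))))) (.node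 (.node (.node (.node (.node (.leaf (0, 0)) (.leaf (54, 806))) (.leaf (45, 2096))) (.node (.leaf (59, 1579)) (.leaf (0, 0)))) (.node (.node (.leaf (0, 0)) (.leaf (58, 1960))) (.node (.leaf (38, 2028)) (.leaf (3, 2133))))) (.node (.node (.node (.leaf (50, 451)) (.leaf (58, 1466))) (.node (.leaf (34, 933)) (.leaf (59, 595)))) (.node (.node (.leaf (3, 1876)) (.leaf (24, 27))) (.node (.leaf (0, 0)) (.leaf (58, 2181))))))) (.node (.node (.node (.node (.node (.node (.leaf (0, 0)) (.leaf (15, 807))) (.leaf (59, 1795))) (.node (.leaf (0, 0)) (.leaf (58, 464)))) (.node (.node (.leaf (0, 0)) (.leaf (59, 1907))) (.node (.leaf (3, 1542)) (.leaf (57, 889))))) (.node (.node (.node (.leaf (3, 528)) (.leaf (29, 1622))) (.node (.leaf (3, 701)) (.leaf (17, 383)))) (.node (.node (.leaf (19, 2157)) (.leaf (0, 0))) (.node (.leaf (59, 1452)) (.leaf (16, 822)))))) (.node (.node (.node (.node (.node (.leaf (0, 0)) (.leaf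 (57, 412))) (.leaf (59, 589))) (.node (.leaf (25, 995)) (.leaf (59, 471)))) (.node (.node (.leaf (50, 823)) (.leaf (57, 1057))) (.node (.leaf (59, 430)) (.leaf (47, 878))))) (.node (.node (.node (.leaf (0, 0)) (.leaf (59, 1409))) (.node (.leaf (0, 0)) (.leaf (59, 525)))) (.node (.node (.leaf (58, 1570)) (.leaf (0, 0))) (.node (.leaf (15, 136)) (.leaf (58, 1773))))))))))) (.node (.node (.node (.node (.node (.node (.node (.node (.node (.node (.leaf (0, 0)) (.leaf (58, 1402))) (.leaf (3, 1640))) (.node (.leaf (0, 0)) (.leaf (52, 1551)))) (.node (.node (.leaf (24, 64)) (.leaf (59, 1487))) (.node (.leaf (0, 0)) (.leaf (59, 865))))) (.node (.node (.node (.node (.leaf (0, 0)) (.leaf (29, 1962))) (.leaf (52, 1054))) (.node (.leaf (59, 1577)) (.leaf (47, 1239)))) (.node (.node (.leaf (0, 0)) (.leaf (3, 1411))) (.node (.leaf (59, 1446)) (.leaf (24, 622)))))) (.node (.node (.node (.node (.node (.leaf (34, 94))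 (.leaf (59, 1624))) (.leaf (59, 1878))) (.node (.leaf (0, 0)) (.leaf (0, 0)))) (.node (.node (.leaf (57, 1469)) (.leaf (14, 1363))) (.node (.leaf (0, 0)) (.leaf (59, 495))))) (.node (.node (.node (.leaf (0, 0)) (.leaf (42, 1843))) (.node (.leaf (50, 221)) (.leaf (49, 1330)))) (.node (.node (.leaf (59, 845)) (.leaf (3, 2007))) (.node (.leaf (49, 2142)) (.leaf (59, 1007))))))) (.node (.node (.node (.node (.node (.node (.leaf (3, 35)) (.leaf (42, 164))) (.leaf (59, 1821))) (.node (.leaf (24, 82)) (.leaf (58, 1071)))) (.node (.node (.leaf (0, 0)) (.leaf (46, 1921))) (.node (.leaf (3, 803)) (.leaf (10, 1726))))) (.node (.node (.node (.leaf (3, 163)) (.leaf (59, 1757))) (.node (.leaf (0, 0)) (.leaf (57, 838)))) (.node (.node (.leaf (0, 0)) (.leaf (0, 0))) (.node (.leaf (49, 2008)) (.leaf (3, 1955)))))) (.node (.node (.node (.node (.node (.leaf (0, 0)) (.leaf (3, 2147))) (.leaf (34, 2156))) (.node (.leaf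 (59, 796)) (.leaf (3, 1635)))) (.node (.node (.leaf (59, 866)) (.leaf (59, 1869))) (.node (.leaf (11, 87)) (.leaf (37, 50))))) (.node (.node (.node (.leaf (0, 0)) (.leaf (17, 85))) (.node (.leaf (13, 1905)) (.leaf (57, 1092)))) (.node (.node (.leaf (50, 1102)) (.leaf (16, 2048))) (.node (.leaf (3, 1492)) (.leaf (11, 1026)))))))) (.node (.node (.node (.node (.node (.node (.node (.leaf (0, 0)) (.leaf (24, 798))) (.leaf (0, 0))) (.node (.leaf (45, 1174)) (.leaf (59, 2061)))) (.node (.node (.leaf (0, 0)) (.leaf (59, 1779))) (.node (.leaf (0, 0)) (.leaf (57, 1273))))) (.node (.node (.node (.node (.leaf (0, 0)) (.leaf (35, 27))) (.leaf (48, 1606))) (.node (.leaf (3, 1325)) (.leaf (15, 697)))) (.node (.node (.leaf (0, 0)) (.leaf (14, 335))) (.node (.leaf (11, 256)) (.leaf (57, 92)))))) (.node (.node (.node (.node (.node (.leaf (0, 0)) (.leaf (59, 1647))) (.leaf (57, 700))) (.node (.leaf (14, 55)) (.leaf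 (51, 175)))) (.node (.node (.leaf (0, 0)) (.leaf (14, 1880))) (.node (.leaf (0, 0)) (.leaf (57, 1226))))) (.node (.node (.node (.leaf (0, 0)) (.leaf (58, 1728))) (.node (.leaf (0, 0)) (.leaf (34, 382)))) (.node (.node (.leaf (0, 0)) (.leaf (3, 1491))) (.node (.leaf (0, 0)) (.leaf (3, 2003))))))) (.node (.node (.node (.node (.node (.node (.leaf (34, 1466)) (.leaf (59, 1309))) (.leaf (59, 1693))) (.node (.leaf (50, 1722)) (.leaf (24, 298)))) (.node (.node (.leaf (0, 0)) (.leaf (54, 248))) (.node (.leaf (0, 0)) (.leaf (14, 380))))) (.node (.node (.node (.leaf (0, 0)) (.leaf (54, 1892))) (.node (.leaf (59, 786)) (.leaf (0, 0)))) (.node (.node (.leaf (0, 0)) (.leaf (0, 0))) (.node (.leaf (0, 0)) (.leaf (0, 0)))))) (.node (.node (.node (.node (.node (.leaf (0, 0)) (.leaf (29, 1729))) (.leaf (16, 131))) (.node (.leaf (59, 1631)) (.leaf (11, 2012)))) (.node (.node (.leaf (0, 0)) (.leaf (3, 2060))) (.node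 (.leaf (34, 441)) (.leaf (52, 392))))) (.node (.node (.node (.leaf (0, 0)) (.leaf (59, 222))) (.node (.leaf (0, 0)) (.leaf (14, 119)))) (.node (.node (.leaf (59, 1220)) (.leaf (59, 1271))) (.node (.leaf (3, 1011)) (.leaf (59, 1381))))))))) (.node (.node (.node (.node (.node (.node (.node (.node (.leaf (0, 0)) (.leaf (54, 43))) (.leaf (59, 1782))) (.node (.leaf (0, 0)) (.leaf (0, 0)))) (.node (.node (.leaf (0, 0)) (.leaf (59, 1422))) (.node (.leaf (0, 0)) (.leaf (57, 1837))))) (.node (.node (.node (.node (.leaf (0, 0)) (.leaf (3, 0))) (.leaf (59, 199))) (.node (.leaf (34, 1431)) (.leaf (59, 1092)))) (.node (.node (.leaf (59, 954)) (.leaf (0, 0))) (.node (.leaf (3, 907)) (.leaf (19, 247)))))) (.node (.node (.node (.node (.node (.leaf (14, 30)) (.leaf (58, 1727))) (.leaf (59, 1682))) (.node (.leaf (57, 1752)) (.leaf (59, 1999)))) (.node (.node (.leaf (0, 0)) (.leaf (11, 1697))) (.node (.leaf (0, 0))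 (.leaf (58, 2049))))) (.node (.node (.node (.leaf (0, 0)) (.leaf (46, 846))) (.node (.leaf (57, 1526)) (.leaf (19, 1599)))) (.node (.node (.leaf (59, 160)) (.leaf (58, 939))) (.node (.leaf (0, 0)) (.leaf (54, 1216))))))) (.node (.node (.node (.node (.node (.node (.leaf (0, 0)) (.leaf (51, 2156))) (.leaf (0, 0))) (.node (.leaf (0, 0)) (.leaf (59, 712)))) (.node (.node (.leaf (0, 0)) (.leaf (58, 1693))) (.node (.leaf (48, 1499)) (.leaf (50, 382))))) (.node (.node (.node (.leaf (14, 110)) (.leaf (50, 1689))) (.node (.leaf (23, 66)) (.leaf (14, 332)))) (.node (.node (.leaf (3, 427)) (.leaf (0, 0))) (.node (.leaf (59, 1461)) (.leaf (29, 1105)))))) (.node (.node (.node (.node (.node (.leaf (0, 0)) (.leaf (59, 1310))) (.leaf (3, 1814))) (.node (.leaf (57, 1504)) (.leaf (3, 1643)))) (.node (.node (.leaf (0, 0)) (.leaf (58, 1854))) (.node (.leaf (15, 3)) (.leaf (3, 1899))))) (.node (.node (.node (.leaf (39,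 2142)) (.leaf (59, 1632))) (.node (.leaf (24, 1223)) (.leaf (59, 1296)))) (.node (.node (.leaf (0, 0)) (.leaf (59, 638))) (.node (.leaf (14, 109)) (.leaf (54, 892)))))))) (.node (.node (.node (.node (.node (.node (.node (.leaf (0, 0)) (.leaf (14, 799))) (.leaf (59, 1942))) (.node (.leaf (51, 184)) (.leaf (59, 2070)))) (.node (.node (.leaf (3, 283)) (.leaf (57, 429))) (.node (.leaf (59, 1587)) (.leaf (57, 1308))))) (.node (.node (.node (.leaf (0, 0)) (.leaf (23, 443))) (.node (.leaf (59, 2177)) (.leaf (59, 2021)))) (.node (.node (.leaf (54, 819)) (.leaf (0, 0))) (.node (.leaf (0, 0)) (.leaf (25, 1110)))))) (.node (.node (.node (.node (.node (.leaf (0, 0)) (.leaf (48, 952))) (.leaf (51, 1885))) (.node (.leaf (3, 603)) (.leaf (28, 2110)))) (.node (.node (.leaf (0, 0)) (.leaf (52, 1219))) (.node (.leaf (54, 1879)) (.leaf (3, 1883))))) (.node (.node (.node (.leaf (34, 575)) (.leaf (52, 1363))) (.node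 (.leaf (24, 842)) (.leaf (13, 2048)))) (.node (.node (.leaf (0, 0)) (.leaf (50, 1013))) (.node (.leaf (51, 320)) (.leaf (3, 2011))))))) (.node (.node (.node (.node (.node (.node (.leaf (0, 0)) (.leaf (33, 558))) (.leaf (59, 2038))) (.node (.leaf (59, 1767)) (.leaf (0, 0)))) (.node (.node (.leaf (0, 0)) (.leaf (57, 1966))) (.node (.leaf (43, 1054)) (.leaf (3, 1851))))) (.node (.node (.node (.leaf (15, 14)) (.leaf (59, 107))) (.node (.leaf (57, 175)) (.leaf (59, 874)))) (.node (.node (.leaf (3, 1139)) (.leaf (58, 2001))) (.node (.leaf (0, 0)) (.leaf (0, 0)))))) (.node (.node (.node (.node (.node (.leaf (0, 0)) (.leaf (52, 332))) (.leaf (59, 1972))) (.node (.leaf (54, 846)) (.leaf (57, 894)))) (.node (.node (.leaf (0, 0)) (.leaf (58, 1701))) (.node (.leaf (3, 891)) (.leaf (58, 539))))) (.node (.node (.node (.leaf (0, 0)) (.leaf (3, 1275))) (.node (.leaf (0, 0)) (.leaf (59, 2155)))) (.node (.node (.leaf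 (17, 1262)) (.leaf (59, 695))) (.node (.leaf (58, 495)) (.leaf (59, 2184)))))))))) (.node (.node (.node (.node (.node (.node (.node (.node (.node (.leaf (0, 0)) (.leaf (59, 1621))) (.leaf (3, 1031))) (.node (.leaf (3, 519)) (.leaf (3, 1543)))) (.node (.node (.leaf (3, 702)) (.leaf (57, 2095))) (.node (.leaf (0, 0)) (.leaf (59, 72))))) (.node (.node (.node (.node (.leaf (0, 0)) (.leaf (59, 1609))) (.leaf (57, 1362))) (.node (.leaf (58, 1278)) (.leaf (59, 355)))) (.node (.node (.leaf (0, 0)) (.leaf (0, 0))) (.node (.leaf (0, 0)) (.leaf (24, 653)))))) (.node (.node (.node (.node (.node (.leaf (0, 0)) (.leaf (59, 1707))) (.leaf (58, 2057))) (.node (.leaf (0, 0)) (.leaf (0, 0)))) (.node (.node (.leaf (0, 0)) (.leaf (59, 1806))) (.node (.leaf (0, 0)) (.leaf (34, 675))))) (.node (.node (.node (.leaf (0, 0)) (.leaf (15, 1429))) (.node (.leaf (27, 709)) (.leaf (58, 380)))) (.node (.node (.leaf (0, 0)) (.leaf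 (0, 0))) (.node (.leaf (59, 1566)) (.leaf (59, 93))))))) (.node (.node (.node (.node (.node (.node (.leaf (0, 0)) (.leaf (59, 1921))) (.leaf (3, 1748))) (.node (.leaf (52, 1212)) (.leaf (19, 755)))) (.node (.node (.leaf (0, 0)) (.leaf (15, 102))) (.node (.leaf (44, 534)) (.leaf (59, 910))))) (.node (.node (.node (.leaf (0, 0)) (.leaf (57, 495))) (.node (.leaf (58, 1907)) (.leaf (59, 2055)))) (.node (.node (.leaf (0, 0)) (.leaf (58, 637))) (.node (.leaf (14, 191)) (.leaf (25, 1176)))))) (.node (.node (.node (.node (.node (.leaf (3, 103)) (.leaf (59, 1242))) (.leaf (14, 122))) (.node (.leaf (59, 178)) (.leaf (52, 1909)))) (.node (.node (.leaf (0, 0)) (.leaf (58, 2118))) (.node (.leaf (0, 0)) (.leaf (3, 2170))))) (.node (.node (.node (.leaf (54, 382)) (.leaf (59, 2119))) (.node (.leaf (34, 795)) (.leaf (58, 1972)))) (.node (.node (.leaf (59, 1226)) (.leaf (0, 0))) (.node (.leaf (58, 1846)) (.leaf (57,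 1848)))))))) (.node (.node (.node (.node (.node (.node (.node (.leaf (0, 0)) (.leaf (59, 831))) (.leaf (3, 1047))) (.node (.leaf (54, 850)) (.leaf (59, 443)))) (.node (.node (.leaf (0, 0)) (.leaf (58, 1739))) (.node (.leaf (0, 0)) (.leaf (29, 990))))) (.node (.node (.node (.node (.leaf (0, 0)) (.leaf (51, 852))) (.leaf (57, 290))) (.node (.leaf (58, 1745)) (.leaf (34, 496)))) (.node (.node (.leaf (0, 0)) (.leaf (3, 1431))) (.node (.leaf (3, 919)) (.leaf (3, 1943)))))) (.node (.node (.node (.node (.node (.leaf (0, 0)) (.leaf (59, 1200))) (.leaf (15, 8))) (.node (.leaf (59, 1844)) (.leaf (58, 597)))) (.node (.node (.leaf (3, 343)) (.leaf (50, 1552))) (.node (.leaf (29, 2061)) (.leaf (52, 796))))) (.node (.node (.node (.leaf (59, 357)) (.leaf (3, 1239))) (.node (.leaf (3, 727)) (.leaf (59, 2057)))) (.node (.node (.leaf (14, 40)) (.leaf (34, 13))) (.node (.leaf (3, 1549)) (.leaf (16, 777))))))) (.node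 (.node (.node (.node (.node (.node (.leaf (0, 0)) (.leaf (59, 810))) (.leaf (59, 1612))) (.node (.leaf (0, 0)) (.leaf (25, 558)))) (.node (.node (.leaf (0, 0)) (.leaf (38, 1223))) (.node (.leaf (0, 0)) (.leaf (3, 1847))))) (.node (.node (.node (.leaf (0, 0)) (.leaf (15, 134))) (.node (.leaf (52, 598)) (.leaf (0, 0)))) (.node (.node (.leaf (24, 119)) (.leaf (47, 28))) (.node (.leaf (16, 1605)) (.leaf (59, 1018)))))) (.node (.node (.node (.node (.node (.leaf (0, 0)) (.leaf (34, 769))) (.leaf (57, 2057))) (.node (.leaf (59, 1561)) (.leaf (3, 1655)))) (.node (.node (.leaf (0, 0)) (.leaf (59, 1723))) (.node (.leaf (34, 98)) (.leaf (33, 597))))) (.node (.node (.node (.leaf (3, 247)) (.leaf (59, 588))) (.node (.leaf (0, 0)) (.leaf (3, 1783)))) (.node (.node (.leaf (59, 1041)) (.leaf (0, 0))) (.node (.leaf (50, 1582)) (.leaf (59, 1324))))))))) (.node (.node (.node (.node (.node (.node (.node (.node (.leaf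 (0, 0)) (.leaf (57, 1506))) (.leaf (59, 468))) (.node (.leaf (3, 1190)) (.leaf (59, 807)))) (.node (.node (.leaf (0, 0)) (.leaf (57, 2001))) (.node (.leaf (0, 0)) (.leaf (50, 1218))))) (.node (.node (.node (.node (.leaf (57, 952)) (.leaf (19, 804))) (.leaf (58, 638))) (.node (.leaf (51, 1948)) (.leaf (0, 0)))) (.node (.node (.leaf (17, 57)) (.leaf (0, 0))) (.node (.leaf (57, 1070)) (.leaf (52, 457)))))) (.node (.node (.node (.node (.node (.leaf (0, 0)) (.leaf (16, 2105))) (.leaf (59, 1796))) (.node (.leaf (59, 1894)) (.leaf (34, 1112)))) (.node (.node (.leaf (0, 0)) (.leaf (15, 190))) (.node (.leaf (0, 0)) (.leaf (59, 1336))))) (.node (.node (.node (.leaf (0, 0)) (.leaf (16, 205))) (.node (.leaf (59, 1225)) (.leaf (3, 2182)))) (.node (.node (.leaf (0, 0)) (.leaf (0, 0))) (.node (.leaf (14, 102)) (.leaf (59, 1131))))))) (.node (.node (.node (.node (.node (.node (.leaf (0, 0)) (.leaf (42, 286))) (.leaf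 (59, 1752))) (.node (.leaf (59, 830)) (.leaf (57, 780)))) (.node (.node (.leaf (0, 0)) (.leaf (57, 612))) (.node (.leaf (3, 815)) (.leaf (59, 2185))))) (.node (.node (.node (.leaf (23, 1044)) (.leaf (59, 141))) (.node (.leaf (3, 1253)) (.leaf (58, 2013)))) (.node (.node (.leaf (0, 0)) (.leaf (0, 0))) (.node (.leaf (14, 1427)) (.leaf (35, 852)))))) (.node (.node (.node (.node (.node (.leaf (0, 0)) (.leaf (45, 126))) (.leaf (57, 1991))) (.node (.leaf (3, 623)) (.leaf (57, 994)))) (.node (.node (.leaf (34, 28)) (.leaf (58, 1917))) (.node (.leaf (57, 527)) (.leaf (59, 693))))) (.node (.node (.node (.leaf (0, 0)) (.leaf (59, 1638))) (.node (.leaf (59, 184)) (.leaf (24, 2010)))) (.node (.node (.leaf (58, 28)) (.leaf (3, 1519))) (.node (.leaf (59, 1586)) (.leaf (39, 1362)))))))) (.node (.node (.node (.node (.node (.node (.node (.leaf (0, 0)) (.leaf (58, 943))) (.leaf (0, 0))) (.node (.leaf (0, 0)) (.leaf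 (0, 0)))) (.node (.node (.leaf (0, 0)) (.leaf (19, 700))) (.node (.leaf (51, 1662)) (.leaf (59, 483))))) (.node (.node (.node (.leaf (0, 0)) (.leaf (57, 2094))) (.node (.leaf (34, 1850)) (.leaf (0, 0)))) (.node (.node (.leaf (48, 1644)) (.leaf (59, 400))) (.node (.leaf (14, 808)) (.leaf (0, 0)))))) (.node (.node (.node (.node (.node (.leaf (0, 0)) (.leaf (58, 1371))) (.leaf (14, 121))) (.node (.leaf (51, 425)) (.leaf (19, 23)))) (.node (.node (.leaf (17, 804)) (.leaf (57, 733))) (.node (.leaf (0, 0)) (.leaf (16, 1664))))) (.node (.node (.node (.leaf (0, 0)) (.leaf (59, 1816))) (.node (.leaf (57, 242)) (.leaf (15, 289)))) (.node (.node (.leaf (0, 0)) (.leaf (0, 0))) (.node (.leaf (19, 8)) (.leaf (59, 1325))))))) (.node (.node (.node (.node (.node (.node (.leaf (3, 63)) (.leaf (59, 1202))) (.leaf (59, 1406))) (.node (.leaf (15, 762)) (.leaf (59, 1396)))) (.node (.node (.leaf (0, 0)) (.leaf (57, 382)))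 (.node (.leaf (0, 0)) (.leaf (58, 420))))) (.node (.node (.node (.leaf (0, 0)) (.leaf (59, 382))) (.node (.leaf (52, 68)) (.leaf (58, 902)))) (.node (.node (.leaf (0, 0)) (.leaf (0, 0))) (.node (.leaf (13, 97)) (.leaf (3, 1983)))))) (.node (.node (.node (.node (.node (.leaf (0, 0)) (.leaf (45, 306))) (.leaf (34, 312))) (.node (.leaf (59, 1070)) (.leaf (16, 2062)))) (.node (.node (.leaf (0, 0)) (.leaf (0, 0))) (.node (.leaf (33, 758)) (.leaf (57, 1701))))) (.node (.node (.node (.leaf (0, 0)) (.leaf (58, 1844))) (.node (.leaf (57, 446)) (.leaf (3, 2139)))) (.node (.node (.leaf (3, 511)) (.leaf (58, 1225))) (.node (.leaf (17, 104)) (.leaf (34, 235))))))))))))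

def threeVia : Janko.Tree (ℕ × ℕ) := (.node (.node (.node threeVia0 threeVia4) (.node threeVia2 threeVia6)) (.node (.node threeVia1 threeVia5) (.node threeVia3 threeVia7)))

def threeOrd0 : Janko.Tree (ℕ) :=
  (.node (.node (.node (.node (.node (.node (.node (.node (.node (.leaf 1341) (.leaf 697)) (.leaf 726)) (.node (.leaf 1375) (.leaf 721))) (.node (.node (.leaf 23) (.leaf 294)) (.node (.leaf 1687) (.leaf 799)))) (.node (.node (.node (.node (.leaf 1766) (.leaf 352)) (.leaf 1337)) (.node (.leaf 904) (.leaf 861))) (.node (.node (.leaf 1376) (.leaf 34)) (.node (.leaf 974) (.leaf 1290))))) (.node (.node (.node (.node (.node (.leaf 261) (.leaf 379)) (.leaf 853)) (.node (.leaf 1843) (.leaf 1828))) (.node (.node (.leaf 1465) (.leaf 1880)) (.node (.leaf 1139) (.leaf 655)))) (.node (.node (.node (.leaf 1048) (.leaf 1795)) (.node (.leaf 1268) (.leaf 859))) (.node (.node (.leaf 467) (.leaf 1825)) (.node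 (.leaf 1553) (.leaf 2131)))))) (.node (.node (.node (.node (.node (.node (.leaf 1917) (.leaf 1760)) (.leaf 443)) (.node (.leaf 779) (.leaf 1424))) (.node (.node (.leaf 2138) (.leaf 1040)) (.node (.leaf 265) (.leaf 704)))) (.node (.node (.node (.leaf 1717) (.leaf 1845)) (.node (.leaf 1134) (.leaf 881))) (.node (.node (.leaf 1257) (.leaf 1889)) (.node (.leaf 795) (.leaf 347))))) (.node (.node (.node (.node (.node (.leaf 1562) (.leaf 983)) (.leaf 978)) (.node (.leaf 449) (.leaf 153))) (.node (.node (.leaf 1710) (.leaf 322)) (.node (.leaf 1245) (.leaf 1767)))) (.node (.node (.node (.leaf 986) (.leaf 2142)) (.node (.leaf 1686) (.leaf 1136))) (.node (.node (.leaf 2127) (.leaf 1250)) (.node (.leaf 1260) (.leaf 1839))))))) (.node (.node (.node (.node (.node (.node (.node (.leaf 535) (.leaf 394)) (.leaf 1875)) (.node (.leaf 1681) (.leaf 1900))) (.node (.node (.leaf 1357) (.leaf 1555)) (.node (.leaf 1559)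 (.leaf 1740)))) (.node (.node (.node (.leaf 652) (.leaf 1616)) (.node (.leaf 1025) (.leaf 247))) (.node (.node (.leaf 600) (.leaf 1475)) (.node (.leaf 451) (.leaf 2071))))) (.node (.node (.node (.node (.node (.leaf 313) (.leaf 195)) (.leaf 1723)) (.node (.leaf 719) (.leaf 1581))) (.node (.node (.leaf 1030) (.leaf 1090)) (.node (.leaf 1519) (.leaf 902)))) (.node (.node (.node (.leaf 1367) (.leaf 2141)) (.node (.leaf 1370) (.leaf 1745))) (.node (.node (.leaf 1471) (.leaf 989)) (.node (.leaf 1545) (.leaf 405)))))) (.node (.node (.node (.node (.node (.node (.leaf 1470) (.leaf 2028)) (.leaf 1425)) (.node (.leaf 12) (.leaf 1055))) (.node (.node (.leaf 1345) (.leaf 889)) (.node (.leaf 1989) (.leaf 1359)))) (.node (.node (.node (.leaf 2001) (.leaf 1158)) (.node (.leaf 286) (.leaf 1902))) (.node (.node (.leaf 281) (.leaf 1657)) (.node (.leaf 2136) (.leaf 2038))))) (.node (.node (.node (.node (.node (.leaf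 823) (.leaf 398)) (.leaf 450)) (.node (.leaf 1412) (.leaf 356))) (.node (.node (.leaf 1487) (.leaf 1835)) (.node (.leaf 1140) (.leaf 813)))) (.node (.node (.node (.leaf 1793) (.leaf 660)) (.node (.leaf 2176) (.leaf 418))) (.node (.node (.leaf 1670) (.leaf 1362)) (.node (.leaf 1106) (.leaf 1258)))))))) (.node (.node (.node (.node (.node (.node (.node (.node (.leaf 1236) (.leaf 1018)) (.leaf 1013)) (.node (.leaf 888) (.leaf 2050))) (.node (.node (.leaf 1923) (.leaf 912)) (.node (.leaf 1445) (.leaf 1449)))) (.node (.node (.node (.node (.leaf 385) (.leaf 1222)) (.leaf 1529)) (.node (.leaf 2094) (.leaf 1926))) (.node (.node (.leaf 1012) (.leaf 1275)) (.node (.leaf 31) (.leaf 1302))))) (.node (.node (.node (.node (.node (.leaf 67) (.leaf 839)) (.leaf 956)) (.node (.leaf 551) (.leaf 1390))) (.node (.node (.leaf 526) (.leaf 2078)) (.node (.leaf 2007) (.leaf 1011)))) (.node (.node (.node (.leaf 828) (.leaf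 846)) (.node (.leaf 1998) (.leaf 540))) (.node (.node (.leaf 1004) (.leaf 54)) (.node (.leaf 7) (.leaf 850)))))) (.node (.node (.node (.node (.node (.node (.leaf 1351) (.leaf 614)) (.leaf 1287)) (.node (.leaf 1001) (.leaf 50))) (.node (.node (.leaf 705) (.leaf 1744)) (.node (.leaf 866) (.leaf 1249)))) (.node (.node (.node (.leaf 689) (.leaf 2095)) (.node (.leaf 1739) (.leaf 941))) (.node (.node (.leaf 966) (.leaf 901)) (.node (.leaf 1872) (.leaf 280))))) (.node (.node (.node (.node (.node (.leaf 1776) (.leaf 1939)) (.leaf 1560)) (.node (.leaf 1327) (.leaf 276))) (.node (.node (.leaf 1443) (.leaf 1026)) (.node (.leaf 1683) (.leaf 2004)))) (.node (.node (.node (.leaf 316) (.leaf 1728)) (.node (.leaf 886) (.leaf 1145))) (.node (.node (.leaf 1700) (.leaf 1747)) (.node (.leaf 982) (.leaf 141))))))) (.node (.node (.node (.node (.node (.node (.node (.leaf 654) (.leaf 920)) (.leaf 2034)) (.node (.leaf 1388)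 (.leaf 1178))) (.node (.node (.leaf 382) (.leaf 1267)) (.node (.leaf 1110) (.leaf 735)))) (.node (.node (.node (.leaf 763) (.leaf 1056)) (.node (.leaf 201) (.leaf 1176))) (.node (.node (.leaf 1180) (.leaf 1737)) (.node (.leaf 159) (.leaf 400))))) (.node (.node (.node (.node (.node (.leaf 1593) (.leaf 1704)) (.leaf 1433)) (.node (.leaf 372) (.leaf 2149))) (.node (.node (.leaf 59) (.leaf 1062)) (.node (.leaf 2054) (.leaf 1588)))) (.node (.node (.node (.leaf 1538) (.leaf 1299)) (.node (.leaf 812) (.leaf 129))) (.node (.node (.leaf 396) (.leaf 221)) (.node (.leaf 63) (.leaf 66)))))) (.node (.node (.node (.node (.node (.node (.leaf 1166) (.leaf 1468)) (.leaf 1827)) (.node (.leaf 1377) (.leaf 597))) (.node (.node (.leaf 761) (.leaf 1419)) (.node (.leaf 123) (.leaf 1036)))) (.node (.node (.node (.leaf 1837) (.leaf 1010)) (.node (.leaf 1130) (.leaf 1780))) (.node (.node (.leaf 1518) (.leaf 1920)) (.node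 (.leaf 1120) (.leaf 722))))) (.node (.node (.node (.node (.node (.leaf 455) (.leaf 1546)) (.leaf 1448)) (.node (.leaf 1945) (.leaf 1396))) (.node (.node (.leaf 1753) (.leaf 197)) (.node (.leaf 103) (.leaf 428)))) (.node (.node (.node (.leaf 835) (.leaf 1073)) (.node (.leaf 380) (.leaf 811))) (.node (.node (.leaf 610) (.leaf 750)) (.node (.leaf 212) (.leaf 1936)))))))))

def threeOrd1 : Janko.Tree (ℕ) :=
  (.node (.node (.node (.node (.node (.node (.node (.node (.node (.leaf 648) (.leaf 1194)) (.leaf 1653)) (.node (.leaf 1333) (.leaf 934))) (.node (.node (.leaf 926) (.leaf 621)) (.node (.leaf 703) (.leaf 1775)))) (.node (.node (.node (.node (.leaf 277) (.leaf 747)) (.leaf 200)) (.node (.leaf 1859) (.leaf 555))) (.node (.node (.leaf 1685) (.leaf 2123)) (.node (.leaf 504) (.leaf 1948))))) (.node (.node (.node (.node (.node (.leaf 985) (.leaf 1851)) (.leaf 1881)) (.node (.leaf 2012) (.leaf 2170))) (.node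 (.node (.leaf 1645) (.leaf 1907)) (.node (.leaf 363) (.leaf 1108)))) (.node (.node (.node (.leaf 876) (.leaf 608)) (.node (.leaf 1746) (.leaf 135))) (.node (.node (.leaf 875) (.leaf 997)) (.node (.leaf 143) (.leaf 1289)))))) (.node (.node (.node (.node (.node (.node (.leaf 1934) (.leaf 837)) (.leaf 807)) (.node (.leaf 890) (.leaf 1628))) (.node (.node (.leaf 217) (.leaf 442)) (.node (.leaf 1601) (.leaf 833)))) (.node (.node (.node (.leaf 395) (.leaf 1274)) (.node (.leaf 2114) (.leaf 259))) (.node (.node (.leaf 1915) (.leaf 657)) (.node (.leaf 1230) (.leaf 939))))) (.node (.node (.node (.node (.node (.leaf 683) (.leaf 729)) (.leaf 1146)) (.node (.leaf 711) (.leaf 203))) (.node (.node (.leaf 1365) (.leaf 1429)) (.node (.leaf 718) (.leaf 2079)))) (.node (.node (.node (.leaf 2177) (.leaf 634)) (.node (.leaf 780) (.leaf 1678))) (.node (.node (.leaf 858) (.leaf 1862)) (.node (.leaf 230) (.leaf 187)))))))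 (.node (.node (.node (.node (.node (.node (.node (.leaf 1910) (.leaf 307)) (.leaf 2109)) (.node (.leaf 1311) (.leaf 629))) (.node (.node (.leaf 671) (.leaf 1799)) (.node (.leaf 1091) (.leaf 58)))) (.node (.node (.node (.leaf 1407) (.leaf 1619)) (.node (.leaf 355) (.leaf 274))) (.node (.node (.leaf 935) (.leaf 1810)) (.node (.leaf 589) (.leaf 1371))))) (.node (.node (.node (.node (.node (.leaf 960) (.leaf 1459)) (.leaf 243)) (.node (.leaf 167) (.leaf 1773))) (.node (.node (.leaf 1621) (.leaf 1415)) (.node (.leaf 145) (.leaf 1148)))) (.node (.node (.node (.leaf 392) (.leaf 1558)) (.node (.leaf 518) (.leaf 782))) (.node (.node (.leaf 1235) (.leaf 1155)) (.node (.leaf 1492) (.leaf 1583)))))) (.node (.node (.node (.node (.node (.node (.leaf 913) (.leaf 332)) (.leaf 819)) (.node (.leaf 1556) (.leaf 370))) (.node (.node (.leaf 566) (.leaf 1335)) (.node (.leaf 1941) (.leaf 461)))) (.node (.node (.node (.leaf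 333) (.leaf 1777)) (.node (.leaf 1850) (.leaf 325))) (.node (.node (.leaf 1563) (.leaf 891)) (.node (.leaf 240) (.leaf 505))))) (.node (.node (.node (.node (.node (.leaf 484) (.leaf 534)) (.leaf 1743)) (.node (.leaf 107) (.leaf 1232))) (.node (.node (.leaf 766) (.leaf 536)) (.node (.leaf 1111) (.leaf 86)))) (.node (.node (.node (.leaf 1288) (.leaf 994)) (.node (.leaf 1318) (.leaf 980))) (.node (.node (.leaf 497) (.leaf 359)) (.node (.leaf 1699) (.leaf 1015)))))))) (.node (.node (.node (.node (.node (.node (.node (.node (.leaf 1087) (.leaf 2036)) (.leaf 1991)) (.node (.leaf 1129) (.leaf 1754))) (.node (.node (.leaf 177) (.leaf 1965)) (.node (.leaf 663) (.leaf 337)))) (.node (.node (.node (.node (.leaf 1474) (.leaf 666)) (.leaf 687)) (.node (.leaf 769) (.leaf 2182))) (.node (.node (.leaf 1813) (.leaf 1082)) (.node (.leaf 628) (.leaf 1221))))) (.node (.node (.node (.node (.node (.leaf 2067) (.leaf 1694))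 (.leaf 2002)) (.node (.leaf 2016) (.leaf 1897))) (.node (.node (.leaf 1606) (.leaf 619)) (.node (.leaf 1674) (.leaf 678)))) (.node (.node (.node (.leaf 101) (.leaf 1411)) (.node (.leaf 26) (.leaf 2107))) (.node (.node (.leaf 513) (.leaf 1332)) (.node (.leaf 561) (.leaf 585)))))) (.node (.node (.node (.node (.node (.node (.leaf 207) (.leaf 1855)) (.leaf 958)) (.node (.leaf 1373) (.leaf 1447))) (.node (.node (.leaf 9) (.leaf 1570)) (.node (.leaf 241) (.leaf 2046)))) (.node (.node (.node (.leaf 2085) (.leaf 1461)) (.node (.leaf 1523) (.leaf 2075))) (.node (.node (.leaf 1420) (.leaf 1500)) (.node (.leaf 1431) (.leaf 345))))) (.node (.node (.node (.node (.node (.leaf 1360) (.leaf 1248)) (.leaf 623)) (.node (.leaf 930) (.leaf 73))) (.node (.node (.leaf 1286) (.leaf 284)) (.node (.leaf 2097) (.leaf 175)))) (.node (.node (.node (.leaf 1643) (.leaf 1534)) (.node (.leaf 1383) (.leaf 2134))) (.node (.node (.leaf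 1466) (.leaf 13)) (.node (.leaf 1985) (.leaf 1246))))))) (.node (.node (.node (.node (.node (.node (.node (.leaf 1346) (.leaf 2006)) (.leaf 1486)) (.node (.leaf 205) (.leaf 1072))) (.node (.node (.leaf 193) (.leaf 1866)) (.node (.leaf 528) (.leaf 1213)))) (.node (.node (.node (.leaf 1070) (.leaf 604)) (.node (.leaf 83) (.leaf 1742))) (.node (.node (.leaf 2161) (.leaf 1807)) (.node (.leaf 227) (.leaf 132))))) (.node (.node (.node (.node (.node (.leaf 437) (.leaf 321)) (.leaf 1894)) (.node (.leaf 2010) (.leaf 1355))) (.node (.node (.leaf 164) (.leaf 1265)) (.node (.leaf 1506) (.leaf 112)))) (.node (.node (.node (.leaf 1125) (.leaf 1873)) (.node (.leaf 2030) (.leaf 1612))) (.node (.node (.leaf 228) (.leaf 2175)) (.node (.leaf 907) (.leaf 587)))))) (.node (.node (.node (.node (.node (.node (.leaf 48) (.leaf 2093)) (.leaf 511)) (.node (.leaf 434) (.leaf 2083))) (.node (.node (.leaf 1879) (.leaf 1364))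 (.node (.leaf 2120) (.leaf 1118)))) (.node (.node (.node (.leaf 1567) (.leaf 1485)) (.node (.leaf 2068) (.leaf 1765))) (.node (.node (.leaf 1993) (.leaf 1182)) (.node (.leaf 1624) (.leaf 651))))) (.node (.node (.node (.node (.node (.leaf 1076) (.leaf 803)) (.leaf 2140)) (.node (.leaf 987) (.leaf 684))) (.node (.node (.leaf 556) (.leaf 1953)) (.node (.leaf 1283) (.leaf 377)))) (.node (.node (.node (.leaf 1165) (.leaf 33)) (.node (.leaf 1852) (.leaf 1771))) (.node (.node (.leaf 413) (.leaf 950)) (.node (.leaf 1446) (.leaf 323)))))))))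

def threeOrd2 : Janko.Tree (ℕ) :=
  (.node (.node (.node (.node (.node (.node (.node (.node (.node (.leaf 366) (.leaf 90)) (.leaf 168)) (.node (.leaf 494) (.leaf 843))) (.node (.node (.leaf 1480) (.leaf 502)) (.node (.leaf 1510) (.leaf 933)))) (.node (.node (.node (.node (.leaf 951) (.leaf 1935)) (.leaf 1173)) (.node (.leaf 1725) (.leaf 2020))) (.node (.node (.leaf 1022) (.leaf 1112)) (.node (.leaf 1781) (.leaf 1201))))) (.node (.node (.node (.node (.node (.leaf 969) (.leaf 995)) (.leaf 2166)) (.node (.leaf 44) (.leaf 1005))) (.node (.node (.leaf 1901) (.leaf 1460)) (.node (.leaf 1952) (.leaf 899)))) (.node (.node (.node (.leaf 676) (.leaf 1608)) (.node (.leaf 1869) (.leaf 682))) (.node (.node (.leaf 2169) (.leaf 1150)) (.node (.leaf 2061) (.leaf 419)))))) (.node (.node (.node (.node (.node (.node (.leaf 816) (.leaf 1509)) (.leaf 57)) (.node (.leaf 309) (.leaf 2153))) (.node (.node (.leaf 248) (.leaf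 1809)) (.node (.leaf 386) (.leaf 162)))) (.node (.node (.node (.leaf 1401) (.leaf 1785)) (.node (.leaf 1812) (.leaf 1870))) (.node (.node (.leaf 324) (.leaf 445)) (.node (.leaf 2113) (.leaf 1061))))) (.node (.node (.node (.node (.node (.leaf 252) (.leaf 1876)) (.leaf 1233)) (.node (.leaf 1303) (.leaf 85))) (.node (.node (.leaf 874) (.leaf 2179)) (.node (.leaf 1944) (.leaf 1049)))) (.node (.node (.node (.leaf 793) (.leaf 1304)) (.node (.leaf 236) (.leaf 635))) (.node (.node (.leaf 1285) (.leaf 374)) (.node (.leaf 1629) (.leaf 1271))))))) (.node (.node (.node (.node (.node (.node (.node (.leaf 1219) (.leaf 237)) (.leaf 981)) (.node (.leaf 1450) (.leaf 1665))) (.node (.node (.leaf 87) (.leaf 1856)) (.node (.leaf 403) (.leaf 22)))) (.node (.node (.node (.leaf 1585) (.leaf 583)) (.node (.leaf 1380) (.leaf 1183))) (.node (.node (.leaf 1188) (.leaf 894)) (.node (.leaf 944) (.leaf 1824))))) (.node (.node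 (.node (.node (.node (.leaf 344) (.leaf 327)) (.leaf 1969)) (.node (.leaf 922) (.leaf 1719))) (.node (.node (.leaf 2032) (.leaf 401)) (.node (.leaf 1147) (.leaf 130)))) (.node (.node (.node (.leaf 1647) (.leaf 1561)) (.node (.leaf 487) (.leaf 488))) (.node (.node (.leaf 1713) (.leaf 1958)) (.node (.leaf 469) (.leaf 574)))))) (.node (.node (.node (.node (.node (.node (.leaf 539) (.leaf 751)) (.leaf 1849)) (.node (.leaf 1278) (.leaf 1531))) (.node (.node (.leaf 1732) (.leaf 1369)) (.node (.leaf 999) (.leaf 611)))) (.node (.node (.node (.leaf 81) (.leaf 1137)) (.node (.leaf 998) (.leaf 1320))) (.node (.node (.leaf 785) (.leaf 312)) (.node (.leaf 1966) (.leaf 947))))) (.node (.node (.node (.node (.node (.leaf 1609) (.leaf 390)) (.leaf 1569)) (.node (.leaf 481) (.leaf 2148))) (.node (.node (.leaf 2029) (.leaf 1353)) (.node (.leaf 269) (.leaf 1622)))) (.node (.node (.node (.leaf 433) (.leaf 594)) (.node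 (.leaf 815) (.leaf 631))) (.node (.node (.leaf 841) (.leaf 1309)) (.node (.leaf 1340) (.leaf 774)))))))) (.node (.node (.node (.node (.node (.node (.node (.node (.leaf 399) (.leaf 607)) (.leaf 1576)) (.node (.leaf 771) (.leaf 673))) (.node (.node (.leaf 507) (.leaf 1921)) (.node (.leaf 669) (.leaf 1191)))) (.node (.node (.node (.node (.leaf 1736) (.leaf 681)) (.leaf 903)) (.node (.leaf 1831) (.leaf 586))) (.node (.node (.leaf 794) (.leaf 222)) (.node (.leaf 1462) (.leaf 730))))) (.node (.node (.node (.node (.node (.leaf 1277) (.leaf 1372)) (.leaf 581)) (.node (.leaf 118) (.leaf 293))) (.node (.node (.leaf 1202) (.leaf 849)) (.node (.leaf 596) (.leaf 519)))) (.node (.node (.node (.leaf 1439) (.leaf 186)) (.node (.leaf 2074) (.leaf 2024))) (.node (.node (.leaf 1572) (.leaf 2163)) (.node (.leaf 1768) (.leaf 1495)))))) (.node (.node (.node (.node (.node (.node (.leaf 100) (.leaf 47)) (.leaf 1961)) (.node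 (.leaf 2164) (.leaf 2047))) (.node (.node (.leaf 2104) (.leaf 1254)) (.node (.leaf 1172) (.leaf 1550)))) (.node (.node (.node (.leaf 188) (.leaf 1763)) (.node (.leaf 1008) (.leaf 1003))) (.node (.node (.leaf 1611) (.leaf 2060)) (.node (.leaf 2130) (.leaf 1193))))) (.node (.node (.node (.node (.node (.leaf 314) (.leaf 1708)) (.leaf 298)) (.node (.leaf 80) (.leaf 1591))) (.node (.node (.leaf 564) (.leaf 320)) (.node (.leaf 482) (.leaf 1)))) (.node (.node (.node (.leaf 1119) (.leaf 2027)) (.node (.leaf 2037) (.leaf 1794))) (.node (.node (.leaf 1324) (.leaf 1400)) (.node (.leaf 1350) (.leaf 2014))))))) (.node (.node (.node (.node (.node (.node (.node (.leaf 169) (.leaf 232)) (.leaf 1347)) (.node (.leaf 423) (.leaf 457))) (.node (.node (.leaf 1860) (.leaf 492)) (.node (.leaf 2044) (.leaf 1159)))) (.node (.node (.node (.leaf 973) (.leaf 957)) (.node (.leaf 2160) (.leaf 292))) (.node (.node (.leaf 1918)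 (.leaf 740)) (.node (.leaf 387) (.leaf 1596))))) (.node (.node (.node (.node (.node (.leaf 754) (.leaf 1336)) (.leaf 977)) (.node (.leaf 1413) (.leaf 762))) (.node (.node (.leaf 2015) (.leaf 16)) (.node (.leaf 1384) (.leaf 1007)))) (.node (.node (.node (.leaf 2143) (.leaf 832)) (.node (.leaf 1483) (.leaf 675))) (.node (.node (.leaf 979) (.leaf 306)) (.node (.leaf 1094) (.leaf 857)))))) (.node (.node (.node (.node (.node (.node (.leaf 1504) (.leaf 808)) (.leaf 438)) (.node (.leaf 1584) (.leaf 1707))) (.node (.node (.leaf 495) (.leaf 965)) (.node (.leaf 975) (.leaf 1554)))) (.node (.node (.node (.leaf 710) (.leaf 1530)) (.node (.leaf 1097) (.leaf 1262))) (.node (.node (.leaf 927) (.leaf 246)) (.node (.leaf 1689) (.leaf 946))))) (.node (.node (.node (.node (.node (.leaf 765) (.leaf 649)) (.leaf 1307)) (.node (.leaf 723) (.leaf 2137))) (.node (.node (.leaf 1662) (.leaf 591)) (.node (.leaf 603) (.leaf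 1092)))) (.node (.node (.node (.leaf 226) (.leaf 1024)) (.node (.leaf 1334) (.leaf 1215))) (.node (.node (.leaf 1284) (.leaf 543)) (.node (.leaf 696) (.leaf 134)))))))))

def threeOrd3 : Janko.Tree (ℕ) :=
  (.node (.node (.node (.node (.node (.node (.node (.node (.node (.leaf 1109) (.leaf 1759)) (.leaf 2088)) (.node (.leaf 1525) (.leaf 1501))) (.node (.node (.leaf 592) (.leaf 147)) (.node (.leaf 650) (.leaf 1840)))) (.node (.node (.node (.node (.leaf 94) (.leaf 158)) (.leaf 271)) (.node (.leaf 1281) (.leaf 133))) (.node (.node (.leaf 1244) (.leaf 1733)) (.node (.leaf 911) (.leaf 1632))))) (.node (.node (.node (.node (.node (.leaf 1800) (.leaf 424)) (.leaf 198)) (.node (.leaf 1402) (.leaf 1014))) (.node (.node (.leaf 35) (.leaf 2070)) (.node (.leaf 1153) (.leaf 1757)))) (.node (.node (.node (.leaf 1482) (.leaf 1430)) (.node (.leaf 1451) (.leaf 953))) (.node (.node (.leaf 1386) (.leaf 285)) (.node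 (.leaf 1521) (.leaf 1808)))))) (.node (.node (.node (.node (.node (.node (.leaf 1888) (.leaf 653)) (.leaf 936)) (.node (.leaf 1499) (.leaf 1604))) (.node (.node (.leaf 924) (.leaf 496)) (.node (.leaf 287) (.leaf 478)))) (.node (.node (.node (.leaf 91) (.leaf 303)) (.node (.leaf 2105) (.leaf 1162))) (.node (.node (.leaf 1692) (.leaf 1642)) (.node (.leaf 473) (.leaf 68))))) (.node (.node (.node (.node (.node (.leaf 1231) (.leaf 2126)) (.leaf 1817)) (.node (.leaf 2124) (.leaf 943))) (.node (.node (.leaf 925) (.leaf 1727)) (.node (.leaf 885) (.leaf 278)))) (.node (.node (.node (.leaf 2155) (.leaf 789)) (.node (.leaf 1181) (.leaf 1031))) (.node (.node (.leaf 1526) (.leaf 1515)) (.node (.leaf 305) (.leaf 798))))))) (.node (.node (.node (.node (.node (.node (.node (.leaf 1438) (.leaf 1142)) (.leaf 632)) (.node (.leaf 1541) (.leaf 2108))) (.node (.node (.leaf 1192) (.leaf 393)) (.node (.leaf 242) (.leaf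 1512)))) (.node (.node (.node (.leaf 1868) (.leaf 407)) (.node (.leaf 371) (.leaf 500))) (.node (.node (.leaf 95) (.leaf 699)) (.node (.leaf 1790) (.leaf 1432))))) (.node (.node (.node (.node (.node (.leaf 1414) (.leaf 523)) (.leaf 376)) (.node (.leaf 1477) (.leaf 8))) (.node (.node (.leaf 2173) (.leaf 2052)) (.node (.leaf 368) (.leaf 2019)))) (.node (.node (.node (.leaf 208) (.leaf 296)) (.node (.leaf 116) (.leaf 2180))) (.node (.node (.leaf 647) (.leaf 964)) (.node (.leaf 4) (.leaf 1778)))))) (.node (.node (.node (.node (.node (.node (.leaf 1020) (.leaf 616)) (.leaf 2135)) (.node (.leaf 1595) (.leaf 84))) (.node (.node (.leaf 383) (.leaf 493)) (.node (.leaf 1956) (.leaf 1099)))) (.node (.node (.node (.leaf 931) (.leaf 1582)) (.node (.leaf 615) (.leaf 330))) (.node (.node (.leaf 1676) (.leaf 1392)) (.node (.leaf 1074) (.leaf 656))))) (.node (.node (.node (.node (.node (.leaf 180) (.leaf 917)) (.leaf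 1982)) (.node (.leaf 2096) (.leaf 1522))) (.node (.node (.leaf 688) (.leaf 955)) (.node (.leaf 1478) (.leaf 204)))) (.node (.node (.node (.leaf 211) (.leaf 790)) (.node (.leaf 1641) (.leaf 756))) (.node (.node (.leaf 69) (.leaf 2)) (.node (.leaf 836) (.leaf 191)))))))) (.node (.node (.node (.node (.node (.node (.node (.node (.leaf 1798) (.leaf 120)) (.leaf 1806)) (.node (.leaf 6) (.leaf 1143))) (.node (.node (.leaf 940) (.leaf 1034)) (.node (.leaf 1315) (.leaf 1877)))) (.node (.node (.node (.leaf 218) (.leaf 1101)) (.node (.leaf 263) (.leaf 1764))) (.node (.node (.leaf 1844) (.leaf 1498)) (.node (.leaf 46) (.leaf 1630))))) (.node (.node (.node (.node (.node (.leaf 737) (.leaf 1983)) (.leaf 1093)) (.node (.leaf 672) (.leaf 1241))) (.node (.node (.leaf 128) (.leaf 840)) (.node (.leaf 92) (.leaf 1270)))) (.node (.node (.node (.leaf 170) (.leaf 2031)) (.node (.leaf 178) (.leaf 627))) (.node (.node (.leaf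 1064) (.leaf 270)) (.node (.leaf 1532) (.leaf 225)))))) (.node (.node (.node (.node (.node (.node (.leaf 349) (.leaf 253)) (.leaf 1587)) (.node (.leaf 1639) (.leaf 1516))) (.node (.node (.leaf 1925) (.leaf 1524)) (.node (.leaf 199) (.leaf 1023)))) (.node (.node (.node (.leaf 701) (.leaf 1298)) (.node (.leaf 11) (.leaf 512))) (.node (.node (.leaf 1986) (.leaf 233)) (.node (.leaf 796) (.leaf 185))))) (.node (.node (.node (.node (.node (.leaf 692) (.leaf 613)) (.leaf 1242)) (.node (.leaf 727) (.leaf 463))) (.node (.node (.leaf 667) (.leaf 1115)) (.node (.leaf 1833) (.leaf 1229)))) (.node (.node (.node (.leaf 1579) (.leaf 378)) (.node (.leaf 1623) (.leaf 1071))) (.node (.node (.leaf 1263) (.leaf 767)) (.node (.leaf 216) (.leaf 1741))))))) (.node (.node (.node (.node (.node (.node (.node (.leaf 1037) (.leaf 668)) (.leaf 20)) (.node (.leaf 1042) (.leaf 1893))) (.node (.node (.leaf 24) (.leaf 1021)) (.node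 (.leaf 1342) (.leaf 508)))) (.node (.node (.node (.leaf 1672) (.leaf 430)) (.node (.leaf 2091) (.leaf 1427))) (.node (.node (.leaf 37) (.leaf 1959)) (.node (.leaf 2026) (.leaf 1677))))) (.node (.node (.node (.node (.node (.leaf 52) (.leaf 99)) (.leaf 1206)) (.node (.leaf 1644) (.leaf 42))) (.node (.node (.leaf 809) (.leaf 1885)) (.node (.leaf 541) (.leaf 588)))) (.node (.node (.node (.leaf 1252) (.leaf 1830)) (.node (.leaf 310) (.leaf 2033))) (.node (.node (.leaf 341) (.leaf 1786)) (.node (.leaf 244) (.leaf 1931)))))) (.node (.node (.node (.node (.node (.node (.leaf 2041) (.leaf 1454)) (.leaf 1280)) (.node (.leaf 2089) (.leaf 820))) (.node (.node (.leaf 2162) (.leaf 1310)) (.node (.leaf 1802) (.leaf 2072)))) (.node (.node (.node (.leaf 1977) (.leaf 282)) (.node (.leaf 441) (.leaf 5))) (.node (.node (.leaf 1128) (.leaf 2150)) (.node (.leaf 2172) (.leaf 184))))) (.node (.node (.node (.node (.node (.leaf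 38) (.leaf 1671)) (.leaf 335)) (.node (.leaf 1163) (.leaf 548))) (.node (.node (.leaf 2043) (.leaf 1234)) (.node (.leaf 1467) (.leaf 905)))) (.node (.node (.node (.leaf 476) (.leaf 1463)) (.node (.leaf 40) (.leaf 880))) (.node (.node (.leaf 1796) (.leaf 74)) (.node (.leaf 1701) (.leaf 1599)))))))))

def threeOrd4 : Janko.Tree (ℕ) :=
  (.node (.node (.node (.node (.node (.node (.node (.node (.node (.leaf 1696) (.leaf 1758)) (.leaf 1437)) (.node (.leaf 1514) (.leaf 626))) (.node (.node (.leaf 685) (.leaf 210)) (.node (.leaf 2098) (.leaf 804)))) (.node (.node (.node (.node (.leaf 2062) (.leaf 1308)) (.leaf 1227)) (.node (.leaf 1580) (.leaf 1113))) (.node (.node (.leaf 618) (.leaf 480)) (.node (.leaf 2081) (.leaf 547))))) (.node (.node (.node (.node (.node (.leaf 633) (.leaf 690)) (.leaf 2122)) (.node (.leaf 1922) (.leaf 501))) (.node (.node (.leaf 1573) (.leaf 738)) (.node (.leaf 1734) (.leaf 1803))))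 (.node (.node (.node (.leaf 642) (.leaf 411)) (.node (.leaf 32) (.leaf 304))) (.node (.node (.leaf 1916) (.leaf 36)) (.node (.leaf 1225) (.leaf 1200)))))) (.node (.node (.node (.node (.node (.node (.leaf 1547) (.leaf 1211)) (.leaf 1406)) (.node (.leaf 328) (.leaf 71))) (.node (.node (.leaf 1352) (.leaf 1354)) (.node (.leaf 892) (.leaf 1151)))) (.node (.node (.node (.leaf 1903) (.leaf 2080)) (.node (.leaf 1668) (.leaf 2025))) (.node (.node (.leaf 1264) (.leaf 1490)) (.node (.leaf 1911) (.leaf 96))))) (.node (.node (.node (.node (.node (.leaf 1788) (.leaf 1908)) (.leaf 643)) (.node (.leaf 915) (.leaf 1972))) (.node (.node (.leaf 1479) (.leaf 617)) (.node (.leaf 1436) (.leaf 938)))) (.node (.node (.node (.leaf 565) (.leaf 553)) (.node (.leaf 717) (.leaf 1673))) (.node (.node (.leaf 1442) (.leaf 1382)) (.node (.leaf 1949) (.leaf 887))))))) (.node (.node (.node (.node (.node (.node (.node (.leaf 19) (.leaf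 114)) (.leaf 852)) (.node (.leaf 389) (.leaf 2159))) (.node (.node (.leaf 582) (.leaf 516)) (.node (.leaf 573) (.leaf 1937)))) (.node (.node (.node (.leaf 728) (.leaf 1784)) (.node (.leaf 1693) (.leaf 1259))) (.node (.node (.leaf 1667) (.leaf 1085)) (.node (.leaf 908) (.leaf 1974))))) (.node (.node (.node (.node (.node (.leaf 1141) (.leaf 308)) (.leaf 968)) (.node (.leaf 102) (.leaf 2021))) (.node (.node (.leaf 161) (.leaf 1374)) (.node (.leaf 2082) (.leaf 1962)))) (.node (.node (.node (.leaf 1957) (.leaf 622)) (.node (.leaf 165) (.leaf 640))) (.node (.node (.leaf 1497) (.leaf 732)) (.node (.leaf 847) (.leaf 2066)))))) (.node (.node (.node (.node (.node (.node (.leaf 160) (.leaf 1574)) (.leaf 1171)) (.node (.leaf 346) (.leaf 1319))) (.node (.node (.leaf 1329) (.leaf 353)) (.node (.leaf 1039) (.leaf 416)))) (.node (.node (.node (.leaf 1703) (.leaf 404)) (.node (.leaf 1826) (.leaf 1455))) (.node (.node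 (.leaf 301) (.leaf 75)) (.node (.leaf 1600) (.leaf 1409))))) (.node (.node (.node (.node (.node (.leaf 1984) (.leaf 1368)) (.leaf 1314)) (.node (.leaf 1088) (.leaf 1157))) (.node (.node (.leaf 1927) (.leaf 364)) (.node (.leaf 2011) (.leaf 61)))) (.node (.node (.node (.leaf 148) (.leaf 1792)) (.node (.leaf 1210) (.leaf 342))) (.node (.node (.leaf 658) (.leaf 2186)) (.node (.leaf 2125) (.leaf 562)))))))) (.node (.node (.node (.node (.node (.node (.node (.node (.leaf 415) (.leaf 196)) (.leaf 343)) (.node (.leaf 749) (.leaf 1294))) (.node (.node (.leaf 136) (.leaf 1566)) (.node (.leaf 725) (.leaf 714)))) (.node (.node (.node (.leaf 865) (.leaf 1750)) (.node (.leaf 1292) (.leaf 1748))) (.node (.node (.leaf 2184) (.leaf 664)) (.node (.leaf 1863) (.leaf 1769))))) (.node (.node (.node (.node (.node (.leaf 788) (.leaf 238)) (.leaf 62)) (.node (.leaf 1169) (.leaf 510))) (.node (.node (.leaf 636) (.leaf 1887))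 (.node (.leaf 1838) (.leaf 1069)))) (.node (.node (.node (.leaf 422) (.leaf 948)) (.node (.leaf 739) (.leaf 1493))) (.node (.node (.leaf 800) (.leaf 338)) (.node (.leaf 781) (.leaf 784)))))) (.node (.node (.node (.node (.node (.node (.leaf 1029) (.leaf 971)) (.leaf 2065)) (.node (.leaf 124) (.leaf 381))) (.node (.node (.leaf 1774) (.leaf 1980)) (.node (.leaf 1397) (.leaf 1898)))) (.node (.node (.node (.leaf 49) (.leaf 1322)) (.node (.leaf 331) (.leaf 1664))) (.node (.node (.leaf 486) (.leaf 1300)) (.node (.leaf 2110) (.leaf 845))))) (.node (.node (.node (.node (.node (.leaf 637) (.leaf 2084)) (.leaf 466)) (.node (.leaf 506) (.leaf 542))) (.node (.node (.leaf 1041) (.leaf 1168)) (.node (.leaf 1735) (.leaf 489)))) (.node (.node (.node (.leaf 1867) (.leaf 78)) (.node (.leaf 1489) (.leaf 1121))) (.node (.node (.leaf 909) (.leaf 1635)) (.node (.leaf 638) (.leaf 1814))))))) (.node (.node (.node (.node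 (.node (.node (.node (.leaf 1973) (.leaf 1476)) (.leaf 1220)) (.node (.leaf 1988) (.leaf 447))) (.node (.node (.leaf 2048) (.leaf 1615)) (.node (.leaf 1832) (.leaf 1104)))) (.node (.node (.node (.leaf 2146) (.leaf 421)) (.node (.leaf 1906) (.leaf 1909))) (.node (.node (.leaf 713) (.leaf 1403)) (.node (.leaf 360) (.leaf 546))))) (.node (.node (.node (.node (.node (.leaf 336) (.leaf 14)) (.leaf 425)) (.node (.leaf 163) (.leaf 1620))) (.node (.node (.leaf 963) (.leaf 1605)) (.node (.leaf 267) (.leaf 10)))) (.node (.node (.node (.leaf 173) (.leaf 842)) (.node (.leaf 239) (.leaf 1081))) (.node (.node (.leaf 630) (.leaf 1261)) (.node (.leaf 1663) (.leaf 787)))))) (.node (.node (.node (.node (.node (.node (.leaf 1650) (.leaf 736)) (.leaf 1387)) (.node (.leaf 45) (.leaf 1247))) (.node (.node (.leaf 2045) (.leaf 1679)) (.node (.leaf 166) (.leaf 1366)))) (.node (.node (.node (.leaf 1272) (.leaf 17)) (.node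 (.leaf 435) (.leaf 770))) (.node (.node (.leaf 251) (.leaf 1027)) (.node (.leaf 1002) (.leaf 1892))))) (.node (.node (.node (.node (.node (.leaf 1752) (.leaf 1801)) (.leaf 1854)) (.node (.leaf 171) (.leaf 1218))) (.node (.node (.leaf 1473) (.leaf 1978)) (.node (.leaf 1032) (.leaf 1890)))) (.node (.node (.node (.leaf 453) (.leaf 1537)) (.node (.leaf 1540) (.leaf 106))) (.node (.node (.leaf 1896) (.leaf 142)) (.node (.leaf 708) (.leaf 529)))))))))

def threeOrd5 : Janko.Tree (ℕ) :=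
  (.node (.node (.node (.node (.node (.node (.node (.node (.node (.leaf 264) (.leaf 896)) (.leaf 855)) (.node (.leaf 1955) (.leaf 884))) (.node (.node (.leaf 1997) (.leaf 1339)) (.node (.leaf 838) (.leaf 109)))) (.node (.node (.node (.node (.leaf 598) (.leaf 1513)) (.leaf 97)) (.node (.leaf 745) (.leaf 709))) (.node (.node (.leaf 472) (.leaf 680)) (.node (.leaf 1535) (.leaf 1179))))) (.node (.node (.node (.node (.node (.leaf 1080) (.leaf 1511)) (.leaf 898)) (.node (.leaf 105) (.leaf 1655))) (.node (.node (.leaf 1107) (.leaf 514)) (.node (.leaf 30) (.leaf 716)))) (.node (.node (.node (.leaf 490) (.leaf 822)) (.node (.leaf 318) (.leaf 1216))) (.node (.node (.leaf 558) (.leaf 1836)) (.node (.leaf 537) (.leaf 1060)))))) (.node (.node (.node (.node (.node (.node (.leaf 1114) (.leaf 2090)) (.leaf 2121)) (.node (.leaf 2018) (.leaf 1313))) (.node (.node (.leaf 873) (.leaf 734)) (.node (.leaf 1028) (.leaf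 1705)))) (.node (.node (.node (.leaf 595) (.leaf 1505)) (.node (.leaf 575) (.leaf 144))) (.node (.node (.leaf 373) (.leaf 851)) (.node (.leaf 712) (.leaf 1594))))) (.node (.node (.node (.node (.node (.leaf 570) (.leaf 1348)) (.leaf 1378)) (.node (.leaf 1919) (.leaf 1239))) (.node (.node (.leaf 522) (.leaf 1706)) (.node (.leaf 878) (.leaf 1361)))) (.node (.node (.node (.leaf 1175) (.leaf 1484)) (.node (.leaf 1971) (.leaf 409))) (.node (.node (.leaf 138) (.leaf 2076)) (.node (.leaf 468) (.leaf 2000))))))) (.node (.node (.node (.node (.node (.node (.node (.leaf 2106) (.leaf 777)) (.leaf 1680)) (.node (.leaf 801) (.leaf 1718))) (.node (.node (.leaf 1947) (.leaf 533)) (.node (.leaf 297) (.leaf 2116)))) (.node (.node (.node (.leaf 1217) (.leaf 1196)) (.node (.leaf 988) (.leaf 1815))) (.node (.node (.leaf 2132) (.leaf 388)) (.node (.leaf 864) (.leaf 554))))) (.node (.node (.node (.node (.node (.leaf 1089)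 (.leaf 568)) (.leaf 2102)) (.node (.leaf 871) (.leaf 1853))) (.node (.node (.leaf 350) (.leaf 1818)) (.node (.leaf 1053) (.leaf 1904)))) (.node (.node (.node (.leaf 532) (.leaf 299)) (.node (.leaf 639) (.leaf 156))) (.node (.node (.leaf 1077) (.leaf 1895)) (.node (.leaf 1884) (.leaf 77)))))) (.node (.node (.node (.node (.node (.node (.leaf 1356) (.leaf 1033)) (.leaf 1164)) (.node (.leaf 1240) (.leaf 202))) (.node (.node (.leaf 1255) (.leaf 431)) (.node (.leaf 2101) (.leaf 1975)))) (.node (.node (.node (.leaf 698) (.leaf 1416)) (.node (.leaf 1929) (.leaf 563))) (.node (.node (.leaf 384) (.leaf 1626)) (.node (.leaf 408) (.leaf 844))))) (.node (.node (.node (.node (.node (.leaf 340) (.leaf 1016)) (.leaf 2171)) (.node (.leaf 959) (.leaf 1960))) (.node (.node (.leaf 1207) (.leaf 897)) (.node (.leaf 872) (.leaf 1533)))) (.node (.node (.node (.leaf 2115) (.leaf 348)) (.node (.leaf 157) (.leaf 1078))) (.node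 (.node (.leaf 1782) (.leaf 1544)) (.node (.leaf 149) (.leaf 1126)))))))) (.node (.node (.node (.node (.node (.node (.node (.node (.leaf 131) (.leaf 970)) (.leaf 1726)) (.node (.leaf 1756) (.leaf 1864))) (.node (.node (.leaf 1054) (.leaf 1398)) (.node (.leaf 1421) (.leaf 53)))) (.node (.node (.node (.leaf 18) (.leaf 1295)) (.node (.leaf 1552) (.leaf 452))) (.node (.node (.leaf 176) (.leaf 229)) (.node (.leaf 181) (.leaf 258))))) (.node (.node (.node (.node (.node (.leaf 1617) (.leaf 1305)) (.leaf 906)) (.node (.leaf 879) (.leaf 429))) (.node (.node (.leaf 670) (.leaf 783)) (.node (.leaf 932) (.leaf 1661)))) (.node (.node (.node (.leaf 700) (.leaf 1660)) (.node (.leaf 914) (.leaf 223))) (.node (.node (.leaf 365) (.leaf 1418)) (.node (.leaf 1051) (.leaf 444)))))) (.node (.node (.node (.node (.node (.node (.leaf 412) (.leaf 764)) (.leaf 724)) (.node (.leaf 369) (.leaf 266))) (.node (.node (.leaf 1789)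 (.leaf 1405)) (.node (.leaf 1772) (.leaf 1627)))) (.node (.node (.node (.leaf 25) (.leaf 458)) (.node (.leaf 1330) (.leaf 179))) (.node (.node (.leaf 426) (.leaf 741)) (.node (.leaf 150) (.leaf 88))))) (.node (.node (.node (.node (.node (.leaf 119) (.leaf 1273)) (.leaf 1712)) (.node (.leaf 679) (.leaf 918))) (.node (.node (.leaf 776) (.leaf 1507)) (.node (.leaf 465) (.leaf 538)))) (.node (.node (.node (.leaf 406) (.leaf 1729)) (.node (.leaf 557) (.leaf 1575))) (.node (.node (.leaf 1688) (.leaf 272)) (.node (.leaf 1527) (.leaf 2059))))))) (.node (.node (.node (.node (.node (.node (.node (.leaf 1996) (.leaf 82)) (.leaf 1878)) (.node (.leaf 231) (.leaf 527))) (.node (.node (.leaf 1103) (.leaf 644)) (.node (.leaf 1564) (.leaf 209)))) (.node (.node (.node (.leaf 1557) (.leaf 821)) (.node (.leaf 1086) (.leaf 521))) (.node (.node (.leaf 1190) (.leaf 990)) (.node (.leaf 867) (.leaf 1098))))) (.node (.node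 (.node (.node (.node (.leaf 1924) (.leaf 1226)) (.leaf 126)) (.node (.leaf 1161) (.leaf 1149))) (.node (.node (.leaf 1417) (.leaf 70)) (.node (.leaf 1195) (.leaf 2185)))) (.node (.node (.node (.leaf 2117) (.leaf 262)) (.node (.leaf 329) (.leaf 1634))) (.node (.node (.leaf 1197) (.leaf 440)) (.node (.leaf 1970) (.leaf 315)))))) (.node (.node (.node (.node (.node (.node (.leaf 1565) (.leaf 2042)) (.leaf 549)) (.node (.leaf 1822) (.leaf 1938))) (.node (.node (.leaf 530) (.leaf 28)) (.node (.leaf 1045) (.leaf 1690)))) (.node (.node (.node (.leaf 862) (.leaf 517)) (.node (.leaf 1144) (.leaf 1749))) (.node (.node (.leaf 1481) (.leaf 1549)) (.node (.leaf 361) (.leaf 174))))) (.node (.node (.node (.node (.node (.leaf 254) (.leaf 1715)) (.leaf 1652)) (.node (.leaf 2129) (.leaf 1598))) (.node (.node (.leaf 1992) (.leaf 1464)) (.node (.leaf 2147) (.leaf 2056)))) (.node (.node (.node (.leaf 250) (.leaf 479))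 (.node (.leaf 1212) (.leaf 720))) (.node (.node (.leaf 1721) (.leaf 183)) (.node (.leaf 1393) (.leaf 693)))))))))

def threeOrd6 : Janko.Tree (ℕ) :=
  (.node (.node (.node (.node (.node (.node (.node (.node (.node (.leaf 1698) (.leaf 410)) (.leaf 826)) (.node (.leaf 1899) (.leaf 1174))) (.node (.node (.leaf 1394) (.leaf 1105)) (.node (.leaf 1821) (.leaf 2058)))) (.node (.node (.node (.node (.leaf 937) (.leaf 1385)) (.leaf 2008)) (.node (.leaf 439) (.leaf 1160))) (.node (.node (.leaf 1871) (.leaf 1293)) (.node (.leaf 1075) (.leaf 1349))))) (.node (.node (.node (.node (.node (.leaf 1954) (.leaf 1043)) (.leaf 122)) (.node (.leaf 471) (.leaf 515))) (.node (.node (.leaf 1038) (.leaf 1494)) (.node (.leaf 1323) (.leaf 2157)))) (.node (.node (.node (.leaf 921) (.leaf 1019)) (.node (.leaf 56) (.leaf 192))) (.node (.node (.leaf 1841) (.leaf 715)) (.node (.leaf 772) (.leaf 1787)))))) (.node (.node (.node (.node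 (.node (.node (.leaf 273) (.leaf 2040)) (.leaf 1444)) (.node (.leaf 127) (.leaf 659))) (.node (.node (.leaf 319) (.leaf 2151)) (.node (.leaf 1625) (.leaf 2086)))) (.node (.node (.node (.leaf 1395) (.leaf 29)) (.node (.leaf 1189) (.leaf 288))) (.node (.node (.leaf 1770) (.leaf 1306)) (.node (.leaf 883) (.leaf 545))))) (.node (.node (.node (.node (.node (.leaf 805) (.leaf 1117)) (.leaf 1933)) (.node (.leaf 577) (.leaf 1472))) (.node (.node (.leaf 2118) (.leaf 2087)) (.node (.leaf 235) (.leaf 599)))) (.node (.node (.node (.leaf 1491) (.leaf 929)) (.node (.leaf 1502) (.leaf 1589))) (.node (.node (.leaf 275) (.leaf 1057)) (.node (.leaf 1331) (.leaf 475))))))) (.node (.node (.node (.node (.node (.node (.node (.leaf 1637) (.leaf 869)) (.leaf 1638)) (.node (.leaf 1714) (.leaf 1266))) (.node (.node (.leaf 814) (.leaf 786)) (.node (.leaf 60) (.leaf 1452)))) (.node (.node (.node (.leaf 520) (.leaf 1441)) (.node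 (.leaf 1223) (.leaf 1399))) (.node (.node (.leaf 182) (.leaf 1823)) (.node (.leaf 893) (.leaf 1035))))) (.node (.node (.node (.node (.node (.leaf 1755) (.leaf 768)) (.leaf 125)) (.node (.leaf 417) (.leaf 2069))) (.node (.node (.leaf 702) (.leaf 1797)) (.node (.leaf 427) (.leaf 1100)))) (.node (.node (.node (.leaf 76) (.leaf 802)) (.node (.leaf 1716) (.leaf 945))) (.node (.node (.leaf 755) (.leaf 707)) (.node (.leaf 742) (.leaf 1648)))))) (.node (.node (.node (.node (.node (.node (.leaf 2099) (.leaf 2174)) (.leaf 1861)) (.node (.leaf 1675) (.leaf 2003))) (.node (.node (.leaf 1981) (.leaf 1539)) (.node (.leaf 1203) (.leaf 362)))) (.node (.node (.node (.leaf 2181) (.leaf 1228)) (.node (.leaf 1618) (.leaf 1253))) (.node (.node (.leaf 64) (.leaf 544)) (.node (.leaf 605) (.leaf 1659))))) (.node (.node (.node (.node (.node (.leaf 1874) (.leaf 1805)) (.leaf 2023)) (.node (.leaf 1440) (.leaf 1912))) (.node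 (.node (.leaf 255) (.leaf 121)) (.node (.leaf 552) (.leaf 146)))) (.node (.node (.node (.leaf 806) (.leaf 1882)) (.node (.leaf 357) (.leaf 2013))) (.node (.node (.leaf 436) (.leaf 190)) (.node (.leaf 695) (.leaf 2077)))))))) (.node (.node (.node (.node (.node (.node (.node (.node (.leaf 1017) (.leaf 1536)) (.leaf 1079)) (.node (.leaf 55) (.leaf 863))) (.node (.node (.leaf 189) (.leaf 1469)) (.node (.leaf 1389) (.leaf 758)))) (.node (.node (.node (.leaf 759) (.leaf 744)) (.node (.leaf 289) (.leaf 1325))) (.node (.node (.leaf 279) (.leaf 2092)) (.node (.leaf 154) (.leaf 580))))) (.node (.node (.node (.node (.node (.leaf 1857) (.leaf 27)) (.leaf 1631)) (.node (.leaf 1684) (.leaf 773))) (.node (.node (.leaf 1640) (.leaf 224)) (.node (.leaf 810) (.leaf 172)))) (.node (.node (.node (.leaf 602) (.leaf 662)) (.node (.leaf 1458) (.leaf 1059))) (.node (.node (.leaf 462) (.leaf 1819)) (.node (.leaf 1967) (.leaf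 1379)))))) (.node (.node (.node (.node (.node (.node (.leaf 609) (.leaf 295)) (.leaf 1198)) (.node (.leaf 1009) (.leaf 334))) (.node (.node (.leaf 1006) (.leaf 1930)) (.node (.leaf 1542) (.leaf 1603)))) (.node (.node (.node (.leaf 1761) (.leaf 962)) (.node (.leaf 39) (.leaf 1730))) (.node (.node (.leaf 1820) (.leaf 1381)) (.node (.leaf 1205) (.leaf 1410))))) (.node (.node (.node (.node (.node (.leaf 895) (.leaf 1842)) (.leaf 1312)) (.node (.leaf 214) (.leaf 1328))) (.node (.node (.leaf 139) (.leaf 268)) (.node (.leaf 1047) (.leaf 641)))) (.node (.node (.node (.leaf 1979) (.leaf 454)) (.node (.leaf 584) (.leaf 1578))) (.node (.node (.leaf 590) (.leaf 2009)) (.node (.leaf 824) (.leaf 110))))))) (.node (.node (.node (.node (.node (.node (.node (.leaf 1187) (.leaf 916)) (.leaf 2112)) (.node (.leaf 72) (.leaf 1063))) (.node (.node (.leaf 1457) (.leaf 1804)) (.node (.leaf 302) (.leaf 137)))) (.node (.node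 (.node (.leaf 1279) (.leaf 1256)) (.node (.leaf 856) (.leaf 661))) (.node (.node (.leaf 2144) (.leaf 1156)) (.node (.leaf 1084) (.leaf 1291))))) (.node (.node (.node (.node (.node (.leaf 860) (.leaf 524)) (.leaf 1614)) (.node (.leaf 882) (.leaf 1999))) (.node (.node (.leaf 115) (.leaf 1423)) (.node (.leaf 1204) (.leaf 1152)))) (.node (.node (.node (.leaf 1968) (.leaf 260)) (.node (.leaf 928) (.leaf 351))) (.node (.node (.leaf 593) (.leaf 1738)) (.node (.leaf 752) (.leaf 1682)))))) (.node (.node (.node (.node (.node (.node (.leaf 972) (.leaf 0)) (.leaf 1783)) (.node (.leaf 1199) (.leaf 1426))) (.node (.node (.leaf 1154) (.leaf 1297)) (.node (.leaf 117) (.leaf 854)))) (.node (.node (.node (.leaf 1613) (.leaf 1067)) (.node (.leaf 339) (.leaf 1344))) (.node (.node (.leaf 1711) (.leaf 1886)) (.node (.leaf 1000) (.leaf 1177))))) (.node (.node (.node (.node (.node (.leaf 1050) (.leaf 1209)) (.leaf 51))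 (.node (.leaf 829) (.leaf 1408))) (.node (.node (.leaf 919) (.leaf 1044)) (.node (.leaf 446) (.leaf 1597)))) (.node (.node (.node (.leaf 830) (.leaf 834)) (.node (.leaf 1503) (.leaf 1940))) (.node (.node (.leaf 984) (.leaf 1592)) (.node (.leaf 1316) (.leaf 1358)))))))))

def threeOrd7 : Janko.Tree (ℕ) :=
  (.node (.node (.node (.node (.node (.node (.node (.node (.node (.leaf 694) (.leaf 954)) (.leaf 460)) (.node (.leaf 2152) (.leaf 234))) (.node (.node (.leaf 578) (.leaf 1994)) (.node (.leaf 967) (.leaf 569)))) (.node (.node (.node (.node (.leaf 2049) (.leaf 358)) (.leaf 567)) (.node (.leaf 550) (.leaf 1702))) (.node (.node (.leaf 290) (.leaf 2053)) (.node (.leaf 624) (.leaf 470))))) (.node (.node (.node (.node (.node (.leaf 1695) (.leaf 1691)) (.leaf 1133)) (.node (.leaf 1343) (.leaf 1779))) (.node (.node (.leaf 456) (.leaf 291)) (.node (.leaf 2168) (.leaf 2051)))) (.node (.node (.node (.leaf 870)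 (.leaf 1058)) (.node (.leaf 79) (.leaf 1590))) (.node (.node (.leaf 1138) (.leaf 1508)) (.node (.leaf 1363) (.leaf 1951)))))) (.node (.node (.node (.node (.node (.node (.leaf 391) (.leaf 1586)) (.leaf 140)) (.node (.leaf 976) (.leaf 2183))) (.node (.node (.leaf 1709) (.leaf 760)) (.node (.leaf 677) (.leaf 1646)))) (.node (.node (.node (.leaf 949) (.leaf 612)) (.node (.leaf 1186) (.leaf 1052))) (.node (.node (.leaf 825) (.leaf 674)) (.node (.leaf 1846) (.leaf 89))))) (.node (.node (.node (.node (.node (.leaf 1697) (.leaf 1666)) (.leaf 791)) (.node (.leaf 152) (.leaf 256))) (.node (.node (.leaf 249) (.leaf 996)) (.node (.leaf 2039) (.leaf 1543)))) (.node (.node (.node (.leaf 113) (.leaf 877)) (.node (.leaf 245) (.leaf 606))) (.node (.node (.leaf 499) (.leaf 1428)) (.node (.leaf 1610) (.leaf 571))))))) (.node (.node (.node (.node (.node (.node (.node (.leaf 827) (.leaf 601)) (.leaf 354)) (.node (.leaf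 531) (.leaf 1607))) (.node (.node (.leaf 746) (.leaf 65)) (.node (.leaf 41) (.leaf 1976)))) (.node (.node (.node (.leaf 1123) (.leaf 93)) (.node (.leaf 2158) (.leaf 620))) (.node (.node (.leaf 155) (.leaf 706)) (.node (.leaf 1496) (.leaf 151))))) (.node (.node (.node (.node (.node (.leaf 509) (.leaf 1722)) (.leaf 2017)) (.node (.leaf 1282) (.leaf 1883))) (.node (.node (.leaf 2100) (.leaf 414)) (.node (.leaf 665) (.leaf 645)))) (.node (.node (.node (.leaf 1548) (.leaf 1065)) (.node (.leaf 1068) (.leaf 1116))) (.node (.node (.leaf 1905) (.leaf 1317)) (.node (.leaf 2133) (.leaf 1658)))))) (.node (.node (.node (.node (.node (.node (.leaf 2128) (.leaf 1928)) (.leaf 2119)) (.node (.leaf 1434) (.leaf 1224))) (.node (.node (.leaf 1517) (.leaf 748)) (.node (.leaf 1848) (.leaf 1571)))) (.node (.node (.node (.leaf 792) (.leaf 1636)) (.node (.leaf 1865) (.leaf 498))) (.node (.node (.leaf 1276) (.leaf 733)) (.node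 (.leaf 1095) (.leaf 900))))) (.node (.node (.node (.node (.node (.leaf 525) (.leaf 206)) (.leaf 43)) (.node (.leaf 1811) (.leaf 991))) (.node (.node (.leaf 1301) (.leaf 1791)) (.node (.leaf 923) (.leaf 420)))) (.node (.node (.node (.leaf 572) (.leaf 625)) (.node (.leaf 2167) (.leaf 1520))) (.node (.node (.leaf 831) (.leaf 2005)) (.node (.leaf 1987) (.leaf 952)))))))) (.node (.node (.node (.node (.node (.node (.node (.node (.leaf 2178) (.leaf 317)) (.leaf 757)) (.node (.leaf 560) (.leaf 1096))) (.node (.node (.leaf 1488) (.leaf 2156)) (.node (.leaf 1720) (.leaf 2154)))) (.node (.node (.node (.leaf 1083) (.leaf 283)) (.node (.leaf 15) (.leaf 910))) (.node (.node (.leaf 503) (.leaf 868)) (.node (.leaf 2165) (.leaf 817))))) (.node (.node (.node (.node (.node (.leaf 1891) (.leaf 778)) (.leaf 1946)) (.node (.leaf 1214) (.leaf 1238))) (.node (.node (.leaf 797) (.leaf 961)) (.node (.leaf 1829) (.leaf 1651))))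 (.node (.node (.node (.leaf 992) (.leaf 1170)) (.node (.leaf 1326) (.leaf 848))) (.node (.node (.leaf 111) (.leaf 2063)) (.node (.leaf 579) (.leaf 993)))))) (.node (.node (.node (.node (.node (.node (.leaf 1654) (.leaf 1751)) (.leaf 2111)) (.node (.leaf 686) (.leaf 753))) (.node (.node (.leaf 1404) (.leaf 2057)) (.node (.leaf 367) (.leaf 1127)))) (.node (.node (.node (.leaf 194) (.leaf 375)) (.node (.leaf 1932) (.leaf 21))) (.node (.node (.leaf 1208) (.leaf 1995)) (.node (.leaf 1135) (.leaf 576))))) (.node (.node (.node (.node (.node (.leaf 942) (.leaf 818)) (.leaf 1914)) (.node (.leaf 1046) (.leaf 108))) (.node (.node (.leaf 326) (.leaf 402)) (.node (.leaf 215) (.leaf 1338)))) (.node (.node (.node (.leaf 1122) (.leaf 1649)) (.node (.leaf 1950) (.leaf 1816))) (.node (.node (.leaf 1422) (.leaf 98)) (.node (.leaf 485) (.leaf 2022))))))) (.node (.node (.node (.node (.node (.node (.node (.leaf 2073)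 (.leaf 1167)) (.leaf 1847)) (.node (.leaf 1656) (.leaf 448))) (.node (.node (.leaf 1296) (.leaf 1131)) (.node (.leaf 1184) (.leaf 459)))) (.node (.node (.node (.leaf 491) (.leaf 1633)) (.node (.leaf 1577) (.leaf 1124))) (.node (.node (.leaf 775) (.leaf 219)) (.node (.leaf 104) (.leaf 1132))))) (.node (.node (.node (.node (.node (.leaf 300) (.leaf 1528)) (.leaf 2103)) (.node (.leaf 1913) (.leaf 1963))) (.node (.node (.leaf 2055) (.leaf 397)) (.node (.leaf 1834) (.leaf 1551)))) (.node (.node (.node (.leaf 1602) (.leaf 731)) (.node (.leaf 1243) (.leaf 220))) (.node (.node (.leaf 432) (.leaf 2064)) (.node (.leaf 257) (.leaf 2035)))))) (.node (.node (.node (.node (.node (.node (.leaf 691) (.leaf 1453)) (.leaf 1858)) (.node (.leaf 1942) (.leaf 1251))) (.node (.node (.leaf 1269) (.leaf 1321)) (.node (.leaf 646) (.leaf 1568)))) (.node (.node (.node (.leaf 1762) (.leaf 483)) (.node (.leaf 1990) (.leaf 559)))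 (.node (.node (.leaf 311) (.leaf 477)) (.node (.leaf 743) (.leaf 1964))))) (.node (.node (.node (.node (.node (.leaf 3) (.leaf 1066)) (.leaf 2145)) (.node (.leaf 1102) (.leaf 1731))) (.node (.node (.leaf 464) (.leaf 213)) (.node (.leaf 1669) (.leaf 1724)))) (.node (.node (.node (.leaf 1456) (.leaf 1435)) (.node (.leaf 1237) (.leaf 474))) (.node (.node (.leaf 2139) (.leaf 1943)) (.node (.leaf 1391) (.leaf 1185)))))))))

def threeOrd : Janko.Tree (ℕ) := (.node (.node (.node threeOrd0 threeOrd4) (.node threeOrd2 threeOrd6)) (.node (.node threeOrd1 threeOrd5) (.node threeOrd3 threeOrd7)))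

def threeRels : List (List ℕ) := [[0, 0, 0],
  [1, 1, 1],
  [2, 2, 2],
  [3, 3, 3],
  [0, 1, 0, 1, 0, 1],
  [0, 2, 0, 2, 0, 2],
  [0, 0, 1, 0, 0, 1, 0, 0, 1],
  [0, 0, 1, 0, 2, 1, 1, 2, 2],
  [0, 0, 1, 1, 0, 2, 1, 2, 2],
  [0, 0, 1, 2, 1, 2, 2, 0, 1],
  [0, 0, 1, 3, 0, 3, 3, 1, 1],
  [0, 0, 2, 0, 2, 3, 2, 3, 3],
  [0, 0, 2, 1, 2, 2, 1, 0, 1],
  [0, 0, 3, 1, 0, 3, 1, 3, 1],
  [0, 0, 3, 2, 2, 3, 3, 0, 2],
  [0, 0, 3, 2, 3, 3, 0, 2, 2],
  [0, 0, 3, 3, 1, 1, 0, 1, 3],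
  [0, 1, 0, 1, 1, 3, 0, 3, 3],
  [0, 1, 1, 0, 1, 1, 0, 1, 1],
  [0, 1, 1, 0, 3, 0, 3, 3, 1],
  [0, 1, 2, 0, 1, 2, 0, 1, 2],
  [0, 2, 0, 2, 1, 0, 2, 1, 1],
  [0, 2, 0, 2, 1, 1, 0, 2, 1],
  [0, 2, 3, 0, 3, 0, 2, 3, 2],
  [0, 2, 3, 0, 3, 2, 2, 0, 3],
  [1, 1, 3, 1, 1, 3, 1, 1, 3],
  [1, 1, 3, 2, 3, 1, 3, 2, 2],
  [1, 2, 1, 3, 1, 3, 2, 3, 2],
  [1, 2, 1, 3, 3, 2, 2, 1, 3],
  [1, 3, 3, 1, 3, 3, 1, 3, 3],
  [0, 0, 1, 0, 0, 1, 2, 0, 2, 0, 2, 1],
  [0, 0, 1, 0, 0, 1, 2, 0, 2, 1, 0, 2],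
  [0, 0, 1, 0, 0, 1, 2, 1, 0, 2, 0, 2],
  [0, 0, 1, 0, 0, 3, 0, 1, 0, 3, 1, 3],
  [0, 0, 1, 0, 0, 3, 0, 3, 3, 0, 1, 1],
  [0, 0, 1, 0, 0, 3, 1, 0, 3, 0, 1, 3],
  [0, 0, 1, 0, 1, 1, 2, 1, 1, 2, 2, 1],
  [0, 0, 1, 0, 1, 2, 3, 1, 3, 2, 3, 2],
  [0, 0, 1, 0, 1, 2, 3, 3, 2, 2, 1, 3],
  [0, 0, 1, 0, 1, 3, 2, 1, 3, 2, 2, 3],
  [0, 0, 1, 0, 1, 3, 3, 1, 2, 2, 3, 2],
  [0, 0, 1, 0, 2, 0, 1, 0, 0, 2, 1, 2],
  [0, 0, 1, 0, 2, 1, 3, 2, 3, 1, 3, 2],
  [0, 0, 1, 0, 2, 2, 1, 3, 1, 3, 2, 3],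
  [0, 0, 1, 0, 2, 3, 1, 2, 1, 3, 3, 2],
  [0, 0, 1, 0, 3, 0, 1, 3, 1, 0, 0, 3],
  [0, 0, 1, 0, 3, 1, 1, 2, 2, 3, 2, 3],
  [0, 0, 1, 0, 3, 1, 1, 3, 2, 2, 3, 2],
  [0, 0, 1, 0, 3, 1, 3, 0, 1, 0, 0, 3],
  [0, 0, 1, 0, 3, 2, 1, 3, 2, 2, 3, 1],
  [0, 0, 1, 0, 3, 2, 3, 1, 2, 2, 1, 3],
  [0, 0, 1, 0, 3, 3, 1, 2, 2, 3, 2, 1],
  [0, 0, 1, 0, 3, 3, 2, 1, 2, 3, 1, 2],
  [0, 0, 1, 1, 0, 1, 2, 1, 2, 2, 1, 1],
  [0, 0, 1, 1, 0, 3, 2, 2, 3, 1, 2, 3],
  [0, 0, 1, 1, 2, 0, 0, 2, 1, 0, 0, 2],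
  [0, 0, 1, 1, 2, 0, 1, 0, 2, 0, 0, 2],
  [0, 0, 1, 1, 2, 0, 1, 3, 2, 3, 3, 2],
  [0, 0, 1, 1, 2, 0, 2, 2, 3, 1, 3, 3],
  [0, 0, 1, 1, 2, 0, 2, 3, 3, 1, 2, 3]]

/-- the generators, their inverses and their factorisations along the chain -/
def threeGens : List Elem := [(0xb1b856c97b4048ec26cb21e08986be55e6a181bdc6da513e1887b48ba81e4a5e1509ee435919727e8599d5a065ea3e20a92098558cd8735d0295441e53675889e9de8c63ad9d6ce26bf5ea9260a2de8551c831d2a47106cc0d20982014515c039aa252ea992e243426a106234b0d8af20e074a0537332d0a2a3b9fc210a1f000b4037012d668d4b35842bb78b753e781e99120fb7d034be596a2816a7c04bf1d0ec518cca4075d424b8df434008035399787ecc538ee06441906904f3360d93a2e2b1393cd03913156b14e125302c16879b0ca00bb8e90f72b8484ed688f062b432bf8ec1183ac004290a30016de6e20c4e6631ab955131a411281236c09a67152adc2e7d6d8a0e0a84995deebf2290c3ec64ca8475051044900872d8e17c22590dc0a2f83054085873b3c310c0ca10908e4508c4cff, 0x1c069b6e92a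38e0e0877a90fcb52383c3836388ca1c7a00129a4864823e0cfe12c3da2cd362c12f096c958a0846abe9928505aaca6f480b1ca49f3e1012c3f15c021659712697a8b18b109e6405351c87455162210a6b88162fd594319e4212055d6f74c1fde2bf17359124c4e84cc046828e9dae5308e5d02839ae85ec841bfc3c8a4a994d25f6ead83e5d5ca6dc03513b41f6917501138d86700e10df0c1ed52061f1b5c219533c058887e369bc9453925b8553b98c602981448666b79c1166b7770f096921dad1ccc5469d9767d0ba85180c1319d98f65620580ad7a999a6624f3e0bc0586bc8467011145ce793aa8d264e390759616091a8f037411bc9b03081a0b65c88aa0882a1e80578b801051321b109695caf631b80e0916c4c1c43618d090a57caf91cca20b050ec2403b0220d50114aea2, [116, 177, 0, 11, 9, 3, 1, 1]),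
  (0x249b452a46f839f2d6770c99e846d910b04c12ba4ac2a4001cc00a4887c3026663d96ab9482adbaa80aafc66d17588d789a340f4a49769a485c65592619a1e1abe89ad92f15daa6f0a170a0e70120de28a571199ca372af9a4c461bf822c0859657b023cc21370e29c10d2f85343d621c270753a41330d09499899b9f6745000528c830b291a1a7a065e02d4b3915e72701dd4a6c02c155b012abdd04881dba944ba6497c706276a3cfa54143042e3f7138623105ba85164701acc9ef308021ead0113c92681833fc182c4482cbac52d9c18c8e86230e21339b1ca2ec89255b0b61e0d94e7b2d27a0063779082c4007c0c1a041584954641d2a60e393f8c0490a359d9bcfd43914ea48582d07c204306df8316d025962733819d10d5dab086e33e0dcf42f3c2e1cc9f6b885b80061270fc4b6a4250a6a, 0x5393cea74592e030575f8c004ba1a98d1cb61f2f1184531308582152b6a1ab4453d8d29b361999a9921c2cfe5075a1a0419680358e960a1dcec93878b5e2098387db04d05c31aa0371b15d86884b25baf70ea7906a029164b8c46181cf4c0773197ae90ba11e80e39931ea263737d62274ab2d1a16790e46cf024acd231064214e4a3061195a065cba150de7225c9ca132b89f6f33f1613a5638b30be881588c030867224c8ff19814fa1324045760f490b852a429a50aa5a6a29a2490178016ae70daadc038222013efd4135cbad22d91d7d056b405167c5bb94a2d136abdb304022a626283832855060a90958403c095cc4b438dc688109129b6aa76c2840320838530601dc02227b0e3e206317519c14247d3715cb01127134f93c905ded32a0e9826b1fc387a612f3f03c6a7f0691e3c37b3d4408,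 [124, 105, 8, 39, 11, 0, 1, 1]),
  (0x642a4cc640d1645089292308e3680168545c5c249ae942fa600c23550283e016a181886c658edf61e339a186846aa4dc2851c121b2f3379594e04198645eb0479f99c30632cd7aa3818989e7315b95203e7237226c91140534b25d8b40442248c5d61676b5922d320b14fafe5d3d4f2ca2c25c942507bc54c3574c495c0b7b9f0123208911005b35ad8c6b452840cb07060907439233f218815f4411adf4f2aca86273c22146e7b0f4586a4fbe8d2c177b420ab73b419c71138a75fe3709289625e3b9c0388a1fbb1e07f36bb9fa080b9c886056894d7ee87103980ad2bbc998d286940aa270c36df28787144e90f4c935b4a1272e59a837a20842dd4408116151a31c00b5069d5c04b731303702470b950a0229852c95561000f094e00db0a47c26cf61d4342d9eea0a1e879046f1755e295e1e026c2, 0x64a98e08a2010c968d0720430824a1c8ea08698918d0736ad0ba8e789e88a13519fd64377213954613b97976625e8314e544189d9ccb3894dd2294401c68ca230f5ca1580ae9d6f75c130ae7606b64724d79ac191131735d6cf576800f0512aa2daa0361acc75033a26858986b310d2dc02a94a01b433ee242170aa52e146a1a878203da1cdc17093147efe5707439007540972cd6d88d130a1899218332203dd0ec1c0d9189d303696aa2088296202339cc544168168de6671a00bef44d9f0f2ee77c452b104ca103cf67f9a00d044e41a1caf27b8892852b42c844a688ec7c26142b57ee684a3c3e9e2cb016e1a31b30fc097924520e736421502f6fa817cd86e889847d67c14090d2434958927e31c6a327cbc0206512c3dbc472daf0600b009ad3e96559485693523e9425c0cbf4b0e00b305f02d,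 [52, 239, 45, 72, 5, 2, 1, 0]),
  (0x5898e20c3142148687403d4c87b6c19dd21f202881014060d4cb0a091c42a180d305f8901b9794ae5131f160725e80dbe3d5a0c5126c313786cc88292c208b502e2088d0b815d6b362870f4a6268cc5f0c4b3bca8ba2ebfc1ee688910ac4203261ab087d381f69d8780a00234341942ac81b911ced0726c78c700118685f03a4e2660671a1b43b48a64400a799ac4b0181271543a6488a0ed142349e09e66350b0dc2b8340278021d9d4615e231570b251a548e85b12576777c435e4ae65844fc8859204704f29885dcdb3a9b5502a7c8b8ff0e13bd8988f89065809584a9c5848711c1d8555fb41c20b3714552af7b9a8e841493d1bafd4b91436f14fb59882d0e84c56cf18058a4b741b28a08273ab5c69a6cb5d9a8a7f0fc526f0f170b6b52d2e47c39699e448c6612f946940491c64593e9cccc4e, 0x5094d87115b960dccc3c3f09ebc46ac9bed957a4d28b56306c70f55caecb66f1f95a143a4b9b468896518558496a9f60a7411b11e0ae1092c8aba74b887284302743f070f0c97a8607a2918461627c3a87358991ee054031a6318802dec5123829d67b38b2024da141cc28e76a19e26ed201b044b03ca44825d27341e27504c0962db19a2170925508134be1bb2ca008510ed36f42a2b5b07a6e071ca68862ce1c8b13890cd0b2c9a406ee843441c80381f8be3d013b1f44a0c10cbce44b0f8ec9e83005fb098938cf8a0523c98e160a84c088541b0490c9318a48425320019e556f1dce44c032986cc286b0079030d045d0a94e240206579b85fca567015cc2b66968604d16970330f2bbbd2a0d5a238c4998205c5ed21abdca4f86b8a9f300173ecd4dd62aad04ff222600f0151afdac7f752d902a7,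 [152, 111, 62, 16, 17, 0, 0, 1])]

/-- the additional relations with conjugating elements -/
def threeSpecs : List Spec := [((3, [0, 3, 3, 2, 0, 1, 3], [], [0, 2, 0, 2, 2, 1, 1], []), (0x4bc411a7003b51e4e11a875423e8011140f7092c872de07ae5aa4e52c3ce4d74526cb8e8143bc5e8b201d482656cb29961b51aac7ae63112d54d088bc55ef304369cf0a72358487e052f95a9c0d1404ccc308f21668513d1c70e3b3a4e674690b1a67b243e468c1011bcc6015ebfca70d029dd188f0c840f06b893b20cc97690df80c361c400b15407cbc4d81ad012ac63975f4b8611a92abc10a900c305b2cc2c824311874ee75998921422bd88e9683a152036401a5c00444a1d889d2788846b0530a5c4a9498cd284228bf94e251c261bef01d99134834f2d56ed80896c631310165b6f5174304edd292fcfec88487974c62d0dc5a3f09b16081c6026430c35716102033702cda1568b719e5f72c08f26748a7cf832752ec2e577c0381ace808a8f484472219a7d2615095052a8adf692303f4ad08, 0x2629dbf127d311604664b607e003ba9410354b88827075917804a102a457417821e890c66e435bc587920146a63f86d8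4f46cb9046d76299618712cc00882624b69d6507c359fb0e5eafc4ee0128501acc74ba94840498f06c6d1823d703321349668c0d0f5fc9028a1ca4964340938686e8bda29473384c89b2e99df68a73b1e13050f14cd8d07b154645a899e11a61318103e755603e22ad783dcde0e3720cec102a2105a7320b50181d5e04442a95730ddcc060be53d105b0ac529f54238e4c8101f9d8565ab8d96031226524f5270ec942e0c0040e0a5890cbece35bf1300b71024fabb3ca08f70651181daef1c421caca2ba06025b1d1d216b9310709a887891c72be03048ccf322b34b8d5349a9164b4d0fa14347433d56310ca14507c1bc0c9eaa7f8582aa01534d2adb87a255e70162dd689d, [244, 144, 10, 58, 22, 3, 0, 0])),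
  ((0, [0, 3, 3, 0, 1], [0, 0, 2, 1], [0, 0, 1, 1, 2, 3, 0], [0, 0, 2, 0, 2, 2, 0, 1]), (0x4c321d062e03dd25b232a19806713b8b2982c03088a744358fe25788c0e2174c93cbab955325ba556e251888d600e2004c471cc3ccb11abdf2ac253d868c641c288a2a4fa9884da5094210e03b0345e9e092dd82047d3a880a26104cbcbd889e8a26134bfc747e3c2d5042c7e86908496c240a8e671a6cdca349ac9f70547b49783c8099c6c8948bf9b2d179b917022859d43a6c21b85da35382556c601235c66de6521560b37444cf26a6994cf8740c0f436ab25b20151084aedeaf40844935072d0502c215fad0d02d038ae080887bbc522e13009f8b11fb6daa6d6299076a96a3e0cc9246135483231bad0cad8187e04201f0e4d61c4b9f59cae2fc34ca111b9c800570a80c167718b7c90cf5009d8e2820bdd9ae723864020e31138f6f07629516966801502e5439bd7cba4e30ca45679229009d, 0x3f1a97e702dc44651249b68ded134441485d1f8f53ee95d269665552b1dc24a0f378da6c4b80df6142d4191a132131a1a7f0e2b0189655c1d1cd013211e2ef2935132af433f8a24b3da89300f120d43b097220de47210b709eed0330d92eb3182580a137021e895652256c6240298a881710d080e03a3cc990a80358244554311a6236bb300007551a5ef041b84114ee5392136ae51b9dd8470880938ff0590504b16dad41a017eae06c790aaf8fab71433d2478730b9f28b052a4a0901c9f176614f124624e2185d788819b05eb0f8619e0b0316011e0ad3d0157ad27b0588ce839b7d60250dc2db30147b543ec5298ececa026ae474ea17a7518dd429104efa66960c0b42f360b2201115df88771a50c83c1f39522383aac834777c19456666132c606b870619d02149c6265c2fc201cc815158322d,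 [26, 192, 10, 17, 28, 0, 1, 1])),
  ((0, [0, 3, 3, 0, 1], [0, 1, 2, 0], [0, 0, 1, 1, 2, 3, 0], [2, 2, 1, 2, 0]), (0x4c321d062e03dd25b232a19806713b8b2982c03088a744358fe25788c0e2174c93cbab955325ba556e251888d600e2004c471cc3ccb11abdf2ac253d868c641c288a2a4fa9884da5094210e03b0345e9e092dd82047d3a880a26104cbcbd889e8a26134bfc747e3c2d5042c7e86908496c240a8e671a6cdca349ac9f70547b49783c8099c6c8948bf9b2d179b917022859d43a6c21b85da35382556c601235c66de6521560b37444cf26a6994cf8740c0f436ab25b20151084aedeaf40844935072d0502c215fad0d02d038ae080887bbc522e13009f8b11fb6daa6d6299076a96a3e0cc9246135483231bad0cad8187e04201f0e4d61c4b9f59cae2fc34ca111b9c800570a80c167718b7c90cf5009d8e2820bdd9ae723864020e31138f6f07629516966801502e5439bd7cba4e30ca45679229009d, 0x3f1a97e702dc44651249b68ded134441485d1f8f53ee95d269665552b1dc24a0f378da6c4b80df6142d4191a132131a1a7f0e2b0189655c1d1cd013211e2ef2935132af433f8a24b3da89300f120d43b097220de47210b709eed0330d92eb3182580a137021e895652256c6240298a881710d080e03a3cc990a80358244554311a6236bb300007551a5ef041b84114ee5392136ae51b9dd8470880938ff0590504b16dad41a017eae06c790aaf8fab71433d2478730b9f28b052a4a0901c9f176614f124624e2185d788819b05eb0f8619e0b0316011e0ad3d0157ad27b0588ce839b7d60250dc2db30147b543ec5298ececa026ae474ea17a7518dd429104efa66960c0b42f360b2201115df88771a50c83c1f39522383aac834777c19456666132c606b870619d02149c6265c2fc201cc815158322d,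 [26, 192, 10, 17, 28, 0, 1, 1])),
  ((0, [0, 0, 1, 0, 3, 3, 0], [0, 0, 2], [0, 2, 1, 0, 3], [1, 2, 1, 0, 1, 3]), (0x13360ae5039891007b4f2bd2502770c8b2647c29cbefc79204a62117c2dda792337db6964d8c1e2c535445564f603d492ba0012934344a328eac65b921961471332030312b3ca2b311c25086e7b8a4d6f0081703074688346ac251089a4bd509c884565c2f07452188e0b10f7f3202e704c2e5d2c1698e43c624480554e872a2c271023818bc09484496a8e52bd0d2ff3b8f52e1d4fb3816406a255768d07aa4e24d272c82b056d07210650b1fd463c08a18a88852069ce0404131b2f31b81dc05d77af88243709108b0e7ec4e0906368aa1abf49ad00666101f5aaad6bc3118558007d628a13b589683533adf22c2d2093878583edba6f5741c5c6c013a9d8e6669e9f40e4383066c91f981ec193e340fc5b719d824613418d3a2d502a186996e3906c911db1dbc8f1f0ad58b6338a00a0a624283685, 0x2f269dca05a180b24e7d009a47d1b171005d6c421b24b4a2ccbf001d0b4830367895d496363fde2cc33c1df231210c95aa4388c146120fb6cc6697b03472137a9fcdb1227918a28b55b058e226b2385eda6eb88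50b207381e0030ab1158eb2c19980ba44ba15cbb6f82132566a208923b850dca00976a950c168110d2e733cb0d7e1747c2c323d79b9428af48bd114e32bc24209b06261104d511214e74159d800d1220f9fd0d3d084a423860b9f03c49879c2c887af90ab01c340b63466bbd2a1b03950f9040d2a0382680a74d0ca100fe0ab588af098757eae1ab107620d086e22b99d2de4fbdcc262322f4ca8c1382d247807ae554b6358458ae414c196ef27d8d43040051699c0623c4daf0e69b09f853252a5207e009c848c9589ed02dc50874eecb438b18c2a46811386f352780a702a8cd4ce7, [271, 140, 107, 52, 30, 0, 0, 0])),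
  ((0, [0, 0, 1, 0, 3, 3, 0], [0, 3, 1, 3], [0, 2, 1, 0, 3], [0, 2, 3, 0, 1]), (0x13360ae5039891007b4f2bd2502770c8b2647c29cbefc79204a62117c2dda792337db6964d8c1e2c535445564f603d492ba0012934344a328eac65b921961471332030312b3ca2b311c25086e7b8a4d6f0081703074688346ac251089a4bd509c884565c2f07452188e0b10f7f3202e704c2e5d2c1698e43c624480554e872a2c271023818bc09484496a8e52bd0d2ff3b8f52e1d4fb3816406a255768d07aa4e24d272c82b056d07210650b1fd463c08a18a88852069ce0404131b2f31b81dc05d77af88243709108b0e7ec4e0906368aa1abf49ad00666101f5aaad6bc3118558007d628a13b589683533adf22c2d2093878583edba6f5741c5c6c013a9d8e6669e9f40e4383066c91f981ec193e340fc5b719d824613418d3a2d502a186996e3906c911db1dbc8f1f0ad58b6338a00a0a624283685, 0x2f269dca05a180b24e7d009a47d1b171005d6c421b24b4a2ccbf001d0b4830367895d496363fde2cc33c1df231210c95aa4388c146120fb6cc6697b03472137a9fcdb1227918a28b55b058e226b2385eda6eb8850b207381e0030ab1158eb2c19980ba44ba15cbb6f82132566a208923b850dca00976a950c168110d2e733cb0d7e1747c2c323d79b9428af48bd114e32bc24209b06261104d511214e74159d800d1220f9fd0d3d084a423860b9f03c49879c2c887af90ab01c340b63466bbd2a1b03950f9040d2a0382680a74d0ca100fe0ab588af098757eae1ab107620d086e22b99d2de4fbdcc262322f4ca8c1382d247807ae554b6358458ae414c196ef27d8d43040051699c0623c4daf0e69b09f853252a5207e009c848c9589ed02dc50874eecb438b18c2a46811386f352780a702a8cd4ce7,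 [271, 140, 107, 52, 30, 0, 0, 0])),
  ((3, [0, 2, 0, 1, 2, 2, 1], [], [0, 1], []), (0x7a05ca4783f434c0956ec48faeb3e12dc507551e41ccc1f98dec717ba9966d571a1d50a98708caed82003c742b239ddbcf04127c7cfe01b4972ef5d04520c56ba9192dc0fadc3c3b032f5142c55ba5e63179031284c67268c27010ab88c483d22c30a37099d84cd27c10ac227290a18fc423981abb3f9d8a8d012ac9c85f5a9ecbc245f420cab47c161246d0cbed103c703193615332e1da744b96d324a043b8362a63c1988c07c9700a3d1933c526850c1540df1835160cb0514440f181c2cd480461adceda221bdea930e02c6e5d2c990260144915b6026c9351e331435939020d1d4a67387ac5d0a546a18690a7e9a4d8003928a26c3313e90a8160ba9589d2a85886bc569246cec48b445a350e8493cca1c9044e4e28442001004b217e6e69899fe141720cb4af538e11c0484c445f014b01d6c98, 0x1cc280c1a23bce1cb1351000e9e82208ecb635930081908b907eb04b0d8fe9b7dbf4c31366b2cd8e8702191a28840c99c4532ab966a57bc1576933a3a616d82a990a6f06d939f07209b884ca83d31d710038081b21641a49b8811c2e466800aa7da42c5637dc28e6b005469c7ca988c7106308563167c0de8f505be888da5e0e8ee7573084604d48b1912004580e18c9302644edd2882486675f344ae957b1086aaf0739c686855c3e1307512fe0510752a8948c240edf8c431051303d331a47c785d23d3a5a7f0dd8b0d52284b87e45034b69a78ad45ea924c44dc1b5b870a4c88322054c075b04ac6316ac83cef7fb94f8946a3b43e0a2e8a44841281ed98730283c4ad076210f24f0e8494ea0792d1866d6bb54465f4292d2ebd890b920102c889bc18774055aca2f1bc2e870134cfa0871950b03c,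 [186, 124, 105, 2, 28, 0, 0, 1])),
  ((0, [1, 3, 1, 1, 0, 3], [0, 3, 3], [3, 0, 1, 1, 0], [0, 0, 1, 0, 3, 1, 0, 0]), (0x69809ce7624115a9120d129cce03d3e41af27127dc6005d4160c894dbaa2038031cdfa34799c99703850b564e95eb1df81b5f9bd8c96402d58a2347411e2a808862003f582d9d6ee19b7dae3078260d6de1c8f938052c95144a05b9ed18422bbfdaa7e32825e87813a4c9e67813e9468212ae450624a1b10aef3b82d54e10641c9221040c4b08452a04482c480e8400386b49223758c45b49225c30bcc85a34088ab6b3605407009f571084a948ccc354bd4ac2e439d038ec56364c6970e8889841052853c0f651e5d0355e0101c8d29a99da993032456c21e2f8a24d6d8548e1e7b43d9caf2f90c4c860b300ff0e2da0d48c4352b9c85a082758212569a5ee5c178d8db090ca69ca4e281c428cc80a3da28a231d5f6b330bf8aaa76e1f216130bb74d0cd201c226f81d9b87a640faecba88190a59e8b, 0x6c311cf925101268a0abbc587c513f5fcde782cc46d95f069eae90eaca0c0c1892cecb979c11bacf54350b2706abe9d86188c24523980c0d490869330241727a34dc8268a0d7b0d89a48428600924202478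98cac8875395c23c3c1506a4273949d65f033fd5c7d61b59c4870e3b51ed7240e8666f42294eedc0c169363d58b14ccc4811946cc97d8a8b0ce36390f6ab5b23122971137cb8c100081f80439911529c1f2c134e320af0fc166141cc4b853c403c727b3c84c0e730285aaa668ec64115a1e5760836ab0365723a240a301f8e18e9d5f9d432c62d9e8a2275a8a0a06945c29430f2687e1c8523300d00f6c328125305a5996f8480b8c0f46980d3cd0179d1dc982aa0404ad5b9155e99701a9409503930d6717442c56da0990c9c250a0d1b637321760aa35319d749f403dd905e4a448ff00, [28, 184, 72, 48, 30, 2, 1, 0])),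
  ((0, [1, 3, 1, 1, 0, 3], [0, 0, 2, 0], [3, 0, 1, 1, 0], [0, 0, 3, 1, 2, 2, 3]), (0x69809ce7624115a9120d129cce03d3e41af27127dc6005d4160c894dbaa2038031cdfa34799c99703850b564e95eb1df81b5f9bd8c96402d58a2347411e2a808862003f582d9d6ee19b7dae3078260d6de1c8f938052c95144a05b9ed18422bbfdaa7e32825e87813a4c9e67813e9468212ae450624a1b10aef3b82d54e10641c9221040c4b08452a04482c480e8400386b49223758c45b49225c30bcc85a34088ab6b3605407009f571084a948ccc354bd4ac2e439d038ec56364c6970e8889841052853c0f651e5d0355e0101c8d29a99da993032456c21e2f8a24d6d8548e1e7b43d9caf2f90c4c860b300ff0e2da0d48c4352b9c85a082758212569a5ee5c178d8db090ca69ca4e281c428cc80a3da28a231d5f6b330bf8aaa76e1f216130bb74d0cd201c226f81d9b87a640faecba88190a59e8b, 0x6c311cf925101268a0abbc587c513f5fcde782cc46d95f069eae90eaca0c0c1892cecb979c11bacf54350b2706abe9d86188c24523980c0d490869330241727a34dc8268a0d7b0d89a4842860092420247898cac8875395c23c3c1506a4273949d65f033fd5c7d61b59c4870e3b51ed7240e8666f42294eedc0c169363d58b14ccc4811946cc97d8a8b0ce36390f6ab5b23122971137cb8c100081f80439911529c1f2c134e320af0fc166141cc4b853c403c727b3c84c0e730285aaa668ec64115a1e5760836ab0365723a240a301f8e18e9d5f9d432c62d9e8a2275a8a0a06945c29430f2687e1c8523300d00f6c328125305a5996f8480b8c0f46980d3cd0179d1dc982aa0404ad5b9155e99701a9409503930d6717442c56da0990c9c250a0d1b637321760aa35319d749f403dd905e4a448ff00,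 [28, 184, 72, 48, 30, 2, 1, 0])),
  ((3, [0, 2, 1, 1, 3], [], [1, 1, 2, 2, 0], []), (0x861707cc421141cce14199d581f15071b60a0ab0186df12aee0abe1c86962ff359c59aad7db2e1eaa0d8b4c9007e38d6ce923914ed0b7ab4d48517d2a0560610924a6e877409b4f96b9fdde911e834629005a61f06f23224ee093c920e1091db95830d2abad00b32e80974a17905dbc144e0cd16fd6b31cb0d43a375087580a64269e43a7486031022000c552bd170853c00432b76823c96dc1414888bf02c39407b7039c462281b206b07309cc8034630bc746d088f03c8e89259283232b656081078fdee5a7f3445cc94644208e418135d4d5331303069149f222b4610997aa31c16cae8a13c21eccf3627d780831040c6ae0383952f065235a4970b1a8beed4121937065a8494e4153428b2e249254d1132703134af79bb094375c9c9b0b24987598ce1b090fc6e2a0b0faf12798008563d17956a2, 0x101bca25e78a1979137209980463e0b1fa5d3fb5946ec7c18d58eb79b7da8c932915c6960dacc103868b5c601a5d165d0d8414357c5c750921883802c54c8c82b54d41569aacb0a8710d4c48f22041ea11790dcc07e551dd31108093d7b02443f09a417f2d42e95483a456505c051f2690e0f1e90900bc072de1489d2ee1260016885212813caf1687544ca1a1b8446d0988da0cc471c06c5f569218c9a4f8b928a5858bcd0b96903412524200d869362b9548a73d059ecc164030e8437b8c8a8218515cd6ed1e8fcf606188096f12251904aa924811760b6ca29c10e0387cb45646865b4c273b1dcc894ec3c5079334459e725f9d5f64b0c03cfa78571b19a5b3b185dc0a6ec1ca68b23939fe0e40a01b69b841c4250677be92255590ce06b0508a8e63e338e99c1e65c1188401db710e054e2d92499,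 [230, 79, 35, 1, 4, 0, 1, 1])),
  ((0, [0, 2, 1, 1, 3, 1, 3], [0, 0, 3, 2], [0, 1, 2, 1, 1, 3, 3], [0, 2, 2, 3, 0, 2]), (0x619f9a0b1053d4a4cf7e8058cfc3bbdc283c622d5d1020f1c01ea31b9d9cb0d820f490f41d20de2ef5a2b4cca860090ae7a7c350a0b9302e82e3215369c8e18542d385425418a2a6893c9cc6e4901d2edf17b1d3a2d7b0b1c0112701518d52642084de258fdba7c6b21cb0867523d3273129ae00fe5f9b1f4434d27872d1769e0928005a900802669c8067b4da587c5669ad868122f3308e824c1b542ca338808a9f87b04d2650f95446dc71c04380e3ca89ce6a0329c6c4d133e5601d570348888862f8b2d2208a1705a57b15288e0c22d84ee5597434632e0017b111dc4cc4216c36d122e871d0e2c959bad76290d864d0b76cbcd4aff08415149104ac8808465a36122b6414c2aac6b918beec8804dd20871339f6223fa4d2a313093cb68583a4206aa5e2a4de381999060f0060d540813e8584e75, 0x2734ca0234191df0676d36c5abe09b586cf708c00f4ad1c2b217080eaa4dce78331e1cf41d349e208781614624212cc43013ab45f2dd3d87db8c5662f1727c25378764b13add80e64999149118607936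8e17a20882b65424bd038996504eb55998a20f20b89c8611e24a04ef218ca206d2f9addc282b8401cec39350729e7e1d912054229992d94ba9d628b66a58325d0d33c6812591705cc12d0d492685b2d028307923008a00dc4806b84c3a0eea283be80046582688afe06b4114aa571d1023d43bb5000a2a1342ee312a3cac530a980cab574a50fcd815435aae50b30ce0bf5db5d42f5468990a69542f4c6315d255ed0427bcd4a0c7d9c40c9105b8030096592190c61637c8062009bd5eea3e87098863fbfcd8791f9547c5b7080853051124188377e9e0d4074fc3c6620671cd849d4ca721452, [57, 209, 90, 33, 22, 1, 0, 0])),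
  ((3, [0, 1, 1, 2, 2, 0, 1], [], [3, 3, 2, 1, 1], []), (0x451943a141a97820005f2e9524a188902a097f0317f0a079fde42e4f98d2228561a5660564068be964c85db07b603cdd2d4648dc22553c93cea1f7a97411074c39ca64b23a6884597196d00af76c10cec658b74e4614f2356e5c100f97a518681d9a6a24c4d1e734423970062c3599eca6aaf0a90b01029b2aa7eb4968301384dd63f888bd38ec3e8d8687e0222d5c6b833b88a2a20a31c07a0e34df4577c9b1fe6f3b0ccc85a3c1ddb4fc0f0e4f8e160aa1e9083704940c25b405ca0e51bbc448661b70c4196f439ee7481a04ccd75238976481588d1300133312e2522295ecc7233e10643263edbeb53026c031042399966d591354c3b8106e18b0438605892688a480ab50c3c74a72700d5aa27202c2cf02b36dd0851e20a12b9343aa24941c08520c44e9c5e2ce280f45ac5681c01a951914a0a93, 0x5d0553e40151897e355640032746e24c02ce2f8dcdc5442c0d4e7c232250e4a30935be75753f41a20352499e9c50859d21d6d0f8da2369968f08d2298d94660f1f552ed2e2c95ee8452985e07588317a521eac1cef3263301010339c0eeeb80c2d82ae2cc2830b5629bc88a57a8ed9634682544af7162a21276140e49c5b3589056717db1c1e9d21359dedb28bc00814000c1f2115cad98c8e4b44caab7199a0383f24868bcd17f261367976231c67f3f20dc2605c3241c06421cc78864a2f1ec176697624817d195904378c39bcc469201a8b34407dc8ad6c809800b7109c74476c42176586b92d224f243551e2d50308141b1c0a4f4137326a1e994100e0ea44f3f012312ba405cf85194ca1062b1a424c3701ee228b1b3c8c832770860b10511c9cb0d7f9b00b02112aa08dd5f2d1e897132ac830c,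 [190, 5, 101, 9, 21, 2, 0, 0]))]

/-- the combinations -/
def threeCombos : List (List (ℤ × ℕ) × List (ℤ × (ℕ × ℕ))) := [([(2, 0), (2, 1), (1, 2), (2, 10), (1, 8)], [(2, (0, 56))]),
  ([(1, 0), (2, 1), (1, 5), (2, 6), (1, 2), (1, 10), (2, 8)], [(1, (0, 61)), (1, (0, 56)), (1, (0, 107))]),
  ([(2, 0), (1, 5), (2, 6), (2, 4), (1, 10), (2, 8)], [(1, (0, 107)), (2, (0, 61))]),
  ([(2, 0), (1, 5), (1, 1), (2, 4), (2, 2), (1, 10)], [(2, (0, 56))]),
  ([(1, 5)], [(2, (0, 107)), (2, (0, 61)), (2, (0, 56))]),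
  ([(1, 5), (1, 1), (1, 0), (2, 6), (2, 2), (2, 4)], [(2, (0, 61)), (1, (0, 56))]),
  ([(1, 1), (2, 6), (2, 0), (2, 2), (2, 4), (2, 10), (1, 5), (1, 8)], [(1, (0, 107)), (1, (0, 56))]),
  ([(1, 6), (2, 0), (2, 3), (1, 1), (2, 4), (1, 10), (2, 5), (1, 7), (2, 8)], [(1, (0, 56))]),
  ([(2, 1), (2, 6), (2, 4), (2, 0), (1, 3), (1, 10), (2, 5), (1, 7)], [(2, (0, 61)), (1, (0, 107)), (2, (0, 56))]),
  ([(1, 4), (1, 1), (2, 2), (2, 9), (1, 6), (1, 10), (2, 5)], [(1, (0, 56))]),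
  ([(2, 6), (1, 1), (2, 4), (2, 0), (1, 3), (1, 10), (2, 5), (1, 2), (1, 7)], [(2, (0, 107)), (2, (0, 56))]),
  ([(1, 10), (2, 5), (2, 1), (1, 2), (1, 9), (2, 6), (1, 4)], [(1, (0, 56)), (2, (0, 107))]),
  ([(1, 0), (1, 8), (1, 2), (2, 1)], [(1, (0, 56)), (1, (0, 61)), (1, (0, 107))]),
  ([(1, 8), (2, 0), (1, 2), (2, 1), (1, 7), (2, 6), (2, 4), (2, 3)], [(2, (0, 56)), (2, (0, 61))])]

/-- the certificate -/
def threeCert : CentralLocal.Cert :=
  { act := actC threeGens, one := oneC, N := 2187, k := 4, q := 3, rels := threeRels, P := 14,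
    elt := threeElt, next := threeNext, word := threeWord, par := threePar, L := threeL, kind := threeKind, rank := threeRank,
    via := threeVia, pv := [8748, 8749, 8750, 8751, 8752, 8753, 8754, 8755, 8758, 8759, 8761, 8771, 8773, 8774] }

end Cfsg.Agent.Lie.ConwayThreeMult
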