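import Cfsg.Agent.Lib.Lie.CentralLocal
import Cfsg.Agent.Lib.Lie.ConwayThreeMult.Defs

/-!
Central table on a Sylow subgroup for the prime 2 of the third Conway group (generated).
-/

set_option autoImplicit false
set_option maxRecDepth 100000
set_option maxHeartbeats 0

namespace Cfsg.Agent.Lie.ConwayThreeMult

open Cfsg.Agent.Lie

def twoElt0 : Janko.Tree (ℕ) :=
  (.node (.node (.node (.node (.node (.node (.node (.leaf 2464856673237604538368) (.leaf 370309609044047829691)) (.node (.leaf 2457298680197928725140) (.leaf 369895813429210441479))) (.node (.node (.leaf 1486840349722309666957) (.leaf 1357912988151104956958)) (.node (.leaf 2519854644531804088504) (.leaf 1451402967290866926201)))) (.node (.node (.node (.leaf 1441459005787905228997) (.leaf 888633155041181689996)) (.node (.leaf 885684062148122470977) (.leaf 37815922966376223873))) (.node (.node (.leaf 2500044386209391304876) (.leaf 2169834878606373840138)) (.node (.leaf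 1698262015081240074428) (.leaf 415541839775479726677))))) (.node (.node (.node (.node (.leaf 1164184213176027307089) (.leaf 2011547416945878241413)) (.node (.leaf 1379245028439677329680) (.leaf 1291654332200208674400))) (.node (.node (.leaf 306714046102123078696) (.leaf 1393125541750201745607)) (.node (.leaf 2456893779501140686520) (.leaf 1320059133373181991179)))) (.node (.node (.node (.leaf 1995298432598914923716) (.leaf 1164567431873531070213)) (.node (.leaf 1735564894589952565908) (.leaf 138500864583930325631))) (.node (.node (.leaf 1301562253225857451208) (.leaf 290212012099708758769)) (.node (.leaf 1230042040418007614168) (.leaf 2030264906768695251715)))))) (.node (.node (.node (.node (.node (.leaf 913532115245271970550) (.leaf 1826468008715724560647)) (.node (.leaf 684493678323530009735) (.leaf 620763799717807505452))) (.node (.node (.leaf 1726992512258709744168) (.leaf 158148446508411895305)) (.node (.leaf 1810830992326615399640)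 (.leaf 729390629124629972510)))) (.node (.node (.node (.leaf 1374517188467374516910) (.leaf 2087941735952345778777)) (.node (.leaf 1949320928545283779141) (.leaf 456053077695749039811))) (.node (.node (.leaf 23049049479036803302) (.leaf 308700371639237748294)) (.node (.leaf 1940105307197980813995) (.leaf 1808399576308342200536))))) (.node (.node (.node (.node (.leaf 1487107504647977352845) (.leaf 2334669990583804699142)) (.node (.leaf 729607317583736923859) (.leaf 1154492715402665501317))) (.node (.node (.leaf 2383671386764487243442) (.leaf 1551115477100779298518)) (.node (.leaf 1171786534183097430706) (.leaf 897408985494888463496)))) (.node (.node (.node (.leaf 685375856756945399901) (.leaf 620710284283403910188)) (.node (.leaf 484377310810117267175) (.leaf 1553634350777788933725))) (.node (.node (.leaf 1258468428868560638678) (.leaf 1837021997349044786690)) (.node (.leaf 1440923341047274435255) (.leaf 898954567361455303242)))))))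 (.node (.node (.node (.node (.node (.node (.leaf 1498027042916968291377) (.leaf 2318832272568440106728)) (.node (.leaf 2429193231714196156968) (.leaf 1356868680807505559070))) (.node (.node (.leaf 843416700315651559985) (.leaf 1026592165420662599896)) (.node (.leaf 1662176696519277957815) (.leaf 537298018322899564067)))) (.node (.node (.node (.leaf 639602098968710884051) (.leaf 1319689424086752877092)) (.node (.leaf 138750839377138944067) (.leaf 1071285898001625651794))) (.node (.node (.leaf 308466721650306732787) (.leaf 3269228370390162187)) (.node (.leaf 1153408791767461146343) (.leaf 822451304909580310055))))) (.node (.node (.node (.node (.leaf 371277643286161155105) (.leaf 86838035518245097476)) (.node (.leaf 1756530531300433529911) (.leaf 649510023725404252347))) (.node (.node (.leaf 1162991604663924428800) (.leaf 40721165550304153609)) (.node (.leaf 1938259247034873720378) (.leaf 1653596564400796728911)))) (.node (.node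 (.node (.leaf 1819617272828769108124) (.leaf 160133698689444097539)) (.node (.leaf 897459369530890240136) (.leaf 601396632270977476764))) (.node (.node (.leaf 87622608045037614798) (.leaf 2010845388478437712615)) (.node (.leaf 1580393791496568974034) (.leaf 2079943336543901723906)))))) (.node (.node (.node (.node (.node (.leaf 336671135750413922385) (.leaf 758538443967557888628)) (.node (.leaf 278778449833701436051) (.leaf 536306704001831841490))) (.node (.node (.leaf 363554208986391908586) (.leaf 298345079340793981167)) (.node (.leaf 2518376926605157468308) (.leaf 1726145307745405901352)))) (.node (.node (.node (.leaf 1689846826009336500916) (.leaf 268400233705504055331)) (.node (.leaf 1448992088776591545405) (.leaf 158368278470568813065))) (.node (.node (.leaf 1800521684053995359263) (.leaf 2512865050909367613589)) (.node (.leaf 157958875954574268655) (.leaf 1254522759642978771549))))) (.node (.node (.node (.node (.leaf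 1082182671487685393622) (.leaf 1485867571452192096527)) (.node (.leaf 1700577282364318955274) (.leaf 508402399058705127696))) (.node (.node (.leaf 1950530954307459984965) (.leaf 281313741197142160965)) (.node (.leaf 618366201354214836239) (.leaf 1166252732100091066511)))) (.node (.node (.node (.leaf 2033903812859448811259) (.leaf 640525594060393822324)) (.node (.leaf 720386415710252885504) (.leaf 2510346173192538817038))) (.node (.node (.leaf 2077496444539602474051) (.leaf 1378321368578479176894)) (.node (.leaf 2167871307587195874861) (.leaf 1873722248677805529762))))))))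

def twoElt1 : Janko.Tree (ℕ) :=
  (.node (.node (.node (.node (.node (.node (.node (.leaf 1977891458368579588744) (.leaf 1190737424142618072068)) (.node (.leaf 2161602601985067200137) (.leaf 637317333120391906334))) (.node (.node (.leaf 370001682036594704417) (.leaf 1690296658232470521524)) (.node (.leaf 1586802250820930088454) (.leaf 272165243123394464421)))) (.node (.node (.node (.leaf 760190496493724100638) (.leaf 102528572221263512741)) (.node (.leaf 2134441637892342537434) (.leaf 1821117208981075797600))) (.node (.node (.leaf 343234504047554006086) (.leaf 2271187247343188841706)) (.node (.leaf 1846896344954492459229) (.leaf 2411624130938991945252))))) (.node (.node (.node (.node (.leaf 2223067423606403274798) (.leaf 324637527631429241003)) (.node (.leaf 1554156251289220944086) (.leaf 38605423717288046089))) (.node (.node (.leaf 2171257474192196546321) (.leaf 2389705677751254913181)) (.node (.leaf 1392945916050644532990)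 (.leaf 2079552300461291004663)))) (.node (.node (.node (.leaf 646792906136828778759) (.leaf 824339759405973424866)) (.node (.leaf 2205547462230620248081) (.leaf 2380248639020193894956))) (.node (.node (.leaf 1448487695764810905209) (.leaf 132568531275555304126)) (.node (.leaf 1309862994459744119445) (.leaf 2512026422628696463914)))))) (.node (.node (.node (.node (.node (.leaf 2511805325316001121335) (.leaf 2162111766440997818407)) (.node (.leaf 345377692457675012339) (.leaf 83424731967019905568))) (.node (.node (.leaf 2412131663113808018510) (.leaf 604479317625731663926)) (.node (.leaf 824646000482963537447) (.leaf 364005096717824615146)))) (.node (.node (.node (.leaf 1451119475138742222075) (.leaf 787814300600502374588)) (.node (.leaf 1698974531892371892497) (.leaf 290248566263305222235))) (.node (.node (.leaf 267874157131603476645) (.leaf 741890671770631250583)) (.node (.leaf 2143863711660792691833) (.leaf 839939386903231600843)))))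 (.node (.node (.node (.node (.leaf 565220661691777611933) (.leaf 2390676752681708947688)) (.node (.leaf 500284021662343796933) (.leaf 1542915795399152271531))) (.node (.node (.leaf 1312565156356005150762) (.leaf 343142221766051819048)) (.node (.leaf 1801403868140258799819) (.leaf 861812522630303004234)))) (.node (.node (.node (.leaf 719657779114436291153) (.leaf 2245392322411315345445)) (.node (.leaf 280575136605076056146) (.leaf 336800895715613105745))) (.node (.node (.leaf 1025617696852267108570) (.leaf 1448688059081545881851)) (.node (.leaf 1164109014671864910597) (.leaf 898991119039473662069))))))) (.node (.node (.node (.node (.node (.node (.leaf 1157755005994761733231) (.leaf 371156813555338406587)) (.node (.leaf 363752897536866989667) (.leaf 1572608594553801674998))) (.node (.node (.leaf 1173409514507179777039) (.leaf 1498945782179220816415)) (.node (.leaf 1264454285114489483353) (.leaf 1026032032566059802676)))) (.node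 (.node (.node (.leaf 2281938785106605227698) (.leaf 364396147096099761322)) (.node (.leaf 2123969691891248686612) (.leaf 1540793228814941433402))) (.node (.node (.leaf 2271999586046228841561) (.leaf 1494330432053997265457)) (.node (.leaf 784909054839775040778) (.leaf 419664008030216812180))))) (.node (.node (.node (.node (.leaf 1848494344974714851599) (.leaf 1697280646187136869933)) (.node (.leaf 1118069290943094460658) (.leaf 2244468845769603951367))) (.node (.node (.leaf 1247119371134065249354) (.leaf 415231937802074613432)) (.node (.leaf 788588924613591114513) (.leaf 1948474262677504681042)))) (.node (.node (.node (.leaf 1524450512459886782123) (.leaf 1737821628451755446357)) (.node (.leaf 2319828342900040949468) (.leaf 1849286991767890322573))) (.node (.node (.leaf 2380552679272940380175) (.leaf 2123613063122442785812)) (.node (.leaf 2131086219087756668541) (.leaf 131549771729737729678)))))) (.node (.node (.node (.node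 (.node (.leaf 480015621620926611652) (.leaf 1937322496769927689739)) (.node (.leaf 683564988324544308950) (.leaf 417289238408709087416))) (.node (.node (.leaf 1688781745541685051488) (.leaf 2338473255257124227213)) (.node (.leaf 821732422875607249033) (.leaf 2407912634693391045198)))) (.node (.node (.node (.leaf 861614365285547891848) (.leaf 738779115917981122633)) (.node (.leaf 740212210559031998025) (.leaf 1829493899917392934663))) (.node (.node (.leaf 2013290070737900861636) (.leaf 1301239688606263597740)) (.node (.leaf 2123527919460337897623) (.leaf 2130749213949817053914))))) (.node (.node (.node (.node (.leaf 511375296187439582398) (.leaf 566106430249026024156)) (.node (.leaf 2342916685128328607817) (.leaf 843650879384830359583))) (.node (.node (.leaf 1821601917707808151708) (.leaf 601663787201611218588)) (.node (.leaf 1495032998524882825247) (.leaf 1249914735411662553717)))) (.node (.node (.node (.leaf 2227462412444528152625)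 (.leaf 103331165386750357027)) (.node (.leaf 1996289751798528687215) (.leaf 1256450820605363384967))) (.node (.node (.leaf 720800743453422843473) (.leaf 1644612128004670566658)) (.node (.leaf 2501249131877420560072) (.leaf 2392313001903659429096))))))))

def twoElt2 : Janko.Tree (ℕ) :=
  (.node (.node (.node (.node (.node (.node (.node (.leaf 1756281456869007691818) (.leaf 2282466491942314500833)) (.node (.leaf 418248912633979857131) (.leaf 277605836147184960581))) (.node (.node (.leaf 2390205328407948279538) (.leaf 1396750090442574766672)) (.node (.leaf 187803799855938241278) (.leaf 1977242931521025501770)))) (.node (.node (.node (.leaf 1605379771521931790378) (.leaf 1950226931096042623635)) (.node (.leaf 1258219370513197554781) (.leaf 1654249840058610808389))) (.node (.node (.leaf 3840778497605505060) (.leaf 1369671310839528846893)) (.node (.leaf 2390424562211079168754) (.leaf 722864345514227036672))))) (.node (.node (.node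 (.node (.leaf 621015995713052755122) (.leaf 1904626902123463865865)) (.node (.leaf 821280372688620488930) (.leaf 83919699185215276238))) (.node (.node (.leaf 295364653522815582337) (.leaf 20266236538987612240)) (.node (.leaf 741066945401123252756) (.leaf 1799304762179247261215)))) (.node (.node (.node (.leaf 37964962322109038595) (.leaf 425392044277313393347)) (.node (.leaf 1735705886591895793237) (.leaf 406447021526551450370))) (.node (.node (.leaf 390227936744520401038) (.leaf 509357699445492050574)) (.node (.leaf 426347340457850991266) (.leaf 3441319682378592846)))))) (.node (.node (.node (.node (.node (.leaf 2086523350834229927011) (.leaf 479796375043193464431)) (.node (.leaf 1268363937371499397721) (.leaf 187664628072140778064))) (.node (.node (.leaf 456035064944087028315) (.leaf 1591017620895246063837)) (.node (.leaf 1947198301439346737234) (.leaf 391669095224626438846)))) (.node (.node (.node (.leaf 2335482858444323836687)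 (.leaf 2282934861363247710735)) (.node (.leaf 55722475397942980268) (.leaf 129739749134774129326))) (.node (.node (.leaf 1227560796508180058330) (.leaf 1726847862909846186694)) (.node (.leaf 2171513334935668954897) (.leaf 1872957063764111399003))))) (.node (.node (.node (.node (.leaf 336131229500062108815) (.leaf 1609496474637483946039)) (.node (.leaf 1554358056386211628167) (.leaf 1526468643054998807563))) (.node (.node (.leaf 649965137087287404065) (.leaf 1835829911721292948041)) (.node (.leaf 2281653618185536288300) (.leaf 646018291459157222075)))) (.node (.node (.node (.leaf 1079981247860408365191) (.leaf 894901849531858589864)) (.node (.leaf 785698558783458176700) (.leaf 1163733854157642269184))) (.node (.node (.leaf 1190031735114973610016) (.leaf 562775976543143650024)) (.node (.leaf 2135360904086553910836) (.leaf 685970860497973308118))))))) (.node (.node (.node (.node (.node (.node (.leaf 896706426721397379146) (.leaf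 1810632835261996056701)) (.node (.leaf 1974837059319947650634) (.leaf 1756479615371927698581))) (.node (.node (.leaf 1651223948902308026437) (.leaf 2033777184307012743419)) (.node (.leaf 2169311927235607101628) (.leaf 1579809274680819351719)))) (.node (.node (.node (.leaf 2379811027875319314447) (.leaf 103028054583958345383)) (.node (.leaf 2426707772480845571624) (.leaf 1818719601762199989940))) (.node (.node (.leaf 2521745628295940058859) (.leaf 1311791059850911050295)) (.node (.leaf 1900923993237871723529) (.leaf 914036507823663554697))))) (.node (.node (.node (.node (.leaf 425238504974688812706) (.leaf 535864923697149509667)) (.node (.leaf 2510973530263735277610) (.leaf 2454488443310643216619))) (.node (.node (.leaf 2465486655694806302981) (.leaf 1940929037167879365178)) (.node (.leaf 1900411002344037550209) (.leaf 758659270224020530387)))) (.node (.node (.node (.leaf 189079694538283443399) (.leaf 1572657870276145720359))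 (.node (.leaf 1753404087697552762382) (.leaf 2333730180826905574918))) (.node (.node (.leaf 30012563247694111748) (.leaf 1292016316152260123292)) (.node (.leaf 271359518457523726503) (.leaf 1642247501328666690175)))))) (.node (.node (.node (.node (.node (.leaf 859989950784344255093) (.leaf 1155773423810563653828)) (.node (.leaf 1949577881530966241871) (.leaf 1692276537405314785846))) (.node (.node (.leaf 2125977862815002925058) (.leaf 1995046230541054849135)) (.node (.leaf 1735813447210236215531) (.leaf 2270072573202461497433)))) (.node (.node (.node (.leaf 1605101487102881786517) (.leaf 2207583093498528786464)) (.node (.leaf 1365455429280695978257) (.leaf 2243698966765762566689))) (.node (.node (.leaf 1246118610541920485000) (.leaf 2172179875774408436924)) (.node (.leaf 277734142457487130259) (.leaf 1154044567652518941295))))) (.node (.node (.node (.node (.leaf 2234097294824979042425) (.leaf 1755232962694040334485)) (.node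 (.leaf 1725803555547053653702) (.leaf 1802665403116859303473))) (.node (.node (.leaf 1156402242962984366823) (.leaf 1820824225380529393844)) (.node (.leaf 2381453396244578009313) (.leaf 1975390585910976339624)))) (.node (.node (.node (.leaf 1663653356098739792524) (.leaf 756698764201707266590)) (.node (.leaf 889556627924662494917) (.leaf 2465382228456967845637))) (.node (.node (.leaf 913601111777704510198) (.leaf 2346564181859015638530)) (.node (.leaf 1840138482040822614679) (.leaf 454367783101233158747))))))))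

def twoElt3 : Janko.Tree (ℕ) :=
  (.node (.node (.node (.node (.node (.node (.node (.leaf 1116209051561009374940) (.leaf 2206623412149786321102)) (.node (.leaf 751722873272288456740) (.leaf 2040978203700108755116))) (.node (.node (.leaf 290887127421872621659) (.leaf 2389976413115399885532)) (.node (.leaf 305438084843295604776) (.leaf 1083458560516914165857)))) (.node (.node (.node (.leaf 1978431360104384041128) (.leaf 139273271698373550338)) (.node (.leaf 913294856417184118921) (.leaf 1940244488529624793611))) (.node (.node (.leaf 424509876205376280817) (.leaf 1699713124138651614908)) (.node (.leaf 21059408436169572582) (.leaf 2281506441964577631788))))) (.node (.node (.node (.node (.leaf 886348385007685468343) (.leaf 29822451785832382158)) (.node (.leaf 1875392666732358040667) (.leaf 1735155495695957629112))) (.node (.node (.leaf 1643331428555939944183) (.leaf 1902166978856602353155)) (.node (.leaf 1074871276326776594501)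 (.leaf 676782988271940891366)))) (.node (.node (.node (.leaf 1690219836359851669088) (.leaf 391705644562961540782)) (.node (.leaf 2337912595042230690525) (.leaf 336328866147279626752))) (.node (.node (.leaf 2032622567974219641405) (.leaf 2227120129045824645663)) (.node (.leaf 1875785848860635327217) (.leaf 336365424513770202885)))))) (.node (.node (.node (.node (.node (.leaf 1321990333174975841547) (.leaf 56497104570458120957)) (.node (.leaf 899629680214012971125) (.leaf 641372798536130879604))) (.node (.node (.leaf 140391848651616803967) (.leaf 2042962848582369024172)) (.node (.leaf 1642178504782543942271) (.leaf 1756728157657848930858)))) (.node (.node (.node (.leaf 455786000480206707874) (.leaf 1579434114733241013413)) (.node (.leaf 1246001951745379184757) (.leaf 2162562654158606098983))) (.node (.node (.leaf 1579016114573322618915) (.leaf 2501953388936356284157)) (.node (.leaf 599736235098291699380) (.leaf 1231002068821184195124)))))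 (.node (.node (.node (.node (.leaf 481656621160324141189) (.leaf 2315466639303785152754)) (.node (.leaf 105222152006368607911) (.leaf 1080512261399491910237))) (.node (.node (.leaf 1569564688956355010294) (.leaf 1393890721991101850366)) (.node (.leaf 1394080300270243327568) (.leaf 1394441123583387609318)))) (.node (.node (.node (.leaf 2234800389920972420669) (.leaf 2161013411138274409698)) (.node (.leaf 2042764684431757501181) (.leaf 1440723490309116635201))) (.node (.node (.leaf 2279744089548522821298) (.leaf 2139972603368404476477)) (.node (.leaf 1228299914589671654106) (.leaf 2143281957859513085187))))))) (.node (.node (.node (.node (.node (.node (.leaf 138531620301557790978) (.leaf 538432398377028514471)) (.node (.leaf 2087226426197935471850) (.leaf 2382481908676235178162))) (.node (.node (.leaf 510333598890832184592) (.leaf 1193696720930478238225)) (.node (.leaf 1839216094810780843522) (.leaf 2134620093421371823832))))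 (.node (.node (.node (.leaf 1310754281944204279351) (.leaf 2343898041326776951447)) (.node (.leaf 2040587153536152017096) (.leaf 161193410925976445569))) (.node (.node (.leaf 1586930560544731685135) (.leaf 1755882017488776229390)) (.node (.leaf 1369455140389962212106) (.leaf 1264524644665128198243))))) (.node (.node (.node (.node (.leaf 1321734477640068051022) (.leaf 2124852400307629814345)) (.node (.leaf 2085834056285303385770) (.leaf 1487305662294920558351))) (.node (.node (.leaf 1172959686076441845473) (.leaf 306086588820749658310)) (.node (.leaf 139202889673781588215) (.leaf 361282711624161203801)))) (.node (.node (.node (.leaf 563548383681880265885) (.leaf 2520132917760473743032)) (.node (.leaf 1120069402387181550824) (.leaf 55557294790339329789))) (.node (.node (.leaf 1302640055269541854881) (.leaf 600893919605202941536)) (.node (.leaf 2346072860071622181396) (.leaf 1375660152764485138094)))))) (.node (.node (.node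 (.node (.node (.leaf 1268435460746633313450) (.leaf 1543779959802324939322)) (.node (.leaf 1540682007863179436573) (.leaf 1901888705653568284675))) (.node (.node (.leaf 2428359826765249904198) (.leaf 290684032918254387874)) (.node (.leaf 22211802037756214983) (.leaf 913264110361219803874)))) (.node (.node (.node (.leaf 2318116444127445154973) (.leaf 1305455575038385309949)) (.node (.leaf 2522001489018206066411) (.leaf 1848120798951777790470))) (.node (.node (.leaf 2245374833579766600225) (.leaf 2430146318354844331763)) (.node (.leaf 639678908656030643891) (.leaf 1550643431136139760263))))) (.node (.node (.node (.node (.leaf 2426903721533272758342) (.leaf 1116446297165966620317)) (.node (.leaf 131091354520823812750) (.leaf 277445380979369821775))) (.node (.node (.leaf 2223868107415724549835) (.leaf 1938069671486660354589)) (.node (.leaf 1074508779887892963987) (.leaf 370812329748658974245)))) (.node (.node (.node (.leaf 1027835686695987395800)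 (.leaf 31006492012125892113)) (.node (.leaf 21909205998471490640) (.leaf 723461944623323233423))) (.node (.node (.leaf 323740467241832226845) (.leaf 160274154697699636739)) (.node (.leaf 2245877022245854978747) (.leaf 563112979048134094556))))))))

def twoElt4 : Janko.Tree (ℕ) :=
  (.node (.node (.node (.node (.node (.node (.node (.leaf 1873379976691098642161) (.leaf 84581304811364131345)) (.node (.leaf 1645801606076279633666) (.leaf 1728644559110553069638))) (.node (.node (.leaf 915155094442193837282) (.leaf 20017704576020158151)) (.node (.leaf 2269367795321504363107) (.leaf 2236740658370651147003)))) (.node (.node (.node (.leaf 2084882349255393937497) (.leaf 39235927407041995779)) (.node (.leaf 2463675779213233847889) (.leaf 897936325722259650216))) (.node (.node (.leaf 1644810294785042826307) (.leaf 332788608615019502223)) (.node (.leaf 1699337946788805287981) (.leaf 1606244451432473097877))))) (.node (.node (.node (.node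 (.leaf 1081350880927821163101) (.leaf 56373213113947842248)) (.node (.leaf 566468400486071786728) (.leaf 325160468377789036090))) (.node (.node (.leaf 159409984987155529455) (.leaf 1845707397321189287430)) (.node (.leaf 2087279941630862672106) (.leaf 184881808121876723454)))) (.node (.node (.node (.leaf 1073731104827724840527) (.leaf 1378390294524363290896)) (.node (.leaf 673796257293281537766) (.leaf 1190211353026949941454))) (.node (.node (.leaf 84361472843570069009) (.leaf 1992867016541450148036)) (.node (.leaf 757691239499619637876) (.leaf 1171855530730025484978)))))) (.node (.node (.node (.node (.node (.leaf 2233408004196686741251) (.leaf 2141645708634475596035)) (.node (.leaf 2270540963341914103466) (.leaf 2161066926553216434402))) (.node (.node (.leaf 1874560868186673212066) (.leaf 641025238188736935454)) (.node (.leaf 409309089326315091703) (.leaf 1264220619247869842090)))) (.node (.node (.node (.leaf 2393686851418719536348)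 (.leaf 345877346820925191878)) (.node (.leaf 2409264242014591931006) (.leaf 720035560244159533829))) (.node (.node (.leaf 31435177499847339552) (.leaf 1368521536205920193297)) (.node (.leaf 2143843466086768219899) (.leaf 1079747068539974064342))))) (.node (.node (.node (.node (.leaf 1976849760589593738357) (.leaf 39487602869860890753)) (.node (.leaf 756827084033445972147) (.leaf 2454339399218098345045))) (.node (.node (.leaf 1550039528291594002525) (.leaf 1522927863735993566219)) (.node (.leaf 2246239526900205740069) (.leaf 2455759408411413865707)))) (.node (.node (.node (.leaf 842119137448005845038) (.leaf 917155216686915597863)) (.node (.leaf 1729368188668258362099) (.leaf 2204764790135051365920))) (.node (.node (.leaf 2206998571272865185297) (.leaf 1246272161601346949800)) (.node (.leaf 2121865669328970460745) (.leaf 1228279679246393516669))))))) (.node (.node (.node (.node (.node (.node (.leaf 1827132324025406129189)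 (.leaf 2204566111528253679310)) (.node (.leaf 2503353755474140909768) (.leaf 22274417169413488382))) (.node (.node (.leaf 2079101412726502854903) (.leaf 1835847396041246998679)) (.node (.leaf 304881846927325513798) (.leaf 1996269527312927856359)))) (.node (.node (.node (.leaf 1028627787285361083517) (.leaf 536667518593373939877)) (.node (.leaf 887786475852427196087) (.leaf 1568591904214345929353))) (.node (.node (.leaf 647605779531010739237) (.leaf 56714965377798436513)) (.node (.leaf 1302372900320654502049) (.leaf 1571994411947805483746))))) (.node (.node (.node (.node (.leaf 1227126768897320302296) (.leaf 2142620190387212726393)) (.node (.leaf 1323904793420109045886) (.leaf 372754823742016765477))) (.node (.node (.leaf 2509603923703518597134) (.leaf 742265852900697026068)) (.node (.leaf 38712992724236468463) (.leaf 2245678871496749330183)))) (.node (.node (.node (.leaf 675648610173632673360) (.leaf 2209073358983152020484))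 (.node (.leaf 1875190851446899552451) (.leaf 481853077509995044975))) (.node (.node (.leaf 267856667956054680231) (.leaf 1074024071822585378885)) (.node (.leaf 502391180719918692417) (.leaf 141810226081741195843)))))) (.node (.node (.node (.node (.node (.leaf 749132474176147151998) (.leaf 1900194830469124089583)) (.node (.leaf 1652698912002571348115) (.leaf 130716182195172672272))) (.node (.node (.leaf 2042239205819115645693) (.leaf 2319701714343041478876)) (.node (.leaf 646146612377388435489) (.leaf 4287479301613347364)))) (.node (.node (.node (.leaf 1311682979704598450702) (.leaf 2335932690627863627535)) (.node (.leaf 1660424019253107490369) (.leaf 1487040201979946365661))) (.node (.node (.leaf 823930190706151539958) (.leaf 2344610569598223576578)) (.node (.leaf 104793462191333409490) (.leaf 1120321618531917867762))))) (.node (.node (.node (.node (.leaf 1323032045006021004324) (.leaf 2500438495215904489633)) (.node (.leaf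 1803389116444948841518) (.leaf 1526543833501261679133))) (.node (.node (.leaf 722215291980600914063) (.leaf 1070128220031923028115)) (.node (.leaf 1365968401995544200237) (.leaf 673685033699980436167)))) (.node (.node (.node (.leaf 748128579618840084235) (.leaf 1292338876523594449974)) (.node (.leaf 646380272673032881701) (.leaf 885825969922053090956))) (.node (.node (.leaf 674215515508825260112) (.leaf 408626234702730477635)) (.node (.leaf 1645526124120733236983) (.leaf 427544352394972034801))))))))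

def twoElt5 : Janko.Tree (ℕ) :=
  (.node (.node (.node (.node (.node (.node (.node (.leaf 842374989874162597067) (.leaf 1808181189314357854260)) (.node (.leaf 452458255206869754051) (.leaf 2428936292618437929715))) (.node (.node (.leaf 636653017467112954035) (.leaf 186704936393330922726)) (.node (.leaf 565370042223981573874) (.leaf 841749418485548374577)))) (.node (.node (.node (.leaf 860619913182169608266) (.leaf 538976494187316617938)) (.node (.leaf 1652140459161437608015) (.leaf 1374426597367899859598))) (.node (.node (.leaf 287888672149645364419) (.leaf 1541874085501889451531)) (.node (.leaf 1295884651985355695158) (.leaf 621425588065527974415))))) (.node (.node (.node (.node (.leaf 2134079670278448050813) (.leaf 2135234275547673833524)) (.node (.leaf 1947092422297749874255) (.leaf 2279025209104090312719))) (.node (.node (.leaf 1589609435963412572166) (.leaf 484250682232045613287)) (.node (.leaf 512044960651315011246)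 (.leaf 2224421638265347530289)))) (.node (.node (.node (.leaf 130090601516812527294) (.leaf 1587164216850485664397)) (.node (.leaf 537107921354807627941) (.leaf 2206205410469717835780))) (.node (.node (.leaf 503022212412468217921) (.leaf 857917754410363052680)) (.node (.leaf 535445667372733574823) (.leaf 2160506784904936428790)))))) (.node (.node (.node (.node (.node (.leaf 600676044851566944948) (.leaf 2232456292563780206843)) (.node (.leaf 1828304956676619135675) (.leaf 1609626234618386603575))) (.node (.node (.leaf 1228060445445275893373) (.leaf 1440990645213175266881)) (.node (.leaf 739220881598299811479) (.leaf 747237303192578534014)))) (.node (.node (.node (.leaf 1485203257104180537862) (.leaf 620203665458616079585)) (.node (.leaf 2216336047304907019) (.leaf 1588976977606476414))) (.node (.node (.leaf 885954275991105953989) (.leaf 2409722659182032569982)) (.node (.leaf 1245902449261733070410) (.leaf 1024917348982309868157)))))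 (.node (.node (.node (.node (.leaf 1228749741246050996276) (.leaf 1688838005627532967580)) (.node (.leaf 28741598188530958340) (.leaf 1948551064267543075475))) (.node (.node (.leaf 825642075146441589385) (.leaf 784203368581847613713)) (.node (.leaf 1590515422740367084685) (.leaf 1827942987965467568161)))) (.node (.node (.node (.leaf 1653128196518850908307) (.leaf 1193277459966938106574)) (.node (.leaf 747327899641166522958) (.leaf 267694529545213443794))) (.node (.node (.leaf 101871470448547739346) (.leaf 673486347027771095294)) (.node (.leaf 2429013091100456449734) (.leaf 2011617792715655484612))))))) (.node (.node (.node (.node (.node (.node (.leaf 2161749778180927141513) (.leaf 1661239954459829790348)) (.node (.leaf 1581592698989297643218) (.leaf 267657984181471868963))) (.node (.node (.leaf 278670887813725359183) (.leaf 1448921729432782508291)) (.node (.leaf 2224871988404424544287) (.leaf 1808703594369395201242)))) (.node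 (.node (.node (.leaf 2501503556737784107773) (.leaf 640812124708338511571)) (.node (.leaf 2342953235368737111703) (.leaf 295526775951546756847))) (.node (.node (.leaf 335882165393871867904) (.leaf 784476713907021513261)) (.node (.leaf 741332238796488453122) (.leaf 1753187910373917645367))))) (.node (.node (.node (.node (.leaf 846727464963936382) (.leaf 2343150868337560663572)) (.node (.leaf 599759540278034524768) (.leaf 1828372272506577408033))) (.node (.node (.leaf 58529660530493352108) (.leaf 842068753422741486638)) (.node (.leaf 1263782993279049857123) (.leaf 20320804884864888574)))) (.node (.node (.node (.leaf 1357980283627213213875) (.leaf 372381272643233673991)) (.node (.leaf 603848285915196962870) (.leaf 1661922286641236733637))) (.node (.node (.leaf 1357550999129321482419) (.leaf 1655312693694301611602)) (.node (.leaf 31691038248285804064) (.leaf 508032675296357178046)))))) (.node (.node (.node (.node (.node (.leaf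 1572806745731094576265) (.leaf 1292305071832440039092)) (.node (.leaf 41580941243307797743) (.leaf 1247227446033941033608))) (.node (.node (.leaf 1799070580646636281905) (.leaf 160679050615665470081)) (.node (.leaf 287963871466898591985) (.leaf 619088982846199961778)))) (.node (.node (.node (.leaf 2271544474300280235754) (.leaf 2521443033525415627412)) (.node (.leaf 2319087535202278610664) (.leaf 299168826511096845827))) (.node (.node (.leaf 724254588683501206789) (.leaf 483908948753308297861)) (.node (.leaf 1118265754017207754972) (.leaf 1312141396878078887438))))) (.node (.node (.node (.node (.leaf 361534918784631275690) (.leaf 1581798915754959313063)) (.node (.leaf 389597976232588253456) (.leaf 326645697682679578123))) (.node (.node (.leaf 1992666644730075166341) (.leaf 1294461517312492169312)) (.node (.leaf 1305108028689631962312) (.leaf 1847940652298777139933)))) (.node (.node (.node (.leaf 1810525276641727690365) (.leaf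 1450664366783401883709)) (.node (.leaf 2337842223541623470221) (.leaf 84722293675565313540))) (.node (.node (.leaf 1941304214646283415211) (.leaf 295562288179427242505)) (.node (.leaf 306790854816975346419) (.leaf 1162289042141858605649))))))))

def twoElt6 : Janko.Tree (ℕ) :=
  (.node (.node (.node (.node (.node (.node (.node (.leaf 1172720226488885227052) (.leaf 2076850142878764392063)) (.node (.leaf 143112541942065791735) (.leaf 2168563913548418646282))) (.node (.node (.leaf 2282015604224169349345) (.leaf 298912965768295525891)) (.node (.leaf 427067397926018728027) (.leaf 2029629116778293767741)))) (.node (.node (.node (.leaf 2390444795858382095005) (.leaf 1724987628809201418483)) (.node (.leaf 2077082108226393440514) (.leaf 1496258493513255907886))) (.node (.node (.leaf 1810375872386808740058) (.leaf 2041631460878691867336)) (.node (.leaf 2031379574946665930873) (.leaf 1736606604726794059448))))) (.node (.node (.node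 (.node (.leaf 1661363829013227840065) (.leaf 1802596477629597038283)) (.node (.leaf 1819226225814634010678) (.leaf 2522582871596872311381))) (.node (.node (.leaf 324692085398399413771) (.leaf 1876383460927647856323)) (.node (.leaf 2079894048478358540415) (.leaf 749165357480315480843)))) (.node (.node (.node (.leaf 407180334993324158591) (.leaf 1738681395744071494891)) (.node (.leaf 1027253946063345954010) (.leaf 390123509522116982414))) (.node (.node (.leaf 1359931120539902694099) (.leaf 686568466248431122013)) (.node (.leaf 322998217734711474205) (.leaf 2088503248300622062250)))))) (.node (.node (.node (.node (.node (.leaf 2012518502042117212271) (.leaf 1192409104035633756164)) (.node (.leaf 295638004953553928713) (.leaf 1176003591685162799329))) (.node (.node (.leaf 1084097121712123005025) (.leaf 1664026910232991027397)) (.node (.leaf 346224896944552141043) (.leaf 2084632366767080319587)))) (.node (.node (.node (.leaf 1544068182976778845707)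 (.leaf 748470863944853812814)) (.node (.leaf 1267082699958842046186) (.leaf 751852633256412339748))) (.node (.node (.leaf 1496402613586584758987) (.leaf 1799674491172059959854)) (.node (.leaf 484299987438669187780) (.leaf 501328329023539911365))))) (.node (.node (.node (.node (.leaf 55580586033718586017) (.leaf 1072133102502178810450)) (.node (.leaf 784400997142692721197) (.leaf 326280497098697747627))) (.node (.node (.leaf 2337387116439520946909) (.leaf 1118825881126218051816)) (.node (.leaf 429106669547517920451) (.leaf 188863535554132029008)))) (.node (.node (.node (.leaf 2077853671487835498051) (.leaf 1439590271538631334540)) (.node (.leaf 1689954370565438730908) (.leaf 502461546303000502967))) (.node (.node (.leaf 1524093883653902570667) (.leaf 1827260649333153955515)) (.node (.leaf 2040442515725181285025) (.leaf 2319751005107569085170))))))) (.node (.node (.node (.node (.node (.node (.leaf 508320921571265969806) (.leaf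 1609698302553233325070)) (.node (.leaf 730523831230373621364) (.leaf 415961099143416710292))) (.node (.node (.leaf 786580734728361539850) (.leaf 739689269378343634946)) (.node (.leaf 2160864011841626728182) (.leaf 2226101899777342764590)))) (.node (.node (.node (.leaf 2033975345084631368963) (.leaf 83500448730677608992)) (.node (.leaf 2233627238004783686403) (.leaf 1256801147023290850006))) (.node (.node (.leaf 2456011079101718788181) (.leaf 2170689611002347120685)) (.node (.leaf 1544184858409074550813) (.leaf 452089389608645747362))))) (.node (.node (.node (.node (.leaf 408572719251683884099) (.leaf 2134364830806726455000)) (.node (.leaf 2014537812403112238311) (.leaf 2501876586068565063329))) (.node (.node (.leaf 2143588203447963660027) (.leaf 1323050059451779004542)) (.node (.leaf 363477407208952938073) (.leaf 453534199558818520817)))) (.node (.node (.node (.leaf 415430609245403721451) (.leaf 674228596514624971006)) (.node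 (.leaf 2012286535066561413765) (.leaf 1194211081266559017489))) (.node (.node (.leaf 2410146428680385970443) (.leaf 2343658934656521543753)) (.node (.leaf 2014154751279368514671) (.leaf 1974414157598530082933)))))) (.node (.node (.node (.node (.node (.leaf 730616135987439668254) (.leaf 133958777554654231726)) (.node (.leaf 1443443650673789376709) (.leaf 2410042001493147596555))) (.node (.node (.leaf 2029322872487380543097) (.leaf 1735345062622829592212)) (.node (.leaf 415466122989944533589) (.leaf 1495563994059060812491)))) (.node (.node (.node (.leaf 963389912629962318) (.leaf 409849526993342014079)) (.node (.leaf 683276756430528300679) (.leaf 1642883281909063227459))) (.node (.node (.leaf 1996014264672110030567) (.leaf 2123087516699172645015)) (.node (.leaf 502674672064992142476) (.leaf 2315685028082865281181))))) (.node (.node (.node (.node (.leaf 342169441763988669638) (.leaf 731259362294927589043)) (.node (.leaf 1569325219921078300386)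 (.leaf 1524008726282664726586))) (.node (.node (.leaf 391222394427866353854) (.leaf 1691751058816026815030)) (.node (.leaf 306515873349779902662) (.leaf 2456753323492214058680)))) (.node (.node (.node (.leaf 732466325236482096756) (.leaf 886818441473546057281)) (.node (.leaf 2407813135694305544228) (.leaf 1358255253682948987603))) (.node (.node (.leaf 1071788610803228536399) (.leaf 729803257078117046451)) (.node (.leaf 2503646738147913901740) (.leaf 286671750262146582211))))))))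

def twoElt7 : Janko.Tree (ℕ) :=
  (.node (.node (.node (.node (.node (.node (.node (.leaf 2513719784860115132565) (.leaf 129973932698233606416)) (.node (.leaf 511915200662493507758) (.leaf 1394881526368309399782))) (.node (.node (.leaf 2465688477515862787215) (.leaf 1817514857065504432224)) (.node (.leaf 620560892406043797217) (.leaf 106069351495842686117)))) (.node (.node (.node (.leaf 286771249261232042146) (.leaf 1175389418495613968940)) (.node (.leaf 456574973735314788593) (.leaf 2226273979598011919051))) (.node (.node (.leaf 1255341985140991688327) (.leaf 1700436826334185926410)) (.node (.leaf 859151331283663854197) (.leaf 2518197315538553700437))))) (.node (.node (.node (.node (.leaf 185538915234579023047) (.leaf 2234907948544730447933)) (.node (.leaf 1249986786894771143848) (.leaf 1589032976036205461725))) (.node (.node (.leaf 277083404335607800402) (.leaf 565477600860356067570)) (.node (.leaf 1839332762256450644041)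 (.leaf 1725152826853567062598)))) (.node (.node (.node (.leaf 299750209565967590017) (.leaf 1366410191989538668220)) (.node (.leaf 105284777646066023971) (.leaf 861881463343224333992))) (.node (.node (.leaf 648249011356726329095) (.leaf 1257120489116839001185)) (.node (.leaf 1397416627791116421831) (.leaf 409161913104551128823)))))) (.node (.node (.node (.node (.node (.leaf 844289440562054023199) (.leaf 1439806976107623841463)) (.node (.leaf 1820270533177574955574) (.leaf 677187884252720654535))) (.node (.node (.leaf 2425987199900801341638) (.leaf 268639335496945050322)) (.node (.leaf 1304590894481112632492) (.leaf 342008997170248795718)))) (.node (.node (.node (.leaf 1651494168995542714450) (.leaf 2269436791842528395875)) (.node (.leaf 1840063302398684193812) (.leaf 822003177844399020278))) (.node (.node (.leaf 1311758165486665063573) (.leaf 1609190766748901451306)) (.node (.leaf 1366630023977868042940) (.leaf 1662626528724426802871)))))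 (.node (.node (.node (.node (.leaf 2143665027306769210429) (.leaf 1376321768386901957774)) (.node (.leaf 362563419484719493219) (.leaf 1976224176543979330184))) (.node (.node (.leaf 1523568323496266541114) (.leaf 323727373707612913722)) (.node (.leaf 1360433302448531120756) (.leaf 427017013892164435035)))) (.node (.node (.node (.leaf 387894649300558399662) (.leaf 760645608760659027635)) (.node (.leaf 1155665865172444329668) (.leaf 29544178573134637262))) (.node (.node (.leaf 1830840229073081628197) (.leaf 2273584868953185194154)) (.node (.leaf 58786614729503959752) (.leaf 1119361568687056585373))))))) (.node (.node (.node (.node (.node (.node (.leaf 1257170873109488451681) (.leaf 1154273481575375421061)) (.node (.leaf 499128896576655787148) (.leaf 31146948030850414097))) (.node (.node (.leaf 2039326150778954022561) (.leaf 1845741216314047923341)) (.node (.leaf 1442941477453074599052) (.leaf 2509874125494745700407)))) (.node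 (.node (.node (.leaf 684568855147771072609) (.leaf 1699252805078226091793)) (.node (.leaf 2123988221754553171970) (.leaf 1605479274144224858638))) (.node (.node (.leaf 1485923837018686717661) (.leaf 1368940780054552521482)) (.node (.leaf 1995581916245930640005) (.leaf 1486337636450005218822))))) (.node (.node (.node (.node (.leaf 1377074715911463448766) (.leaf 1023975330094426383924)) (.node (.leaf 1579790743522313791141) (.leaf 1937124865559893245469))) (.node (.node (.leaf 1495149658017343045166) (.leaf 1083894031531657790087)) (.node (.leaf 757383308967474757843) (.leaf 2464712557108934765137)))) (.node (.node (.node (.leaf 1846389721401214168847) (.leaf 1266935523751573597930)) (.node (.leaf 332554429233784539397) (.leaf 1312460729144473368106))) (.node (.node (.leaf 1549761262023881037921) (.leaf 2236349622418365852281)) (.node (.leaf 1449660847535346287363) (.leaf 390650868565068749584)))))) (.node (.node (.node (.node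 (.node (.leaf 2384463480504730287148) (.leaf 1522252747456991559709)) (.node (.leaf 1569796641944276140071) (.leaf 1322981130333390453838))) (.node (.node (.leaf 1836522523118736311316) (.leaf 1544905436448327735467)) (.node (.leaf 915965738616782925863) (.leaf 1171518530422850300431)))) (.node (.node (.node (.leaf 1295367522048718212252) (.leaf 2241496462374718439611)) (.node (.leaf 1812465555105927973428) (.leaf 1902252131080187748591))) (.node (.node (.leaf 858286640836359872680) (.leaf 2465909565595989056000)) (.node (.leaf 1552795738186633246305) (.leaf 686816995792795052641))))) (.node (.node (.node (.node (.leaf 1194417291148461941280) (.leaf 501936067720557636279)) (.node (.leaf 1167107466033121845391) (.leaf 1294718473469605210804))) (.node (.node (.leaf 410661863020214648066) (.leaf 1356052742570012606580)) (.node (.leaf 345084715747330014760) (.leaf 2384314624568797179105)))) (.node (.node (.node (.leaf 2457813040559913525908)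 (.leaf 732092776784338383571)) (.node (.leaf 1590532912481509451535) (.leaf 1580659083988111993891))) (.node (.node (.leaf 1903477109289662859905) (.leaf 187061565203475883750)) (.node (.leaf 1304824543324629383421) (.leaf 2463757277695144237199))))))))

def twoElt : Janko.Tree (ℕ) := (.node (.node (.node twoElt0 twoElt4) (.node twoElt2 twoElt6)) (.node (.node twoElt1 twoElt5) (.node twoElt3 twoElt7)))

def twoNext0 : Janko.Tree (ℕ) :=
  (.node (.node (.node (.node (.node (.node (.node (.node (.node (.leaf 1) (.leaf 630)) (.node (.leaf 488) (.leaf 535))) (.node (.node (.leaf 270) (.leaf 859)) (.node (.leaf 633) (.leaf 965)))) (.node (.node (.node (.leaf 40) (.leaf 808)) (.node (.leaf 204) (.leaf 745))) (.node (.node (.leaf 87) (.leaf 817)) (.node (.leaf 695) (.leaf 897))))) (.node (.node (.node (.node (.leaf 10) (.leaf 788)) (.node (.leaf 131) (.leaf 935))) (.node (.node (.leaf 104) (.leaf 785)) (.node (.leaf 211) (.leaf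 980)))) (.node (.node (.node (.leaf 220) (.leaf 836)) (.node (.leaf 581) (.leaf 988))) (.node (.node (.leaf 443) (.leaf 837)) (.node (.leaf 592) (.leaf 865)))))) (.node (.node (.node (.node (.node (.leaf 25) (.leaf 392)) (.node (.leaf 373) (.leaf 653))) (.node (.node (.leaf 95) (.leaf 405)) (.node (.leaf 201) (.leaf 975)))) (.node (.node (.node (.leaf 197) (.leaf 480)) (.node (.leaf 156) (.leaf 611))) (.node (.node (.leaf 309) (.leaf 833)) (.node (.leaf 719) (.leaf 922))))) (.node (.node (.node (.node (.leaf 126) (.leaf 769)) (.node (.leaf 207) (.leaf 972))) (.node (.node (.leaf 120) (.leaf 798)) (.node (.leaf 533) (.leaf 882)))) (.node (.node (.node (.leaf 259) (.leaf 495)) (.node (.leaf 628) (.leaf 961))) (.node (.node (.leaf 341) (.leaf 861)) (.node (.leaf 621) (.leaf 1021))))))) (.node (.node (.node (.node (.node (.node (.leaf 2) (.leaf 508)) (.node (.leaf 374) (.leaf 676))) (.node (.node (.leaf 298) (.leaf 393)) (.node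 (.leaf 528) (.leaf 966)))) (.node (.node (.node (.leaf 182) (.leaf 819)) (.node (.leaf 571) (.leaf 729))) (.node (.node (.leaf 294) (.leaf 846)) (.node (.leaf 618) (.leaf 908))))) (.node (.node (.node (.node (.leaf 64) (.leaf 775)) (.node (.leaf 214) (.leaf 576))) (.node (.node (.leaf 360) (.leaf 473)) (.node (.leaf 615) (.leaf 814)))) (.node (.node (.node (.leaf 160) (.leaf 461)) (.node (.leaf 168) (.leaf 689))) (.node (.node (.leaf 417) (.leaf 851)) (.node (.leaf 256) (.leaf 1019)))))) (.node (.node (.node (.node (.node (.leaf 69) (.leaf 437)) (.node (.leaf 503) (.leaf 670))) (.node (.node (.leaf 321) (.leaf 423)) (.node (.leaf 245) (.leaf 746)))) (.node (.node (.node (.leaf 151) (.leaf 793)) (.node (.leaf 597) (.leaf 721))) (.node (.node (.leaf 90) (.leaf 825)) (.node (.leaf 601) (.leaf 924))))) (.node (.node (.node (.node (.leaf 19) (.leaf 766)) (.node (.leaf 545) (.leaf 978))) (.node (.node (.leaf 371) (.leaf 875)) (.node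 (.leaf 225) (.leaf 1009)))) (.node (.node (.node (.leaf 176) (.leaf 381)) (.node (.leaf 218) (.leaf 685))) (.node (.node (.leaf 107) (.leaf 667)) (.node (.leaf 283) (.leaf 1005)))))))) (.node (.node (.node (.node (.node (.node (.node (.leaf 14) (.leaf 642)) (.node (.leaf 361) (.leaf 701))) (.node (.node (.leaf 51) (.leaf 493)) (.node (.leaf 517) (.leaf 996)))) (.node (.node (.node (.leaf 44) (.leaf 335)) (.node (.leaf 266) (.leaf 608))) (.node (.node (.leaf 91) (.leaf 455)) (.node (.leaf 251) (.leaf 930))))) (.node (.node (.node (.node (.leaf 60) (.leaf 474)) (.node (.leaf 140) (.leaf 707))) (.node (.node (.leaf 345) (.leaf 776)) (.node (.leaf 210) (.leaf 868)))) (.node (.node (.node (.leaf 235) (.leaf 849)) (.node (.leaf 620) (.leaf 932))) (.node (.node (.leaf 435) (.leaf 855)) (.node (.leaf 613) (.leaf 900)))))) (.node (.node (.node (.node (.node (.leaf 6) (.leaf 434)) (.node (.leaf 125) (.leaf 544))) (.node (.node (.leaf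 57) (.leaf 874)) (.node (.leaf 561) (.leaf 981)))) (.node (.node (.node (.leaf 191) (.leaf 467)) (.node (.leaf 239) (.leaf 756))) (.node (.node (.leaf 411) (.leaf 835)) (.node (.leaf 243) (.leaf 928))))) (.node (.node (.node (.node (.leaf 135) (.leaf 329)) (.node (.leaf 203) (.leaf 595))) (.node (.node (.leaf 382) (.leaf 425)) (.node (.leaf 229) (.leaf 906)))) (.node (.node (.node (.leaf 172) (.leaf 368)) (.node (.leaf 636) (.leaf 956))) (.node (.node (.leaf 108) (.leaf 852)) (.node (.leaf 285) (.leaf 998))))))) (.node (.node (.node (.node (.node (.node (.leaf 38) (.leaf 757)) (.node (.leaf 117) (.leaf 547))) (.node (.node (.leaf 292) (.leaf 765)) (.node (.leaf 647) (.leaf 968)))) (.node (.node (.node (.leaf 27) (.leaf 354)) (.node (.leaf 231) (.leaf 986))) (.node (.node (.leaf 320) (.leaf 827)) (.node (.leaf 254) (.leaf 816))))) (.node (.node (.node (.node (.leaf 68) (.leaf 805)) (.node (.leaf 150) (.leaf 661))) (.node (.node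 (.leaf 116) (.leaf 843)) (.node (.leaf 555) (.leaf 886)))) (.node (.node (.node (.leaf 244) (.leaf 356)) (.node (.leaf 263) (.leaf 970))) (.node (.node (.leaf 110) (.leaf 511)) (.node (.leaf 625) (.leaf 1015)))))) (.node (.node (.node (.node (.node (.leaf 79) (.leaf 313)) (.node (.leaf 505) (.leaf 951))) (.node (.node (.leaf 336) (.leaf 761)) (.node (.leaf 213) (.leaf 984)))) (.node (.node (.node (.leaf 33) (.leaf 475)) (.node (.leaf 247) (.leaf 639))) (.node (.node (.leaf 96) (.leaf 795)) (.node (.leaf 605) (.leaf 864))))) (.node (.node (.node (.node (.leaf 36) (.leaf 325)) (.node (.leaf 526) (.leaf 717))) (.node (.node (.leaf 339) (.leaf 445)) (.node (.leaf 699) (.leaf 884)))) (.node (.node (.node (.leaf 281) (.leaf 372)) (.node (.leaf 638) (.leaf 946))) (.node (.node (.leaf 353) (.leaf 673)) (.node (.leaf 520) (.leaf 1001))))))))) (.node (.node (.node (.node (.node (.node (.node (.node (.leaf 8) (.leaf 755)) (.node (.leaf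 490) (.leaf 531))) (.node (.node (.leaf 102) (.leaf 516)) (.node (.leaf 629) (.leaf 943)))) (.node (.node (.node (.leaf 157) (.leaf 331)) (.node (.leaf 194) (.leaf 723))) (.node (.node (.leaf 322) (.leaf 815)) (.node (.leaf 606) (.leaf 797))))) (.node (.node (.node (.node (.leaf 81) (.leaf 333)) (.node (.leaf 189) (.leaf 691))) (.node (.node (.leaf 343) (.leaf 783)) (.node (.leaf 669) (.leaf 964)))) (.node (.node (.node (.leaf 154) (.leaf 850)) (.node (.leaf 588) (.leaf 643))) (.node (.node (.leaf 327) (.leaf 483)) (.node (.leaf 737) (.leaf 889)))))) (.node (.node (.node (.node (.node (.leaf 53) (.leaf 323)) (.node (.leaf 123) (.leaf 651))) (.node (.node (.leaf 317) (.leaf 431)) (.node (.leaf 659) (.leaf 974)))) (.node (.node (.node (.leaf 133) (.leaf 465)) (.node (.leaf 167) (.leaf 610))) (.node (.node (.leaf 420) (.leaf 831)) (.node (.leaf 709) (.leaf 824))))) (.node (.node (.node (.node (.leaf 26) (.leaf 433)) (.node (.leaf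 145) (.leaf 693))) (.node (.node (.leaf 378) (.leaf 845)) (.node (.leaf 532) (.leaf 892)))) (.node (.node (.node (.leaf 43) (.leaf 497)) (.node (.leaf 183) (.leaf 944))) (.node (.node (.leaf 106) (.leaf 929)) (.node (.leaf 265) (.leaf 934))))))) (.node (.node (.node (.node (.node (.node (.leaf 32) (.leaf 759)) (.node (.leaf 324) (.leaf 649))) (.node (.node (.leaf 77) (.leaf 779)) (.node (.leaf 539) (.leaf 948)))) (.node (.node (.node (.leaf 158) (.leaf 347)) (.node (.leaf 565) (.leaf 683))) (.node (.node (.leaf 307) (.leaf 839)) (.node (.leaf 587) (.leaf 876))))) (.node (.node (.node (.node (.leaf 101) (.leaf 803)) (.node (.leaf 136) (.leaf 573))) (.node (.node (.leaf 67) (.leaf 471)) (.node (.leaf 557) (.leaf 807)))) (.node (.node (.node (.leaf 242) (.leaf 456)) (.node (.leaf 175) (.leaf 660))) (.node (.node (.leaf 451) (.leaf 920)) (.node (.leaf 258) (.leaf 1014)))))) (.node (.node (.node (.node (.node (.leaf 50) (.leaf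 777)) (.node (.leaf 502) (.leaf 731))) (.node (.node (.leaf 98) (.leaf 409)) (.node (.leaf 523) (.leaf 976)))) (.node (.node (.node (.leaf 216) (.leaf 791)) (.node (.leaf 537) (.leaf 982))) (.node (.node (.leaf 376) (.leaf 841)) (.node (.leaf 548) (.leaf 844))))) (.node (.node (.node (.node (.leaf 137) (.leaf 441)) (.node (.leaf 541) (.leaf 727))) (.node (.node (.leaf 287) (.leaf 446)) (.node (.leaf 227) (.leaf 890)))) (.node (.node (.node (.leaf 277) (.leaf 385)) (.node (.leaf 178) (.leaf 954))) (.node (.node (.leaf 470) (.leaf 675)) (.node (.leaf 278) (.leaf 1007)))))))) (.node (.node (.node (.node (.node (.node (.node (.leaf 20) (.leaf 389)) (.node (.leaf 363) (.leaf 671))) (.node (.node (.leaf 55) (.leaf 395)) (.node (.leaf 519) (.leaf 959)))) (.node (.node (.node (.leaf 46) (.leaf 453)) (.node (.leaf 569) (.leaf 715))) (.node (.node (.leaf 93) (.leaf 821)) (.node (.leaf 233) (.leaf 904))))) (.node (.node (.node (.node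 (.leaf 12) (.leaf 789)) (.node (.leaf 200) (.leaf 577))) (.node (.node (.leaf 337) (.leaf 421)) (.node (.leaf 679) (.leaf 1010)))) (.node (.node (.node (.leaf 130) (.leaf 485)) (.node (.leaf 623) (.leaf 942))) (.node (.node (.leaf 449) (.leaf 854)) (.node (.leaf 553) (.leaf 1012)))))) (.node (.node (.node (.node (.node (.leaf 13) (.leaf 767)) (.node (.leaf 506) (.leaf 551))) (.node (.node (.leaf 300) (.leaf 813)) (.node (.leaf 657) (.leaf 979)))) (.node (.node (.node (.leaf 161) (.leaf 350)) (.node (.leaf 241) (.leaf 742))) (.node (.node (.leaf 296) (.leaf 847)) (.node (.leaf 250) (.leaf 858))))) (.node (.node (.node (.node (.leaf 141) (.leaf 407)) (.node (.leaf 543) (.leaf 711))) (.node (.node (.leaf 72) (.leaf 427)) (.node (.leaf 542) (.leaf 878)))) (.node (.node (.node (.leaf 49) (.leaf 512)) (.node (.leaf 264) (.leaf 940))) (.node (.node (.leaf 457) (.leaf 525)) (.node (.leaf 282) (.leaf 1002))))))) (.node (.node (.node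 (.node (.node (.node (.leaf 4) (.leaf 316)) (.node (.leaf 128) (.leaf 663))) (.node (.node (.leaf 105) (.leaf 763)) (.node (.leaf 217) (.leaf 989)))) (.node (.node (.node (.leaf 31) (.leaf 487)) (.node (.leaf 583) (.leaf 712))) (.node (.node (.leaf 303) (.leaf 462)) (.node (.leaf 718) (.leaf 914))))) (.node (.node (.node (.node (.leaf 70) (.leaf 430)) (.node (.leaf 529) (.leaf 936))) (.node (.node (.leaf 73) (.leaf 899)) (.node (.leaf 558) (.leaf 870)))) (.node (.node (.node (.leaf 236) (.leaf 515)) (.node (.leaf 627) (.leaf 950))) (.node (.node (.leaf 289) (.leaf 863)) (.node (.leaf 257) (.leaf 1023)))))) (.node (.node (.node (.node (.node (.leaf 85) (.leaf 438)) (.node (.leaf 129) (.leaf 688))) (.node (.node (.leaf 74) (.leaf 792)) (.node (.leaf 209) (.leaf 973)))) (.node (.node (.node (.leaf 199) (.leaf 450)) (.node (.leaf 598) (.leaf 990))) (.node (.node (.leaf 401) (.leaf 801)) (.node (.leaf 607) (.leaf 862))))) (.node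 (.node (.node (.node (.leaf 21) (.leaf 811)) (.node (.leaf 527) (.leaf 593))) (.node (.node (.leaf 83) (.leaf 773)) (.node (.leaf 698) (.leaf 895)))) (.node (.node (.node (.leaf 48) (.leaf 380)) (.node (.leaf 180) (.leaf 957))) (.node (.node (.leaf 460) (.leaf 568)) (.node (.leaf 749) (.leaf 1003))))))))))

def twoNext1 : Janko.Tree (ℕ) :=
  (.node (.node (.node (.node (.node (.node (.node (.node (.node (.leaf 2) (.leaf 754)) (.node (.leaf 428) (.leaf 679))) (.node (.node (.leaf 250) (.leaf 377)) (.node (.leaf 278) (.leaf 683)))) (.node (.node (.node (.leaf 163) (.leaf 328)) (.node (.leaf 147) (.leaf 948))) (.node (.node (.leaf 393) (.leaf 513)) (.node (.leaf 228) (.leaf 795))))) (.node (.node (.node (.node (.leaf 90) (.leaf 308)) (.node (.leaf 259) (.leaf 965))) (.node (.node (.leaf 344) (.leaf 464)) (.node (.leaf 680) (.leaf 1005)))) (.node (.node (.node (.leaf 230) (.leaf 847)) (.node (.leaf 164) (.leaf 638))) (.node (.node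 (.leaf 93) (.leaf 479)) (.node (.leaf 284) (.leaf 919)))))) (.node (.node (.node (.node (.node (.leaf 48) (.leaf 297)) (.node (.leaf 438) (.leaf 541))) (.node (.node (.leaf 55) (.leaf 803)) (.node (.leaf 578) (.leaf 986)))) (.node (.node (.node (.leaf 28) (.leaf 338)) (.node (.leaf 517) (.leaf 687))) (.node (.node (.leaf 86) (.leaf 495)) (.node (.leaf 672) (.leaf 821))))) (.node (.node (.node (.node (.leaf 16) (.leaf 318)) (.node (.leaf 538) (.leaf 574))) (.node (.node (.leaf 374) (.leaf 849)) (.node (.leaf 697) (.leaf 839)))) (.node (.node (.node (.leaf 42) (.leaf 831)) (.node (.leaf 632) (.leaf 667))) (.node (.node (.leaf 291) (.leaf 906)) (.node (.leaf 260) (.leaf 910))))))) (.node (.node (.node (.node (.node (.node (.leaf 26) (.leaf 507)) (.node (.leaf 115) (.leaf 666))) (.node (.node (.leaf 52) (.leaf 474)) (.node (.leaf 191) (.leaf 750)))) (.node (.node (.node (.leaf 25) (.leaf 824)) (.node (.leaf 576) (.leaf 985)))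 (.node (.node (.leaf 81) (.leaf 914)) (.node (.leaf 270) (.leaf 807))))) (.node (.node (.node (.node (.leaf 107) (.leaf 312)) (.node (.leaf 135) (.leaf 561))) (.node (.node (.leaf 66) (.leaf 416)) (.node (.leaf 691) (.leaf 1012)))) (.node (.node (.node (.leaf 243) (.leaf 354)) (.node (.leaf 187) (.leaf 996))) (.node (.node (.leaf 452) (.leaf 484)) (.node (.leaf 652) (.leaf 886)))))) (.node (.node (.node (.node (.node (.leaf 7) (.leaf 302)) (.node (.leaf 123) (.leaf 587))) (.node (.node (.leaf 331) (.leaf 408)) (.node (.leaf 664) (.leaf 755)))) (.node (.node (.node (.leaf 31) (.leaf 345)) (.node (.leaf 160) (.leaf 966))) (.node (.node (.leaf 295) (.leaf 881)) (.node (.leaf 670) (.leaf 1016))))) (.node (.node (.node (.node (.leaf 146) (.leaf 323)) (.node (.leaf 552) (.leaf 584))) (.node (.node (.leaf 351) (.leaf 905)) (.node (.leaf 701) (.leaf 789)))) (.node (.node (.node (.leaf 273) (.leaf 368)) (.node (.leaf 177) (.leaf 995)))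 (.node (.node (.leaf 478) (.leaf 934)) (.node (.leaf 629) (.leaf 984)))))))) (.node (.node (.node (.node (.node (.node (.node (.leaf 15) (.leaf 707)) (.node (.leaf 496) (.leaf 532))) (.node (.node (.leaf 85) (.leaf 817)) (.node (.leaf 235) (.leaf 731)))) (.node (.node (.node (.leaf 173) (.leaf 820)) (.node (.leaf 570) (.leaf 739))) (.node (.node (.leaf 399) (.leaf 911)) (.node (.leaf 232) (.leaf 1021))))) (.node (.node (.node (.node (.leaf 83) (.leaf 420)) (.node (.leaf 521) (.leaf 622))) (.node (.node (.leaf 352) (.leaf 788)) (.node (.leaf 548) (.leaf 830)))) (.node (.node (.node (.leaf 37) (.leaf 854)) (.node (.leaf 166) (.leaf 718))) (.node (.node (.leaf 448) (.leaf 894)) (.node (.leaf 744) (.leaf 872)))))) (.node (.node (.node (.node (.node (.leaf 59) (.leaf 772)) (.node (.leaf 511) (.leaf 676))) (.node (.node (.leaf 322) (.leaf 876)) (.node (.leaf 662) (.leaf 723)))) (.node (.node (.node (.leaf 204) (.leaf 454)) (.node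 (.leaf 542) (.leaf 989))) (.node (.node (.leaf 425) (.leaf 884)) (.node (.leaf 582) (.leaf 1018))))) (.node (.node (.node (.node (.leaf 136) (.leaf 810)) (.node (.leaf 544) (.leaf 580))) (.node (.node (.leaf 71) (.leaf 767)) (.node (.leaf 668) (.leaf 832)))) (.node (.node (.node (.leaf 266) (.leaf 860)) (.node (.leaf 174) (.leaf 724))) (.node (.node (.leaf 471) (.leaf 930)) (.node (.leaf 633) (.leaf 936))))))) (.node (.node (.node (.node (.node (.node (.leaf 3) (.leaf 444)) (.node (.leaf 342) (.leaf 539))) (.node (.node (.leaf 305) (.leaf 488)) (.node (.leaf 653) (.leaf 703)))) (.node (.node (.node (.leaf 141) (.leaf 491)) (.node (.leaf 579) (.leaf 604))) (.node (.node (.leaf 84) (.leaf 918)) (.node (.leaf 599) (.leaf 874))))) (.node (.node (.node (.node (.leaf 117) (.leaf 314)) (.node (.leaf 263) (.leaf 569))) (.node (.node (.leaf 367) (.leaf 897)) (.node (.leaf 256) (.leaf 1014)))) (.node (.node (.node (.leaf 251) (.leaf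 459)) (.node (.leaf 199) (.leaf 660))) (.node (.node (.leaf 461) (.leaf 498)) (.node (.leaf 518) (.leaf 892)))))) (.node (.node (.node (.node (.node (.leaf 80) (.leaf 782)) (.node (.leaf 480) (.leaf 961))) (.node (.node (.leaf 61) (.leaf 436)) (.node (.leaf 673) (.leaf 1007)))) (.node (.node (.node (.leaf 221) (.leaf 844)) (.node (.leaf 606) (.leaf 628))) (.node (.node (.leaf 437) (.leaf 485)) (.node (.leaf 734) (.leaf 857))))) (.node (.node (.node (.node (.leaf 139) (.leaf 429)) (.node (.leaf 169) (.leaf 950))) (.node (.node (.leaf 75) (.leaf 907)) (.node (.leaf 524) (.leaf 822)))) (.node (.node (.node (.leaf 47) (.leaf 391)) (.node (.leaf 643) (.leaf 1004))) (.node (.node (.leaf 486) (.leaf 525)) (.node (.leaf 286) (.leaf 991))))))))) (.node (.node (.node (.node (.node (.node (.node (.node (.leaf 0) (.leaf 279)) (.node (.leaf 426) (.leaf 559))) (.node (.node (.leaf 97) (.leaf 815)) (.node (.leaf 183) (.leaf 685)))) (.node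 (.node (.node (.leaf 168) (.leaf 400)) (.node (.leaf 148) (.leaf 979))) (.node (.node (.leaf 317) (.leaf 515)) (.node (.leaf 231) (.leaf 879))))) (.node (.node (.node (.node (.leaf 95) (.leaf 793)) (.node (.leaf 165) (.leaf 553))) (.node (.node (.leaf 347) (.leaf 462)) (.node (.leaf 209) (.leaf 756)))) (.node (.node (.node (.leaf 206) (.leaf 350)) (.node (.leaf 616) (.leaf 983))) (.node (.node (.leaf 94) (.leaf 799)) (.node (.leaf 742) (.leaf 870)))))) (.node (.node (.node (.node (.node (.leaf 54) (.leaf 769)) (.node (.leaf 510) (.leaf 543))) (.node (.node (.leaf 56) (.leaf 401)) (.node (.leaf 198) (.leaf 712)))) (.node (.node (.node (.leaf 29) (.leaf 833)) (.node (.leaf 592) (.leaf 725))) (.node (.node (.leaf 87) (.leaf 465)) (.node (.leaf 242) (.leaf 846))))) (.node (.node (.node (.node (.leaf 17) (.leaf 319)) (.node (.leaf 197) (.leaf 645))) (.node (.node (.leaf 70) (.leaf 895)) (.node (.leaf 698) (.leaf 1017)))) (.node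 (.node (.node (.leaf 261) (.leaf 397)) (.node (.leaf 635) (.leaf 727))) (.node (.node (.leaf 466) (.leaf 512)) (.node (.leaf 748) (.leaf 951))))))) (.node (.node (.node (.node (.node (.node (.leaf 33) (.leaf 293)) (.node (.leaf 116) (.leaf 943))) (.node (.node (.leaf 53) (.leaf 406)) (.node (.leaf 651) (.leaf 752)))) (.node (.node (.node (.leaf 153) (.leaf 335)) (.node (.leaf 551) (.leaf 963))) (.node (.node (.leaf 103) (.leaf 891)) (.node (.leaf 681) (.leaf 811))))) (.node (.node (.node (.node (.leaf 112) (.leaf 313)) (.node (.leaf 205) (.leaf 564))) (.node (.node (.leaf 362) (.leaf 417)) (.node (.leaf 258) (.leaf 1013)))) (.node (.node (.node (.leaf 246) (.leaf 355)) (.node (.leaf 170) (.leaf 972))) (.node (.node (.leaf 457) (.leaf 925)) (.node (.leaf 654) (.leaf 883)))))) (.node (.node (.node (.node (.node (.leaf 8) (.leaf 304)) (.node (.leaf 125) (.leaf 959))) (.node (.node (.leaf 307) (.leaf 776)) (.node (.leaf 669)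 (.leaf 729)))) (.node (.node (.node (.leaf 32) (.leaf 346)) (.node (.leaf 602) (.leaf 990))) (.node (.node (.leaf 433) (.leaf 878)) (.node (.leaf 648) (.leaf 912))))) (.node (.node (.node (.node (.leaf 151) (.leaf 324)) (.node (.leaf 556) (.leaf 953))) (.node (.node (.leaf 126) (.leaf 434)) (.node (.leaf 702) (.leaf 825)))) (.node (.node (.node (.leaf 46) (.leaf 494)) (.node (.leaf 262) (.leaf 715))) (.node (.node (.leaf 128) (.leaf 523)) (.node (.leaf 269) (.leaf 980)))))))) (.node (.node (.node (.node (.node (.node (.node (.leaf 21) (.leaf 492)) (.node (.leaf 378) (.leaf 534))) (.node (.node (.leaf 294) (.leaf 806)) (.node (.leaf 281) (.leaf 689)))) (.node (.node (.node (.leaf 178) (.leaf 468)) (.node (.leaf 575) (.leaf 945))) (.node (.node (.leaf 402) (.leaf 913)) (.node (.leaf 596) (.leaf 856))))) (.node (.node (.node (.node (.leaf 102) (.leaf 797)) (.node (.leaf 134) (.leaf 646))) (.node (.node (.leaf 356) (.leaf 889))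 (.node (.leaf 229) (.leaf 760)))) (.node (.node (.node (.leaf 38) (.leaf 843)) (.node (.leaf 167) (.leaf 994))) (.node (.node (.leaf 96) (.leaf 482)) (.node (.leaf 252) (.leaf 875)))))) (.node (.node (.node (.node (.node (.leaf 65) (.leaf 774)) (.node (.leaf 384) (.leaf 657))) (.node (.node (.leaf 327) (.leaf 404)) (.node (.leaf 650) (.leaf 716)))) (.node (.node (.node (.leaf 208) (.leaf 837)) (.node (.leaf 268) (.leaf 612))) (.node (.node (.leaf 89) (.leaf 469)) (.node (.leaf 589) (.leaf 929))))) (.node (.node (.node (.node (.leaf 18) (.leaf 321)) (.node (.leaf 547) (.leaf 956))) (.node (.node (.leaf 287) (.leaf 758)) (.node (.leaf 272) (.leaf 828)))) (.node (.node (.node (.leaf 271) (.leaf 862)) (.node (.leaf 176) (.leaf 1000))) (.node (.node (.leaf 106) (.leaf 694)) (.node (.leaf 265) (.leaf 940))))))) (.node (.node (.node (.node (.node (.node (.leaf 43) (.leaf 497)) (.node (.leaf 456) (.leaf 540))) (.node (.node (.leaf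 309) (.leaf 490)) (.node (.leaf 655) (.leaf 1008)))) (.node (.node (.node (.leaf 193) (.leaf 337)) (.node (.leaf 155) (.leaf 978))) (.node (.node (.leaf 98) (.leaf 868)) (.node (.leaf 674) (.leaf 819))))) (.node (.node (.node (.node (.leaf 122) (.leaf 443)) (.node (.leaf 536) (.leaf 971))) (.node (.node (.leaf 372) (.leaf 421)) (.node (.leaf 659) (.leaf 899)))) (.node (.node (.node (.leaf 255) (.leaf 804)) (.node (.leaf 631) (.leaf 730))) (.node (.node (.leaf 101) (.leaf 904)) (.node (.leaf 634) (.leaf 901)))))) (.node (.node (.node (.node (.node (.leaf 9) (.leaf 340)) (.node (.leaf 508) (.leaf 737))) (.node (.node (.leaf 62) (.leaf 472)) (.node (.leaf 675) (.leaf 741)))) (.node (.node (.node (.leaf 226) (.leaf 348)) (.node (.leaf 610) (.leaf 630))) (.node (.node (.leaf 439) (.leaf 476)) (.node (.leaf 248) (.leaf 858))))) (.node (.node (.node (.node (.leaf 158) (.leaf 816)) (.node (.leaf 560) (.leaf 932))) (.node (.node (.leaf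 341) (.leaf 442)) (.node (.leaf 225) (.leaf 801)))) (.node (.node (.node (.leaf 186) (.leaf 864)) (.node (.leaf 519) (.leaf 740))) (.node (.node (.leaf 489) (.leaf 527)) (.node (.leaf 274) (.leaf 987))))))))))

def twoNext2 : Janko.Tree (ℕ) :=
  (.node (.node (.node (.node (.node (.node (.node (.node (.node (.leaf 3) (.leaf 622)) (.node (.leaf 128) (.leaf 931))) (.node (.node (.leaf 256) (.leaf 835)) (.node (.leaf 182) (.leaf 934)))) (.node (.node (.node (.leaf 164) (.leaf 801)) (.node (.leaf 564) (.leaf 638))) (.node (.node (.leaf 394) (.leaf 814)) (.node (.leaf 659) (.leaf 859))))) (.node (.node (.node (.node (.leaf 91) (.leaf 789)) (.node (.leaf 517) (.leaf 552))) (.node (.node (.leaf 345) (.leaf 436)) (.node (.leaf 207) (.leaf 751)))) (.node (.node (.node (.leaf 215) (.leaf 349)) (.node (.leaf 613) (.leaf 980))) (.node (.node (.leaf 444) (.leaf 855)) (.node (.leaf 738) (.leaf 924)))))) (.node (.node (.node (.node (.node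 (.leaf 4) (.leaf 767)) (.node (.leaf 508) (.leaf 944))) (.node (.node (.leaf 313) (.leaf 399)) (.node (.leaf 567) (.leaf 709)))) (.node (.node (.node (.leaf 198) (.leaf 825)) (.node (.leaf 588) (.leaf 618))) (.node (.node (.leaf 97) (.leaf 461)) (.node (.leaf 237) (.leaf 837))))) (.node (.node (.node (.node (.leaf 127) (.leaf 806)) (.node (.leaf 539) (.leaf 973))) (.node (.node (.leaf 69) (.leaf 422)) (.node (.leaf 266) (.leaf 784)))) (.node (.node (.node (.leaf 260) (.leaf 360)) (.node (.leaf 172) (.leaf 1000))) (.node (.node (.leaf 102) (.leaf 919)) (.node (.leaf 616) (.leaf 925))))))) (.node (.node (.node (.node (.node (.node (.leaf 27) (.leaf 497)) (.node (.leaf 500) (.leaf 537))) (.node (.node (.leaf 299) (.leaf 870)) (.node (.leaf 646) (.leaf 937)))) (.node (.node (.node (.leaf 183) (.leaf 334)) (.node (.leaf 150) (.leaf 600))) (.node (.node (.leaf 405) (.leaf 454)) (.node (.leaf 715) (.leaf 1022))))) (.node (.node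 (.node (.node (.leaf 108) (.leaf 800)) (.node (.leaf 527) (.leaf 941))) (.node (.node (.leaf 361) (.leaf 892)) (.node (.leaf 230) (.leaf 906)))) (.node (.node (.node (.leaf 244) (.leaf 496)) (.node (.leaf 624) (.leaf 651))) (.node (.node (.leaf 453) (.leaf 847)) (.node (.leaf 284) (.leaf 880)))))) (.node (.node (.node (.node (.node (.leaf 70) (.leaf 486)) (.node (.leaf 476) (.leaf 578))) (.node (.node (.leaf 316) (.leaf 877)) (.node (.leaf 665) (.leaf 750)))) (.node (.node (.node (.leaf 212) (.leaf 840)) (.node (.leaf 598) (.leaf 630))) (.node (.node (.leaf 430) (.leaf 470)) (.node (.leaf 286) (.leaf 866))))) (.node (.node (.node (.node (.leaf 147) (.leaf 810)) (.node (.leaf 143) (.leaf 979))) (.node (.node (.leaf 357) (.leaf 903)) (.node (.leaf 275) (.leaf 1014)))) (.node (.node (.node (.leaf 45) (.leaf 828)) (.node (.leaf 569) (.leaf 677))) (.node (.node (.leaf 479) (.leaf 522)) (.node (.leaf 268) (.leaf 970)))))))) (.node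 (.node (.node (.node (.node (.node (.node (.leaf 16) (.leaf 746)) (.node (.leaf 112) (.leaf 732))) (.node (.node (.leaf 291) (.leaf 380)) (.node (.leaf 187) (.leaf 686)))) (.node (.node (.node (.leaf 23) (.leaf 332)) (.node (.leaf 571) (.leaf 597))) (.node (.node (.leaf 79) (.leaf 450)) (.node (.leaf 710) (.leaf 1013))))) (.node (.node (.node (.node (.leaf 11) (.leaf 310)) (.node (.leaf 221) (.leaf 938))) (.node (.node (.leaf 64) (.leaf 414)) (.node (.leaf 685) (.leaf 758)))) (.node (.node (.node (.leaf 236) (.leaf 351)) (.node (.leaf 621) (.leaf 657))) (.node (.node (.leaf 95) (.leaf 481)) (.node (.leaf 251) (.leaf 898)))))) (.node (.node (.node (.node (.node (.leaf 60) (.leaf 382)) (.node (.leaf 121) (.leaf 951))) (.node (.node (.leaf 323) (.leaf 818)) (.node (.leaf 199) (.leaf 713)))) (.node (.node (.node (.leaf 205) (.leaf 343)) (.node (.leaf 174) (.leaf 754))) (.node (.node (.leaf 88) (.leaf 511)) (.node (.leaf 725)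 (.leaf 864))))) (.node (.node (.node (.node (.leaf 137) (.leaf 320)) (.node (.leaf 545) (.leaf 975))) (.node (.node (.leaf 326) (.leaf 769)) (.node (.leaf 672) (.leaf 811)))) (.node (.node (.node (.leaf 267) (.leaf 364)) (.node (.leaf 587) (.leaf 698))) (.node (.node (.leaf 104) (.leaf 514)) (.node (.leaf 264) (.leaf 1005))))))) (.node (.node (.node (.node (.node (.node (.leaf 39) (.leaf 294)) (.node (.leaf 504) (.leaf 946))) (.node (.node (.leaf 306) (.leaf 406)) (.node (.leaf 654) (.leaf 989)))) (.node (.node (.node (.leaf 190) (.leaf 336)) (.node (.leaf 580) (.leaf 974))) (.node (.node (.leaf 411) (.leaf 457)) (.node (.leaf 719) (.leaf 1018))))) (.node (.node (.node (.node (.leaf 14) (.leaf 798)) (.node (.leaf 533) (.leaf 956))) (.node (.node (.leaf 368) (.leaf 446)) (.node (.leaf 213) (.leaf 775)))) (.node (.node (.node (.leaf 40) (.leaf 833)) (.node (.leaf 628) (.leaf 993))) (.node (.node (.leaf 100) (.leaf 897)) (.node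 (.leaf 255) (.leaf 899)))))) (.node (.node (.node (.node (.node (.leaf 81) (.leaf 305)) (.node (.leaf 488) (.leaf 549))) (.node (.node (.leaf 337) (.leaf 882)) (.node (.leaf 674) (.leaf 992)))) (.node (.node (.node (.leaf 222) (.leaf 347)) (.node (.leaf 162) (.leaf 958))) (.node (.node (.leaf 413) (.leaf 772)) (.node (.leaf 280) (.leaf 1023))))) (.node (.node (.node (.node (.leaf 20) (.leaf 774)) (.node (.leaf 152) (.leaf 632))) (.node (.node (.leaf 389) (.leaf 885)) (.node (.leaf 224) (.leaf 812)))) (.node (.node (.node (.leaf 225) (.leaf 802)) (.node (.leaf 644) (.leaf 680))) (.node (.node (.leaf 129) (.leaf 743)) (.node (.leaf 272) (.leaf 997))))))))) (.node (.node (.node (.node (.node (.node (.node (.node (.leaf 9) (.leaf 756)) (.node (.leaf 111) (.leaf 577))) (.node (.node (.leaf 50) (.leaf 858)) (.node (.leaf 277) (.leaf 996)))) (.node (.node (.node (.leaf 22) (.leaf 792)) (.node (.leaf 191) (.leaf 595))) (.node (.node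 (.leaf 78) (.leaf 445)) (.node (.leaf 708) (.leaf 1019))))) (.node (.node (.node (.node (.leaf 10) (.leaf 478)) (.node (.leaf 131) (.leaf 636))) (.node (.node (.leaf 348) (.leaf 412)) (.node (.leaf 683) (.leaf 939)))) (.node (.node (.node (.leaf 35) (.leaf 851)) (.node (.leaf 165) (.leaf 984))) (.node (.node (.leaf 123) (.leaf 480)) (.node (.leaf 257) (.leaf 902)))))) (.node (.node (.node (.node (.node (.leaf 5) (.leaf 298)) (.node (.leaf 441) (.leaf 949))) (.node (.node (.leaf 318) (.leaf 803)) (.node (.leaf 554) (.leaf 981)))) (.node (.node (.node (.leaf 202) (.leaf 339)) (.node (.leaf 593) (.leaf 985))) (.node (.node (.leaf 421) (.leaf 491)) (.node (.leaf 723) (.leaf 923))))) (.node (.node (.node (.node (.leaf 130) (.leaf 366)) (.node (.leaf 140) (.leaf 660))) (.node (.node (.leaf 379) (.leaf 447)) (.node (.leaf 218) (.leaf 780)))) (.node (.node (.node (.leaf 262) (.leaf 391)) (.node (.leaf 173) (.leaf 668))) (.node (.node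 (.leaf 467) (.leaf 852)) (.node (.leaf 519) (.leaf 1002))))))) (.node (.node (.node (.node (.node (.node (.leaf 34) (.leaf 760)) (.node (.leaf 432) (.leaf 538))) (.node (.node (.leaf 303) (.leaf 853)) (.node (.leaf 192) (.leaf 936)))) (.node (.node (.node (.leaf 26) (.leaf 827)) (.node (.leaf 555) (.leaf 602))) (.node (.node (.leaf 82) (.leaf 463)) (.node (.leaf 271) (.leaf 1016))))) (.node (.node (.node (.node (.leaf 13) (.leaf 402)) (.node (.leaf 530) (.leaf 568))) (.node (.node (.leaf 363) (.leaf 894)) (.node (.leaf 229) (.leaf 804)))) (.node (.node (.node (.leaf 247) (.leaf 848)) (.node (.leaf 186) (.leaf 967))) (.node (.node (.leaf 99) (.leaf 516)) (.node (.leaf 254) (.leaf 1010)))))) (.node (.node (.node (.node (.node (.leaf 74) (.leaf 778)) (.node (.leaf 485) (.leaf 547))) (.node (.node (.leaf 59) (.leaf 879)) (.node (.leaf 203) (.leaf 739)))) (.node (.node (.node (.leaf 217) (.leaf 842)) (.node (.leaf 603) (.leaf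 642))) (.node (.node (.leaf 434) (.leaf 510)) (.node (.leaf 245) (.leaf 915))))) (.node (.node (.node (.node (.leaf 19) (.leaf 375)) (.node (.leaf 557) (.leaf 585))) (.node (.node (.leaf 362) (.leaf 884)) (.node (.leaf 223) (.leaf 790)))) (.node (.node (.node (.leaf 278) (.leaf 829)) (.node (.leaf 285) (.leaf 694))) (.node (.node (.leaf 483) (.leaf 935)) (.node (.leaf 273) (.leaf 972)))))))) (.node (.node (.node (.node (.node (.node (.node (.leaf 1) (.leaf 289)) (.node (.leaf 114) (.leaf 572))) (.node (.node (.leaf 295) (.leaf 392)) (.node (.leaf 627) (.leaf 994)))) (.node (.node (.node (.leaf 24) (.leaf 333)) (.node (.leaf 180) (.leaf 623))) (.node (.node (.leaf 80) (.leaf 452)) (.node (.leaf 712) (.leaf 807))))) (.node (.node (.node (.node (.leaf 103) (.leaf 311)) (.node (.leaf 524) (.leaf 560))) (.node (.node (.leaf 65) (.leaf 415)) (.node (.leaf 688) (.leaf 896)))) (.node (.node (.node (.leaf 240) (.leaf 383)) (.node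 (.leaf 611) (.leaf 648))) (.node (.node (.leaf 424) (.leaf 761)) (.node (.leaf 536) (.leaf 901)))))) (.node (.node (.node (.node (.node (.leaf 66) (.leaf 301)) (.node (.leaf 122) (.leaf 954))) (.node (.node (.leaf 328) (.leaf 845)) (.node (.leaf 652) (.leaf 977)))) (.node (.node (.node (.leaf 30) (.leaf 344)) (.node (.leaf 175) (.leaf 653))) (.node (.node (.leaf 429) (.leaf 913)) (.node (.leaf 728) (.leaf 863))))) (.node (.node (.node (.node (.leaf 142) (.leaf 781)) (.node (.leaf 548) (.leaf 631))) (.node (.node (.leaf 384) (.leaf 890)) (.node (.leaf 529) (.leaf 813)))) (.node (.node (.node (.leaf 239) (.leaf 856)) (.node (.leaf 635) (.leaf 675))) (.node (.node (.leaf 475) (.leaf 932)) (.node (.leaf 711) (.leaf 952))))))) (.node (.node (.node (.node (.node (.node (.leaf 44) (.leaf 302)) (.node (.leaf 462) (.leaf 655))) (.node (.node (.leaf 54) (.leaf 396)) (.node (.leaf 195) (.leaf 705)))) (.node (.node (.node (.leaf 194)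 (.leaf 831)) (.node (.leaf 584) (.leaf 606))) (.node (.node (.leaf 85) (.leaf 505)) (.node (.leaf 270) (.leaf 844))))) (.node (.node (.node (.node (.leaf 15) (.leaf 315)) (.node (.leaf 526) (.leaf 704))) (.node (.node (.leaf 340) (.leaf 900)) (.node (.leaf 216) (.leaf 777)))) (.node (.node (.node (.leaf 41) (.leaf 512)) (.node (.leaf 562) (.leaf 697))) (.node (.node (.leaf 465) (.leaf 920)) (.node (.leaf 727) (.leaf 927)))))) (.node (.node (.node (.node (.node (.leaf 86) (.leaf 321)) (.node (.leaf 472) (.leaf 556))) (.node (.node (.leaf 341) (.leaf 437)) (.node (.leaf 676) (.leaf 971)))) (.node (.node (.node (.leaf 227) (.leaf 846)) (.node (.leaf 163) (.leaf 991))) (.node (.node (.leaf 92) (.leaf 773)) (.node (.leaf 546) (.leaf 1021))))) (.node (.node (.node (.node (.leaf 159) (.leaf 817)) (.node (.leaf 146) (.leaf 589))) (.node (.node (.leaf 76) (.leaf 887)) (.node (.leaf 684) (.leaf 860)))) (.node (.node (.node (.leaf 283)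 (.leaf 832)) (.node (.leaf 532) (.leaf 682))) (.node (.node (.leaf 490) (.leaf 671)) (.node (.leaf 730) (.leaf 968))))))))))

def twoNext3 : Janko.Tree (ℕ) :=
  (.node (.node (.node (.node (.node (.node (.node (.node (.node (.leaf 4) (.leaf 277)) (.node (.leaf 110) (.leaf 528))) (.node (.node (.leaf 48) (.leaf 840)) (.node (.leaf 619) (.leaf 705)))) (.node (.node (.node (.leaf 21) (.leaf 794)) (.node (.leaf 565) (.leaf 590))) (.node (.node (.leaf 77) (.leaf 444)) (.node (.leaf 707) (.leaf 820))))) (.node (.node (.node (.node (.leaf 83) (.leaf 790)) (.node (.leaf 240) (.leaf 575))) (.node (.node (.leaf 62) (.leaf 411)) (.node (.leaf 681) (.leaf 977)))) (.node (.node (.node (.leaf 34) (.leaf 848)) (.node (.leaf 614) (.leaf 985))) (.node (.node (.leaf 445) (.leaf 867)) (.node (.leaf 248) (.leaf 916)))))) (.node (.node (.node (.node (.node (.leaf 49) (.leaf 768)) (.node (.leaf 119) (.leaf 666))) (.node (.node (.leaf 314) (.leaf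 869)) (.node (.leaf 196) (.leaf 749)))) (.node (.node (.node (.leaf 199) (.leaf 468)) (.node (.leaf 589) (.leaf 608))) (.node (.node (.leaf 417) (.leaf 919)) (.node (.leaf 269) (.leaf 862))))) (.node (.node (.node (.node (.leaf 128) (.leaf 807)) (.node (.leaf 138) (.leaf 959))) (.node (.node (.leaf 375) (.leaf 796)) (.node (.leaf 217) (.leaf 778)))) (.node (.node (.node (.leaf 226) (.leaf 377)) (.node (.leaf 594) (.leaf 1001))) (.node (.node (.leaf 288) (.leaf 506)) (.node (.leaf 747) (.leaf 915))))))) (.node (.node (.node (.node (.node (.node (.leaf 28) (.leaf 290)) (.node (.leaf 501) (.leaf 566))) (.node (.node (.leaf 300) (.leaf 764)) (.node (.leaf 647) (.leaf 695)))) (.node (.node (.node (.leaf 184) (.leaf 825)) (.node (.leaf 558) (.leaf 640))) (.node (.node (.leaf 406) (.leaf 839)) (.node (.leaf 233) (.leaf 1014))))) (.node (.node (.node (.node (.leaf 12) (.leaf 801)) (.node (.leaf 275) (.leaf 946))) (.node (.node (.leaf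 327) (.leaf 893)) (.node (.leaf 211) (.leaf 766)))) (.node (.node (.node (.leaf 38) (.leaf 515)) (.node (.leaf 570) (.leaf 661))) (.node (.node (.leaf 98) (.leaf 927)) (.node (.leaf 253) (.leaf 1012)))))) (.node (.node (.node (.node (.node (.leaf 71) (.leaf 474)) (.node (.leaf 484) (.leaf 545))) (.node (.node (.leaf 58) (.leaf 878)) (.node (.leaf 202) (.leaf 722)))) (.node (.node (.node (.leaf 213) (.leaf 841)) (.node (.leaf 599) (.leaf 620))) (.node (.node (.leaf 382) (.leaf 823)) (.node (.leaf 244) (.leaf 837))))) (.node (.node (.node (.node (.leaf 139) (.leaf 811)) (.node (.leaf 553) (.leaf 980))) (.node (.node (.leaf 72) (.leaf 431)) (.node (.leaf 222) (.leaf 1018)))) (.node (.node (.node (.leaf 274) (.leaf 821)) (.node (.leaf 195) (.leaf 954))) (.node (.node (.leaf 480) (.leaf 743)) (.node (.leaf 719) (.leaf 943)))))))) (.node (.node (.node (.node (.node (.node (.node (.leaf 0) (.leaf 285)) (.node (.leaf 125) (.leaf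 935))) (.node (.node (.leaf 292) (.leaf 487)) (.node (.leaf 637) (.leaf 939)))) (.node (.node (.node (.leaf 174) (.leaf 802)) (.node (.leaf 148) (.leaf 715))) (.node (.node (.leaf 400) (.leaf 849)) (.node (.leaf 711) (.leaf 797))))) (.node (.node (.node (.node (.leaf 14) (.leaf 331)) (.node (.leaf 132) (.leaf 554))) (.node (.node (.leaf 353) (.leaf 449)) (.node (.leaf 556) (.leaf 767)))) (.node (.node (.node (.leaf 237) (.leaf 846)) (.node (.leaf 622) (.leaf 646))) (.node (.node (.leaf 428) (.leaf 925)) (.node (.leaf 280) (.leaf 1013)))))) (.node (.node (.node (.node (.node (.leaf 61) (.leaf 299)) (.node (.leaf 495) (.leaf 694))) (.node (.node (.leaf 324) (.leaf 402)) (.node (.leaf 559) (.leaf 992)))) (.node (.node (.node (.leaf 29) (.leaf 387)) (.node (.leaf 157) (.leaf 610))) (.node (.node (.leaf 426) (.leaf 466)) (.node (.leaf 592) (.leaf 824))))) (.node (.node (.node (.node (.leaf 17) (.leaf 785)) (.node (.leaf 141) (.leaf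 960))) (.node (.node (.leaf 315) (.leaf 903)) (.node (.leaf 219) (.leaf 782)))) (.node (.node (.node (.leaf 43) (.leaf 389)) (.node (.leaf 582) (.leaf 669))) (.node (.node (.leaf 472) (.leaf 847)) (.node (.leaf 750) (.leaf 1000))))))) (.node (.node (.node (.node (.node (.node (.leaf 40) (.leaf 763)) (.node (.leaf 505) (.leaf 947))) (.node (.node (.leaf 53) (.leaf 395)) (.node (.leaf 193) (.leaf 965)))) (.node (.node (.node (.leaf 191) (.leaf 829)) (.node (.leaf 153) (.leaf 643))) (.node (.node (.leaf 412) (.leaf 502)) (.node (.leaf 235) (.leaf 1017))))) (.node (.node (.node (.node (.leaf 118) (.leaf 420)) (.node (.leaf 136) (.leaf 949))) (.node (.node (.leaf 67) (.leaf 418)) (.node (.leaf 228) (.leaf 809)))) (.node (.node (.node (.leaf 252) (.leaf 856)) (.node (.leaf 170) (.leaf 963))) (.node (.node (.leaf 462) (.leaf 894)) (.node (.leaf 746) (.leaf 907)))))) (.node (.node (.node (.node (.node (.leaf 8) (.leaf 783)) (.node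 (.leaf 126) (.leaf 688))) (.node (.node (.leaf 338) (.leaf 409)) (.node (.leaf 204) (.leaf 739)))) (.node (.node (.node (.leaf 223) (.leaf 383)) (.node (.leaf 185) (.leaf 975))) (.node (.node (.leaf 91) (.leaf 473)) (.node (.leaf 246) (.leaf 851))))) (.node (.node (.node (.node (.leaf 23) (.leaf 814)) (.node (.leaf 145) (.leaf 586))) (.node (.node (.leaf 390) (.leaf 439)) (.node (.leaf 704) (.leaf 791)))) (.node (.node (.node (.leaf 214) (.leaf 478)) (.node (.leaf 178) (.leaf 702))) (.node (.node (.leaf 108) (.leaf 648)) (.node (.leaf 517) (.leaf 962))))))))) (.node (.node (.node (.node (.node (.node (.node (.node (.leaf 10) (.leaf 733)) (.node (.leaf 127) (.leaf 938))) (.node (.node (.leaf 287) (.leaf 379)) (.node (.leaf 645) (.leaf 993)))) (.node (.node (.node (.leaf 169) (.leaf 787)) (.node (.leaf 567) (.leaf 639))) (.node (.node (.leaf 397) (.leaf 774)) (.node (.leaf 618) (.leaf 1020))))) (.node (.node (.node (.node (.leaf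 96) (.leaf 309)) (.node (.leaf 520) (.leaf 580))) (.node (.node (.leaf 63) (.leaf 435)) (.node (.leaf 684) (.leaf 961)))) (.node (.node (.node (.leaf 232) (.leaf 852)) (.node (.leaf 617) (.leaf 981))) (.node (.node (.leaf 112) (.leaf 819)) (.node (.leaf 249) (.leaf 910)))))) (.node (.node (.node (.node (.node (.leaf 55) (.leaf 434)) (.node (.leaf 120) (.leaf 950))) (.node (.node (.leaf 319) (.leaf 874)) (.node (.leaf 660) (.leaf 991)))) (.node (.node (.node (.leaf 203) (.leaf 368)) (.node (.leaf 156) (.leaf 987))) (.node (.node (.leaf 422) (.leaf 920)) (.node (.leaf 724) (.leaf 1023))))) (.node (.node (.node (.node (.leaf 131) (.leaf 339)) (.node (.leaf 542) (.leaf 577))) (.node (.node (.leaf 380) (.leaf 423)) (.node (.leaf 530) (.leaf 808)))) (.node (.node (.node (.leaf 263) (.leaf 362)) (.node (.leaf 593) (.leaf 942))) (.node (.node (.leaf 103) (.leaf 923)) (.node (.leaf 262) (.leaf 1007))))))) (.node (.node (.node (.node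 (.node (.node (.leaf 2) (.leaf 761)) (.node (.leaf 298) (.leaf 944))) (.node (.node (.leaf 304) (.leaf 393)) (.node (.leaf 615) (.leaf 699)))) (.node (.node (.node (.leaf 186) (.leaf 828)) (.node (.leaf 151) (.leaf 662))) (.node (.node (.leaf 408) (.leaf 455)) (.node (.leaf 234) (.leaf 1019))))) (.node (.node (.node (.node (.leaf 113) (.leaf 804)) (.node (.leaf 266) (.leaf 969))) (.node (.node (.leaf 364) (.leaf 895)) (.node (.leaf 212) (.leaf 770)))) (.node (.node (.node (.leaf 39) (.leaf 450)) (.node (.leaf 626) (.leaf 658))) (.node (.node (.leaf 458) (.leaf 492)) (.node (.leaf 283) (.leaf 909)))))) (.node (.node (.node (.node (.node (.leaf 75) (.leaf 779)) (.node (.leaf 475) (.leaf 576))) (.node (.node (.leaf 333) (.leaf 784)) (.node (.leaf 670) (.leaf 753)))) (.node (.node (.node (.leaf 218) (.leaf 843)) (.node (.leaf 161) (.leaf 625))) (.node (.node (.leaf 90) (.leaf 471)) (.node (.leaf 536) (.leaf 865))))) (.node (.node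 (.node (.node (.leaf 152) (.leaf 360)) (.node (.leaf 144) (.leaf 725))) (.node (.node (.leaf 74) (.leaf 877)) (.node (.leaf 527) (.leaf 888)))) (.node (.node (.node (.leaf 279) (.leaf 369)) (.node (.leaf 641) (.leaf 678))) (.node (.node (.leaf 107) (.leaf 734)) (.node (.leaf 752) (.leaf 952)))))))) (.node (.node (.node (.node (.node (.node (.node (.leaf 22) (.leaf 499)) (.node (.leaf 498) (.leaf 706))) (.node (.node (.leaf 51) (.leaf 868)) (.node (.leaf 188) (.leaf 971)))) (.node (.node (.node (.leaf 179) (.leaf 372)) (.node (.leaf 149) (.leaf 598))) (.node (.node (.leaf 403) (.leaf 503)) (.node (.leaf 623) (.leaf 803))))) (.node (.node (.node (.node (.leaf 104) (.leaf 798)) (.node (.leaf 525) (.leaf 967))) (.node (.node (.leaf 357) (.leaf 890)) (.node (.leaf 210) (.leaf 926)))) (.node (.node (.node (.leaf 241) (.leaf 352)) (.node (.leaf 606) (.leaf 742))) (.node (.node (.leaf 419) (.leaf 870)) (.node (.leaf 523) (.leaf 1011))))))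 (.node (.node (.node (.node (.node (.leaf 6) (.leaf 765)) (.node (.leaf 513) (.leaf 544))) (.node (.node (.leaf 57) (.leaf 842)) (.node (.leaf 200) (.leaf 755)))) (.node (.node (.node (.leaf 209) (.leaf 838)) (.node (.leaf 158) (.leaf 649))) (.node (.node (.leaf 124) (.leaf 921)) (.node (.leaf 243) (.leaf 831))))) (.node (.node (.node (.node (.leaf 143) (.leaf 776)) (.node (.leaf 142) (.leaf 581))) (.node (.node (.leaf 385) (.leaf 788)) (.node (.leaf 221) (.leaf 786)))) (.node (.node (.node (.leaf 44) (.leaf 365)) (.node (.leaf 638) (.leaf 701))) (.node (.node (.leaf 476) (.leaf 521)) (.node (.leaf 716) (.leaf 968))))))) (.node (.node (.node (.node (.node (.node (.leaf 36) (.leaf 295)) (.node (.leaf 117) (.leaf 948))) (.node (.node (.leaf 310) (.leaf 405)) (.node (.leaf 571) (.leaf 994)))) (.node (.node (.node (.leaf 27) (.leaf 832)) (.node (.leaf 585) (.leaf 612))) (.node (.node (.leaf 414) (.leaf 459)) (.node (.leaf 236)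 (.leaf 1021))))) (.node (.node (.node (.node (.leaf 123) (.leaf 328)) (.node (.leaf 137) (.leaf 572))) (.node (.node (.leaf 68) (.leaf 901)) (.node (.leaf 533) (.leaf 882)))) (.node (.node (.node (.leaf 256) (.leaf 356)) (.node (.leaf 171) (.leaf 664))) (.node (.node (.leaf 433) (.leaf 500)) (.node (.leaf 583) (.leaf 911)))))) (.node (.node (.node (.node (.node (.leaf 87) (.leaf 306)) (.node (.leaf 467) (.leaf 550))) (.node (.node (.leaf 342) (.leaf 410)) (.node (.leaf 206) (.leaf 934)))) (.node (.node (.node (.leaf 33) (.leaf 358)) (.node (.leaf 611) (.leaf 976))) (.node (.node (.leaf 440) (.leaf 762)) (.node (.leaf 636) (.leaf 855))))) (.node (.node (.node (.node (.leaf 160) (.leaf 325)) (.node (.leaf 561) (.leaf 633))) (.node (.node (.leaf 79) (.leaf 892)) (.node (.leaf 689) (.leaf 793)))) (.node (.node (.node (.leaf 284) (.leaf 374)) (.node (.leaf 216) (.leaf 748))) (.node (.node (.leaf 109) (.leaf 936)) (.node (.leaf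 723) (.leaf 995))))))))))

def twoNext4 : Janko.Tree (ℕ) :=
  (.node (.node (.node (.node (.node (.node (.node (.node (.node (.leaf 0) (.leaf 645)) (.node (.leaf 494) (.leaf 560))) (.node (.node (.leaf 286) (.leaf 501)) (.node (.leaf 634) (.leaf 960)))) (.node (.node (.node (.leaf 165) (.leaf 806)) (.node (.leaf 152) (.leaf 720))) (.node (.node (.leaf 301) (.leaf 909)) (.node (.leaf 230) (.leaf 880))))) (.node (.node (.node (.node (.leaf 92) (.leaf 312)) (.node (.leaf 238) (.leaf 734))) (.node (.node (.leaf 86) (.leaf 764)) (.node (.leaf 232) (.leaf 754)))) (.node (.node (.node (.leaf 35) (.leaf 463)) (.node (.leaf 252) (.leaf 992))) (.node (.node (.leaf 440) (.leaf 482)) (.node (.leaf 739) (.leaf 901)))))) (.node (.node (.node (.node (.node (.leaf 5) (.leaf 302)) (.node (.leaf 365) (.leaf 672))) (.node (.node (.leaf 306) (.leaf 406)) (.node (.leaf 222) (.leaf 985)))) (.node (.node (.node (.leaf 34) (.leaf 830)) (.node (.leaf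 166) (.leaf 612))) (.node (.node (.leaf 414) (.leaf 856)) (.node (.leaf 594) (.leaf 911))))) (.node (.node (.node (.node (.leaf 118) (.leaf 404)) (.node (.leaf 219) (.leaf 704))) (.node (.node (.leaf 121) (.leaf 872)) (.node (.leaf 562) (.leaf 881)))) (.node (.node (.node (.leaf 169) (.leaf 492)) (.node (.leaf 173) (.leaf 945))) (.node (.node (.leaf 342) (.leaf 925)) (.node (.leaf 626) (.leaf 952))))))) (.node (.node (.node (.node (.node (.node (.leaf 29) (.leaf 399)) (.node (.leaf 498) (.leaf 538))) (.node (.node (.leaf 58) (.leaf 778)) (.node (.leaf 648) (.leaf 971)))) (.node (.node (.node (.leaf 174) (.leaf 489)) (.node (.leaf 564) (.leaf 730))) (.node (.node (.leaf 400) (.leaf 915)) (.node (.leaf 246) (.leaf 885))))) (.node (.node (.node (.node (.leaf 109) (.leaf 486)) (.node (.leaf 147) (.leaf 575))) (.node (.node (.leaf 113) (.leaf 781)) (.node (.leaf 692) (.leaf 771)))) (.node (.node (.node (.leaf 142) (.leaf 357))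 (.node (.leaf 260) (.leaf 703))) (.node (.node (.leaf 454) (.leaf 832)) (.node (.leaf 585) (.leaf 1020)))))) (.node (.node (.node (.node (.node (.leaf 16) (.leaf 346)) (.node (.leaf 124) (.leaf 600))) (.node (.node (.leaf 59) (.leaf 787)) (.node (.leaf 666) (.leaf 987)))) (.node (.node (.node (.leaf 205) (.leaf 472)) (.node (.leaf 164) (.leaf 983))) (.node (.node (.leaf 398) (.leaf 840)) (.node (.leaf 680) (.leaf 913))))) (.node (.node (.node (.node (.leaf 148) (.leaf 326)) (.node (.leaf 540) (.leaf 728))) (.node (.node (.leaf 387) (.leaf 447)) (.node (.leaf 570) (.leaf 891)))) (.node (.node (.node (.leaf 177) (.leaf 384)) (.node (.leaf 181) (.leaf 994))) (.node (.node (.leaf 469) (.leaf 668)) (.node (.leaf 284) (.leaf 999)))))))) (.node (.node (.node (.node (.node (.node (.node (.leaf 17) (.leaf 388)) (.node (.leaf 119) (.leaf 702))) (.node (.node (.leaf 82) (.leaf 513)) (.node (.leaf 518) (.leaf 993)))) (.node (.node (.node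 (.leaf 24) (.leaf 352)) (.node (.leaf 572) (.leaf 736))) (.node (.node (.leaf 80) (.leaf 466)) (.node (.leaf 582) (.leaf 896))))) (.node (.node (.node (.node (.leaf 61) (.leaf 311)) (.node (.leaf 143) (.leaf 556))) (.node (.node (.leaf 65) (.leaf 415)) (.node (.leaf 678) (.leaf 879)))) (.node (.node (.node (.leaf 42) (.leaf 484)) (.node (.leaf 617) (.leaf 931))) (.node (.node (.leaf 436) (.leaf 867)) (.node (.leaf 614) (.leaf 1013)))))) (.node (.node (.node (.node (.node (.leaf 62) (.leaf 432)) (.node (.leaf 122) (.leaf 550))) (.node (.node (.leaf 299) (.leaf 812)) (.node (.leaf 656) (.leaf 991)))) (.node (.node (.node (.leaf 30) (.leaf 344)) (.node (.leaf 240) (.leaf 743))) (.node (.node (.leaf 412) (.leaf 479)) (.node (.leaf 249) (.leaf 916))))) (.node (.node (.node (.node (.leaf 18) (.leaf 330)) (.node (.leaf 208) (.leaf 710))) (.node (.node (.leaf 377) (.leaf 818)) (.node (.leaf 536) (.leaf 877)))) (.node (.node (.node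 (.leaf 268) (.leaf 386)) (.node (.leaf 272) (.leaf 969))) (.node (.node (.leaf 408) (.leaf 524)) (.node (.leaf 641) (.leaf 997))))))) (.node (.node (.node (.node (.node (.node (.leaf 22) (.leaf 758)) (.node (.leaf 127) (.leaf 681))) (.node (.node (.leaf 54) (.leaf 784)) (.node (.leaf 215) (.leaf 705)))) (.node (.node (.node (.leaf 138) (.leaf 355)) (.node (.leaf 546) (.leaf 690))) (.node (.node (.leaf 89) (.leaf 828)) (.node (.leaf 616) (.leaf 926))))) (.node (.node (.node (.node (.leaf 15) (.leaf 426)) (.node (.leaf 193) (.leaf 662))) (.node (.node (.leaf 369) (.leaf 888)) (.node (.leaf 559) (.leaf 887)))) (.node (.node (.node (.leaf 41) (.leaf 496)) (.node (.leaf 273) (.leaf 949))) (.node (.node (.leaf 111) (.leaf 510)) (.node (.leaf 644) (.leaf 1016)))))) (.node (.node (.node (.node (.node (.leaf 9) (.leaf 314)) (.node (.leaf 500) (.leaf 962))) (.node (.node (.leaf 66) (.leaf 418)) (.node (.leaf 567) (.leaf 753)))) (.node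 (.node (.node (.leaf 198) (.leaf 476)) (.node (.leaf 163) (.leaf 752))) (.node (.node (.leaf 295) (.leaf 923)) (.node (.leaf 579) (.leaf 910))))) (.node (.node (.node (.node (.leaf 37) (.leaf 810)) (.node (.leaf 146) (.leaf 591))) (.node (.node (.leaf 290) (.leaf 772)) (.node (.leaf 700) (.leaf 894)))) (.node (.node (.node (.leaf 276) (.leaf 391)) (.node (.leaf 632) (.leaf 947))) (.node (.node (.leaf 459) (.leaf 652)) (.node (.leaf 279) (.leaf 1008))))))))) (.node (.node (.node (.node (.node (.node (.node (.node (.leaf 11) (.leaf 622)) (.node (.leaf 112) (.leaf 937))) (.node (.node (.leaf 288) (.leaf 866)) (.node (.leaf 185) (.leaf 686)))) (.node (.node (.node (.leaf 170) (.leaf 477)) (.node (.leaf 530) (.leaf 724))) (.node (.node (.leaf 315) (.leaf 804)) (.node (.leaf 234) (.leaf 1011))))) (.node (.node (.node (.node (.leaf 97) (.leaf 780)) (.node (.leaf 139) (.leaf 554))) (.node (.node (.leaf 349) (.leaf 762)) (.node (.leaf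 603) (.leaf 869)))) (.node (.node (.node (.leaf 155) (.leaf 848)) (.node (.leaf 589) (.leaf 741))) (.node (.node (.leaf 442) (.leaf 481)) (.node (.leaf 738) (.leaf 871)))))) (.node (.node (.node (.node (.node (.leaf 56) (.leaf 770)) (.node (.leaf 319) (.leaf 665))) (.node (.node (.leaf 297) (.leaf 402)) (.node (.leaf 563) (.leaf 713)))) (.node (.node (.node (.leaf 190) (.leaf 820)) (.node (.leaf 188) (.leaf 744))) (.node (.node (.leaf 416) (.leaf 834)) (.node (.leaf 596) (.leaf 918))))) (.node (.node (.node (.node (.leaf 132) (.leaf 403)) (.node (.leaf 202) (.leaf 584))) (.node (.node (.leaf 375) (.leaf 802)) (.node (.leaf 228) (.leaf 893)))) (.node (.node (.node (.leaf 171) (.leaf 366)) (.node (.leaf 184) (.leaf 955))) (.node (.node (.leaf 468) (.leaf 514)) (.node (.leaf 267) (.leaf 963))))))) (.node (.node (.node (.node (.node (.node (.leaf 3) (.leaf 410)) (.node (.leaf 499) (.leaf 650))) (.node (.node (.leaf 291) (.leaf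 786)) (.node (.leaf 646) (.leaf 939)))) (.node (.node (.node (.leaf 187) (.leaf 458)) (.node (.leaf 578) (.leaf 684))) (.node (.node (.leaf 308) (.leaf 838)) (.node (.leaf 253) (.leaf 905))))) (.node (.node (.node (.node (.leaf 114) (.leaf 428)) (.node (.leaf 149) (.leaf 574))) (.node (.node (.leaf 115) (.leaf 842)) (.node (.leaf 694) (.leaf 907)))) (.node (.node (.node (.leaf 248) (.leaf 359)) (.node (.leaf 262) (.leaf 696))) (.node (.node (.leaf 100) (.leaf 919)) (.node (.leaf 255) (.leaf 1022)))))) (.node (.node (.node (.node (.node (.leaf 76) (.leaf 394)) (.node (.leaf 504) (.leaf 732))) (.node (.node (.leaf 99) (.leaf 760)) (.node (.leaf 212) (.leaf 733)))) (.node (.node (.node (.leaf 196) (.leaf 419)) (.node (.leaf 586) (.leaf 640))) (.node (.node (.leaf 305) (.leaf 794)) (.node (.leaf 604) (.leaf 921))))) (.node (.node (.node (.node (.leaf 153) (.leaf 328)) (.node (.leaf 195) (.leaf 716))) (.node (.node (.leaf 75)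 (.leaf 444)) (.node (.leaf 224) (.leaf 883)))) (.node (.node (.node (.leaf 274) (.leaf 379)) (.node (.leaf 635) (.leaf 953))) (.node (.node (.leaf 452) (.leaf 654)) (.node (.leaf 271) (.leaf 1000)))))))) (.node (.node (.node (.node (.node (.node (.node (.leaf 23) (.leaf 390)) (.node (.leaf 364) (.leaf 552))) (.node (.node (.leaf 52) (.leaf 396)) (.node (.leaf 637) (.leaf 967)))) (.node (.node (.node (.leaf 47) (.leaf 334)) (.node (.leaf 226) (.leaf 714))) (.node (.node (.leaf 94) (.leaf 822)) (.node (.leaf 708) (.leaf 903))))) (.node (.node (.node (.node (.leaf 63) (.leaf 790)) (.node (.leaf 221) (.leaf 938))) (.node (.node (.leaf 338) (.leaf 422)) (.node (.leaf 664) (.leaf 800)))) (.node (.node (.node (.leaf 159) (.leaf 424)) (.node (.leaf 619) (.leaf 995))) (.node (.node (.leaf 332) (.leaf 853)) (.node (.leaf 590) (.leaf 1017)))))) (.node (.node (.node (.node (.node (.leaf 7) (.leaf 768)) (.node (.leaf 509) (.leaf 602)))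 (.node (.node (.leaf 88) (.leaf 782)) (.node (.leaf 566) (.leaf 747)))) (.node (.node (.node (.leaf 192) (.leaf 351)) (.node (.leaf 162) (.leaf 740))) (.node (.node (.leaf 397) (.leaf 826)) (.node (.leaf 682) (.leaf 857))))) (.node (.node (.node (.node (.leaf 134) (.leaf 413)) (.node (.leaf 549) (.leaf 735))) (.node (.node (.leaf 370) (.leaf 448)) (.node (.leaf 655) (.leaf 796)))) (.node (.node (.node (.leaf 261) (.leaf 383)) (.node (.leaf 179) (.leaf 941))) (.node (.node (.leaf 348) (.leaf 522)) (.node (.leaf 280) (.leaf 1004))))))) (.node (.node (.node (.node (.node (.node (.leaf 45) (.leaf 318)) (.node (.leaf 507) (.leaf 674))) (.node (.node (.leaf 293) (.leaf 439)) (.node (.leaf 521) (.leaf 977)))) (.node (.node (.node (.leaf 28) (.leaf 829)) (.node (.leaf 580) (.leaf 726))) (.node (.node (.leaf 304) (.leaf 464)) (.node (.leaf 609) (.leaf 912))))) (.node (.node (.node (.node (.leaf 71) (.leaf 429)) (.node (.leaf 206)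 (.leaf 706))) (.node (.node (.leaf 362) (.leaf 799)) (.node (.leaf 658) (.leaf 898)))) (.node (.node (.node (.leaf 237) (.leaf 358)) (.node (.leaf 223) (.leaf 933))) (.node (.node (.leaf 340) (.leaf 927)) (.node (.leaf 624) (.leaf 1018)))))) (.node (.node (.node (.node (.node (.leaf 78) (.leaf 310)) (.node (.leaf 186) (.leaf 687))) (.node (.node (.leaf 103) (.leaf 774)) (.node (.leaf 677) (.leaf 751)))) (.node (.node (.node (.leaf 144) (.leaf 478)) (.node (.leaf 599) (.leaf 750))) (.node (.node (.leaf 367) (.leaf 823)) (.node (.leaf 725) (.leaf 917))))) (.node (.node (.node (.node (.leaf 39) (.leaf 809)) (.node (.leaf 275) (.leaf 722))) (.node (.node (.leaf 84) (.leaf 873)) (.node (.leaf 697) (.leaf 902)))) (.node (.node (.node (.leaf 269) (.leaf 860)) (.node (.leaf 631) (.leaf 958))) (.node (.node (.leaf 491) (.leaf 534)) (.node (.leaf 748) (.leaf 1006))))))))))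

def twoNext5 : Janko.Tree (ℕ) :=
  (.node (.node (.node (.node (.node (.node (.node (.node (.node (.leaf 5) (.leaf 704)) (.node (.leaf 111) (.leaf 530))) (.node (.node (.leaf 49) (.leaf 865)) (.node (.leaf 609) (.leaf 684)))) (.node (.node (.node (.leaf 22) (.leaf 329)) (.node (.leaf 566) (.leaf 594))) (.node (.node (.leaf 78) (.leaf 445)) (.node (.leaf 529) (.leaf 796))))) (.node (.node (.node (.node (.leaf 10) (.leaf 791)) (.node (.leaf 131) (.leaf 958))) (.node (.node (.leaf 63) (.leaf 412)) (.node (.leaf 682) (.leaf 982)))) (.node (.node (.node (.leaf 130) (.leaf 385)) (.node (.leaf 615) (.leaf 641))) (.node (.node (.leaf 446) (.leaf 798)) (.node (.leaf 249) (.leaf 867)))))) (.node (.node (.node (.node (.node (.leaf 50) (.leaf 449)) (.node (.leaf 120) (.leaf 591))) (.node (.node (.leaf 315) (.leaf 790)) (.node (.leaf 658) (.leaf 710)))) (.node (.node (.node (.leaf 200) (.leaf 783)) (.node (.leaf 590) (.leaf 688))) (.node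 (.node (.leaf 418) (.leaf 885)) (.node (.leaf 722) (.leaf 823))))) (.node (.node (.node (.node (.leaf 129) (.leaf 808)) (.node (.leaf 140) (.leaf 644))) (.node (.node (.leaf 376) (.leaf 902)) (.node (.leaf 218) (.leaf 838)))) (.node (.node (.node (.leaf 215) (.leaf 361)) (.node (.leaf 241) (.leaf 728))) (.node (.node (.leaf 369) (.leaf 509)) (.node (.leaf 526) (.leaf 933))))))) (.node (.node (.node (.node (.node (.node (.leaf 30) (.leaf 292)) (.node (.leaf 502) (.leaf 665))) (.node (.node (.leaf 301) (.leaf 871)) (.node (.leaf 192) (.leaf 696)))) (.node (.node (.node (.leaf 185) (.leaf 371)) (.node (.leaf 577) (.leaf 941))) (.node (.node (.leaf 407) (.leaf 455)) (.node (.leaf 234) (.leaf 863))))) (.node (.node (.node (.node (.leaf 13) (.leaf 802)) (.node (.leaf 528) (.leaf 563))) (.node (.node (.leaf 316) (.leaf 458)) (.node (.leaf 212) (.leaf 909)))) (.node (.node (.node (.leaf 39) (.leaf 763)) (.node (.leaf 625) (.leaf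 997))) (.node (.node (.leaf 99) (.leaf 903)) (.node (.leaf 254) (.leaf 921)))))) (.node (.node (.node (.node (.node (.leaf 72) (.leaf 775)) (.node (.leaf 390) (.leaf 546))) (.node (.node (.leaf 74) (.leaf 777)) (.node (.leaf 203) (.leaf 1001)))) (.node (.node (.node (.leaf 214) (.leaf 781)) (.node (.leaf 600) (.leaf 988))) (.node (.node (.leaf 431) (.leaf 922)) (.node (.leaf 245) (.leaf 840))))) (.node (.node (.node (.node (.leaf 19) (.leaf 812)) (.node (.leaf 554) (.leaf 954))) (.node (.node (.leaf 73) (.leaf 432)) (.node (.leaf 223) (.leaf 826)))) (.node (.node (.node (.leaf 275) (.leaf 500)) (.node (.leaf 640) (.leaf 678))) (.node (.node (.leaf 481) (.leaf 535)) (.node (.leaf 623) (.leaf 946)))))))) (.node (.node (.node (.node (.node (.node (.node (.leaf 1) (.leaf 336)) (.node (.leaf 114) (.leaf 533))) (.node (.node (.leaf 51) (.leaf 818)) (.node (.leaf 621) (.leaf 1006)))) (.node (.node (.node (.leaf 175) (.leaf 333))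 (.node (.leaf 149) (.leaf 598))) (.node (.node (.leaf 306) (.leaf 451)) (.node (.leaf 597) (.leaf 800))))) (.node (.node (.node (.node (.leaf 100) (.leaf 419)) (.node (.leaf 522) (.leaf 647))) (.node (.node (.leaf 290) (.leaf 787)) (.node (.leaf 686) (.leaf 1009)))) (.node (.node (.node (.leaf 238) (.leaf 855)) (.node (.leaf 557) (.leaf 719))) (.node (.node (.leaf 422) (.leaf 926)) (.node (.leaf 732) (.leaf 873)))))) (.node (.node (.node (.node (.node (.leaf 6) (.leaf 773)) (.node (.leaf 363) (.leaf 952))) (.node (.node (.leaf 325) (.leaf 403)) (.node (.leaf 663) (.leaf 1003)))) (.node (.node (.node (.leaf 132) (.leaf 453)) (.node (.leaf 190) (.leaf 611))) (.node (.node (.leaf 427) (.leaf 850)) (.node (.leaf 726) (.leaf 827))))) (.node (.node (.node (.node (.leaf 138) (.leaf 779)) (.node (.leaf 142) (.leaf 976))) (.node (.node (.leaf 383) (.leaf 493)) (.node (.leaf 220) (.leaf 1015)))) (.node (.node (.node (.leaf 44) (.leaf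 504)) (.node (.leaf 567) (.leaf 721))) (.node (.node (.leaf 473) (.leaf 695)) (.node (.leaf 751) (.leaf 938))))))) (.node (.node (.node (.node (.node (.node (.leaf 41) (.leaf 764)) (.node (.leaf 506) (.leaf 601))) (.node (.node (.leaf 76) (.leaf 396)) (.node (.leaf 626) (.leaf 937)))) (.node (.node (.node (.leaf 27) (.leaf 470)) (.node (.leaf 581) (.leaf 605))) (.node (.node (.leaf 298) (.leaf 887)) (.node (.leaf 236) (.leaf 1023))))) (.node (.node (.node (.node (.leaf 119) (.leaf 357)) (.node (.leaf 137) (.leaf 571))) (.node (.node (.leaf 68) (.leaf 898)) (.node (.leaf 572) (.leaf 841)))) (.node (.node (.node (.leaf 189) (.leaf 389)) (.node (.leaf 171) (.leaf 999))) (.node (.node (.leaf 463) (.leaf 499)) (.node (.leaf 693) (.leaf 928)))))) (.node (.node (.node (.node (.node (.leaf 82) (.leaf 784)) (.node (.leaf 127) (.leaf 550))) (.node (.node (.leaf 339) (.leaf 410)) (.node (.leaf 239) (.leaf 746)))) (.node (.node (.node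 (.leaf 224) (.leaf 845)) (.node (.leaf 607) (.leaf 967))) (.node (.node (.leaf 92) (.leaf 475)) (.node (.leaf 247) (.leaf 852))))) (.node (.node (.node (.node (.leaf 156) (.leaf 395)) (.node (.leaf 194) (.leaf 931))) (.node (.node (.leaf 109) (.leaf 440)) (.node (.leaf 705) (.leaf 851)))) (.node (.node (.node (.leaf 282) (.leaf 387)) (.node (.leaf 179) (.leaf 711))) (.node (.node (.leaf 487) (.leaf 619)) (.node (.leaf 753) (.leaf 964))))))))) (.node (.node (.node (.node (.node (.node (.node (.node (.leaf 12) (.leaf 706)) (.node (.leaf 288) (.leaf 939))) (.node (.node (.leaf 289) (.leaf 380)) (.node (.leaf 637) (.leaf 942)))) (.node (.node (.node (.leaf 23) (.leaf 332)) (.node (.leaf 568) (.leaf 947))) (.node (.node (.leaf 79) (.leaf 516)) (.node (.leaf 709) (.leaf 842))))) (.node (.node (.node (.node (.leaf 11) (.leaf 310)) (.node (.leaf 240) (.leaf 656))) (.node (.node (.leaf 64) (.leaf 414)) (.node (.leaf 549) (.leaf 829))))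 (.node (.node (.node (.leaf 233) (.leaf 853)) (.node (.leaf 618) (.leaf 993))) (.node (.node (.leaf 447) (.leaf 836)) (.node (.leaf 743) (.leaf 888)))))) (.node (.node (.node (.node (.node (.leaf 57) (.leaf 299)) (.node (.leaf 121) (.leaf 677))) (.node (.node (.leaf 320) (.leaf 430)) (.node (.leaf 661) (.leaf 735)))) (.node (.node (.node (.leaf 36) (.leaf 343)) (.node (.leaf 157) (.leaf 957))) (.node (.node (.leaf 423) (.leaf 916)) (.node (.leaf 583) (.leaf 834))))) (.node (.node (.node (.node (.leaf 133) (.leaf 809)) (.node (.leaf 154) (.leaf 974))) (.node (.node (.leaf 381) (.leaf 424)) (.node (.leaf 699) (.leaf 835)))) (.node (.node (.node (.leaf 264) (.leaf 859)) (.node (.leaf 585) (.leaf 1002))) (.node (.node (.leaf 104) (.leaf 920)) (.node (.leaf 749) (.leaf 935))))))) (.node (.node (.node (.node (.node (.node (.leaf 35) (.leaf 762)) (.node (.leaf 503) (.leaf 565))) (.node (.node (.leaf 60) (.leaf 394)) (.node (.leaf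 573) (.leaf 700)))) (.node (.node (.node (.leaf 188) (.leaf 792)) (.node (.leaf 152) (.leaf 614))) (.node (.node (.leaf 409) (.leaf 890)) (.node (.leaf 620) (.leaf 814))))) (.node (.node (.node (.node (.leaf 14) (.leaf 359)) (.node (.leaf 531) (.leaf 970))) (.node (.node (.leaf 365) (.leaf 896)) (.node (.leaf 213) (.leaf 771)))) (.node (.node (.node (.leaf 40) (.leaf 765)) (.node (.leaf 277) (.leaf 998))) (.node (.node (.leaf 388) (.leaf 927)) (.node (.leaf 588) (.leaf 917)))))) (.node (.node (.node (.node (.node (.leaf 77) (.leaf 780)) (.node (.leaf 379) (.leaf 960))) (.node (.node (.leaf 334) (.leaf 880)) (.node (.leaf 671) (.leaf 975)))) (.node (.node (.node (.leaf 219) (.leaf 759)) (.node (.leaf 162) (.leaf 627))) (.node (.node (.leaf 91) (.leaf 900)) (.node (.leaf 733) (.leaf 1022))))) (.node (.node (.node (.node (.leaf 20) (.leaf 813)) (.node (.leaf 145) (.leaf 981))) (.node (.node (.leaf 360) (.leaf 435)) (.node (.leaf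 558) (.leaf 1019)))) (.node (.node (.node (.leaf 280) (.leaf 370)) (.node (.leaf 283) (.leaf 714))) (.node (.node (.leaf 108) (.leaf 617)) (.node (.leaf 520) (.leaf 955)))))))) (.node (.node (.node (.node (.node (.node (.node (.leaf 24) (.leaf 382)) (.node (.leaf 300) (.leaf 537))) (.node (.node (.leaf 296) (.leaf 805)) (.node (.leaf 636) (.leaf 745)))) (.node (.node (.node (.leaf 180) (.leaf 467)) (.node (.leaf 150) (.leaf 944))) (.node (.node (.leaf 364) (.leaf 893)) (.node (.leaf 713) (.leaf 861))))) (.node (.node (.node (.node (.leaf 105) (.leaf 330)) (.node (.leaf 216) (.leaf 968))) (.node (.node (.leaf 358) (.leaf 768)) (.node (.leaf 211) (.leaf 1011)))) (.node (.node (.node (.leaf 202) (.leaf 353)) (.node (.leaf 555) (.leaf 649))) (.node (.node (.leaf 450) (.leaf 483)) (.node (.leaf 253) (.leaf 877)))))) (.node (.node (.node (.node (.node (.leaf 67) (.leaf 761)) (.node (.leaf 514) (.leaf 545))) (.node (.node (.leaf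 58) (.leaf 405)) (.node (.leaf 201) (.leaf 992)))) (.node (.node (.node (.leaf 210) (.leaf 460)) (.node (.leaf 595) (.leaf 613))) (.node (.node (.leaf 113) (.leaf 882)) (.node (.leaf 244) (.leaf 866))))) (.node (.node (.node (.node (.leaf 144) (.leaf 373)) (.node (.leaf 143) (.leaf 977))) (.node (.node (.leaf 386) (.leaf 757)) (.node (.leaf 222) (.leaf 1010)))) (.node (.node (.node (.leaf 45) (.leaf 366)) (.node (.leaf 639) (.leaf 717))) (.node (.node (.leaf 477) (.leaf 603)) (.node (.leaf 267) (.leaf 949))))))) (.node (.node (.node (.node (.node (.node (.leaf 4) (.leaf 766)) (.node (.leaf 118) (.leaf 593))) (.node (.node (.leaf 311) (.leaf 398)) (.node (.leaf 196) (.leaf 708)))) (.node (.node (.node (.leaf 195) (.leaf 785)) (.node (.leaf 586) (.leaf 608))) (.node (.node (.leaf 415) (.leaf 869)) (.node (.leaf 237) (.leaf 923))))) (.node (.node (.node (.node (.leaf 124) (.leaf 770)) (.node (.leaf 159) (.leaf 642))) (.node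 (.node (.leaf 69) (.leaf 848)) (.node (.leaf 217) (.leaf 778)))) (.node (.node (.node (.leaf 257) (.leaf 505)) (.node (.leaf 172) (.leaf 962))) (.node (.node (.leaf 413) (.leaf 501)) (.node (.leaf 720) (.leaf 924)))))) (.node (.node (.node (.node (.node (.leaf 88) (.leaf 786)) (.node (.leaf 182) (.leaf 738))) (.node (.node (.leaf 303) (.leaf 411)) (.node (.leaf 207) (.leaf 747)))) (.node (.node (.node (.leaf 34) (.leaf 349)) (.node (.leaf 184) (.leaf 969))) (.node (.node (.leaf 441) (.leaf 915)) (.node (.leaf 736) (.leaf 1020))))) (.node (.node (.node (.node (.leaf 161) (.leaf 326)) (.node (.leaf 562) (.leaf 624))) (.node (.node (.leaf 392) (.leaf 908)) (.node (.leaf 227) (.leaf 794)))) (.node (.node (.node (.leaf 285) (.leaf 375)) (.node (.leaf 181) (.leaf 690))) (.node (.node (.leaf 110) (.leaf 692)) (.node (.leaf 276) (.leaf 973))))))))))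

def twoNext6 : Janko.Tree (ℕ) :=
  (.node (.node (.node (.node (.node (.node (.node (.node (.node (.leaf 6) (.leaf 747)) (.node (.leaf 482) (.leaf 692))) (.node (.node (.leaf 252) (.leaf 493)) (.node (.leaf 617) (.leaf 748)))) (.node (.node (.node (.leaf 166) (.leaf 770)) (.node (.leaf 542) (.leaf 620))) (.node (.node (.leaf 395) (.leaf 910)) (.node (.leaf 681) (.leaf 1011))))) (.node (.node (.node (.node (.leaf 93) (.leaf 308)) (.node (.leaf 518) (.leaf 576))) (.node (.node (.leaf 77) (.leaf 881)) (.node (.leaf 607) (.leaf 987)))) (.node (.node (.node (.leaf 208) (.leaf 849)) (.node (.leaf 185) (.leaf 741))) (.node (.node (.leaf 124) (.leaf 489)) (.node (.leaf 740) (.leaf 876)))))) (.node (.node (.node (.node (.node (.leaf 51) (.leaf 438)) (.node (.leaf 506) (.leaf 541))) (.node (.node (.leaf 55) (.leaf 868)) (.node (.leaf 197) (.leaf 726)))) (.node (.node (.node (.leaf 28) (.leaf 338)) (.node (.leaf 156) (.leaf 609)))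 (.node (.node (.leaf 419) (.leaf 509)) (.node (.leaf 238) (.leaf 918))))) (.node (.node (.node (.node (.leaf 113) (.leaf 367)) (.node (.leaf 540) (.leaf 574))) (.node (.node (.leaf 377) (.leaf 423)) (.node (.leaf 265) (.leaf 779)))) (.node (.node (.node (.leaf 49) (.leaf 487)) (.node (.leaf 633) (.leaf 673))) (.node (.node (.leaf 119) (.leaf 917)) (.node (.leaf 520) (.leaf 965))))))) (.node (.node (.node (.node (.node (.node (.leaf 2) (.leaf 757)) (.node (.leaf 433) (.leaf 942))) (.node (.node (.leaf 52) (.leaf 393)) (.node (.leaf 649) (.leaf 1007)))) (.node (.node (.node (.leaf 169) (.leaf 826)) (.node (.leaf 151) (.leaf 639))) (.node (.node (.leaf 397) (.leaf 916)) (.node (.leaf 716) (.leaf 873))))) (.node (.node (.node (.node (.leaf 110) (.leaf 331)) (.node (.leaf 135) (.leaf 947))) (.node (.node (.leaf 73) (.leaf 449)) (.node (.leaf 531) (.leaf 904)))) (.node (.node (.node (.leaf 133) (.leaf 385)) (.node (.leaf 168) (.leaf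 969))) (.node (.node (.leaf 455) (.leaf 501)) (.node (.leaf 737) (.leaf 907)))))) (.node (.node (.node (.node (.node (.leaf 7) (.leaf 776)) (.node (.leaf 403) (.leaf 957))) (.node (.node (.leaf 309) (.leaf 408)) (.node (.leaf 667) (.leaf 755)))) (.node (.node (.node (.leaf 31) (.leaf 387)) (.node (.leaf 160) (.leaf 645))) (.node (.node (.leaf 90) (.leaf 471)) (.node (.leaf 731) (.leaf 850))))) (.node (.node (.node (.node (.leaf 149) (.leaf 376)) (.node (.leaf 144) (.leaf 592))) (.node (.node (.leaf 353) (.leaf 878)) (.node (.leaf 274) (.leaf 805)))) (.node (.node (.node (.leaf 276) (.leaf 369)) (.node (.leaf 177) (.leaf 999))) (.node (.node (.leaf 107) (.leaf 742)) (.node (.leaf 718) (.leaf 995)))))))) (.node (.node (.node (.node (.node (.node (.node (.leaf 18) (.leaf 288)) (.node (.leaf 287) (.leaf 734))) (.node (.node (.leaf 105) (.leaf 857)) (.node (.leaf 188) (.leaf 998)))) (.node (.node (.node (.leaf 176) (.leaf 821))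 (.node (.leaf 573) (.leaf 976))) (.node (.node (.leaf 401) (.leaf 912)) (.node (.leaf 232) (.leaf 1009))))) (.node (.node (.node (.node (.leaf 101) (.leaf 796)) (.node (.leaf 523) (.leaf 953))) (.node (.node (.leaf 354) (.leaf 888)) (.node (.leaf 210) (.leaf 759)))) (.node (.node (.node (.leaf 37) (.leaf 352)) (.node (.leaf 184) (.leaf 647))) (.node (.node (.leaf 426) (.leaf 865)) (.node (.leaf 282) (.leaf 1020)))))) (.node (.node (.node (.node (.node (.leaf 63) (.leaf 300)) (.node (.leaf 386) (.leaf 544))) (.node (.node (.leaf 57) (.leaf 843)) (.node (.leaf 200) (.leaf 753)))) (.node (.node (.node (.leaf 206) (.leaf 836)) (.node (.leaf 158) (.leaf 650))) (.node (.node (.leaf 428) (.leaf 468)) (.node (.leaf 243) (.leaf 914))))) (.node (.node (.node (.node (.leaf 139) (.leaf 783)) (.node (.leaf 153) (.leaf 581))) (.node (.node (.leaf 71) (.leaf 875)) (.node (.leaf 670) (.leaf 786)))) (.node (.node (.node (.leaf 269) (.leaf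 365)) (.node (.leaf 637) (.leaf 700))) (.node (.node (.leaf 474) (.leaf 521)) (.node (.leaf 745) (.leaf 964))))))) (.node (.node (.node (.node (.node (.node (.leaf 42) (.leaf 765)) (.node (.leaf 117) (.leaf 566))) (.node (.node (.leaf 307) (.leaf 854)) (.node (.leaf 201) (.leaf 1003)))) (.node (.node (.node (.leaf 161) (.leaf 830)) (.node (.leaf 582) (.leaf 662))) (.node (.node (.leaf 84) (.leaf 503)) (.node (.leaf 720) (.leaf 816))))) (.node (.node (.node (.node (.leaf 120) (.leaf 314)) (.node (.leaf 534) (.leaf 950))) (.node (.node (.leaf 370) (.leaf 420)) (.node (.leaf 214) (.leaf 808)))) (.node (.node (.node (.leaf 253) (.leaf 356)) (.node (.leaf 629) (.leaf 664))) (.node (.node (.leaf 464) (.leaf 895)) (.node (.leaf 641) (.leaf 1012)))))) (.node (.node (.node (.node (.node (.leaf 83) (.leaf 785)) (.node (.leaf 378) (.leaf 963))) (.node (.node (.leaf 61) (.leaf 883)) (.node (.leaf 220) (.leaf 1008)))) (.node (.node (.node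 (.leaf 33) (.leaf 381)) (.node (.leaf 608) (.leaf 983))) (.node (.node (.leaf 292) (.leaf 911)) (.node (.leaf 735) (.leaf 908))))) (.node (.node (.node (.node (.leaf 157) (.leaf 325)) (.node (.leaf 559) (.leaf 634))) (.node (.node (.leaf 75) (.leaf 893)) (.node (.leaf 706) (.leaf 793)))) (.node (.node (.node (.leaf 47) (.leaf 373)) (.node (.leaf 605) (.leaf 701))) (.node (.node (.leaf 109) (.leaf 525)) (.node (.leaf 721) (.leaf 990))))))))) (.node (.node (.node (.node (.node (.node (.node (.node (.leaf 0) (.leaf 279)) (.node (.leaf 495) (.leaf 707))) (.node (.node (.leaf 290) (.leaf 867)) (.node (.leaf 601) (.leaf 1004)))) (.node (.node (.node (.leaf 171) (.leaf 819)) (.node (.leaf 148) (.leaf 640))) (.node (.node (.leaf 398) (.leaf 771)) (.node (.leaf 231) (.leaf 797))))) (.node (.node (.node (.node (.leaf 98) (.leaf 794)) (.node (.leaf 132) (.leaf 658))) (.node (.node (.leaf 350) (.leaf 886)) (.node (.leaf 209) (.leaf 768))))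 (.node (.node (.node (.leaf 234) (.leaf 358)) (.node (.leaf 619) (.leaf 643))) (.node (.node (.leaf 94) (.leaf 922)) (.node (.leaf 250) (.leaf 1017)))))) (.node (.node (.node (.node (.node (.leaf 58) (.leaf 425)) (.node (.leaf 440) (.leaf 543))) (.node (.node (.leaf 56) (.leaf 448)) (.node (.leaf 281) (.leaf 986)))) (.node (.node (.node (.leaf 29) (.leaf 834)) (.node (.leaf 594) (.leaf 610))) (.node (.node (.leaf 87) (.leaf 466)) (.node (.leaf 242) (.leaf 824))))) (.node (.node (.node (.node (.leaf 17) (.leaf 319)) (.node (.leaf 141) (.leaf 579))) (.node (.node (.leaf 327) (.leaf 507)) (.node (.leaf 219) (.leaf 809)))) (.node (.node (.node (.leaf 43) (.leaf 390)) (.node (.leaf 591) (.leaf 669))) (.node (.node (.leaf 469) (.leaf 921)) (.node (.leaf 263) (.leaf 961))))))) (.node (.node (.node (.node (.node (.node (.leaf 36) (.leaf 293)) (.node (.leaf 116) (.leaf 945))) (.node (.node (.leaf 53) (.leaf 872)) (.node (.leaf 193)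 (.leaf 1001)))) (.node (.node (.node (.leaf 189) (.leaf 372)) (.node (.leaf 553) (.leaf 661))) (.node (.node (.leaf 410) (.leaf 456)) (.node (.leaf 235) (.leaf 926))))) (.node (.node (.node (.node (.leaf 115) (.leaf 330)) (.node (.leaf 136) (.leaf 948))) (.node (.node (.leaf 67) (.leaf 418)) (.node (.leaf 687) (.leaf 930)))) (.node (.node (.node (.leaf 249) (.leaf 355)) (.node (.leaf 170) (.leaf 693))) (.node (.node (.leaf 459) (.leaf 513)) (.node (.leaf 722) (.leaf 909)))))) (.node (.node (.node (.node (.node (.leaf 8) (.leaf 304)) (.node (.leaf 126) (.leaf 575))) (.node (.node (.leaf 335) (.leaf 409)) (.node (.leaf 204) (.leaf 978)))) (.node (.node (.node (.leaf 32) (.leaf 346)) (.node (.leaf 604) (.leaf 960))) (.node (.node (.leaf 435) (.leaf 473)) (.node (.leaf 246) (.leaf 929))))) (.node (.node (.node (.node (.leaf 154) (.leaf 324)) (.node (.leaf 558) (.leaf 586))) (.node (.node (.leaf 388) (.leaf 439)) (.node (.leaf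 663) (.leaf 791)))) (.node (.node (.node (.leaf 226) (.leaf 374)) (.node (.leaf 178) (.leaf 679))) (.node (.node (.leaf 484) (.leaf 535)) (.node (.leaf 691) (.leaf 962)))))))) (.node (.node (.node (.node (.node (.node (.node (.leaf 25) (.leaf 498)) (.node (.leaf 499) (.leaf 940))) (.node (.node (.leaf 297) (.leaf 869)) (.node (.leaf 626) (.leaf 696)))) (.node (.node (.node (.leaf 181) (.leaf 823)) (.node (.leaf 179) (.leaf 599))) (.node (.node (.leaf 404) (.leaf 502)) (.node (.leaf 233) (.leaf 874))))) (.node (.node (.node (.node (.leaf 12) (.leaf 799)) (.node (.leaf 134) (.leaf 966))) (.node (.node (.leaf 359) (.leaf 891)) (.node (.leaf 689) (.leaf 762)))) (.node (.node (.node (.leaf 38) (.leaf 407)) (.node (.leaf 167) (.leaf 959))) (.node (.node (.leaf 451) (.leaf 764)) (.node (.leaf 625) (.leaf 889)))))) (.node (.node (.node (.node (.node (.leaf 68) (.leaf 763)) (.node (.leaf 515) (.leaf 955))) (.node (.node (.leaf 329)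 (.leaf 443)) (.node (.leaf 615) (.leaf 752)))) (.node (.node (.node (.leaf 211) (.leaf 839)) (.node (.leaf 596) (.leaf 736))) (.node (.node (.leaf 96) (.leaf 494)) (.node (.leaf 729) (.leaf 861))))) (.node (.node (.node (.node (.leaf 145) (.leaf 400)) (.node (.leaf 550) (.leaf 583))) (.node (.node (.leaf 72) (.leaf 431)) (.node (.leaf 699) (.leaf 788)))) (.node (.node (.node (.leaf 241) (.leaf 822)) (.node (.leaf 570) (.leaf 702))) (.node (.node (.leaf 106) (.leaf 933)) (.node (.leaf 717) (.leaf 943))))))) (.node (.node (.node (.node (.node (.node (.leaf 46) (.leaf 296)) (.node (.leaf 458) (.leaf 565))) (.node (.node (.leaf 312) (.leaf 782)) (.node (.leaf 656) (.leaf 733)))) (.node (.node (.node (.leaf 196) (.leaf 371)) (.node (.leaf 155) (.leaf 744))) (.node (.node (.leaf 416) (.leaf 460)) (.node (.leaf 714) (.leaf 820))))) (.node (.node (.node (.node (.leaf 125) (.leaf 317)) (.node (.leaf 138) (.leaf 703))) (.node (.node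 (.leaf 342) (.leaf 427)) (.node (.leaf 695) (.leaf 1015)))) (.node (.node (.node (.leaf 258) (.leaf 838)) (.node (.leaf 561) (.leaf 666))) (.node (.node (.leaf 118) (.leaf 928)) (.node (.leaf 259) (.leaf 905)))))) (.node (.node (.node (.node (.node (.leaf 89) (.leaf 787)) (.node (.leaf 261) (.leaf 551))) (.node (.node (.leaf 62) (.leaf 766)) (.node (.leaf 678) (.leaf 1006)))) (.node (.node (.node (.leaf 228) (.leaf 417)) (.node (.leaf 612) (.leaf 982))) (.node (.node (.leaf 442) (.leaf 477)) (.node (.leaf 248) (.leaf 862))))) (.node (.node (.node (.node (.leaf 21) (.leaf 795)) (.node (.leaf 563) (.leaf 590))) (.node (.node (.leaf 322) (.leaf 815)) (.node (.leaf 690) (.leaf 871)))) (.node (.node (.node (.leaf 48) (.leaf 841)) (.node (.leaf 614) (.leaf 749))) (.node (.node (.leaf 492) (.leaf 528)) (.node (.leaf 724) (.leaf 988))))))))))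

def twoNext7 : Janko.Tree (ℕ) :=
  (.node (.node (.node (.node (.node (.node (.node (.node (.node (.leaf 7) (.leaf 278)) (.node (.leaf 477) (.leaf 937))) (.node (.node (.leaf 247) (.leaf 378)) (.node (.leaf 182) (.leaf 709)))) (.node (.node (.node (.leaf 167) (.leaf 818)) (.node (.leaf 147) (.leaf 983))) (.node (.node (.leaf 396) (.leaf 896)) (.node (.leaf 676) (.leaf 930))))) (.node (.node (.node (.node (.leaf 94) (.leaf 792)) (.node (.leaf 519) (.leaf 552))) (.node (.node (.leaf 346) (.leaf 777)) (.node (.leaf 208) (.leaf 979)))) (.node (.node (.node (.leaf 231) (.leaf 349)) (.node (.leaf 164) (.leaf 986))) (.node (.node (.leaf 93) (.leaf 479)) (.node (.leaf 741) (.leaf 898)))))) (.node (.node (.node (.node (.node (.leaf 52) (.leaf 297)) (.node (.leaf 509) (.leaf 564))) (.node (.node (.leaf 316) (.leaf 399)) (.node (.leaf 563) (.leaf 751)))) (.node (.node (.node (.leaf 201) (.leaf 370)) (.node (.leaf 591) (.leaf 708)))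 (.node (.node (.leaf 86) (.leaf 461)) (.node (.leaf 267) (.leaf 928))))) (.node (.node (.node (.node (.leaf 16) (.leaf 318)) (.node (.leaf 541) (.leaf 663))) (.node (.node (.leaf 69) (.leaf 446)) (.node (.leaf 238) (.leaf 879)))) (.node (.node (.node (.leaf 42) (.leaf 858)) (.node (.leaf 634) (.leaf 667))) (.node (.node (.leaf 102) (.leaf 922)) (.node (.leaf 261) (.leaf 973))))))) (.node (.node (.node (.node (.node (.node (.leaf 31) (.leaf 758)) (.node (.leaf 115) (.leaf 673))) (.node (.node (.leaf 302) (.leaf 854)) (.node (.leaf 650) (.leaf 999)))) (.node (.node (.node (.leaf 25) (.leaf 334)) (.node (.leaf 557) (.leaf 600))) (.node (.node (.leaf 81) (.leaf 917)) (.node (.leaf 717) (.leaf 810))))) (.node (.node (.node (.node (.leaf 111) (.leaf 312)) (.node (.leaf 529) (.leaf 940))) (.node (.node (.leaf 66) (.leaf 416)) (.node (.leaf 693) (.leaf 769)))) (.node (.node (.node (.leaf 245) (.leaf 354)) (.node (.leaf 181) (.leaf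 655))) (.node (.node (.leaf 456) (.leaf 491)) (.node (.leaf 579) (.leaf 880)))))) (.node (.node (.node (.node (.node (.leaf 73) (.leaf 303)) (.node (.leaf 317) (.leaf 958))) (.node (.node (.leaf 332) (.leaf 437)) (.node (.leaf 668) (.leaf 726)))) (.node (.node (.node (.leaf 215) (.leaf 345)) (.node (.leaf 601) (.leaf 621))) (.node (.node (.leaf 432) (.leaf 511)) (.node (.leaf 732) (.leaf 864))))) (.node (.node (.node (.node (.leaf 150) (.leaf 323)) (.node (.leaf 555) (.leaf 584))) (.node (.node (.leaf 348) (.leaf 883)) (.node (.leaf 259) (.leaf 789)))) (.node (.node (.node (.leaf 45) (.leaf 830)) (.node (.leaf 624) (.leaf 1003))) (.node (.node (.leaf 482) (.leaf 522)) (.node (.leaf 268) (.leaf 972)))))))) (.node (.node (.node (.node (.node (.node (.node (.leaf 19) (.leaf 508)) (.node (.leaf 497) (.leaf 731))) (.node (.node (.leaf 293) (.leaf 386)) (.node (.leaf 628) (.leaf 686)))) (.node (.node (.node (.leaf 177) (.leaf 822))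 (.node (.leaf 574) (.leaf 984))) (.node (.node (.leaf 367) (.leaf 897)) (.node (.leaf 271) (.leaf 908))))) (.node (.node (.node (.node (.leaf 11) (.leaf 427)) (.node (.leaf 133) (.leaf 677))) (.node (.node (.leaf 355) (.leaf 805)) (.node (.leaf 687) (.leaf 853)))) (.node (.node (.node (.leaf 239) (.leaf 381)) (.node (.leaf 166) (.leaf 656))) (.node (.node (.leaf 95) (.leaf 481)) (.node (.leaf 251) (.leaf 1015)))))) (.node (.node (.node (.node (.node (.leaf 64) (.leaf 430)) (.node (.leaf 512) (.leaf 953))) (.node (.node (.leaf 326) (.leaf 872)) (.node (.leaf 654) (.leaf 713)))) (.node (.node (.node (.leaf 207) (.leaf 463)) (.node (.leaf 187) (.leaf 933))) (.node (.node (.leaf 88) (.leaf 826)) (.node (.leaf 727) (.leaf 866))))) (.node (.node (.node (.node (.leaf 140) (.leaf 320)) (.node (.leaf 546) (.leaf 632))) (.node (.node (.leaf 361) (.leaf 425)) (.node (.leaf 665) (.leaf 812)))) (.node (.node (.node (.leaf 270) (.leaf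 861)) (.node (.leaf 175) (.leaf 671))) (.node (.node (.leaf 105) (.leaf 931)) (.node (.leaf 264) (.leaf 996))))))) (.node (.node (.node (.node (.node (.node (.leaf 3) (.leaf 294)) (.node (.leaf 464) (.leaf 539))) (.node (.node (.leaf 308) (.leaf 759)) (.node (.leaf 194) (.leaf 1002)))) (.node (.node (.node (.leaf 192) (.leaf 336)) (.node (.leaf 154) (.leaf 651))) (.node (.node (.leaf 413) (.leaf 457)) (.node (.leaf 721) (.leaf 1009))))) (.node (.node (.node (.node (.leaf 121) (.leaf 329)) (.node (.leaf 535) (.leaf 955))) (.node (.node (.leaf 371) (.leaf 799)) (.node (.leaf 227) (.leaf 775)))) (.node (.node (.node (.leaf 254) (.leaf 857)) (.node (.leaf 630) (.leaf 698))) (.node (.node (.leaf 100) (.leaf 912)) (.node (.leaf 255) (.leaf 899)))))) (.node (.node (.node (.node (.node (.leaf 84) (.leaf 305)) (.node (.leaf 516) (.leaf 964))) (.node (.node (.leaf 340) (.leaf 884)) (.node (.leaf 205) (.leaf 740)))) (.node (.node (.node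 (.leaf 225) (.leaf 347)) (.node (.leaf 609) (.leaf 629))) (.node (.node (.leaf 438) (.leaf 514)) (.node (.leaf 257) (.leaf 871))))) (.node (.node (.node (.node (.leaf 20) (.leaf 815)) (.node (.leaf 281) (.leaf 588))) (.node (.node (.leaf 391) (.leaf 886)) (.node (.leaf 224) (.leaf 859)))) (.node (.node (.node (.leaf 260) (.leaf 388)) (.node (.leaf 613) (.leaf 680))) (.node (.node (.leaf 488) (.leaf 534)) (.node (.leaf 273) (.leaf 974))))))))) (.node (.node (.node (.node (.node (.node (.node (.node (.leaf 13) (.leaf 616)) (.node (.leaf 441) (.leaf 531))) (.node (.node (.leaf 50) (.leaf 844)) (.node (.leaf 596) (.leaf 1005)))) (.node (.node (.node (.leaf 172) (.leaf 489)) (.node (.leaf 569) (.leaf 595))) (.node (.node (.leaf 376) (.leaf 448)) (.node (.leaf 691) (.leaf 876))))) (.node (.node (.node (.node (.leaf 99) (.leaf 795)) (.node (.leaf 135) (.leaf 966))) (.node (.node (.leaf 351) (.leaf 887)) (.node (.leaf 230) (.leaf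 757)))) (.node (.node (.node (.leaf 35) (.leaf 350)) (.node (.leaf 165) (.leaf 736))) (.node (.node (.leaf 429) (.leaf 924)) (.node (.leaf 735) (.leaf 1022)))))) (.node (.node (.node (.node (.node (.leaf 5) (.leaf 771)) (.node (.leaf 296) (.leaf 578))) (.node (.node (.leaf 321) (.leaf 875)) (.node (.leaf 198) (.leaf 1008)))) (.node (.node (.node (.leaf 32) (.leaf 835)) (.node (.leaf 562) (.leaf 988))) (.node (.node (.leaf 424) (.leaf 510)) (.node (.leaf 286) (.leaf 929))))) (.node (.node (.node (.node (.leaf 134) (.leaf 401)) (.node (.leaf 543) (.leaf 738))) (.node (.node (.leaf 70) (.leaf 451)) (.node (.leaf 674) (.leaf 780)))) (.node (.node (.node (.leaf 265) (.leaf 363)) (.node (.leaf 173) (.leaf 697))) (.node (.node (.leaf 470) (.leaf 918)) (.node (.leaf 518) (.leaf 998))))))) (.node (.node (.node (.node (.node (.node (.leaf 37) (.leaf 486)) (.node (.leaf 465) (.leaf 538))) (.node (.node (.leaf 56) (.leaf 845)) (.node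 (.leaf 652) (.leaf 1004)))) (.node (.node (.node (.leaf 26) (.leaf 335)) (.node (.leaf 548) (.leaf 602))) (.node (.node (.leaf 82) (.leaf 836)) (.node (.leaf 718) (.leaf 902))))) (.node (.node (.node (.node (.leaf 116) (.leaf 313)) (.node (.leaf 532) (.leaf 568))) (.node (.node (.leaf 366) (.leaf 447)) (.node (.leaf 549) (.leaf 900)))) (.node (.node (.node (.leaf 250) (.leaf 384)) (.node (.leaf 627) (.leaf 659))) (.node (.node (.leaf 460) (.leaf 496)) (.node (.leaf 745) (.leaf 889)))))) (.node (.node (.node (.node (.node (.leaf 78) (.leaf 781)) (.node (.leaf 490) (.leaf 547))) (.node (.node (.leaf 59) (.leaf 881)) (.node (.leaf 672) (.leaf 754)))) (.node (.node (.node (.leaf 220) (.leaf 407)) (.node (.leaf 605) (.leaf 957))) (.node (.node (.leaf 436) (.leaf 773)) (.node (.leaf 282) (.leaf 850))))) (.node (.node (.node (.node (.leaf 155) (.leaf 398)) (.node (.leaf 180) (.leaf 631))) (.node (.node (.leaf 341) (.leaf 906)) (.node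 (.leaf 703) (.leaf 813)))) (.node (.node (.node (.leaf 46) (.leaf 863)) (.node (.leaf 642) (.leaf 951))) (.node (.node (.leaf 485) (.leaf 524)) (.node (.leaf 607) (.leaf 970)))))))) (.node (.node (.node (.node (.node (.node (.node (.leaf 1) (.leaf 289)) (.node (.leaf 114) (.leaf 941))) (.node (.node (.leaf 291) (.leaf 392)) (.node (.leaf 189) (.leaf 692)))) (.node (.node (.node (.leaf 24) (.leaf 494)) (.node (.leaf 168) (.leaf 712))) (.node (.node (.leaf 80) (.leaf 452)) (.node (.leaf 714) (.leaf 806))))) (.node (.node (.node (.node (.leaf 106) (.leaf 311)) (.node (.leaf 526) (.leaf 560))) (.node (.node (.leaf 65) (.leaf 415)) (.node (.leaf 690) (.leaf 772)))) (.node (.node (.node (.leaf 242) (.leaf 394)) (.node (.leaf 183) (.leaf 989))) (.node (.node (.leaf 97) (.leaf 760)) (.node (.leaf 644) (.leaf 905)))))) (.node (.node (.node (.node (.node (.leaf 60) (.leaf 301)) (.node (.leaf 122) (.leaf 956))) (.node (.node (.leaf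 330) (.leaf 817)) (.node (.leaf 603) (.leaf 720)))) (.node (.node (.node (.leaf 30) (.leaf 344)) (.node (.leaf 159) (.leaf 990))) (.node (.node (.leaf 89) (.leaf 469)) (.node (.leaf 730) (.leaf 833))))) (.node (.node (.node (.node (.leaf 18) (.leaf 322)) (.node (.leaf 551) (.leaf 728))) (.node (.node (.leaf 359) (.leaf 904)) (.node (.leaf 700) (.leaf 891)))) (.node (.node (.node (.leaf 272) (.leaf 827)) (.node (.leaf 176) (.leaf 675))) (.node (.node (.leaf 129) (.leaf 653)) (.node (.leaf 710) (.leaf 997))))))) (.node (.node (.node (.node (.node (.node (.leaf 47) (.leaf 442)) (.node (.leaf 453) (.leaf 540))) (.node (.node (.leaf 54) (.leaf 873)) (.node (.leaf 657) (.leaf 1006)))) (.node (.node (.node (.leaf 190) (.leaf 337)) (.node (.leaf 587) (.leaf 756))) (.node (.node (.leaf 85) (.leaf 504)) (.node (.leaf 597) (.leaf 860))))) (.node (.node (.node (.node (.leaf 15) (.leaf 404)) (.node (.leaf 537) (.leaf 573))) (.node (.node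 (.leaf 373) (.leaf 421)) (.node (.leaf 696) (.leaf 1016)))) (.node (.node (.node (.leaf 41) (.leaf 454)) (.node (.leaf 197) (.leaf 945))) (.node (.node (.leaf 101) (.leaf 913)) (.node (.leaf 276) (.leaf 1010)))))) (.node (.node (.node (.node (.node (.leaf 9) (.leaf 307)) (.node (.leaf 130) (.leaf 685))) (.node (.node (.leaf 343) (.leaf 885)) (.node (.leaf 679) (.leaf 744)))) (.node (.node (.node (.leaf 229) (.leaf 507)) (.node (.leaf 163) (.leaf 635))) (.node (.node (.leaf 92) (.leaf 483)) (.node (.leaf 737) (.leaf 914))))) (.node (.node (.node (.node (.leaf 162) (.leaf 800)) (.node (.leaf 146) (.leaf 982))) (.node (.node (.leaf 76) (.leaf 443)) (.node (.leaf 683) (.leaf 816)))) (.node (.node (.node (.leaf 258) (.leaf 834)) (.node (.leaf 604) (.leaf 682))) (.node (.node (.leaf 493) (.leaf 932)) (.node (.leaf 729) (.leaf 978))))))))))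

def twoNext : Janko.Tree (ℕ) := (.node (.node (.node twoNext0 twoNext4) (.node twoNext2 twoNext6)) (.node (.node twoNext1 twoNext5) (.node twoNext3 twoNext7)))

def twoWord0 : Janko.Tree (ℕ) :=
  (.node (.node (.node (.node (.node (.node (.node (.leaf 1) (.leaf 19996931)) (.node (.leaf 1192227) (.leaf 4311941651))) (.node (.node (.leaf 78355) (.leaf 271647521)) (.node (.leaf 16982274) (.leaf 4598149409)))) (.node (.node (.node (.leaf 66067) (.leaf 269685537)) (.node (.leaf 16855073) (.leaf 4328722963))) (.node (.node (.leaf 1114643) (.leaf 288432419)) (.node (.leaf 18030881) (.leaf 69022658865))))) (.node (.node (.node (.node (.leaf 4400) (.leaf 269619249)) (.node (.leaf 16843056) (.leaf 4313920018))) (.node (.node (.leaf 1057027) (.leaf 287322403)) (.node (.leaf 17961010) (.leaf 5101458194)))) (.node (.node (.node (.leaf 70435) (.leaf 270610690)) (.node (.leaf 16913185) (.leaf 4346356017))) (.node (.node (.leaf 1126689)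 (.leaf 303239201)) (.node (.leaf 18952451) (.leaf 69543723792)))))) (.node (.node (.node (.node (.node (.leaf 306) (.leaf 269496353)) (.node (.leaf 1249299) (.leaf 4313854257))) (.node (.node (.leaf 1053233) (.leaf 285409810)) (.node (.leaf 17838115) (.leaf 4832899602)))) (.node (.node (.node (.leaf 69681) (.leaf 270545201)) (.node (.leaf 16909072) (.leaf 4329771043))) (.node (.node (.leaf 1122593) (.leaf 302191122)) (.node (.leaf 18886962) (.leaf 69257539873))))) (.node (.node (.node (.node (.leaf 4897) (.leaf 269680929)) (.node (.leaf 16850963) (.leaf 4314964273))) (.node (.node (.leaf 1061122) (.leaf 287387954)) (.node (.leaf 18022691) (.leaf 69021544739)))) (.node (.node (.node (.leaf 74529) (.leaf 270737666)) (.node (.leaf 16974130) (.leaf 4597035297))) (.node (.node (.leaf 1183762) (.leaf 318902803)) (.node (.leaf 19079457) (.leaf 73838702881))))))) (.node (.node (.node (.node (.node (.node (.leaf 272) (.leaf 269488931))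 (.node (.leaf 1245473) (.leaf 4313846322))) (.node (.node (.leaf 1052721) (.leaf 285348624)) (.node (.leaf 17834033) (.leaf 4613808419)))) (.node (.node (.node (.leaf 66337) (.leaf 270537490)) (.node (.leaf 16855346) (.leaf 4329583122))) (.node (.node (.leaf 1114913) (.leaf 302067970)) (.node (.leaf 18879251) (.leaf 69038317873))))) (.node (.node (.node (.node (.leaf 4627) (.leaf 269620001)) (.node (.leaf 16843521) (.leaf 4314894897))) (.node (.node (.leaf 1057569) (.leaf 287376161)) (.node (.leaf 17961763) (.leaf 68991062547)))) (.node (.node (.node (.leaf 73987) (.leaf 270733345)) (.node (.leaf 16921104) (.leaf 4565578258))) (.node (.node (.leaf 1179939) (.leaf 303243553)) (.node (.leaf 19075107) (.leaf 73552564754)))))) (.node (.node (.node (.node (.node (.leaf 4145) (.leaf 269496881)) (.node (.leaf 1249841) (.leaf 4313908003))) (.node (.node (.leaf 1053475) (.leaf 287314481)) (.node (.leaf 17957155) (.leaf 4835119635))))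 (.node (.node (.node (.leaf 70193) (.leaf 270598945)) (.node (.leaf 16912433) (.leaf 4331741443))) (.node (.node (.leaf 1126416) (.leaf 303051058)) (.node (.leaf 18940707) (.leaf 69273326099))))) (.node (.node (.node (.node (.leaf 65840) (.leaf 269684769)) (.node (.leaf 16851250) (.leaf 4328599841))) (.node (.node (.leaf 1061395) (.leaf 288363027)) (.node (.leaf 18026531) (.leaf 69022527777)))) (.node (.node (.node (.leaf 78082) (.leaf 271586081)) (.node (.leaf 16977969) (.leaf 4598018306))) (.node (.node (.leaf 1184528) (.leaf 4311880466)) (.node (.leaf 19931394) (.leaf 1104344715795))))))))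

def twoWord1 : Janko.Tree (ℕ) :=
  (.node (.node (.node (.node (.node (.node (.node (.leaf 16) (.leaf 19996963)) (.node (.leaf 1192241) (.leaf 4311945249))) (.node (.node (.leaf 78385) (.leaf 271655171)) (.node (.leaf 16982275) (.leaf 4598149425)))) (.node (.node (.node (.leaf 66097) (.leaf 269689121)) (.node (.leaf 16855075) (.leaf 4328726817))) (.node (.node (.leaf 1114673) (.leaf 288432433)) (.node (.leaf 18031376) (.leaf 69022715937))))) (.node (.node (.node (.node (.leaf 4401) (.leaf 269619250)) (.node (.leaf 16843057) (.leaf 4313920019))) (.node (.node (.leaf 1057057) (.leaf 287322417)) (.node (.leaf 17961491) (.leaf 5119214352)))) (.node (.node (.node (.leaf 73744) (.leaf 270610691)) (.node (.leaf 16913187) (.leaf 4346482737))) (.node (.node (.leaf 1126691) (.leaf 303239203)) (.node (.leaf 18952481) (.leaf 69543735585)))))) (.node (.node (.node (.node (.node (.leaf 4112) (.leaf 269496355)) (.node (.leaf 1249313) (.leaf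 4313854258))) (.node (.node (.leaf 1053234) (.leaf 285409811)) (.node (.leaf 17838338) (.leaf 4833030433)))) (.node (.node (.node (.leaf 69682) (.leaf 270545202)) (.node (.leaf 16909074) (.leaf 4329771058))) (.node (.node (.leaf 1122595) (.leaf 302191123)) (.node (.leaf 18887186) (.leaf 69257596961))))) (.node (.node (.node (.node (.leaf 4899) (.leaf 269680931)) (.node (.leaf 16850993) (.leaf 4314964274))) (.node (.node (.leaf 1061123) (.leaf 287388178)) (.node (.leaf 18022705) (.leaf 69021544754)))) (.node (.node (.node (.leaf 74531) (.leaf 270737697)) (.node (.leaf 16974352) (.leaf 4597035299))) (.node (.node (.leaf 1183763) (.leaf 319824177)) (.node (.leaf 19927059) (.leaf 1103841398817))))))) (.node (.node (.node (.node (.node (.node (.leaf 274) (.leaf 269492273)) (.node (.leaf 1245475) (.leaf 4313846544))) (.node (.node (.leaf 1052722) (.leaf 285348626)) (.node (.leaf 17834289) (.leaf 4613808433)))) (.node (.node (.node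 (.leaf 66339) (.leaf 270537491)) (.node (.leaf 16855570) (.leaf 4329583123))) (.node (.node (.leaf 1114915) (.leaf 302068001)) (.node (.leaf 18879265) (.leaf 69038379539))))) (.node (.node (.node (.node (.leaf 4657) (.leaf 269620003)) (.node (.leaf 16843522) (.leaf 4314895137))) (.node (.node (.leaf 1057571) (.leaf 287376163)) (.node (.leaf 17969441) (.leaf 68991123987)))) (.node (.node (.node (.leaf 74017) (.leaf 270733347)) (.node (.leaf 16921106) (.leaf 4566553107))) (.node (.node (.leaf 1179953) (.leaf 305209603)) (.node (.leaf 19075121) (.leaf 73552564755)))))) (.node (.node (.node (.node (.node (.leaf 4146) (.leaf 269615395)) (.node (.leaf 1250064) (.leaf 4313915697))) (.node (.node (.leaf 1056784) (.leaf 287314482)) (.node (.leaf 17957169) (.leaf 4848816659)))) (.node (.node (.node (.leaf 70194) (.leaf 270598947)) (.node (.leaf 16912434) (.leaf 4331741475))) (.node (.node (.leaf 1126418) (.leaf 303051282)) (.node (.leaf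 18948401) (.leaf 69273329953))))) (.node (.node (.node (.node (.leaf 65841) (.leaf 269684771)) (.node (.leaf 16851730) (.leaf 4328599843))) (.node (.node (.leaf 1061425) (.leaf 288363057)) (.node (.leaf 18026545) (.leaf 69022527779)))) (.node (.node (.node (.leaf 78083) (.leaf 271589634)) (.node (.leaf 16977970) (.leaf 4598018337))) (.node (.node (.leaf 1184530) (.leaf 4311880467)) (.node (.leaf 19931395) (.leaf 1104344719649))))))))

def twoWord2 : Janko.Tree (ℕ) :=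
  (.node (.node (.node (.node (.node (.node (.node (.leaf 17) (.leaf 19996977)) (.node (.leaf 1192242) (.leaf 4311945744))) (.node (.node (.leaf 1052690) (.leaf 271655203)) (.node (.leaf 16982305) (.leaf 4598206497)))) (.node (.node (.node (.leaf 66098) (.leaf 269689616)) (.node (.leaf 16855297) (.leaf 4329579282))) (.node (.node (.leaf 1114674) (.leaf 288432434)) (.node (.leaf 18878513) (.leaf 69022716432))))) (.node (.node (.node (.node (.leaf 4402) (.leaf 269619731)) (.node (.leaf 16843058) (.leaf 4313920049))) (.node (.node (.leaf 1057059) (.leaf 287322418)) (.node (.leaf 17961521) (.leaf 5119226145)))) (.node (.node (.node (.leaf 73746) (.leaf 270610721)) (.node (.leaf 16920834) (.leaf 4346483472))) (.node (.node (.leaf 1126705) (.leaf 303239218)) (.node (.leaf 18952483) (.leaf 73049247777)))))) (.node (.node (.node (.node (.node (.leaf 4114) (.leaf 269496578)) (.node (.leaf 1249315) (.leaf 4313907761))) (.node (.node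 (.leaf 1053441) (.leaf 285413409)) (.node (.leaf 17838369) (.leaf 4833087521)))) (.node (.node (.node (.leaf 70145) (.leaf 270545426)) (.node (.leaf 16909075) (.leaf 4329771536))) (.node (.node (.leaf 1122609) (.leaf 302194977)) (.node (.leaf 18940465) (.leaf 69257597456))))) (.node (.node (.node (.node (.leaf 65793) (.leaf 269680945)) (.node (.leaf 16850994) (.leaf 4315025939))) (.node (.node (.leaf 1061153) (.leaf 287388179)) (.node (.leaf 18022706) (.leaf 69021544978)))) (.node (.node (.node (.leaf 77840) (.leaf 271585299)) (.node (.leaf 16974354) (.leaf 4597035314))) (.node (.node (.leaf 1183779) (.leaf 319950897)) (.node (.leaf 19927075) (.leaf 1103841399312))))))) (.node (.node (.node (.node (.node (.node (.leaf 275) (.leaf 269492529)) (.node (.leaf 1245489) (.leaf 4313846546))) (.node (.node (.leaf 1053185) (.leaf 285348627)) (.node (.leaf 17834290) (.leaf 4613870099)))) (.node (.node (.node (.leaf 69650) (.leaf 270537505))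 (.node (.leaf 16855571) (.leaf 4329706258))) (.node (.node (.leaf 1122322) (.leaf 302068003)) (.node (.leaf 18879267) (.leaf 69039300913))))) (.node (.node (.node (.node (.leaf 4658) (.leaf 269627681)) (.node (.leaf 16843536) (.leaf 4314898721))) (.node (.node (.leaf 1060880) (.leaf 287383857)) (.node (.leaf 17969443) (.leaf 68991131907)))) (.node (.node (.node (.leaf 74019) (.leaf 270733361)) (.node (.leaf 16974081) (.leaf 4566614547))) (.node (.node (.leaf 1179954) (.leaf 305209635)) (.node (.leaf 19075122) (.leaf 73552568609)))))) (.node (.node (.node (.node (.node (.leaf 4353) (.leaf 269615409)) (.node (.leaf 1250081) (.leaf 4313916178))) (.node (.node (.leaf 1056786) (.leaf 287314704)) (.node (.leaf 17957170) (.leaf 4848820513)))) (.node (.node (.node (.leaf 70401) (.leaf 270606641)) (.node (.leaf 16912915) (.leaf 4331803155))) (.node (.node (.leaf 1126419) (.leaf 303051283)) (.node (.leaf 18948402) (.leaf 69275423248)))))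 (.node (.node (.node (.node (.leaf 65842) (.leaf 269684785)) (.node (.leaf 16851731) (.leaf 4328599858))) (.node (.node (.leaf 1114403) (.leaf 288363297)) (.node (.leaf 18026546) (.leaf 69022527794)))) (.node (.node (.node (.leaf 78113) (.leaf 271589635)) (.node (.leaf 16978448) (.leaf 4598018339))) (.node (.node (.leaf 1184531) (.leaf 4311880481)) (.node (.leaf 19931425) (.leaf 1104360444435))))))))

def twoWord3 : Janko.Tree (ℕ) :=
  (.node (.node (.node (.node (.node (.node (.node (.leaf 18) (.leaf 19996978)) (.node (.leaf 1192464) (.leaf 4311945747))) (.node (.node (.leaf 1052691) (.leaf 271655217)) (.node (.leaf 16982800) (.leaf 4598206992)))) (.node (.node (.node (.leaf 66305) (.leaf 270536753)) (.node (.leaf 16855298) (.leaf 4329579283))) (.node (.node (.leaf 1114881) (.leaf 288494099)) (.node (.leaf 18878514) (.leaf 69022716434))))) (.node (.node (.node (.node (.leaf 4609) (.leaf 269619761)) (.node (.leaf 16843266)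 (.leaf 4314042896))) (.node (.node (.leaf 1057073) (.leaf 287375921)) (.node (.leaf 17961522) (.leaf 68990021923)))) (.node (.node (.node (.leaf 73747) (.leaf 270610723)) (.node (.leaf 16920835) (.leaf 4346483474))) (.node (.node (.leaf 1126706) (.leaf 303239696)) (.node (.leaf 18952498) (.leaf 73049248272)))))) (.node (.node (.node (.node (.node (.leaf 4115) (.leaf 269496609)) (.node (.leaf 1249329) (.leaf 4313907762))) (.node (.node (.leaf 1053442) (.leaf 285413904)) (.node (.leaf 17838371) (.leaf 4833088016)))) (.node (.node (.node (.leaf 70146) (.leaf 270598705)) (.node (.leaf 16909089) (.leaf 4329771538))) (.node (.node (.leaf 1122610) (.leaf 303047442)) (.node (.leaf 18940466) (.leaf 69257597458))))) (.node (.node (.node (.node (.leaf 65794) (.leaf 269680946)) (.node (.leaf 16851202) (.leaf 4328588050))) (.node (.node (.leaf 1061155) (.leaf 287388209)) (.node (.leaf 18022930) (.leaf 69021544979)))) (.node (.node (.node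 (.leaf 77842) (.leaf 271585315)) (.node (.leaf 16974355) (.leaf 4597035538))) (.node (.node (.leaf 1183793) (.leaf 319951632)) (.node (.leaf 19927090) (.leaf 1103841403169))))))) (.node (.node (.node (.node (.node (.node (.leaf 288) (.leaf 269492530)) (.node (.leaf 1245490) (.leaf 4313846547))) (.node (.node (.leaf 1053186) (.leaf 285348641)) (.node (.leaf 17834770) (.leaf 4614791473)))) (.node (.node (.node (.leaf 69651) (.leaf 270537507)) (.node (.leaf 16855601) (.leaf 4329706259))) (.node (.node (.leaf 1122323) (.leaf 302068018)) (.node (.leaf 18886914) (.leaf 69039427633))))) (.node (.node (.node (.node (.leaf 4865) (.leaf 269627683)) (.node (.leaf 16843538) (.leaf 4314956307))) (.node (.node (.leaf 1060882) (.leaf 287384338)) (.node (.leaf 17969457) (.leaf 68991131953)))) (.node (.node (.node (.leaf 74033) (.leaf 270733362)) (.node (.leaf 16974082) (.leaf 4566622467))) (.node (.node (.leaf 1180432) (.leaf 305271315))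 (.node (.leaf 19075600) (.leaf 73568293395)))))) (.node (.node (.node (.node (.node (.leaf 4354) (.leaf 269615410)) (.node (.leaf 1253634) (.leaf 4313916179))) (.node (.node (.leaf 1056787) (.leaf 287314706)) (.node (.leaf 17957650) (.leaf 4850913808)))) (.node (.node (.node (.leaf 70402) (.leaf 270606642)) (.node (.leaf 16912945) (.leaf 4345365041))) (.node (.node (.leaf 1126433) (.leaf 303174418)) (.node (.leaf 18948882) (.leaf 69276344579))))) (.node (.node (.node (.node (.leaf 66049) (.leaf 269684786)) (.node (.leaf 16851745) (.leaf 4328600082))) (.node (.node (.leaf 1114416) (.leaf 288366881)) (.node (.leaf 18027024) (.leaf 69022528018)))) (.node (.node (.node (.leaf 78115) (.leaf 271589665)) (.node (.leaf 16978450) (.leaf 4598018354))) (.node (.node (.leaf 1184545) (.leaf 4311888163)) (.node (.leaf 19931920) (.leaf 1104360448289))))))))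

def twoWord4 : Janko.Tree (ℕ) :=
  (.node (.node (.node (.node (.node (.node (.node (.leaf 19) (.leaf 20058643)) (.node (.leaf 1192466) (.leaf 4311945777))) (.node (.node (.leaf 1052704) (.leaf 271655218)) (.node (.leaf 17830658) (.leaf 4598206994)))) (.node (.node (.node (.leaf 66306) (.leaf 270536754)) (.node (.leaf 16855299) (.leaf 4329582850))) (.node (.node (.leaf 1114882) (.leaf 302056210)) (.node (.leaf 18879025) (.leaf 69022716435))))) (.node (.node (.node (.node (.leaf 4610) (.leaf 269619762)) (.node (.leaf 16843267) (.leaf 4314042899))) (.node (.node (.leaf 1057074) (.leaf 287375922)) (.node (.leaf 17961744) (.leaf 68990021938)))) (.node (.node (.node (.leaf 73777) (.leaf 270610738)) (.node (.leaf 16920865) (.leaf 4565512483))) (.node (.node (.leaf 1126930) (.leaf 303239698)) (.node (.leaf 18952722) (.leaf 73049252129)))))) (.node (.node (.node (.node (.node (.leaf 4128) (.leaf 269496611)) (.node (.leaf 1249330)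 (.leaf 4313907984))) (.node (.node (.leaf 1053456) (.leaf 285413907)) (.node (.leaf 17838386) (.leaf 4833088018)))) (.node (.node (.node (.leaf 70147) (.leaf 270598706)) (.node (.leaf 16909091) (.leaf 4329771539))) (.node (.node (.leaf 1123090) (.leaf 303047443)) (.node (.leaf 18940688) (.leaf 69257597459))))) (.node (.node (.node (.node (.leaf 65795) (.leaf 269681170)) (.node (.leaf 16851203) (.leaf 4328588065))) (.node (.node (.leaf 1061169) (.leaf 287511056)) (.node (.leaf 18022931) (.leaf 69021667859)))) (.node (.node (.node (.leaf 77843) (.leaf 271585330)) (.node (.leaf 16974385) (.leaf 4597035539))) (.node (.node (.leaf 1183794) (.leaf 319951634)) (.node (.leaf 19927570) (.leaf 1103857000753))))))) (.node (.node (.node (.node (.node (.node (.leaf 289) (.leaf 269493010)) (.node (.leaf 1245712) (.leaf 4313846561))) (.node (.node (.leaf 1053187) (.leaf 285356323)) (.node (.leaf 17834771) (.leaf 4614918193)))) (.node (.node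 (.node (.leaf 69664) (.leaf 270545154)) (.node (.leaf 16908547) (.leaf 4329713953))) (.node (.node (.leaf 1122353) (.leaf 302068242)) (.node (.leaf 18886915) (.leaf 69039428368))))) (.node (.node (.node (.node (.leaf 4866) (.leaf 269627697)) (.node (.leaf 16843539) (.leaf 4314956337))) (.node (.node (.leaf 1060883) (.leaf 287384339)) (.node (.leaf 17969458) (.leaf 69021541138)))) (.node (.node (.node (.leaf 74034) (.leaf 270733840)) (.node (.leaf 16974083) (.leaf 4566622513))) (.node (.node (.leaf 1180434) (.leaf 318833201)) (.node (.leaf 19075602) (.leaf 73568297249)))))) (.node (.node (.node (.node (.node (.leaf 4355) (.leaf 269615890)) (.node (.leaf 1253635) (.leaf 4313919746))) (.node (.node (.leaf 1056817) (.leaf 287314707)) (.node (.leaf 17957651) (.leaf 4851835139)))) (.node (.node (.node (.leaf 70416) (.leaf 270607122)) (.node (.leaf 16912946) (.leaf 4345365281))) (.node (.node (.leaf 1126435) (.leaf 303174419)) (.node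 (.leaf 18948883) (.leaf 69276344611))))) (.node (.node (.node (.node (.leaf 66050) (.leaf 269685264)) (.node (.leaf 16851747) (.leaf 4328600083))) (.node (.node (.leaf 1114417) (.leaf 288424467)) (.node (.leaf 18027026) (.leaf 69022528019)))) (.node (.node (.node (.leaf 78129) (.leaf 271590160)) (.node (.leaf 16978451) (.leaf 4598018578))) (.node (.node (.leaf 1184547) (.leaf 4311888177)) (.node (.leaf 19988786) (.leaf 1104363462915))))))))

def twoWord5 : Janko.Tree (ℕ) :=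
  (.node (.node (.node (.node (.node (.node (.node (.leaf 257) (.leaf 269488898)) (.node (.leaf 1245441) (.leaf 4311946017))) (.node (.node (.leaf 1052705) (.leaf 271716883)) (.node (.leaf 17830674) (.leaf 4598206995)))) (.node (.node (.node (.leaf 66320) (.leaf 270537265)) (.node (.leaf 16855329) (.leaf 4329582881))) (.node (.node (.leaf 1114896) (.leaf 302056225)) (.node (.leaf 18879026) (.leaf 69022720289))))) (.node (.node (.node (.node (.leaf 4611) (.leaf 269619984)) (.node (.leaf 16843283) (.leaf 4314043152))) (.node (.node (.leaf 1057552) (.leaf 287376144)) (.node (.leaf 17961746) (.leaf 68990087426)))) (.node (.node (.node (.leaf 73778) (.leaf 270610962)) (.node (.leaf 16920867) (.leaf 4565512498))) (.node (.node (.leaf 1126931) (.leaf 303239699)) (.node (.leaf 18952723) (.leaf 73064849713)))))) (.node (.node (.node (.node (.node (.leaf 4129) (.leaf 269496626)) (.node (.leaf 1249808) (.leaf 4313907986))) (.node (.node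 (.leaf 1053458) (.leaf 285413937)) (.node (.leaf 17838610) (.leaf 4833088019)))) (.node (.node (.node (.leaf 70160) (.leaf 270598928)) (.node (.leaf 16912402) (.leaf 4329771569))) (.node (.node (.leaf 1123091) (.leaf 303051010)) (.node (.leaf 18940690) (.leaf 69257601313))))) (.node (.node (.node (.node (.leaf 65824) (.leaf 269681171)) (.node (.leaf 16851233) (.leaf 4328596242))) (.node (.node (.leaf 1061170) (.leaf 287511059)) (.node (.leaf 18022961) (.leaf 69022524178)))) (.node (.node (.node (.leaf 77857) (.leaf 271585810)) (.node (.leaf 16977939) (.leaf 4597158419))) (.node (.node (.leaf 1184275) (.leaf 4311876370)) (.node (.leaf 19927571) (.leaf 1103858110513))))))) (.node (.node (.node (.node (.node (.node (.leaf 291) (.leaf 269493011)) (.node (.leaf 1245714) (.leaf 4313846563))) (.node (.node (.leaf 1053200) (.leaf 285356337)) (.node (.leaf 17834787) (.leaf 4614918928)))) (.node (.node (.node (.leaf 69665) (.leaf 270545155))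 (.node (.leaf 16908579) (.leaf 4329713969))) (.node (.node (.leaf 1122354) (.leaf 302068243)) (.node (.leaf 18886945) (.leaf 69039428370))))) (.node (.node (.node (.node (.leaf 4880) (.leaf 269627698)) (.node (.leaf 16843553) (.leaf 4314956577))) (.node (.node (.leaf 1060897) (.leaf 287387906)) (.node (.leaf 17969682) (.leaf 69021541139)))) (.node (.node (.node (.leaf 74512) (.leaf 270733842)) (.node (.leaf 16974113) (.leaf 4597031698))) (.node (.node (.leaf 1180435) (.leaf 318833441)) (.node (.leaf 19075603) (.leaf 73571311875)))))) (.node (.node (.node (.node (.node (.leaf 4384) (.leaf 269615891)) (.node (.leaf 1253665) (.leaf 4313919777))) (.node (.node (.leaf 1056818) (.leaf 287314721)) (.node (.leaf 17957667) (.leaf 4851835171)))) (.node (.node (.node (.leaf 70418) (.leaf 270607123)) (.node (.leaf 16913168) (.leaf 4345372963))) (.node (.node (.leaf 1126657) (.leaf 303182113)) (.node (.leaf 18948897) (.leaf 69276344625)))))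 (.node (.node (.node (.node (.leaf 66051) (.leaf 269685266)) (.node (.leaf 16855056) (.leaf 4328722467))) (.node (.node (.leaf 1114418) (.leaf 288424497)) (.node (.leaf 18027027) (.leaf 69022651154)))) (.node (.node (.node (.leaf 78130) (.leaf 271647026)) (.node (.leaf 16978481) (.leaf 4598018579))) (.node (.node (.leaf 1192194) (.leaf 4311888178)) (.node (.leaf 19989011) (.leaf 1104363462961))))))))

def twoWord6 : Janko.Tree (ℕ) :=
  (.node (.node (.node (.node (.node (.node (.node (.leaf 258) (.leaf 269488914)) (.node (.leaf 1245442) (.leaf 4311949601))) (.node (.node (.leaf 1052707) (.leaf 285344530)) (.node (.leaf 17830675) (.leaf 4598210849)))) (.node (.node (.node (.leaf 66322) (.leaf 270537266)) (.node (.leaf 16855331) (.leaf 4329582883))) (.node (.node (.leaf 1114898) (.leaf 302064402)) (.node (.leaf 18879248) (.leaf 69024686339))))) (.node (.node (.node (.node (.leaf 4624) (.leaf 269619986)) (.node (.leaf 16843313)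 (.leaf 4314894866))) (.node (.node (.leaf 1057554) (.leaf 287376146)) (.node (.leaf 17961747) (.leaf 68990087457)))) (.node (.node (.node (.leaf 73985) (.leaf 270610963)) (.node (.leaf 16920881) (.leaf 4565577986))) (.node (.node (.leaf 1126961) (.leaf 303239729)) (.node (.leaf 18952753) (.leaf 73065959473)))))) (.node (.node (.node (.node (.node (.leaf 4131) (.leaf 269496850)) (.node (.leaf 1249810) (.leaf 4313907987))) (.node (.node (.leaf 1053459) (.leaf 285414177)) (.node (.leaf 17838611) (.leaf 4833091873)))) (.node (.node (.node (.leaf 70162) (.leaf 270598930)) (.node (.leaf 16912403) (.leaf 4329771809))) (.node (.node (.leaf 1123105) (.leaf 303051041)) (.node (.leaf 18940691) (.leaf 69259567395))))) (.node (.node (.node (.node (.leaf 65825) (.leaf 269681201)) (.node (.leaf 16851235) (.leaf 4328596243))) (.node (.node (.leaf 1061392) (.leaf 287511312)) (.node (.leaf 18026515) (.leaf 69022524179)))) (.node (.node (.node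 (.leaf 77859) (.leaf 271585811)) (.node (.leaf 16977953) (.leaf 4598014738))) (.node (.node (.leaf 1184305) (.leaf 4311876371)) (.node (.leaf 19927601) (.leaf 1104344658209))))))) (.node (.node (.node (.node (.node (.node (.leaf 304) (.leaf 269493027)) (.node (.leaf 1245715) (.leaf 4313854241))) (.node (.node (.leaf 1053202) (.leaf 285356338)) (.node (.leaf 17838098) (.leaf 4614918930)))) (.node (.node (.node (.leaf 69667) (.leaf 270545185)) (.node (.leaf 16908593) (.leaf 4329714194))) (.node (.node (.leaf 1122562) (.leaf 302190627)) (.node (.leaf 18886947) (.leaf 69257408801))))) (.node (.node (.node (.node (.leaf 4882) (.leaf 269627922)) (.node (.leaf 16843555) (.leaf 4314964227))) (.node (.node (.leaf 1060899) (.leaf 287387937)) (.node (.leaf 18022658) (.leaf 69021544706)))) (.node (.node (.node (.leaf 74514) (.leaf 270733843)) (.node (.leaf 16974115) (.leaf 4597031699))) (.node (.node (.leaf 1180449) (.leaf 318841123))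 (.node (.leaf 19075856) (.leaf 73571311921)))))) (.node (.node (.node (.node (.node (.leaf 4385) (.leaf 269615907)) (.node (.leaf 1254160) (.leaf 4313919779))) (.node (.node (.leaf 1057025) (.leaf 287314723)) (.node (.leaf 17960995) (.leaf 4851835185)))) (.node (.node (.node (.leaf 70419) (.leaf 270607137)) (.node (.leaf 16913170) (.leaf 4345372977))) (.node (.node (.leaf 1126658) (.leaf 303182129)) (.node (.leaf 18952449) (.leaf 69276406291))))) (.node (.node (.node (.node (.leaf 66064) (.leaf 269685267)) (.node (.leaf 16855058) (.leaf 4328722482))) (.node (.node (.leaf 1114626) (.leaf 288424737)) (.node (.leaf 18027057) (.leaf 69022651155)))) (.node (.node (.node (.leaf 78352) (.leaf 271647251)) (.node (.leaf 16978704) (.leaf 4598141714))) (.node (.node (.leaf 1192195) (.leaf 4311941409)) (.node (.leaf 19989041) (.leaf 1104613085970))))))))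

def twoWord7 : Janko.Tree (ℕ) :=
  (.node (.node (.node (.node (.node (.node (.node (.leaf 259) (.leaf 269488915)) (.node (.leaf 1245443) (.leaf 4313846321))) (.node (.node (.leaf 1052720) (.leaf 285344531)) (.node (.leaf 17830691) (.leaf 4600176899)))) (.node (.node (.node (.leaf 66323) (.leaf 270537488)) (.node (.leaf 16855345) (.leaf 4329582898))) (.node (.node (.leaf 1114899) (.leaf 302064403)) (.node (.leaf 18879250) (.leaf 69038317859))))) (.node (.node (.node (.node (.leaf 4626) (.leaf 269619987)) (.node (.leaf 16843314) (.leaf 4314894867))) (.node (.node (.leaf 1057555) (.leaf 287376147)) (.node (.leaf 17961761) (.leaf 68990087698)))) (.node (.node (.node (.leaf 73986) (.leaf 270610993)) (.node (.leaf 16920882) (.leaf 4565578017))) (.node (.node (.leaf 1179907) (.leaf 303239969)) (.node (.leaf 19075105) (.leaf 73552507169)))))) (.node (.node (.node (.node (.node (.leaf 4144) (.leaf 269496851)) (.node (.leaf 1249811)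 (.leaf 4313908001))) (.node (.node (.leaf 1053473) (.leaf 285417761)) (.node (.leaf 17838641) (.leaf 4835057955)))) (.node (.node (.node (.leaf 70163) (.leaf 270598931)) (.node (.leaf 16912419) (.leaf 4329775393))) (.node (.node (.leaf 1123107) (.leaf 303051043)) (.node (.leaf 18940705) (.leaf 69259629075))))) (.node (.node (.node (.node (.leaf 65827) (.leaf 269684755)) (.node (.leaf 16851249) (.leaf 4328599810))) (.node (.node (.leaf 1061394) (.leaf 288363026)) (.node (.leaf 18026529) (.leaf 69022527746)))) (.node (.node (.node (.leaf 78081) (.leaf 271585841)) (.node (.leaf 16977955) (.leaf 4598014739))) (.node (.node (.leaf 1184306) (.leaf 4311880464)) (.node (.leaf 19927841) (.leaf 1104344715794))))))) (.node (.node (.node (.node (.node (.node (.leaf 305) (.leaf 269496338)) (.node (.leaf 1245745) (.leaf 4313854243))) (.node (.node (.leaf 1053203) (.leaf 285409569)) (.node (.leaf 17838113) (.leaf 4832899361)))) (.node (.node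 (.node (.leaf 69680) (.leaf 270545187)) (.node (.leaf 16908594) (.leaf 4329771041))) (.node (.node (.leaf 1122563) (.leaf 302190642)) (.node (.leaf 18886961) (.leaf 69257409042))))) (.node (.node (.node (.node (.leaf 4883) (.leaf 269680898)) (.node (.leaf 16850962) (.leaf 4314964259))) (.node (.node (.leaf 1061121) (.leaf 287387939)) (.node (.leaf 18022689) (.leaf 69021544737)))) (.node (.node (.node (.leaf 74515) (.leaf 270734096)) (.node (.leaf 16974129) (.leaf 4597035266))) (.node (.node (.leaf 1180451) (.leaf 318841137)) (.node (.leaf 19079426) (.leaf 73820934930)))))) (.node (.node (.node (.node (.node (.leaf 4387) (.leaf 269619235)) (.node (.leaf 16843043) (.leaf 4313919794))) (.node (.node (.leaf 1057026) (.leaf 287322401)) (.node (.leaf 17961009) (.leaf 4851896851)))) (.node (.node (.node (.leaf 70433) (.leaf 270610689)) (.node (.leaf 16913171) (.leaf 4345434643))) (.node (.node (.leaf 1126659) (.leaf 303182354))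 (.node (.leaf 18952450) (.leaf 69525967634))))) (.node (.node (.node (.node (.leaf 66066) (.leaf 269685297)) (.node (.leaf 16855059) (.leaf 4328722962))) (.node (.node (.leaf 1114627) (.leaf 288432387)) (.node (.leaf 18027297) (.leaf 69022658849)))) (.node (.node (.node (.leaf 78354) (.leaf 271647281)) (.node (.leaf 16978721) (.leaf 4598141715))) (.node (.node (.leaf 1192225) (.leaf 4311941650)) (.node (.leaf 19989281) (.leaf 1104630853921))))))))

def twoWord : Janko.Tree (ℕ) := (.node (.node (.node twoWord0 twoWord4) (.node twoWord2 twoWord6)) (.node (.node twoWord1 twoWord5) (.node twoWord3 twoWord7)))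

def twoPar0 : Janko.Tree (ℕ) :=
  (.node (.node (.node (.node (.node (.node (.node (.leaf 0) (.leaf 4435)) (.node (.leaf 1763) (.leaf 8451))) (.node (.node (.leaf 771) (.leaf 6033)) (.node (.leaf 2914) (.leaf 10929)))) (.node (.node (.node (.leaf 339) (.leaf 5249)) (.node (.leaf 2353) (.leaf 9443))) (.node (.node (.leaf 1235) (.leaf 7107)) (.node (.leaf 3649) (.leaf 12721))))) (.node (.node (.node (.node (.leaf 160) (.leaf 4929)) (.node (.leaf 2096) (.leaf 8834))) (.node (.node (.leaf 995) (.leaf 6579)) (.node (.leaf 3314) (.leaf 12018)))) (.node (.node (.node (.leaf 547) (.leaf 5586)) (.node (.leaf 2625) (.leaf 10209))) (.node (.node (.leaf 1489) (.leaf 7665)) (.node (.leaf 3971) (.leaf 13840)))))) (.node (.node (.node (.node (.node (.leaf 66) (.leaf 4753)) (.node (.leaf 1907) (.leaf 8657))) (.node (.node (.leaf 881) (.leaf 6386)) (.node (.leaf 3139) (.leaf 11346)))) (.node (.node (.node (.leaf 449) (.leaf 5409)) (.node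 (.leaf 2496) (.leaf 9731))) (.node (.node (.leaf 1377) (.leaf 7378)) (.node (.leaf 3794) (.leaf 13137))))) (.node (.node (.node (.node (.leaf 257) (.leaf 5089)) (.node (.leaf 2211) (.leaf 9185))) (.node (.node (.leaf 1106) (.leaf 6754)) (.node (.leaf 3475) (.leaf 12451)))) (.node (.node (.node (.leaf 673) (.leaf 5762)) (.node (.leaf 2754) (.leaf 10673))) (.node (.node (.leaf 1634) (.leaf 8099)) (.node (.leaf 4161) (.leaf 14561))))))) (.node (.node (.node (.node (.node (.node (.leaf 32) (.leaf 4643)) (.node (.leaf 1841) (.leaf 8594))) (.node (.node (.leaf 833) (.leaf 6288)) (.node (.leaf 3057) (.leaf 11123)))) (.node (.node (.node (.leaf 401) (.leaf 5346)) (.node (.leaf 2402) (.leaf 9602))) (.node (.node (.leaf 1297) (.leaf 7266)) (.node (.leaf 3731) (.leaf 12913))))) (.node (.node (.node (.node (.leaf 195) (.leaf 4993)) (.node (.leaf 2161) (.leaf 8977))) (.node (.node (.leaf 1057) (.leaf 6657)) (.node (.leaf 3379) (.leaf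 12259)))) (.node (.node (.node (.leaf 611) (.leaf 5665)) (.node (.leaf 2688) (.leaf 10418))) (.node (.node (.leaf 1571) (.leaf 7745)) (.node (.leaf 4051) (.leaf 14082)))))) (.node (.node (.node (.node (.node (.leaf 113) (.leaf 4833)) (.node (.leaf 1969) (.leaf 8723))) (.node (.node (.leaf 931) (.leaf 6529)) (.node (.leaf 3235) (.leaf 11555)))) (.node (.node (.node (.leaf 497) (.leaf 5521)) (.node (.leaf 2561) (.leaf 9923))) (.node (.node (.leaf 1440) (.leaf 7522)) (.node (.leaf 3907) (.leaf 13395))))) (.node (.node (.node (.node (.leaf 304) (.leaf 5169)) (.node (.leaf 2290) (.leaf 9345))) (.node (.node (.leaf 1155) (.leaf 6899)) (.node (.leaf 3555) (.leaf 12625)))) (.node (.node (.node (.leaf 722) (.leaf 5889)) (.node (.leaf 2833) (.leaf 10834))) (.node (.node (.leaf 1712) (.leaf 8354)) (.node (.leaf 4290) (.leaf 15091))))))))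

def twoPar1 : Janko.Tree (ℕ) :=
  (.node (.node (.node (.node (.node (.node (.node (.leaf 0) (.leaf 4451)) (.node (.leaf 1777) (.leaf 8481))) (.node (.node (.leaf 785) (.leaf 6051)) (.node (.leaf 2915) (.leaf 10945)))) (.node (.node (.node (.leaf 353) (.leaf 5265)) (.node (.leaf 2355) (.leaf 9505))) (.node (.node (.leaf 1249) (.leaf 7121)) (.node (.leaf 3680) (.leaf 12737))))) (.node (.node (.node (.node (.leaf 161) (.leaf 4930)) (.node (.leaf 2097) (.leaf 8835))) (.node (.node (.leaf 1009) (.leaf 6593)) (.node (.leaf 3331) (.leaf 12064)))) (.node (.node (.node (.leaf 560) (.leaf 5587)) (.node (.leaf 2627) (.leaf 10257))) (.node (.node (.leaf 1491) (.leaf 7667)) (.node (.leaf 3985) (.leaf 13873)))))) (.node (.node (.node (.node (.node (.leaf 80) (.leaf 4755)) (.node (.leaf 1921) (.leaf 8658))) (.node (.node (.leaf 882) (.leaf 6387)) (.node (.leaf 3154) (.leaf 11361)))) (.node (.node (.node (.leaf 450) (.leaf 5410)) (.node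 (.leaf 2498) (.leaf 9746))) (.node (.node (.leaf 1379) (.leaf 7379)) (.node (.leaf 3810) (.leaf 13169))))) (.node (.node (.node (.node (.leaf 259) (.leaf 5091)) (.node (.leaf 2241) (.leaf 9186))) (.node (.node (.leaf 1107) (.leaf 6770)) (.node (.leaf 3489) (.leaf 12466)))) (.node (.node (.node (.leaf 675) (.leaf 5777)) (.node (.leaf 2768) (.leaf 10675))) (.node (.node (.leaf 1635) (.leaf 8145)) (.node (.leaf 4179) (.leaf 14929))))))) (.node (.node (.node (.node (.node (.node (.leaf 34) (.leaf 4673)) (.node (.leaf 1843) (.leaf 8608))) (.node (.node (.leaf 834) (.leaf 6290)) (.node (.leaf 3073) (.leaf 11137)))) (.node (.node (.node (.leaf 403) (.leaf 5347)) (.node (.leaf 2418) (.leaf 9603))) (.node (.node (.leaf 1299) (.leaf 7281)) (.node (.leaf 3745) (.leaf 12963))))) (.node (.node (.node (.node (.leaf 209) (.leaf 4995)) (.node (.leaf 2162) (.leaf 9009))) (.node (.node (.leaf 1059) (.leaf 6659)) (.node (.leaf 3393) (.leaf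 12307)))) (.node (.node (.node (.leaf 625) (.leaf 5667)) (.node (.leaf 2690) (.leaf 10483))) (.node (.node (.leaf 1585) (.leaf 7859)) (.node (.leaf 4065) (.leaf 14083)))))) (.node (.node (.node (.node (.node (.leaf 114) (.leaf 4851)) (.node (.leaf 1984) (.leaf 8737))) (.node (.node (.leaf 944) (.leaf 6530)) (.node (.leaf 3249) (.leaf 11619)))) (.node (.node (.node (.leaf 498) (.leaf 5523)) (.node (.leaf 2562) (.leaf 9939))) (.node (.node (.leaf 1442) (.leaf 7538)) (.node (.leaf 3921) (.leaf 13441))))) (.node (.node (.node (.node (.leaf 305) (.leaf 5171)) (.node (.leaf 2306) (.leaf 9347))) (.node (.node (.leaf 1169) (.leaf 6913)) (.node (.leaf 3569) (.leaf 12627)))) (.node (.node (.node (.leaf 723) (.leaf 5906)) (.node (.leaf 2834) (.leaf 10849))) (.node (.node (.leaf 1714) (.leaf 8355)) (.node (.leaf 4291) (.leaf 15137))))))))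

def twoPar2 : Janko.Tree (ℕ) :=
  (.node (.node (.node (.node (.node (.node (.node (.leaf 1) (.leaf 4465)) (.node (.leaf 1778) (.leaf 8496))) (.node (.node (.leaf 802) (.leaf 6067)) (.node (.leaf 2929) (.leaf 10961)))) (.node (.node (.node (.leaf 354) (.leaf 5296)) (.node (.leaf 2369) (.leaf 9522))) (.node (.node (.leaf 1250) (.leaf 7122)) (.node (.leaf 3697) (.leaf 12752))))) (.node (.node (.node (.node (.leaf 162) (.leaf 4947)) (.node (.leaf 2098) (.leaf 8849))) (.node (.node (.leaf 1011) (.leaf 6594)) (.node (.leaf 3345) (.leaf 12097)))) (.node (.node (.node (.leaf 562) (.leaf 5601)) (.node (.leaf 2642) (.leaf 10288))) (.node (.node (.leaf 1505) (.leaf 7682)) (.node (.leaf 3987) (.leaf 13921)))))) (.node (.node (.node (.node (.node (.leaf 82) (.leaf 4770)) (.node (.leaf 1923) (.leaf 8689))) (.node (.node (.leaf 897) (.leaf 6417)) (.node (.leaf 3169) (.leaf 11393)))) (.node (.node (.node (.leaf 465) (.leaf 5426)) (.node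 (.leaf 2499) (.leaf 9760))) (.node (.node (.leaf 1393) (.leaf 7441)) (.node (.leaf 3873) (.leaf 13184))))) (.node (.node (.node (.node (.leaf 273) (.leaf 5105)) (.node (.leaf 2242) (.leaf 9235))) (.node (.node (.leaf 1121) (.leaf 6771)) (.node (.leaf 3490) (.leaf 12482)))) (.node (.node (.node (.leaf 688) (.leaf 5795)) (.node (.leaf 2770) (.leaf 10690))) (.node (.node (.leaf 1651) (.leaf 8193)) (.node (.leaf 4195) (.leaf 14944))))))) (.node (.node (.node (.node (.node (.node (.leaf 35) (.leaf 4689)) (.node (.leaf 1857) (.leaf 8610))) (.node (.node (.leaf 849) (.leaf 6291)) (.node (.leaf 3074) (.leaf 11187)))) (.node (.node (.node (.leaf 418) (.leaf 5361)) (.node (.leaf 2419) (.leaf 9634))) (.node (.node (.leaf 1314) (.leaf 7283)) (.node (.leaf 3747) (.leaf 12977))))) (.node (.node (.node (.node (.leaf 210) (.leaf 5009)) (.node (.leaf 2176) (.leaf 9025))) (.node (.node (.leaf 1072) (.leaf 6673)) (.node (.leaf 3395) (.leaf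 12323)))) (.node (.node (.node (.leaf 627) (.leaf 5681)) (.node (.leaf 2721) (.leaf 10531))) (.node (.node (.leaf 1586) (.leaf 7875)) (.node (.leaf 4066) (.leaf 14129)))))) (.node (.node (.node (.node (.node (.leaf 129) (.leaf 4865)) (.node (.leaf 2001) (.leaf 8754))) (.node (.node (.leaf 946) (.leaf 6544)) (.node (.leaf 3250) (.leaf 11665)))) (.node (.node (.node (.leaf 513) (.leaf 5537)) (.node (.leaf 2579) (.leaf 10003))) (.node (.node (.leaf 1443) (.leaf 7539)) (.node (.leaf 3922) (.leaf 13504))))) (.node (.node (.node (.node (.leaf 306) (.leaf 5185)) (.node (.leaf 2307) (.leaf 9362))) (.node (.node (.leaf 1187) (.leaf 6945)) (.node (.leaf 3570) (.leaf 12642)))) (.node (.node (.node (.leaf 737) (.leaf 5907)) (.node (.leaf 2848) (.leaf 10851))) (.node (.node (.leaf 1715) (.leaf 8369)) (.node (.leaf 4305) (.leaf 15235))))))))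

def twoPar3 : Janko.Tree (ℕ) :=
  (.node (.node (.node (.node (.node (.node (.node (.leaf 2) (.leaf 4466)) (.node (.leaf 1792) (.leaf 8499))) (.node (.node (.leaf 803) (.leaf 6081)) (.node (.leaf 2960) (.leaf 10976)))) (.node (.node (.node (.leaf 369) (.leaf 5313)) (.node (.leaf 2370) (.leaf 9523))) (.node (.node (.leaf 1265) (.leaf 7171)) (.node (.leaf 3698) (.leaf 12754))))) (.node (.node (.node (.node (.leaf 177) (.leaf 4961)) (.node (.leaf 2114) (.leaf 8864))) (.node (.node (.leaf 1025) (.leaf 6625)) (.node (.leaf 3346) (.leaf 12115)))) (.node (.node (.node (.leaf 563) (.leaf 5603)) (.node (.leaf 2643) (.leaf 10290))) (.node (.node (.leaf 1506) (.leaf 7696)) (.node (.leaf 4002) (.leaf 13936)))))) (.node (.node (.node (.node (.node (.leaf 83) (.leaf 4785)) (.node (.leaf 1937) (.leaf 8690))) (.node (.node (.leaf 898) (.leaf 6432)) (.node (.leaf 3171) (.leaf 11408)))) (.node (.node (.node (.leaf 466) (.leaf 5489)) (.node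 (.leaf 2513) (.leaf 9762))) (.node (.node (.leaf 1394) (.leaf 7458)) (.node (.leaf 3874) (.leaf 13186))))) (.node (.node (.node (.node (.leaf 274) (.leaf 5106)) (.node (.leaf 2258) (.leaf 9266))) (.node (.node (.leaf 1123) (.leaf 6785)) (.node (.leaf 3506) (.leaf 12483)))) (.node (.node (.node (.leaf 690) (.leaf 5811)) (.node (.leaf 2771) (.leaf 10706))) (.node (.node (.leaf 1665) (.leaf 8224)) (.node (.leaf 4210) (.leaf 14961))))))) (.node (.node (.node (.node (.node (.node (.leaf 48) (.leaf 4690)) (.node (.leaf 1858) (.leaf 8611))) (.node (.node (.leaf 850) (.leaf 6305)) (.node (.leaf 3090) (.leaf 11201)))) (.node (.node (.node (.leaf 419) (.leaf 5363)) (.node (.leaf 2433) (.leaf 9635))) (.node (.node (.leaf 1315) (.leaf 7298)) (.node (.leaf 3762) (.leaf 13025))))) (.node (.node (.node (.node (.leaf 225) (.leaf 5011)) (.node (.leaf 2178) (.leaf 9091))) (.node (.node (.leaf 1074) (.leaf 6690)) (.node (.leaf 3409) (.leaf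 12337)))) (.node (.node (.node (.leaf 641) (.leaf 5682)) (.node (.leaf 2722) (.leaf 10547))) (.node (.node (.leaf 1600) (.leaf 7939)) (.node (.leaf 4080) (.leaf 14227)))))) (.node (.node (.node (.node (.node (.leaf 130) (.leaf 4866)) (.node (.leaf 2018) (.leaf 8755))) (.node (.node (.leaf 947) (.leaf 6546)) (.node (.leaf 3266) (.leaf 11728)))) (.node (.node (.node (.leaf 514) (.leaf 5538)) (.node (.leaf 2593) (.leaf 10033))) (.node (.node (.leaf 1457) (.leaf 7570)) (.node (.leaf 3938) (.leaf 13603))))) (.node (.node (.node (.node (.leaf 321) (.leaf 5186)) (.node (.leaf 2321) (.leaf 9378))) (.node (.node (.leaf 1200) (.leaf 6961)) (.node (.leaf 3584) (.leaf 12658)))) (.node (.node (.node (.leaf 739) (.leaf 5921)) (.node (.leaf 2850) (.leaf 10866))) (.node (.node (.leaf 1729) (.leaf 8387)) (.node (.leaf 4336) (.leaf 15281))))))))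

def twoPar4 : Janko.Tree (ℕ) :=
  (.node (.node (.node (.node (.node (.node (.node (.leaf 3) (.leaf 4563)) (.node (.leaf 1794) (.leaf 8513))) (.node (.node (.leaf 816) (.leaf 6082)) (.node (.leaf 2994) (.leaf 10978)))) (.node (.node (.node (.leaf 370) (.leaf 5314)) (.node (.leaf 2371) (.leaf 9554))) (.node (.node (.leaf 1266) (.leaf 7202)) (.node (.leaf 3713) (.leaf 12755))))) (.node (.node (.node (.node (.leaf 178) (.leaf 4962)) (.node (.leaf 2115) (.leaf 8867))) (.node (.node (.leaf 1026) (.leaf 6626)) (.node (.leaf 3360) (.leaf 12130)))) (.node (.node (.node (.leaf 593) (.leaf 5618)) (.node (.leaf 2657) (.leaf 10339))) (.node (.node (.leaf 1522) (.leaf 7698)) (.node (.leaf 4018) (.leaf 13953)))))) (.node (.node (.node (.node (.node (.leaf 96) (.leaf 4787)) (.node (.leaf 1938) (.leaf 8704))) (.node (.node (.leaf 912) (.leaf 6435)) (.node (.leaf 3186) (.leaf 11410)))) (.node (.node (.node (.leaf 467) (.leaf 5490)) (.node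 (.leaf 2515) (.leaf 9763))) (.node (.node (.leaf 1410) (.leaf 7459)) (.node (.leaf 3888) (.leaf 13187))))) (.node (.node (.node (.node (.leaf 275) (.leaf 5122)) (.node (.leaf 2259) (.leaf 9281))) (.node (.node (.leaf 1137) (.leaf 6800)) (.node (.leaf 3507) (.leaf 12515)))) (.node (.node (.node (.leaf 691) (.leaf 5826)) (.node (.leaf 2785) (.leaf 10707))) (.node (.node (.leaf 1666) (.leaf 8226)) (.node (.leaf 4226) (.leaf 14977))))))) (.node (.node (.node (.node (.node (.node (.leaf 49) (.leaf 4706)) (.node (.leaf 1872) (.leaf 8625))) (.node (.node (.leaf 851) (.leaf 6323)) (.node (.leaf 3091) (.leaf 11249)))) (.node (.node (.node (.leaf 432) (.leaf 5378)) (.node (.leaf 2451) (.leaf 9665))) (.node (.node (.leaf 1345) (.leaf 7314)) (.node (.leaf 3763) (.leaf 13056))))) (.node (.node (.node (.node (.leaf 226) (.leaf 5025)) (.node (.leaf 2179) (.leaf 9105))) (.node (.node (.leaf 1075) (.leaf 6691)) (.node (.leaf 3410) (.leaf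 12402)))) (.node (.node (.node (.leaf 642) (.leaf 5696)) (.node (.leaf 2723) (.leaf 10561))) (.node (.node (.leaf 1602) (.leaf 7969)) (.node (.leaf 4082) (.leaf 14273)))))) (.node (.node (.node (.node (.node (.leaf 131) (.leaf 4882)) (.node (.leaf 2019) (.leaf 8786))) (.node (.node (.leaf 977) (.leaf 6547)) (.node (.leaf 3267) (.leaf 11827)))) (.node (.node (.node (.leaf 528) (.leaf 5554)) (.node (.leaf 2594) (.leaf 10049))) (.node (.node (.leaf 1459) (.leaf 7571)) (.node (.leaf 3939) (.leaf 13619))))) (.node (.node (.node (.node (.leaf 322) (.leaf 5200)) (.node (.leaf 2323) (.leaf 9379))) (.node (.node (.leaf 1201) (.leaf 7027)) (.node (.leaf 3586) (.leaf 12659)))) (.node (.node (.node (.leaf 753) (.leaf 5952)) (.node (.leaf 2851) (.leaf 10882))) (.node (.node (.leaf 1731) (.leaf 8401)) (.node (.leaf 4354) (.leaf 15395))))))))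

def twoPar5 : Janko.Tree (ℕ) :=
  (.node (.node (.node (.node (.node (.node (.node (.leaf 17) (.leaf 4610)) (.node (.leaf 1825) (.leaf 8529))) (.node (.node (.leaf 817) (.leaf 6179)) (.node (.leaf 3010) (.leaf 10979)))) (.node (.node (.node (.leaf 384) (.leaf 5329)) (.node (.leaf 2385) (.leaf 9569))) (.node (.node (.leaf 1280) (.leaf 7217)) (.node (.leaf 3714) (.leaf 12801))))) (.node (.node (.node (.node (.leaf 179) (.leaf 4976)) (.node (.leaf 2131) (.leaf 8896))) (.node (.node (.leaf 1040) (.leaf 6640)) (.node (.leaf 3362) (.leaf 12146)))) (.node (.node (.node (.leaf 594) (.leaf 5634)) (.node (.leaf 2659) (.leaf 10354))) (.node (.node (.leaf 1523) (.leaf 7699)) (.node (.leaf 4019) (.leaf 13969)))))) (.node (.node (.node (.node (.node (.leaf 97) (.leaf 4802)) (.node (.leaf 1952) (.leaf 8706))) (.node (.node (.leaf 914) (.leaf 6449)) (.node (.leaf 3202) (.leaf 11411)))) (.node (.node (.node (.leaf 480) (.leaf 5504)) (.node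 (.leaf 2530) (.leaf 9777))) (.node (.node (.leaf 1411) (.leaf 7490)) (.node (.leaf 3890) (.leaf 13233))))) (.node (.node (.node (.node (.leaf 288) (.leaf 5123)) (.node (.leaf 2273) (.leaf 9298))) (.node (.node (.leaf 1138) (.leaf 6803)) (.node (.leaf 3521) (.leaf 12578)))) (.node (.node (.node (.leaf 705) (.leaf 5842)) (.node (.leaf 2803) (.leaf 10739))) (.node (.node (.leaf 1683) (.leaf 8338)) (.node (.leaf 4227) (.leaf 15009))))))) (.node (.node (.node (.node (.node (.node (.leaf 51) (.leaf 4707)) (.node (.leaf 1874) (.leaf 8627))) (.node (.node (.leaf 864) (.leaf 6337)) (.node (.leaf 3107) (.leaf 11280)))) (.node (.node (.node (.leaf 433) (.leaf 5379)) (.node (.leaf 2467) (.leaf 9681))) (.node (.node (.leaf 1346) (.leaf 7315)) (.node (.leaf 3777) (.leaf 13058))))) (.node (.node (.node (.node (.leaf 240) (.leaf 5026)) (.node (.leaf 2193) (.leaf 9137))) (.node (.node (.leaf 1089) (.leaf 6722)) (.node (.leaf 3426) (.leaf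 12403)))) (.node (.node (.node (.leaf 656) (.leaf 5698)) (.node (.leaf 2737) (.leaf 10626))) (.node (.node (.leaf 1603) (.leaf 7985)) (.node (.leaf 4083) (.leaf 14387)))))) (.node (.node (.node (.node (.node (.leaf 144) (.leaf 4883)) (.node (.leaf 2033) (.leaf 8801))) (.node (.node (.leaf 978) (.leaf 6561)) (.node (.leaf 3283) (.leaf 11843)))) (.node (.node (.node (.leaf 530) (.leaf 5555)) (.node (.leaf 2608) (.leaf 10067))) (.node (.node (.leaf 1473) (.leaf 7601)) (.node (.leaf 3953) (.leaf 13633))))) (.node (.node (.node (.node (.leaf 323) (.leaf 5202)) (.node (.leaf 2336) (.leaf 9411))) (.node (.node (.leaf 1202) (.leaf 7041)) (.node (.leaf 3587) (.leaf 12690)))) (.node (.node (.node (.leaf 754) (.leaf 5970)) (.node (.leaf 2865) (.leaf 10883))) (.node (.node (.leaf 1746) (.leaf 8402)) (.node (.leaf 4371) (.leaf 15425))))))))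

def twoPar6 : Janko.Tree (ℕ) :=
  (.node (.node (.node (.node (.node (.node (.node (.leaf 18) (.leaf 4626)) (.node (.leaf 1826) (.leaf 8545))) (.node (.node (.leaf 819) (.leaf 6274)) (.node (.leaf 3011) (.leaf 11025)))) (.node (.node (.node (.leaf 386) (.leaf 5330)) (.node (.leaf 2387) (.leaf 9571))) (.node (.node (.leaf 1282) (.leaf 7234)) (.node (.leaf 3728) (.leaf 12851))))) (.node (.node (.node (.node (.leaf 192) (.leaf 4978)) (.node (.leaf 2145) (.leaf 8962))) (.node (.node (.leaf 1042) (.leaf 6642)) (.node (.leaf 3363) (.leaf 12161)))) (.node (.node (.node (.leaf 609) (.leaf 5635)) (.node (.leaf 2673) (.leaf 10370))) (.node (.node (.leaf 1537) (.leaf 7713)) (.node (.leaf 4033) (.leaf 14001)))))) (.node (.node (.node (.node (.node (.leaf 99) (.leaf 4818)) (.node (.leaf 1954) (.leaf 8707))) (.node (.node (.leaf 915) (.leaf 6465)) (.node (.leaf 3203) (.leaf 11457)))) (.node (.node (.node (.leaf 482) (.leaf 5506)) (.node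 (.leaf 2531) (.leaf 9793))) (.node (.node (.leaf 1425) (.leaf 7505)) (.node (.leaf 3891) (.leaf 13299))))) (.node (.node (.node (.node (.leaf 289) (.leaf 5137)) (.node (.leaf 2275) (.leaf 9299))) (.node (.node (.leaf 1152) (.leaf 6832)) (.node (.leaf 3539) (.leaf 12579)))) (.node (.node (.node (.leaf 707) (.leaf 5843)) (.node (.leaf 2817) (.leaf 10802))) (.node (.node (.leaf 1697) (.leaf 8339)) (.node (.leaf 4241) (.leaf 15041))))))) (.node (.node (.node (.node (.node (.node (.leaf 64) (.leaf 4723)) (.node (.leaf 1875) (.leaf 8641))) (.node (.node (.leaf 866) (.leaf 6338)) (.node (.leaf 3122) (.leaf 11282)))) (.node (.node (.node (.leaf 435) (.leaf 5393)) (.node (.leaf 2481) (.leaf 9698))) (.node (.node (.leaf 1362) (.leaf 7347)) (.node (.leaf 3779) (.leaf 13105))))) (.node (.node (.node (.node (.leaf 242) (.leaf 5042)) (.node (.leaf 2195) (.leaf 9155))) (.node (.node (.leaf 1091) (.leaf 6737)) (.node (.leaf 3458) (.leaf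 12434)))) (.node (.node (.node (.leaf 658) (.leaf 5699)) (.node (.leaf 2739) (.leaf 10627))) (.node (.node (.leaf 1617) (.leaf 8003)) (.node (.leaf 4112) (.leaf 14417)))))) (.node (.node (.node (.node (.node (.leaf 145) (.leaf 4899)) (.node (.leaf 2064) (.leaf 8803))) (.node (.node (.leaf 993) (.leaf 6563)) (.node (.leaf 3299) (.leaf 11857)))) (.node (.node (.node (.leaf 531) (.leaf 5569)) (.node (.leaf 2610) (.leaf 10081))) (.node (.node (.leaf 1474) (.leaf 7617)) (.node (.leaf 3969) (.leaf 13683))))) (.node (.node (.node (.node (.leaf 336) (.leaf 5203)) (.node (.leaf 2338) (.leaf 9426))) (.node (.node (.leaf 1218) (.leaf 7073)) (.node (.leaf 3601) (.leaf 12691)))) (.node (.node (.node (.leaf 768) (.leaf 5987)) (.node (.leaf 2880) (.leaf 10914))) (.node (.node (.leaf 1747) (.leaf 8433)) (.node (.leaf 4385) (.leaf 15490))))))))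

def twoPar7 : Janko.Tree (ℕ) :=
  (.node (.node (.node (.node (.node (.node (.node (.leaf 19) (.leaf 4627)) (.node (.leaf 1827) (.leaf 8593))) (.node (.node (.leaf 832) (.leaf 6275)) (.node (.leaf 3027) (.leaf 11075)))) (.node (.node (.node (.leaf 387) (.leaf 5344)) (.node (.leaf 2401) (.leaf 9586))) (.node (.node (.leaf 1283) (.leaf 7235)) (.node (.leaf 3730) (.leaf 12899))))) (.node (.node (.node (.node (.leaf 194) (.leaf 4979)) (.node (.leaf 2146) (.leaf 8963))) (.node (.node (.leaf 1043) (.leaf 6643)) (.node (.leaf 3377) (.leaf 12194)))) (.node (.node (.node (.leaf 610) (.leaf 5649)) (.node (.leaf 2674) (.leaf 10385))) (.node (.node (.leaf 1555) (.leaf 7729)) (.node (.leaf 4049) (.leaf 14033)))))) (.node (.node (.node (.node (.node (.leaf 112) (.leaf 4819)) (.node (.leaf 1955) (.leaf 8721))) (.node (.node (.leaf 929) (.leaf 6481)) (.node (.leaf 3217) (.leaf 11523)))) (.node (.node (.node (.leaf 483) (.leaf 5507)) (.node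 (.leaf 2547) (.leaf 9809))) (.node (.node (.leaf 1427) (.leaf 7507)) (.node (.leaf 3905) (.leaf 13331))))) (.node (.node (.node (.node (.leaf 291) (.leaf 5155)) (.node (.leaf 2289) (.leaf 9330))) (.node (.node (.leaf 1154) (.leaf 6898)) (.node (.leaf 3553) (.leaf 12610)))) (.node (.node (.node (.leaf 721) (.leaf 5857)) (.node (.leaf 2819) (.leaf 10803))) (.node (.node (.leaf 1698) (.leaf 8352)) (.node (.leaf 4273) (.leaf 15090))))))) (.node (.node (.node (.node (.node (.node (.leaf 65) (.leaf 4738)) (.node (.leaf 1889) (.leaf 8643))) (.node (.node (.leaf 867) (.leaf 6369)) (.node (.leaf 3137) (.leaf 11329)))) (.node (.node (.node (.leaf 448) (.leaf 5395)) (.node (.leaf 2482) (.leaf 9729))) (.node (.node (.leaf 1363) (.leaf 7362)) (.node (.leaf 3793) (.leaf 13122))))) (.node (.node (.node (.node (.leaf 243) (.leaf 5074)) (.node (.leaf 2210) (.leaf 9171))) (.node (.node (.leaf 1105) (.leaf 6739)) (.node (.leaf 3473) (.leaf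 12449)))) (.node (.node (.node (.leaf 659) (.leaf 5728)) (.node (.leaf 2753) (.leaf 10658))) (.node (.node (.leaf 1619) (.leaf 8017)) (.node (.leaf 4146) (.leaf 14482)))))) (.node (.node (.node (.node (.node (.leaf 147) (.leaf 4915)) (.node (.leaf 2083) (.leaf 8818))) (.node (.node (.leaf 994) (.leaf 6577)) (.node (.leaf 3313) (.leaf 11907)))) (.node (.node (.node (.leaf 545) (.leaf 5585)) (.node (.leaf 2611) (.leaf 10163))) (.node (.node (.leaf 1475) (.leaf 7634)) (.node (.leaf 3970) (.leaf 13794))))) (.node (.node (.node (.node (.leaf 338) (.leaf 5217)) (.node (.leaf 2339) (.leaf 9442))) (.node (.node (.leaf 1219) (.leaf 7091)) (.node (.leaf 3633) (.leaf 12705)))) (.node (.node (.node (.leaf 770) (.leaf 6001)) (.node (.leaf 2897) (.leaf 10915))) (.node (.node (.leaf 1761) (.leaf 8450)) (.node (.leaf 4417) (.leaf 15569))))))))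

def twoPar : Janko.Tree (ℕ) := (.node (.node (.node twoPar0 twoPar4) (.node twoPar2 twoPar6)) (.node (.node twoPar1 twoPar5) (.node twoPar3 twoPar7)))

def twoL0 : Janko.Tree (List ℤ) :=
  (.node (.node (.node (.node (.node (.node (.node (.node (.node (.node (.leaf []) (.leaf [1, 0, 0, 0, 0, 0, 0, 0, 0, 0, 0, 0, 0, 0, 0])) (.leaf [0, 0, 1, 0, 0, 0, 0, 0, 0, 1])) (.node (.leaf [1, 0, 1, 1, 1]) (.leaf [1, 1, 1, 1, 1, 0, 0, 1]))) (.node (.node (.leaf [0, 1, 1, 1, 1, 0, 0, 1]) (.leaf [1, 0, 1, 1, 0, 1, 0, 0, 0, 0, 0, 1])) (.node (.leaf [1, 1, 0, 0, 0, 0, 1, 1]) (.leaf [1, 0, 0, 1, 0, 1, 0, 0, 0, 1, 0, 1])))) (.node (.node (.node (.leaf [1, 1, 1, 1, 1, 0, 0, 1]) (.leaf [1, 0, 1, 1, 0, 0, 0, 0, 0, 0, 0, 1])) (.node (.leaf [1, 0, 0, 0, 1, 1, 1, 0, 0, 0, 0, 1]) (.leaf [0, 0, 0, 1, 1, 1, 1, 0, 0, 1]))) (.node (.node (.leaf [1, 1, 1, 1, 1, 0, 0, 1]) (.leaf [1, 1, 0, 0, 1, 1, 0, 1, 1, 0, 0, 1])) (.node (.leaf [0, 1, 0, 0, 0, 0, 0,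 1, 0, 0, 1]) (.leaf [1, 0, 1, 0, 0, 1, 0, 0, 0, 1]))))) (.node (.node (.node (.node (.leaf [1]) (.leaf [])) (.node (.leaf [1]) (.leaf [1, 0, 1, 1, 1]))) (.node (.node (.leaf [1, 1, 1, 1, 1, 0, 1, 1]) (.leaf [0, 0, 1, 0, 1, 1, 1, 0, 0, 1, 0, 1])) (.node (.leaf [0, 0, 1, 1, 1]) (.leaf [0, 0, 0, 1, 1, 0, 1, 0, 1, 0, 1, 0, 1, 0, 1])))) (.node (.node (.node (.leaf [1, 0, 1, 1, 1]) (.leaf [0, 1, 1, 1, 1, 0, 1, 1])) (.node (.leaf [1, 0, 1, 1, 0, 1, 0, 0, 0, 0, 0, 1]) (.leaf [0, 1, 1, 1, 0, 1, 0, 1, 0, 0, 1, 1, 1, 0, 1]))) (.node (.node (.leaf []) (.leaf [0, 0, 1, 0, 0, 0, 0, 0, 0, 1])) (.node (.leaf [1, 0, 0, 1, 0, 1, 0, 0, 1, 0, 0, 1, 1]) (.leaf [1])))))) (.node (.node (.node (.node (.node (.leaf [1, 0, 1, 1, 1]) (.leaf [1, 0, 0, 0, 1, 1, 1, 0, 0, 0, 0, 1])) (.node (.leaf [0, 0, 0, 0, 0, 0, 1]) (.leaf [0, 1, 0, 0, 0, 1, 0, 1]))) (.node (.node (.leaf [0, 0, 1, 1, 0, 1, 0, 0, 0, 0, 0, 1]) (.leaf [0, 1, 0, 0, 0, 0, 0, 1])) (.node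 (.leaf [0, 0, 1, 1, 1]) (.leaf [1, 0, 1, 1, 1])))) (.node (.node (.node (.leaf []) (.leaf [0, 0, 1, 1, 0, 1, 0, 0, 1, 1, 0, 1, 1])) (.node (.leaf [1]) (.leaf [0, 0, 1, 1, 1]))) (.node (.node (.leaf [1, 1, 0, 0, 0, 1, 0, 1]) (.leaf [1, 1, 1, 1, 1, 0, 1, 1, 0, 0, 1])) (.node (.leaf [1, 0, 1, 1, 1]) (.leaf [0, 0, 0, 1, 0, 1, 1, 0, 0, 1, 0, 1]))))) (.node (.node (.node (.node (.leaf []) (.leaf [0, 1, 0, 1, 1, 0, 1, 1, 0, 1])) (.node (.leaf [1, 1, 0, 1, 1, 1, 1, 1, 0, 1]) (.leaf []))) (.node (.node (.leaf [1, 1, 1, 1, 1, 0, 1, 1]) (.leaf [1, 1, 1, 0, 1, 1, 0, 1, 0, 1, 0, 1])) (.node (.leaf [1, 0, 0, 1, 0, 0, 0, 0, 0, 1, 0, 1]) (.leaf [0, 1, 0, 0, 1, 1, 1, 1, 0, 0, 0, 1])))) (.node (.node (.node (.leaf []) (.leaf [1, 1, 1, 1, 1, 0, 1, 1])) (.node (.leaf [1, 0, 1, 1, 1]) (.leaf [0, 0, 0, 0, 0, 1]))) (.node (.node (.leaf [0, 0, 0, 0, 0, 0, 1]) (.leaf [0, 1, 1, 0, 0, 0, 1, 1, 0, 1, 1])) (.node (.leaf [1, 1, 1, 1, 1, 0, 0, 1, 0, 0,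 1]) (.leaf [1, 0, 0, 0, 0, 1, 0, 0, 1, 1, 1, 0, 1, 0, 1]))))))) (.node (.node (.node (.node (.node (.node (.node (.leaf [1]) (.leaf [1, 0, 0, 0, 1, 1])) (.leaf [0, 0, 0, 1, 0, 1, 0, 0, 1, 1, 0, 1])) (.node (.leaf [0, 1, 0, 1, 1, 1, 1, 1, 0, 1]) (.leaf [1, 1, 0, 1, 1, 0, 1, 1, 0, 1]))) (.node (.node (.leaf []) (.leaf [1])) (.node (.leaf [0, 0, 1, 0, 1, 1, 1, 0, 0, 1, 0, 1]) (.leaf [1, 0, 0, 0, 1, 1, 1, 0, 0, 0, 1, 1])))) (.node (.node (.node (.leaf []) (.leaf [0, 1, 1, 1, 1, 0, 0, 1])) (.node (.leaf [1, 0, 1, 1, 1]) (.leaf [0, 0, 1, 1, 1, 0, 1]))) (.node (.node (.leaf [1, 0, 1, 1, 0, 1, 0, 0, 0, 0, 0, 1]) (.leaf [1, 0, 0, 0, 1, 1, 1, 0, 0, 1, 0, 1])) (.node (.leaf [0, 1, 1, 1, 0, 1, 0, 1, 1, 1, 0, 1, 1]) (.leaf [1, 0, 0, 0, 0, 0, 0, 0, 1]))))) (.node (.node (.node (.node (.leaf [0, 1, 1, 1, 1, 0, 0, 1]) (.leaf [1, 0, 0, 1, 0, 1, 0, 0, 0, 1, 0, 1])) (.node (.leaf [0, 0, 0, 0, 1, 0, 0, 0, 0, 1, 0, 1]) (.leaf [0, 0, 1, 1, 0,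 0, 0, 0, 0, 0, 0, 1]))) (.node (.node (.leaf []) (.leaf [1, 0, 0, 1, 0, 1, 0, 0, 0, 1, 1, 1])) (.node (.leaf [0, 1, 0, 0, 0, 0, 0, 1, 0, 0, 1]) (.leaf [1, 0, 1, 0, 0, 1, 0, 0, 0, 1])))) (.node (.node (.node (.leaf [0, 1, 1, 1, 1, 0, 1, 1]) (.leaf [0, 1, 1, 0, 0, 0, 0, 1, 0, 1])) (.node (.leaf [1]) (.leaf [0, 0, 1, 1, 1]))) (.node (.node (.leaf [1, 1, 0, 1, 1, 1, 0, 0, 0, 1, 1]) (.leaf [0, 0, 1, 1, 1, 1, 0, 0, 0, 0, 1])) (.node (.leaf [0, 0, 1, 1, 1]) (.leaf [0, 0, 1, 1, 1, 0, 1, 0, 0, 0, 1])))))) (.node (.node (.node (.node (.node (.leaf []) (.leaf [0, 0, 0, 1, 1, 0, 0, 0, 1, 1])) (.node (.leaf [1, 0, 1, 1, 0, 0, 0, 0, 0, 0, 0, 1]) (.leaf [0, 1, 1, 0, 0, 1, 1, 1, 0, 1]))) (.node (.node (.leaf [1, 0, 1, 1, 1]) (.leaf [0, 0, 0, 1, 0, 1, 0, 0, 0, 1, 0, 1])) (.node (.leaf [1, 0, 0, 1, 1, 0, 0, 0, 0, 1, 1]) (.leaf [1, 1, 1, 0, 0, 1, 0, 1, 0, 1, 1])))) (.node (.node (.node (.leaf [1, 0, 1, 1, 0, 1, 0, 0, 0, 0, 0, 1]) (.leaf [1,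 1, 0, 1, 0, 1, 0, 0, 0, 1, 1, 1])) (.node (.leaf []) (.leaf [0, 0, 0, 1, 1, 0, 1, 0, 0, 1]))) (.node (.node (.leaf [1]) (.leaf [1, 1, 0, 0, 1, 0, 1, 1, 1, 0, 0, 1])) (.node (.leaf [1, 1, 0, 0, 0, 0, 1, 1]) (.leaf [1, 1, 0, 1, 1, 1, 1, 1, 0, 1]))))) (.node (.node (.node (.node (.leaf [1]) (.leaf [0, 1, 0, 1, 1, 1, 1, 1, 0, 1])) (.node (.leaf [1, 0, 1, 1, 1]) (.leaf []))) (.node (.node (.leaf [0, 1, 1, 1, 1, 0, 0, 1]) (.leaf [0, 0, 1, 0, 0, 0, 0, 0, 0, 1])) (.node (.leaf [0, 0, 1, 1, 1]) (.leaf [0, 0, 1, 0, 0, 0, 0, 0, 0, 1])))) (.node (.node (.node (.leaf [0, 1, 1, 1, 1, 0, 1, 1]) (.leaf [0, 0, 1, 1, 0, 0, 0, 0, 0, 0, 0, 1])) (.node (.leaf [1, 0, 0, 0, 1, 0, 1, 0, 0, 1, 0, 1, 1]) (.leaf [1, 1, 1, 1, 1, 0, 1, 1]))) (.node (.node (.leaf [1]) (.leaf [1, 1, 0, 1, 1, 1, 0, 1, 0, 1])) (.node (.leaf [0, 1, 0, 0, 0, 0, 1, 1]) (.leaf [1, 1, 1, 1, 1, 1, 1, 1])))))))) (.node (.node (.node (.node (.node (.node (.node (.node (.leaf [])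 (.leaf [1, 0, 0, 0, 0, 0, 1, 1])) (.leaf [0, 1, 1, 0, 0, 1, 0, 1, 0, 1, 1])) (.node (.leaf [0, 1, 1, 1, 1, 0, 0, 1]) (.leaf [0, 0, 0, 1, 1, 1, 0, 0, 0, 1]))) (.node (.node (.leaf [1]) (.leaf [1, 1, 1, 0, 0, 0, 0, 1, 1, 1, 1])) (.node (.leaf [1, 0, 1, 1, 1, 1, 1]) (.leaf [0, 0, 0, 1, 1, 1, 0, 0, 0, 1, 1])))) (.node (.node (.node (.leaf [0, 0, 1, 1, 1, 0, 1]) (.leaf [0, 0, 1, 1, 1])) (.node (.leaf [1, 0, 1, 0, 1, 0, 1, 0, 1, 0, 0, 1, 1]) (.leaf [1, 1, 1, 1, 1, 0, 1, 1]))) (.node (.node (.leaf [0, 0, 1, 1, 1, 0, 1]) (.leaf [1, 1, 1, 1, 1, 0, 0, 1])) (.node (.leaf [0, 0, 1, 1, 0, 1, 0, 0, 0, 0, 0, 1]) (.leaf [1, 0, 0, 0, 0, 1, 0, 0, 0, 0, 0, 0, 0, 1, 1]))))) (.node (.node (.node (.node (.leaf [0, 0, 0, 0, 0, 0, 1]) (.leaf [0, 1, 1, 1, 1, 0, 0, 1, 0, 0, 1])) (.node (.leaf [0, 0, 1, 1, 1, 0, 1]) (.leaf [0, 1, 0, 0, 1, 1, 0, 1, 0, 0, 0, 1]))) (.node (.node (.leaf [1, 0, 1, 1, 1]) (.leaf [0, 1, 0, 1, 1, 0, 1, 1, 0, 1])) (.node (.leaf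 [1]) (.leaf [1, 0, 1, 0, 1, 1, 1, 0, 0, 1, 0, 1])))) (.node (.node (.node (.leaf []) (.leaf [1, 0, 1, 1, 1])) (.node (.leaf []) (.leaf [0, 0, 1, 0, 1, 0, 1, 0, 1, 1, 0, 1]))) (.node (.node (.leaf [1, 1, 0, 0, 0, 0, 0, 1]) (.leaf [0, 0, 1, 1, 1, 1, 0, 0, 0, 0, 1])) (.node (.leaf [1, 0, 1, 1, 1]) (.leaf [1, 0, 0, 1, 1, 0, 0, 0, 0, 1, 1])))))) (.node (.node (.node (.node (.node (.leaf [1]) (.leaf [0, 0, 0, 1, 0, 1, 0, 0, 0, 1, 0, 1])) (.node (.leaf [0, 0, 1, 1, 1]) (.leaf [1]))) (.node (.node (.leaf [1]) (.leaf [0, 1, 1, 1, 1, 0, 0, 1])) (.node (.leaf [1, 0, 0, 1, 0, 0, 0, 0, 0, 1, 0, 1]) (.leaf [0, 0, 1, 1, 1, 0, 1, 0, 0, 0, 1])))) (.node (.node (.node (.leaf [1, 0, 1, 1, 1, 0, 1]) (.leaf [1, 1, 1, 1, 1, 0, 1, 1])) (.node (.leaf [1, 0, 0, 0, 0, 0, 1]) (.leaf [0, 0, 0, 0, 0, 0, 0, 0, 0, 1, 1, 0, 1, 0, 1]))) (.node (.node (.leaf [0, 1, 1, 1, 1, 0, 0, 1]) (.leaf [0, 0, 0, 0, 0, 0, 1])) (.node (.leaf [1]) (.leaf [1, 0, 0, 1, 1,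 0, 1, 0, 1, 0, 1, 0, 1, 0, 1]))))) (.node (.node (.node (.node (.leaf []) (.leaf [0, 1, 0, 0, 0, 0, 0, 1])) (.node (.leaf [1, 1, 0, 1, 1, 1, 1, 1, 0, 1]) (.leaf [0, 0, 1, 1, 0, 1, 0, 0, 0, 0, 0, 1]))) (.node (.node (.leaf []) (.leaf [1])) (.node (.leaf [1, 1, 1, 1, 1, 0, 0, 1]) (.leaf [1, 1, 1, 1, 0, 1, 1, 1, 0, 0, 0, 1])))) (.node (.node (.node (.leaf [1, 1, 0, 0, 0, 0, 1, 1]) (.leaf [0, 0, 1, 1, 1])) (.node (.leaf []) (.leaf [0, 0, 1, 0, 0, 1, 1, 0, 0, 1]))) (.node (.node (.leaf [0, 0, 1, 1, 1]) (.leaf [1, 0, 0, 0, 0, 1, 0, 0, 0, 1, 1, 0, 1, 0, 1])) (.node (.leaf [1, 1, 0, 0, 0, 0, 0, 1, 0, 0, 1]) (.leaf [1, 0, 0, 0, 0, 0, 0, 0, 1]))))))) (.node (.node (.node (.node (.node (.node (.node (.leaf []) (.leaf [0, 0, 1, 0, 1, 1, 0, 0, 0, 0, 0, 1, 1])) (.leaf [0, 1, 1, 1, 1, 0, 0, 1])) (.node (.leaf [1]) (.leaf [0, 0, 0, 1, 0, 0, 0, 0, 0, 1, 0, 1]))) (.node (.node (.leaf [1, 0, 1, 1, 1, 0, 1]) (.leaf [0, 0, 1, 0, 1, 1, 0, 0, 0,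 1, 0, 1])) (.node (.leaf [1, 1, 0, 0, 0, 0, 0, 1]) (.leaf [0, 0, 1, 0, 0, 0, 0, 0, 0, 1])))) (.node (.node (.node (.leaf [1]) (.leaf [1, 1, 1, 1, 1, 0, 1, 1])) (.node (.leaf [1, 1, 1, 1, 1, 0, 0, 1]) (.leaf []))) (.node (.node (.leaf [0, 0, 0, 0, 1, 0, 1, 0, 0, 0, 0, 1]) (.leaf [1, 0, 1, 1, 1, 0, 1])) (.node (.leaf [0, 1, 0, 0, 0, 0, 1, 1]) (.leaf [1]))))) (.node (.node (.node (.node (.leaf [1, 0, 1, 1, 1, 0, 1]) (.leaf [])) (.node (.leaf [0, 1, 0, 0, 0, 0, 0, 1]) (.leaf [0, 0, 0, 1, 1, 1, 0, 0, 0, 1]))) (.node (.node (.leaf [0, 1, 0, 0, 0, 0, 1, 1]) (.leaf [1, 0, 0, 0, 0, 0, 0, 0, 0, 0, 1])) (.node (.leaf [0, 0, 1, 0, 1, 1, 0, 0, 0, 1, 0, 1]) (.leaf [0, 0, 0, 1, 1, 0, 1, 0, 0, 1])))) (.node (.node (.node (.leaf [1, 0, 1, 1, 1]) (.leaf [1])) (.node (.leaf [0, 1, 0, 0, 0, 0, 0, 1]) (.leaf [0, 1, 1, 1, 1, 0, 0, 1, 1]))) (.node (.node (.leaf [1, 1, 1, 1, 1, 0, 0, 1]) (.leaf [0, 0, 1, 1, 0, 1, 0, 0, 0, 0, 0, 1])) (.node (.leaf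 [1, 1, 1, 1, 1, 1, 0, 1, 0, 0, 1]) (.leaf [0, 0, 1, 1, 1, 0, 1, 0, 0, 0, 1])))))) (.node (.node (.node (.node (.node (.leaf []) (.leaf [1, 1, 1, 1, 1, 0, 0, 1])) (.node (.leaf [0, 1, 1, 1, 1, 0, 1, 1]) (.leaf [0, 1, 1, 1, 1, 0, 1, 1]))) (.node (.node (.leaf []) (.leaf [1, 1, 1, 0, 0, 1, 0, 1, 0, 1])) (.node (.leaf [0, 1, 0, 0, 0, 0, 0, 1]) (.leaf [0, 1, 0, 1, 1, 1, 1, 1, 0, 1])))) (.node (.node (.node (.leaf [1]) (.leaf [0, 0, 1, 1, 1])) (.node (.leaf [1, 1, 1, 1, 1, 0, 0, 1]) (.leaf [0, 0, 1, 1, 0, 0, 0, 0, 0, 0, 0, 1]))) (.node (.node (.leaf [0, 0, 1, 1, 1]) (.leaf [1, 0, 0, 0, 0, 0, 0, 0, 0, 0, 1])) (.node (.leaf []) (.leaf [1, 1, 0, 1, 0, 1, 0, 1, 1, 1, 1, 1, 1, 0, 1]))))) (.node (.node (.node (.node (.leaf [1, 0, 0, 0, 0, 0, 1]) (.leaf [1])) (.node (.leaf []) (.leaf [1, 0, 0, 0, 0, 0, 1]))) (.node (.node (.leaf [1, 1, 0, 1, 0, 0, 0, 0, 0, 0, 0, 1]) (.leaf [1, 1, 1, 1, 1, 0, 0, 1])) (.node (.leaf [0, 1, 0, 0, 0, 0, 0,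 1, 0, 0, 1]) (.leaf [1, 0, 1, 0, 0, 1, 1, 0, 0, 1])))) (.node (.node (.node (.leaf []) (.leaf [1])) (.node (.leaf [0, 1, 1, 1, 1, 0, 0, 1]) (.leaf [1, 0, 0, 1, 1, 0, 1, 0, 0, 1]))) (.node (.node (.leaf [1, 1, 0, 0, 0, 0, 0, 1]) (.leaf [0, 1, 0, 0, 0, 1, 0, 1])) (.node (.leaf [1, 0, 1, 1, 0, 1, 0, 0, 1, 0, 0, 1]) (.leaf [1, 1, 1, 1, 1, 1, 1, 1]))))))))) (.node (.node (.node (.node (.node (.node (.node (.node (.node (.leaf []) (.leaf [0, 0, 0, 0, 0, 0, 0, 1, 0, 0, 0, 0, 0, 0, 0])) (.leaf [])) (.node (.leaf [1, 0, 1, 1, 1]) (.leaf [1]))) (.node (.node (.leaf [1, 0, 1, 0, 0, 1, 0, 0, 0, 1]) (.leaf [1, 1, 1, 0, 0, 0, 0, 1, 0, 1, 1])) (.node (.leaf [0, 1, 0, 0, 0, 0, 0, 1, 0, 0, 1]) (.leaf [])))) (.node (.node (.node (.leaf [1, 0, 1, 1, 1]) (.leaf [1])) (.node (.leaf [1, 1, 0, 0, 1, 1, 0, 0, 0, 1, 0, 1]) (.leaf [0, 0, 1, 1, 1, 0, 1]))) (.node (.node (.leaf [0, 1, 0, 0, 1, 1, 0, 0, 0, 1, 0, 1]) (.leaf [1, 1, 0, 0, 1, 0, 0, 1, 1,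 0, 0, 1])) (.node (.leaf [1, 1, 1, 1, 0, 1, 0, 1, 0, 1, 0, 1]) (.leaf [1]))))) (.node (.node (.node (.node (.leaf [1, 0, 1, 1, 1]) (.leaf [0, 1, 0, 1, 1, 0, 0, 0, 0, 1, 1])) (.node (.leaf [0, 0, 1, 1, 1, 1]) (.leaf [0, 1, 0, 0, 0, 0, 0, 1]))) (.node (.node (.leaf [1, 0, 1, 1, 1]) (.leaf [0, 0, 1, 0, 1, 1, 1, 0, 0, 1, 0, 1])) (.node (.leaf [1, 0, 0, 1, 0, 0, 0, 0, 0, 1, 0, 1]) (.leaf [0, 0, 0, 0, 0, 1, 0, 0, 0, 0, 0, 0, 0, 1, 1])))) (.node (.node (.node (.leaf [1, 1, 0, 0, 0, 0, 1, 1]) (.leaf [])) (.node (.leaf [0, 1, 1, 1, 1, 0, 1, 1]) (.leaf [1]))) (.node (.node (.leaf [1, 1, 0, 0, 0, 0, 0, 1]) (.leaf [0, 0, 1, 1, 1])) (.node (.leaf [1, 0, 1, 1, 1]) (.leaf [1, 0, 1, 0, 0, 0, 0, 0, 0, 1])))))) (.node (.node (.node (.node (.node (.leaf []) (.leaf [1, 1, 1, 1, 1, 0, 1, 1])) (.node (.leaf [0, 0, 1, 1, 1]) (.leaf [0, 0, 1, 1, 0, 1, 0, 0, 0, 0, 0, 1]))) (.node (.node (.leaf []) (.leaf [1, 1, 0, 1, 1, 0, 1, 1, 0, 1])) (.node (.leaf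 []) (.leaf [0, 0, 1, 0, 0, 0, 1, 0, 0, 1])))) (.node (.node (.node (.leaf [0, 0, 1, 0, 0, 1, 0, 0, 0, 1]) (.leaf [1, 1, 1, 1, 1, 0, 1, 1])) (.node (.leaf [0, 1, 0, 0, 0, 0, 0, 1]) (.leaf [1]))) (.node (.node (.leaf []) (.leaf [1, 1, 1, 1, 1, 0, 1, 1, 0, 0, 1])) (.node (.leaf [1, 0, 1, 1, 0, 1, 0, 0, 0, 0, 0, 1]) (.leaf [1]))))) (.node (.node (.node (.node (.leaf [1, 0, 0, 0, 0, 1]) (.leaf [0, 1, 0, 0, 0, 1, 1, 1])) (.node (.leaf [0, 0, 1, 1, 1]) (.leaf [0, 1, 0, 0, 1, 0, 0, 1, 0, 0, 0, 1]))) (.node (.node (.leaf []) (.leaf [1, 0, 1, 0, 0, 1, 0, 0, 0, 0, 1, 0, 1])) (.node (.leaf [1, 0, 0, 1, 0, 1, 0, 0, 0, 1, 0, 1]) (.leaf [0, 0, 0, 1, 1, 0, 1, 0, 0, 1])))) (.node (.node (.node (.leaf [1]) (.leaf [1])) (.node (.leaf [0, 1, 0, 0, 0, 0, 0, 1]) (.leaf [1, 1, 0, 0, 1, 1, 1, 1, 0, 0, 0, 1]))) (.node (.node (.leaf [0, 0, 1, 1, 1]) (.leaf [])) (.node (.leaf [0, 0, 1, 1, 1]) (.leaf [1]))))))) (.node (.node (.node (.node (.node (.node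 (.node (.leaf []) (.leaf [1, 0, 0, 0, 0, 1, 0, 0, 0, 0, 0, 1])) (.leaf [])) (.node (.leaf [0, 0, 1, 0, 1, 1, 1, 0, 0, 0, 0, 1, 1]) (.leaf [1, 1, 0, 1, 1, 0, 0, 1, 0, 1]))) (.node (.node (.leaf [1, 0, 1, 0, 0, 1, 0, 0, 0, 1]) (.leaf [1, 1, 1, 0, 0, 1, 0, 1, 0, 1])) (.node (.leaf [1, 0, 0, 1, 1, 1, 0, 0, 0, 1]) (.leaf [0, 1, 1, 1, 0, 1, 1, 1, 0, 0, 0, 1])))) (.node (.node (.node (.leaf [0, 0, 1, 0, 0, 0, 0, 0, 0, 1]) (.leaf [0, 0, 1, 1, 0, 1, 0, 0, 0, 0, 0, 1])) (.node (.leaf [0, 1, 1, 1, 1, 0, 0, 1]) (.leaf [1, 0, 1, 1, 1, 0, 0, 0, 0, 0, 1]))) (.node (.node (.leaf [1, 1, 1, 0, 0, 1, 1, 1, 0, 1]) (.leaf [1, 1, 1, 0, 1, 1, 1, 1, 0, 1, 0, 1])) (.node (.leaf [1, 1, 0, 0, 0, 0, 1, 1]) (.leaf [1, 1, 0, 1, 1, 0, 0, 1, 1, 1]))))) (.node (.node (.node (.node (.leaf [1, 0, 1, 1, 1]) (.leaf [])) (.node (.leaf [1]) (.leaf [1, 1, 0, 0, 0, 0, 0, 1, 0, 0, 1]))) (.node (.node (.leaf [1]) (.leaf [0, 1, 0, 1, 0, 0, 0, 0, 0, 1, 1, 1])) (.node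 (.leaf [0, 0, 0, 0, 1, 1, 0, 0, 0, 0, 0, 1]) (.leaf [1, 0, 1, 0, 0, 0, 0, 0, 0, 1])))) (.node (.node (.node (.leaf [1, 0, 1, 1, 1]) (.leaf [1, 1, 1, 1, 0, 0, 0, 1, 1, 1, 0, 1, 1])) (.node (.leaf [1, 0, 0, 0, 0, 1]) (.leaf [1, 1, 1, 1, 1, 0, 0, 1]))) (.node (.node (.leaf [1, 0, 1, 1, 1]) (.leaf [0, 1, 1, 0, 0, 0, 0, 1, 0, 1, 1])) (.node (.leaf [0, 0, 1, 1, 1]) (.leaf [1, 0, 0, 1, 0, 0, 1, 0, 0, 1, 0, 1])))))) (.node (.node (.node (.node (.node (.leaf [0, 0, 0, 0, 0, 1]) (.leaf [])) (.node (.leaf [1, 0, 0, 1, 0, 1, 0, 0, 0, 1, 0, 1]) (.leaf [1, 0, 1, 1, 1, 0, 0, 0, 0, 0, 1]))) (.node (.node (.leaf [0, 1, 0, 0, 0, 0, 1, 1]) (.leaf [1])) (.node (.leaf [1, 0, 0, 1, 1, 1, 0, 0, 0, 1]) (.leaf [1, 0, 0, 1, 0, 0, 1, 0, 0, 1, 0, 1])))) (.node (.node (.node (.leaf []) (.leaf [0, 0, 1, 1, 0, 0, 0, 0, 0, 0, 1, 1])) (.node (.leaf [0, 0, 0, 1, 1, 1, 0, 0, 0, 1, 1]) (.leaf [0, 1, 1, 0, 0, 0, 0, 1, 0, 1, 1]))) (.node (.node (.leaf [0, 0,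 0, 0, 1, 1, 1, 0, 0, 1, 0, 1, 1]) (.leaf [0, 0, 0, 0, 0, 0, 1])) (.node (.leaf [1, 1, 1, 1, 1, 0, 0, 1, 0, 0, 1]) (.leaf [1]))))) (.node (.node (.node (.node (.leaf [1, 0, 1, 1, 1]) (.leaf [0, 1, 0, 0, 0, 1, 1, 1])) (.node (.leaf [1, 1, 0, 0, 0, 0, 0, 1]) (.leaf [0, 1, 1, 0, 1, 0, 1, 1, 0, 1, 0, 1]))) (.node (.node (.leaf [1, 0, 1, 1, 1, 1]) (.leaf [0, 0, 1, 1, 0, 0, 0, 0, 0, 0, 0, 1])) (.node (.leaf [0, 0, 1, 1, 1]) (.leaf [0, 1, 1, 0, 1, 1, 1, 1, 1, 1, 0, 1])))) (.node (.node (.node (.leaf []) (.leaf [1, 1, 1, 1, 1, 0, 1, 1])) (.node (.leaf [1]) (.leaf [1, 1, 1, 0, 1, 1, 1, 1, 1, 1, 0, 1]))) (.node (.node (.leaf [1, 1, 0, 0, 0, 0, 0, 1]) (.leaf [0, 0, 1, 1, 0, 0, 0, 0, 0, 0, 0, 1])) (.node (.leaf [1, 1, 0, 0, 0, 1, 0, 1, 0, 0, 1]) (.leaf [1, 0, 0, 1, 1, 1, 1, 0, 1, 0, 1, 0, 1, 0, 1])))))))) (.node (.node (.node (.node (.node (.node (.node (.node (.leaf []) (.leaf [0, 0, 1, 1, 1, 0, 0, 0, 1])) (.leaf [1, 1, 1, 1, 1, 1, 0,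 1])) (.node (.leaf [0, 1, 1, 1, 1, 0, 0, 1]) (.leaf [1, 1, 0, 1, 0, 1, 0, 1, 0, 1, 0, 1]))) (.node (.node (.leaf [0, 0, 1, 1, 1]) (.leaf [1, 1, 1, 1, 1, 0, 0, 1])) (.node (.leaf [1, 1, 0, 0, 0, 1, 0, 1]) (.leaf [1, 0, 1, 1, 0, 1, 0, 0, 0, 0, 0, 1])))) (.node (.node (.node (.leaf [1, 1, 1, 1, 1, 0, 0, 1]) (.leaf [1, 1, 1, 1, 1, 0, 1, 1])) (.node (.leaf [1, 0, 1, 1, 1]) (.leaf [0, 1, 0, 0, 1, 0, 1, 1, 0, 0, 0, 1]))) (.node (.node (.leaf [1, 1, 1, 1, 1, 0, 0, 1]) (.leaf [1, 0, 1, 1, 1, 0, 1])) (.node (.leaf [1]) (.leaf [0, 0, 0, 0, 1, 1, 1, 0, 0, 0, 1, 1]))))) (.node (.node (.node (.node (.leaf [1]) (.leaf [0, 1, 1, 1, 1, 0, 0, 1])) (.node (.leaf [0, 0, 1, 1, 0, 1, 0, 0, 0, 0, 0, 1]) (.leaf [1, 1, 0, 0, 0, 0, 0, 1, 0, 0, 1]))) (.node (.node (.leaf [0, 1, 1, 1, 1, 0, 0, 1]) (.leaf [1, 1, 1, 1, 1, 0, 0, 1])) (.node (.leaf [1, 1, 0, 0, 0, 0, 0, 1]) (.leaf [])))) (.node (.node (.node (.leaf [0, 0, 1, 0, 0, 1, 0, 0, 0, 1]) (.leaf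 [1])) (.node (.leaf []) (.leaf [0, 1, 0, 1, 1, 1, 1, 1, 0, 1]))) (.node (.node (.leaf []) (.leaf [1, 1, 1, 0, 1, 0, 0, 1, 0, 1, 0, 1])) (.node (.leaf [0, 1, 1, 0, 0, 0, 0, 1, 0, 1, 1]) (.leaf [0, 0, 0, 0, 0, 1, 0, 0, 1])))))) (.node (.node (.node (.node (.node (.leaf [0, 0, 1, 1, 1]) (.leaf [1, 1, 0, 0, 0, 0, 0, 1])) (.node (.leaf [0, 1, 0, 0, 0, 1, 0, 1, 0, 0, 1]) (.leaf [0, 1, 0, 0, 0, 0, 0, 1]))) (.node (.node (.leaf [1, 1, 0, 0, 0, 0, 0, 1]) (.leaf [1, 0, 0, 1, 1, 0, 0, 0, 0, 1])) (.node (.leaf [0, 1, 1, 1, 1, 0, 0, 1]) (.leaf [0, 0, 1, 1, 1, 0, 1, 0, 0, 0, 1])))) (.node (.node (.node (.leaf [0, 1, 0, 0, 0, 1, 0, 1, 0, 0, 1]) (.leaf [1, 1, 1, 1, 1, 0, 0, 1])) (.node (.leaf [0, 0, 1, 1, 1, 0, 1]) (.leaf [0, 1, 1, 0, 1, 0, 0, 1, 0, 1, 0, 1]))) (.node (.node (.leaf [1, 0, 0, 0, 1, 0, 0, 0, 0, 1, 0, 1]) (.leaf [0, 0, 1, 0, 0, 0, 0, 0, 0, 1])) (.node (.leaf [0, 1, 0, 0, 0, 0, 0, 1]) (.leaf [1, 1, 1, 0, 0, 1, 0, 1, 0, 1, 1])))))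 (.node (.node (.node (.node (.leaf []) (.leaf [0, 0, 0, 1, 1, 0, 0, 0, 1, 1])) (.node (.leaf [1, 0, 1, 1, 1]) (.leaf [1, 0, 0, 0, 0, 0, 1]))) (.node (.node (.leaf [1]) (.leaf [1])) (.node (.leaf [1, 1, 1, 1, 0, 1, 1, 0, 0, 1, 0, 1]) (.leaf [1, 0, 1, 0, 0, 1, 1, 0, 0, 1])))) (.node (.node (.node (.leaf [0, 0, 1, 1, 1]) (.leaf [1, 0, 1, 0, 0, 0, 0, 0, 0, 1])) (.node (.leaf [1, 1, 0, 1, 1, 1, 1, 1, 0, 1]) (.leaf [1, 0, 0, 1, 1, 0, 1, 0, 0, 1]))) (.node (.node (.leaf [1, 0, 1, 1, 0, 1, 0, 0, 0, 0, 0, 1]) (.leaf [0, 1, 0, 0, 0, 0, 0, 1])) (.node (.leaf [0, 0, 1, 1, 0, 0, 0, 0, 0, 0, 0, 1]) (.leaf [0, 0, 0, 1, 0, 1, 1, 0, 0, 1, 0, 1]))))))) (.node (.node (.node (.node (.node (.node (.node (.leaf [1]) (.leaf [0, 0, 0, 0, 0, 0, 1])) (.leaf [1])) (.node (.leaf [1, 1, 1, 1, 1, 0, 0, 1]) (.leaf [1, 1, 0, 1, 0, 1, 0, 1, 0, 1, 0, 1]))) (.node (.node (.leaf [1, 1, 0, 0, 0, 1, 0, 1, 0, 0, 1]) (.leaf [0, 0, 1, 0, 1, 1, 0, 0, 0, 1, 0, 1]))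 (.node (.leaf [1, 1, 1, 1, 1, 0, 1, 1]) (.leaf [0, 0, 1, 0, 0, 0, 0, 0, 1, 1, 0, 0, 0, 1, 1])))) (.node (.node (.node (.leaf [0, 0, 1, 1, 1]) (.leaf [0, 1, 1, 0, 0, 1, 0, 1, 0, 1])) (.node (.leaf []) (.leaf [0, 0, 0, 0, 1, 1, 1, 0, 0, 1, 0, 1]))) (.node (.node (.leaf [1, 1, 1, 0, 0, 1, 1, 1, 0, 1]) (.leaf [0, 0, 1, 1, 1])) (.node (.leaf [1, 0, 1, 1, 1]) (.leaf [1, 0, 1, 0, 0, 0, 1, 0, 0, 1]))))) (.node (.node (.node (.node (.leaf [0, 1, 1, 1, 1, 0, 0, 1]) (.leaf [0, 1, 1, 1, 0, 0, 0, 1, 0, 1, 0, 1])) (.node (.leaf [1, 0, 1, 1, 1]) (.leaf [0, 0, 1, 0, 0, 1, 0, 0, 0, 1]))) (.node (.node (.leaf [0, 0, 1, 1, 1]) (.leaf [])) (.node (.leaf [1, 1, 1, 1, 0, 1, 0, 1, 0, 1, 0, 1]) (.leaf [1, 1, 0, 1, 1, 0, 1, 1, 0, 1])))) (.node (.node (.node (.leaf [0, 1, 1, 1, 1, 0, 0, 1]) (.leaf [1, 1, 1, 0, 0, 0, 0, 1, 0, 1, 1])) (.node (.leaf [1, 0, 1, 1, 1]) (.leaf [0, 0, 1, 0, 0, 1, 1, 0, 0, 1]))) (.node (.node (.leaf [1, 1, 1, 1, 0, 1, 0, 0,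 0, 1, 0, 1]) (.leaf [0, 1, 1, 0, 0, 0, 1, 1, 0, 1, 1])) (.node (.leaf [1]) (.leaf [1, 0, 0, 0, 0, 1, 0, 0, 0, 1, 1, 0, 1, 0, 1])))))) (.node (.node (.node (.node (.node (.leaf []) (.leaf [0, 1, 1, 1, 0, 1, 1, 0, 0, 1, 0, 1])) (.node (.leaf [1]) (.leaf [0, 1, 1, 0, 1, 1, 0, 1, 0, 1, 0, 1]))) (.node (.node (.leaf [1, 0, 1, 0, 0, 0, 0, 0, 0, 1]) (.leaf [1, 1, 1, 0, 0, 1, 1, 1, 0, 1])) (.node (.leaf [0, 0, 1, 1, 1]) (.leaf [0, 0, 1, 0, 0, 0, 0, 0, 0, 1, 0, 0, 0, 1, 1])))) (.node (.node (.node (.leaf [1, 1, 0, 0, 0, 0, 0, 1]) (.leaf [0, 1, 1, 1, 0, 1, 0, 1, 0, 1, 0, 1])) (.node (.leaf [0, 1, 1, 1, 1, 0, 0, 1]) (.leaf [1, 1, 0, 1, 0, 1, 0, 1, 0, 1, 0, 1, 1, 0, 1]))) (.node (.node (.leaf [0, 1, 1, 1, 1, 0, 1, 1]) (.leaf [1, 0, 0, 0, 0, 1, 0, 0, 0, 1, 1, 0, 1])) (.node (.leaf [0, 1, 1, 1, 1, 1, 0, 1]) (.leaf [0, 1, 0, 1, 0, 1, 0, 1, 0, 1, 0, 1, 1, 0, 1]))))) (.node (.node (.node (.node (.leaf [1]) (.leaf [0, 1, 1, 1, 1, 0, 0, 1]))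 (.node (.leaf [0, 1, 1, 1, 1, 0, 1, 1]) (.leaf [0, 0, 1, 1, 1]))) (.node (.node (.leaf [1, 0, 0, 0, 0, 0, 1]) (.leaf [1, 0, 0, 1, 1, 0, 0, 0, 0, 1])) (.node (.leaf [1, 0, 1, 1, 0, 0, 0, 0, 0, 0, 0, 1]) (.leaf [1, 0, 0, 0, 0, 1])))) (.node (.node (.node (.leaf [1]) (.leaf [1, 1, 1, 1, 1, 0, 0, 1])) (.node (.leaf [1]) (.leaf [1, 0, 1, 1, 1, 1]))) (.node (.node (.leaf [1, 1, 0, 0, 0, 0, 1, 1]) (.leaf [1, 1, 0, 1, 1, 1, 1, 1, 0, 1])) (.node (.leaf [1, 0, 1, 1, 0, 0, 0, 0, 0, 0, 0, 1]) (.leaf [1, 0, 0, 1, 1, 1, 1, 0, 0, 0, 1, 0, 1, 0, 1]))))))))))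

def twoL1 : Janko.Tree (List ℤ) :=
  (.node (.node (.node (.node (.node (.node (.node (.node (.node (.node (.leaf []) (.leaf [0, 1, 0, 0, 0, 0, 0, 0, 0, 0, 0, 0, 0, 0, 0])) (.leaf [])) (.node (.leaf [0, 0, 0, 0, 0, 0, 0, 0, 0, 0, 0, 0, 0, 1, 0]) (.leaf [0, 0, 0, 1, 1, 0, 0, 0, 1, 0, 0, 0, 1]))) (.node (.node (.leaf [0, 0, 0, 0, 0, 0, 0, 0, 0, 1, 0, 0, 1]) (.leaf [0, 1])) (.node (.leaf [1, 0, 0, 1, 1, 1, 0, 0, 0, 1, 1]) (.leaf [0, 1])))) (.node (.node (.node (.leaf []) (.leaf [0, 1])) (.node (.leaf [0, 1]) (.leaf [1, 1, 0, 0, 0, 1, 0, 1, 1, 1, 0, 0, 1, 1]))) (.node (.node (.leaf []) (.leaf [0, 1, 0, 0, 0, 0, 0, 0, 0, 1, 0, 0, 1, 1])) (.node (.leaf [0, 1]) (.leaf [0, 1]))))) (.node (.node (.node (.node (.leaf []) (.leaf [0, 1])) (.node (.leaf [1, 1, 0, 0, 1, 1, 0, 0, 0, 1, 0, 1]) (.leaf []))) (.node (.node (.leaf []) (.leaf [1, 0, 1, 0, 0, 1, 0, 1, 0, 1, 0, 0, 0, 1])) (.node (.leaf []) (.leaf [0, 0, 1, 0, 0, 0, 0, 0, 1, 1,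 0, 0, 0, 1, 1])))) (.node (.node (.node (.leaf []) (.leaf [])) (.node (.leaf [0, 1]) (.leaf [0, 1]))) (.node (.node (.leaf [0, 1]) (.leaf [0, 1])) (.node (.leaf [1, 0, 1, 0, 0, 0, 0, 1, 0, 0, 0, 0, 1]) (.leaf [1, 1, 0, 1, 0, 0, 0, 0, 1, 0, 1, 1])))))) (.node (.node (.node (.node (.node (.leaf []) (.leaf [0, 1])) (.node (.leaf [1, 1, 1, 0, 0, 1, 0, 1, 0, 1]) (.leaf [0, 1]))) (.node (.node (.leaf [0, 1]) (.leaf [1, 1, 1, 0, 1, 1, 0, 1, 0, 1, 0, 1])) (.node (.leaf [1, 0, 0, 1, 1, 0, 0, 0, 1, 1]) (.leaf [1, 0, 0, 1, 0, 1, 0, 0, 0, 1, 0, 1])))) (.node (.node (.node (.leaf [0, 1]) (.leaf [0, 1])) (.node (.leaf [0, 0, 0, 0, 1, 1, 1, 0, 0, 0, 0, 1]) (.leaf [0, 1, 0, 1, 0, 0, 0, 1, 0, 1, 1, 1, 0, 1]))) (.node (.node (.leaf [0, 1]) (.leaf [0, 1, 0, 1, 1, 0, 0, 0, 0, 1, 1])) (.node (.leaf [1, 1, 0, 0, 0, 0, 0, 1, 1, 0, 0, 0, 0, 1]) (.leaf [0, 1]))))) (.node (.node (.node (.node (.leaf [0, 1]) (.leaf [0, 1])) (.node (.leaf []) (.leaf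 [0, 1]))) (.node (.node (.leaf []) (.leaf [0, 0, 1, 1, 0, 0, 0, 1, 0, 0, 1, 1, 0, 1])) (.node (.leaf []) (.leaf [0, 0, 1, 0, 0, 1, 0, 1, 0, 1, 1, 0, 0, 1])))) (.node (.node (.node (.leaf [0, 1]) (.leaf [0, 0, 0, 1, 1, 1, 0, 0, 0, 1, 1])) (.node (.leaf []) (.leaf [0, 1]))) (.node (.node (.leaf [0, 0, 1, 0, 0, 1, 0, 1, 0, 1]) (.leaf [1, 1, 0, 0, 0, 1, 0, 1, 0, 1, 0, 0, 1, 1])) (.node (.leaf [0, 1]) (.leaf [0, 1]))))))) (.node (.node (.node (.node (.node (.node (.node (.leaf []) (.leaf [1, 0, 0, 0, 0, 1, 0, 0, 0, 0, 0, 1])) (.leaf [1, 1, 0, 1, 1, 0, 0, 0, 1, 1])) (.node (.leaf [0, 1]) (.leaf [0, 1, 0, 1, 0, 0, 1, 1, 0, 0, 0, 1]))) (.node (.node (.leaf [0, 1]) (.leaf [0, 0, 1, 1, 0, 0, 0, 1, 0, 1, 1, 1])) (.node (.leaf [0, 1]) (.leaf [1, 0, 1, 0, 0, 1, 0, 1, 0, 0, 0, 0, 1, 1])))) (.node (.node (.node (.leaf [0, 1]) (.leaf [])) (.node (.leaf []) (.leaf []))) (.node (.node (.leaf [0, 1]) (.leaf [])) (.node (.leaf [1, 1, 0, 1, 1,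 0, 0, 0, 0, 0, 0, 0, 1]) (.leaf [0, 1]))))) (.node (.node (.node (.node (.leaf []) (.leaf [0, 1])) (.node (.leaf [0, 1]) (.leaf [0, 1]))) (.node (.node (.leaf [0, 1]) (.leaf [0, 1])) (.node (.leaf []) (.leaf [])))) (.node (.node (.node (.leaf []) (.leaf [0, 1])) (.node (.leaf [0, 0, 0, 0, 1, 0, 0, 0, 0, 1, 0, 1]) (.leaf []))) (.node (.node (.leaf []) (.leaf [0, 1])) (.node (.leaf [1, 0, 0, 1, 0, 1, 0, 0, 0, 1, 0, 1, 0, 1]) (.leaf [1, 1, 1, 0, 1, 0, 0, 0, 0, 1, 1, 1])))))) (.node (.node (.node (.node (.node (.leaf [0, 1]) (.leaf [0, 1])) (.node (.leaf [0, 1]) (.leaf [0, 0, 1, 0, 0, 1, 0, 1, 0, 1, 1]))) (.node (.node (.leaf []) (.leaf [0, 1])) (.node (.leaf []) (.leaf [1, 1, 0, 0, 1, 0, 0, 1, 0, 1, 0, 1])))) (.node (.node (.node (.leaf [0, 1]) (.leaf [0, 1])) (.node (.leaf [0, 1]) (.leaf [1, 1, 1, 0, 0, 1, 0, 1, 0, 0, 0, 0, 1, 1]))) (.node (.node (.leaf [0, 1, 0, 0, 1, 1, 0, 0, 0, 1, 0, 1]) (.leaf [0, 1, 1, 0, 0, 0, 0, 1, 1,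 1, 1, 0, 0, 1])) (.node (.leaf [0, 1, 0, 0, 0, 1, 0, 1, 0, 0, 1]) (.leaf [0, 1, 1, 0, 0, 0, 0, 1, 0, 0, 1, 0, 1, 1]))))) (.node (.node (.node (.node (.leaf []) (.leaf [0, 1])) (.node (.leaf []) (.leaf [0, 1]))) (.node (.node (.leaf [0, 0, 1, 0, 0, 1, 0, 0, 0, 0, 0, 0, 1]) (.leaf [])) (.node (.leaf []) (.leaf [0, 1])))) (.node (.node (.node (.leaf []) (.leaf [0, 1])) (.node (.leaf [0, 1]) (.leaf [0, 0, 1, 0, 0, 0, 1, 0, 0, 1]))) (.node (.node (.leaf []) (.leaf [])) (.node (.leaf [0, 0, 0, 1, 1, 0, 1, 0, 0, 1, 1]) (.leaf [0, 0, 1, 0, 0, 0, 0, 1, 0, 0, 1, 0, 1, 1])))))))) (.node (.node (.node (.node (.node (.node (.node (.node (.leaf []) (.leaf [0, 0, 0, 0, 1, 0, 1, 1])) (.leaf [0, 0, 1, 0, 0, 0, 0, 0, 1, 0, 0, 0, 1, 1])) (.node (.leaf []) (.leaf [0, 1]))) (.node (.node (.leaf [1, 0, 1, 0, 0, 1, 0, 0, 0, 1]) (.leaf [0, 0, 0, 0, 0, 0, 0, 0, 0, 1, 0, 0, 1, 1])) (.node (.leaf [0, 1, 0, 0, 1, 0, 1, 0, 0, 0, 0, 1]) (.leaf [0, 1,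 0, 0, 1, 1, 0, 0, 0, 0, 0, 1])))) (.node (.node (.node (.leaf []) (.leaf [])) (.node (.leaf []) (.leaf [1, 0, 1, 0, 0, 0, 1, 0, 0, 1]))) (.node (.node (.leaf []) (.leaf [])) (.node (.leaf [0, 1]) (.leaf []))))) (.node (.node (.node (.node (.leaf [1, 1, 0, 0, 0, 0, 0, 1]) (.leaf [0, 1, 1, 1, 0, 0, 0, 1, 0, 1, 0, 1])) (.node (.leaf []) (.leaf [0, 1, 1, 0, 0, 1, 0, 0, 1, 0, 0, 0, 1, 1]))) (.node (.node (.leaf []) (.leaf [1, 1, 0, 1, 0, 1, 1, 1, 0, 0, 0, 1])) (.node (.leaf [0, 0, 1, 1, 0, 1, 0, 1, 0, 1, 0, 1]) (.leaf [0, 0, 0, 1, 0, 1, 1, 1, 1, 1, 0, 1, 0, 1])))) (.node (.node (.node (.leaf [0, 1]) (.leaf [])) (.node (.leaf [0, 1]) (.leaf [0, 0, 0, 1, 0, 1, 1, 1, 0, 1, 0, 1, 0, 1]))) (.node (.node (.leaf []) (.leaf [0, 0, 0, 0, 1, 1, 0, 0, 0, 0, 0, 1])) (.node (.leaf []) (.leaf [0, 1])))))) (.node (.node (.node (.node (.node (.leaf []) (.leaf [])) (.node (.leaf []) (.leaf [1, 0, 0, 1, 0, 1, 1, 1, 0, 0, 0, 1]))) (.node (.node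 (.leaf []) (.leaf [])) (.node (.leaf []) (.leaf [1, 1, 1, 0, 1, 1, 0, 0, 0, 1, 1, 1])))) (.node (.node (.node (.leaf []) (.leaf [0, 1, 1, 1, 0, 1, 1, 1, 0, 1, 0, 1])) (.node (.leaf [1, 1, 0, 0, 0, 0, 0, 1]) (.leaf []))) (.node (.node (.leaf []) (.leaf [0, 1, 1, 0, 0, 1, 0, 1, 0, 0, 1, 0, 1])) (.node (.leaf [0, 0, 0, 1, 0, 0, 1, 1, 0, 0, 0, 1]) (.leaf [0, 1, 0, 0, 0, 1, 0, 1, 0, 1, 1, 0, 1, 1]))))) (.node (.node (.node (.node (.leaf []) (.leaf [])) (.node (.leaf []) (.leaf [0, 1]))) (.node (.node (.leaf [0, 1]) (.leaf [0, 0, 1, 0, 1, 0, 0, 1, 0, 1, 0, 1])) (.node (.leaf [1, 0, 0, 1, 1, 1, 0, 0, 1, 0, 0, 0, 1]) (.leaf [1, 0, 0, 0, 0, 0, 0, 1, 0, 1, 0, 0, 1, 1])))) (.node (.node (.node (.leaf []) (.leaf [])) (.node (.leaf [0, 1]) (.leaf [0, 0, 1, 0, 0, 0, 0, 1, 0, 0, 1, 0, 1]))) (.node (.node (.leaf []) (.leaf [])) (.node (.leaf [1, 1, 0, 1, 1, 1, 1, 0, 0, 1, 1]) (.leaf [0, 1]))))))) (.node (.node (.node (.node (.node (.node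 (.node (.leaf [0, 1]) (.leaf [1, 1, 0, 0, 1, 1, 0, 1, 0, 1, 0, 1, 1])) (.leaf [0, 0, 1, 0, 1, 1, 0, 0, 0, 1, 1, 1])) (.node (.leaf [0, 0, 1, 0, 1, 1, 1, 0, 0, 1, 0, 1]) (.leaf [0, 1]))) (.node (.node (.leaf []) (.leaf [1, 1, 1, 1, 0, 0, 0, 0, 0, 0, 0, 1, 0, 1])) (.node (.leaf []) (.leaf [0, 1])))) (.node (.node (.node (.leaf [0, 0, 1, 0, 0, 1, 0, 0, 0, 1]) (.leaf [0, 1, 1, 0, 0, 1, 1, 1, 0, 1])) (.node (.leaf []) (.leaf [0, 1]))) (.node (.node (.leaf [0, 1]) (.leaf [])) (.node (.leaf [1, 0, 1, 1, 0, 1, 1, 0, 1, 1, 0, 1, 1]) (.leaf [0, 0, 0, 1, 1, 0, 0, 1, 1, 1]))))) (.node (.node (.node (.node (.leaf []) (.leaf [0, 1])) (.node (.leaf [0, 1, 1, 0, 1, 0, 0, 0, 0, 0, 0, 1, 1]) (.leaf [0, 1]))) (.node (.node (.leaf []) (.leaf [])) (.node (.leaf [0, 1, 1, 0, 0, 0, 0, 0, 0, 1, 0, 0, 0, 1]) (.leaf [])))) (.node (.node (.node (.leaf []) (.leaf [1, 0, 1, 0, 0, 0, 1, 1, 0, 1])) (.node (.leaf [1, 0, 1, 0, 1, 0, 0, 0, 0, 0, 0, 1, 1])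 (.leaf [0, 1]))) (.node (.node (.leaf []) (.leaf [0, 1])) (.node (.leaf [0, 0, 0, 0, 1, 1, 0, 0, 0, 1, 1, 1]) (.leaf [0, 1])))))) (.node (.node (.node (.node (.node (.leaf []) (.leaf [])) (.node (.leaf [1, 1, 0, 0, 0, 1, 0, 1, 0, 1, 0, 0, 1]) (.leaf []))) (.node (.node (.leaf [0, 1]) (.leaf [1, 1, 1, 1, 1, 0, 0, 0, 0, 1, 0, 0, 1])) (.node (.leaf []) (.leaf [0, 0, 0, 0, 0, 1, 0, 0, 1, 0, 0, 0, 0, 1, 1])))) (.node (.node (.node (.leaf []) (.leaf [])) (.node (.leaf []) (.leaf [0, 1]))) (.node (.node (.leaf []) (.leaf [0, 1, 1, 0, 0, 0, 0, 0, 0, 0, 0, 0, 1])) (.node (.leaf []) (.leaf [0, 1, 1, 0, 0, 1, 0, 0, 0, 0, 0, 0, 1, 0, 1]))))) (.node (.node (.node (.node (.leaf [1, 1, 0, 0, 0, 0, 0, 1]) (.leaf [1, 0, 0, 1, 0, 1, 0, 1, 0, 0, 0, 1])) (.node (.leaf [0, 1, 1, 0, 0, 0, 0, 0, 1, 1]) (.leaf [0, 1, 1, 0, 0, 0, 0, 1, 0, 0, 1, 0, 1]))) (.node (.node (.leaf [0, 1]) (.leaf [])) (.node (.leaf [0, 1, 1, 0, 1, 1, 0, 0, 0, 1, 1, 1]) (.leaf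 [0, 0, 1, 0, 0, 1, 0, 1, 0, 0, 1, 0, 1])))) (.node (.node (.node (.leaf [0, 1]) (.leaf [0, 0, 0, 1, 1, 0, 0, 0, 1, 1])) (.node (.leaf []) (.leaf []))) (.node (.node (.leaf []) (.leaf [0, 1])) (.node (.leaf [1, 1, 1, 1, 0, 0, 0, 0, 0, 0, 0, 1]) (.leaf [0, 1, 1, 0, 0, 0, 0, 0, 1, 1, 0, 0, 0, 1, 1]))))))))) (.node (.node (.node (.node (.node (.node (.node (.node (.node (.leaf [0, 1]) (.leaf [1, 0, 0, 0, 1, 0, 0, 1])) (.leaf [0, 1])) (.node (.leaf [0, 0, 0, 0, 0, 1, 0, 0, 0, 0, 0, 0, 0, 1]) (.leaf [0, 0, 0, 1, 1, 0, 0, 1, 0, 1]))) (.node (.node (.leaf [0, 1, 1, 0, 0, 0, 0, 0, 0, 1]) (.leaf [0, 0, 0, 0, 0, 0, 0, 0, 0, 1, 0, 0, 1, 1])) (.node (.leaf [0, 1]) (.leaf [0, 1])))) (.node (.node (.node (.leaf []) (.leaf [1, 1, 0, 1, 1, 1, 0, 0, 1, 1])) (.node (.leaf [0, 1]) (.leaf [1, 0, 1, 0, 1, 1, 0, 0, 0, 1, 1, 1]))) (.node (.node (.leaf [1, 0, 0, 0, 1, 1, 0, 0, 0, 1, 0, 1]) (.leaf [0, 1, 0, 0, 0, 1, 0, 0, 1, 1, 0, 0, 1, 1])) (.node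 (.leaf [0, 1]) (.leaf [0, 1, 0, 0, 0, 1, 1]))))) (.node (.node (.node (.node (.leaf []) (.leaf [])) (.node (.leaf [1, 1, 1, 1, 0, 1, 0, 0, 0, 0, 0, 1]) (.leaf [0, 1]))) (.node (.node (.leaf []) (.leaf [1, 0, 0, 0, 0, 1, 0, 1, 1, 0, 0, 0, 0, 1])) (.node (.leaf [0, 1]) (.leaf [0, 1])))) (.node (.node (.node (.leaf [0, 1, 1, 0, 0, 0, 0, 1, 0, 1, 1]) (.leaf [0, 1])) (.node (.leaf []) (.leaf [1, 0, 0, 0, 1, 0, 0, 1, 1, 1, 0, 1]))) (.node (.node (.leaf [0, 1]) (.leaf [1, 1, 1, 1, 0, 0, 0, 1, 0, 0, 1, 1, 0, 1])) (.node (.leaf []) (.leaf [0, 1])))))) (.node (.node (.node (.node (.node (.leaf []) (.leaf [])) (.node (.leaf []) (.leaf [0, 1]))) (.node (.node (.leaf [0, 1]) (.leaf [0, 1])) (.node (.leaf [0, 1]) (.leaf [0, 1])))) (.node (.node (.node (.leaf [0, 1]) (.leaf [])) (.node (.leaf []) (.leaf [0, 1, 1, 0, 0, 0, 1, 0, 0, 1]))) (.node (.node (.leaf [0, 1]) (.leaf [0, 1])) (.node (.leaf [0, 1]) (.leaf [1, 0, 0, 1, 0, 1, 0, 1, 0,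 0, 0, 1]))))) (.node (.node (.node (.node (.leaf [0, 1]) (.leaf [0, 1])) (.node (.leaf [1, 0, 1, 1, 0, 1, 0, 0, 0, 1, 0, 1]) (.leaf [0, 1, 0, 0, 0, 0, 0, 0, 1, 1, 0, 0, 1, 1]))) (.node (.node (.leaf [0, 1]) (.leaf [0, 0, 0, 0, 0, 0, 0, 0, 0, 1, 0, 0, 1])) (.node (.leaf []) (.leaf [])))) (.node (.node (.node (.leaf []) (.leaf [1, 1, 0, 0, 1, 0, 0, 0, 0, 1, 0, 1])) (.node (.leaf []) (.leaf [0, 0, 0, 0, 0, 0, 0, 1, 0, 0, 1, 0, 0, 1]))) (.node (.node (.leaf []) (.leaf [0, 1])) (.node (.leaf []) (.leaf [0, 1, 1, 0, 0, 0, 1, 0, 0, 1]))))))) (.node (.node (.node (.node (.node (.node (.node (.leaf []) (.leaf [1, 0, 0, 0, 1, 0, 0, 1])) (.leaf [0, 1])) (.node (.leaf [0, 1]) (.leaf []))) (.node (.node (.leaf [0, 1]) (.leaf [0, 1, 0, 0, 0, 1, 0, 0, 0, 1, 0, 0, 1])) (.node (.leaf []) (.leaf [1, 0, 0, 0, 0, 0, 0, 1, 0, 1, 0, 0, 1, 1])))) (.node (.node (.node (.leaf [1, 1, 1, 0, 0, 1, 0, 0, 0, 1]) (.leaf [0, 1])) (.node (.leaf [0, 0, 1,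 0, 0, 1, 0, 0, 0, 0, 0, 0, 1]) (.leaf [0, 0, 0, 0, 1, 0, 0, 0, 0, 0, 0, 1]))) (.node (.node (.leaf [0, 0, 1, 0, 0, 1, 0, 1, 0, 1, 1]) (.leaf [0, 1, 0, 0, 0, 0, 0, 1, 1, 0, 1, 0, 0, 1])) (.node (.leaf [0, 1, 0, 0, 0, 0, 0, 1, 0, 0, 1]) (.leaf [0, 1]))))) (.node (.node (.node (.node (.leaf []) (.leaf [0, 1])) (.node (.leaf [0, 1, 1, 1, 0, 0, 0, 0, 0, 1, 0, 1]) (.leaf [0, 1]))) (.node (.node (.leaf []) (.leaf [0, 1])) (.node (.leaf [0, 1, 0, 0, 0, 0, 0, 0, 0, 0, 0, 0, 0, 1]) (.leaf [])))) (.node (.node (.node (.leaf []) (.leaf [0, 1])) (.node (.leaf [0, 1]) (.leaf [0, 1, 0, 1, 1, 1, 0, 1, 1, 1]))) (.node (.node (.leaf []) (.leaf [0, 0, 1, 0, 0, 0, 0, 0, 0, 0, 0, 0, 1, 0, 1])) (.node (.leaf [1, 0, 1, 1, 0, 0, 0, 0, 0, 0, 0, 1, 0, 1]) (.leaf [0, 1])))))) (.node (.node (.node (.node (.node (.leaf [0, 1]) (.leaf [0, 1])) (.node (.leaf [0, 1]) (.leaf []))) (.node (.node (.leaf [0, 1, 1, 0, 0, 0, 0, 1, 0, 1, 1]) (.leaf [0, 0, 0, 1,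 0, 0, 1, 1, 0, 0, 0, 1])) (.node (.leaf []) (.leaf [0, 1])))) (.node (.node (.node (.leaf [0, 1]) (.leaf [0, 1])) (.node (.leaf []) (.leaf [0, 0, 1, 0, 0, 0, 0, 0, 0, 0, 0, 0, 1, 0, 1]))) (.node (.node (.leaf []) (.leaf [0, 1, 0, 0, 0, 1, 0, 1, 0, 1, 1, 0, 1])) (.node (.leaf [0, 1, 1, 1, 0, 0, 0, 1, 0, 1, 1, 1]) (.leaf [1, 1, 0, 1, 0, 1, 0, 0, 0, 1, 0, 1]))))) (.node (.node (.node (.node (.leaf []) (.leaf [0, 1])) (.node (.leaf []) (.leaf [0, 1, 0, 0, 0, 1, 0, 1, 1, 0, 1, 0, 0, 1]))) (.node (.node (.leaf [1, 1, 1, 1, 0, 1, 0, 0, 0, 0, 0, 1]) (.leaf [0, 1])) (.node (.leaf []) (.leaf [0, 0, 0, 0, 0, 1, 0, 1, 0, 0, 1, 0, 0, 1])))) (.node (.node (.node (.leaf [0, 1]) (.leaf [0, 1, 0, 0, 1, 1, 1, 1, 1, 0, 0, 1])) (.node (.leaf [0, 0, 0, 1, 1, 1, 0, 1, 0, 1]) (.leaf [0, 0, 1, 0, 0, 1, 0, 1, 1, 1, 1, 0, 0, 1]))) (.node (.node (.leaf [0, 1, 0, 0, 0, 1, 0, 0, 1, 1, 0, 0, 1]) (.leaf [0, 1])) (.node (.leaf [0, 1]) (.leaf [0, 0, 0, 0,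 0, 1, 0, 1, 0, 1, 1, 0, 1, 1])))))))) (.node (.node (.node (.node (.node (.node (.node (.node (.leaf []) (.leaf [1])) (.leaf [0, 1, 0, 0, 1, 1, 0, 0, 0, 1, 1, 1])) (.node (.leaf [0, 1, 0, 1, 1, 1, 0, 1, 0, 1]) (.leaf [0, 1]))) (.node (.node (.leaf []) (.leaf [0, 0, 0, 1, 0, 1, 0, 0, 0, 1, 1, 1])) (.node (.leaf [1, 0, 0, 0, 0, 0, 0, 1]) (.leaf [0, 1])))) (.node (.node (.node (.leaf []) (.leaf [0, 1, 0, 1, 0, 1, 1, 1, 0, 0, 0, 1])) (.node (.leaf []) (.leaf [0, 1, 1, 0, 0, 1, 0, 1, 1, 1, 1, 0, 0, 1]))) (.node (.node (.leaf []) (.leaf [])) (.node (.leaf [0, 0, 1, 1, 0, 1, 1, 1, 0, 1, 0, 1]) (.leaf [1, 0, 0, 0, 0, 1, 0, 1, 1, 1, 0, 0, 1, 1]))))) (.node (.node (.node (.node (.leaf []) (.leaf [])) (.node (.leaf [0, 1]) (.leaf [0, 1, 1, 1, 0, 1, 0, 0, 0, 0, 1, 1]))) (.node (.node (.leaf []) (.leaf [])) (.node (.leaf [0, 1, 1, 0, 0, 1, 0, 0, 1, 0, 0, 0, 1]) (.leaf [0, 1])))) (.node (.node (.node (.leaf [0, 1]) (.leaf [0, 0, 1, 0,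 0, 1, 0, 0, 0, 0, 0, 0, 1])) (.node (.leaf [0, 1]) (.leaf []))) (.node (.node (.leaf [0, 1]) (.leaf [0, 1])) (.node (.leaf [0, 1]) (.leaf [0, 1])))))) (.node (.node (.node (.node (.node (.leaf []) (.leaf [])) (.node (.leaf [1, 1, 0, 1, 1, 1, 0, 0, 0, 1, 1]) (.leaf [1, 1, 0, 1, 1, 1, 0, 0, 0, 0, 0, 0, 1]))) (.node (.node (.leaf []) (.leaf [0, 1])) (.node (.leaf [0, 0, 1, 0, 0, 0, 0, 0, 1, 0, 0, 0, 1]) (.leaf [0, 1])))) (.node (.node (.node (.leaf []) (.leaf [])) (.node (.leaf [0, 1, 1, 0, 1, 0, 1, 0, 0, 1, 0, 1]) (.leaf [0, 1]))) (.node (.node (.leaf [0, 1]) (.leaf [0, 1])) (.node (.leaf [0, 1, 1, 1, 0, 1, 1, 0, 1, 1, 0, 1, 1]) (.leaf [0, 0, 1, 1, 0, 0, 0, 0, 0, 1, 1, 1]))))) (.node (.node (.node (.node (.leaf [0, 1]) (.leaf [0, 1])) (.node (.leaf []) (.leaf [0, 1, 1, 0, 0, 1, 0, 1, 0, 0, 1, 0, 1]))) (.node (.node (.leaf [1, 0, 1, 1, 0, 0, 0, 0, 0, 0, 0, 1]) (.leaf [0, 0, 0, 0, 0, 0, 0, 1])) (.node (.leaf [1, 0, 1, 0, 0, 1,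 0, 1, 1, 1]) (.leaf [0, 0, 0, 0, 0, 1, 0, 1, 0, 1, 1, 0, 1])))) (.node (.node (.node (.leaf []) (.leaf [])) (.node (.leaf [0, 1]) (.leaf [1, 0, 1, 0, 1, 1, 0, 0, 0, 1, 1, 1]))) (.node (.node (.leaf [0, 1]) (.leaf [0, 1, 0, 0, 0, 1, 0, 1])) (.node (.leaf [0, 1]) (.leaf [0, 1]))))))) (.node (.node (.node (.node (.node (.node (.node (.leaf []) (.leaf [1, 0, 0, 0, 1, 0, 1])) (.leaf [0, 0, 0, 0, 1, 1, 0, 0, 1, 1, 0, 1])) (.node (.leaf [1, 0, 1, 1, 1, 0, 0, 0, 0, 1, 0, 0, 1]) (.leaf [0, 1]))) (.node (.node (.leaf []) (.leaf [1, 1, 0, 1, 0, 1, 0, 0, 0, 1, 0, 1, 0, 1])) (.node (.leaf []) (.leaf [])))) (.node (.node (.node (.leaf []) (.leaf [0, 1])) (.node (.leaf [0, 1]) (.leaf [1, 1, 0, 1, 0, 1, 0, 1, 0, 0, 0, 1]))) (.node (.node (.leaf [0, 0, 1, 0, 0, 1, 0, 1, 0, 1, 1]) (.leaf [0, 1, 0, 1, 0, 1, 1, 1, 0, 1, 0, 1, 0, 1])) (.node (.leaf [1, 1, 1, 0, 0, 1, 0, 1, 0, 1, 0, 0, 0, 1]) (.leaf [0, 1]))))) (.node (.node (.node (.node (.leaf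 []) (.leaf [0, 1, 0, 1, 0, 1, 0, 1, 0, 0, 0, 1])) (.node (.leaf []) (.leaf []))) (.node (.node (.leaf []) (.leaf [0, 1])) (.node (.leaf [0, 1, 0, 1, 1, 0, 0, 1, 0, 1]) (.leaf [1, 0, 0, 0, 0, 0, 1])))) (.node (.node (.node (.leaf []) (.leaf [0, 0, 0, 0, 0, 0, 0, 0, 1, 1, 0, 0, 1, 1])) (.node (.leaf []) (.leaf [0, 0, 0, 0, 0, 1, 0, 1, 0, 1, 1, 0, 1]))) (.node (.node (.leaf [0, 1]) (.leaf [1, 1, 0, 0, 0, 0, 0, 1, 1, 1, 0, 0, 1, 1])) (.node (.leaf [0, 0, 1, 0, 1, 0, 1, 1, 1, 1, 0, 1]) (.leaf [0, 1])))))) (.node (.node (.node (.node (.node (.leaf [0, 1]) (.leaf [1, 0, 1, 0, 0, 0, 0, 1, 1, 1])) (.node (.leaf [1, 0, 1, 1, 0, 0, 0, 0, 0, 0, 0, 1]) (.leaf [1, 0, 1, 1, 0, 1, 0, 1, 0, 0, 1, 1, 0, 1]))) (.node (.node (.leaf [0, 1]) (.leaf [0, 0, 0, 0, 0, 1, 0, 1, 0, 0, 1])) (.node (.leaf []) (.leaf [0, 1])))) (.node (.node (.node (.leaf []) (.leaf [0, 1])) (.node (.leaf []) (.leaf [0, 1]))) (.node (.node (.leaf []) (.leaf [0, 1])) (.node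 (.leaf [0, 1]) (.leaf [0, 1, 0, 0, 0, 0, 0, 0, 0, 1, 0, 0, 1, 0, 1]))))) (.node (.node (.node (.node (.leaf []) (.leaf [])) (.node (.leaf []) (.leaf [0, 1, 0, 1, 0, 0, 1, 1, 0, 1, 0, 1, 0, 1]))) (.node (.node (.leaf [1, 1, 1, 0, 0, 0, 0, 1, 0, 1]) (.leaf [0, 1])) (.node (.leaf [0, 1]) (.leaf [0, 1, 0, 0, 0, 1, 0, 0, 0, 1, 0, 0, 1])))) (.node (.node (.node (.leaf [1, 0, 1, 1, 0, 0, 0, 0, 0, 0, 0, 1]) (.leaf [])) (.node (.leaf [1, 1, 0, 0, 0, 1, 0, 1]) (.leaf [0, 1, 0, 0, 1, 1, 0, 0, 0, 0, 0, 1]))) (.node (.node (.leaf []) (.leaf [0, 1])) (.node (.leaf [0, 1]) (.leaf [0, 1, 1, 0, 0, 0, 0, 0, 0, 1, 0, 0, 0, 1, 1]))))))))))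

def twoL2 : Janko.Tree (List ℤ) :=
  (.node (.node (.node (.node (.node (.node (.node (.node (.node (.node (.leaf []) (.leaf [0, 0, 1, 0, 0, 0, 0, 0, 0, 0, 0, 0, 0, 0, 0])) (.leaf [1, 1, 0, 1, 1, 0, 0, 1, 0, 1, 1])) (.node (.leaf [0, 0, 0, 0, 0, 1, 0, 0, 1, 1]) (.leaf [1, 0, 1, 1, 1]))) (.node (.node (.leaf [0, 0, 0, 0, 0, 0, 0, 0, 1]) (.leaf [1, 0, 1, 1, 0, 0, 0, 0, 0, 0, 0, 1, 0, 0, 1])) (.node (.leaf [0, 0, 1]) (.leaf [0, 0, 1, 0, 1, 0, 0, 0, 0, 0, 1, 1])))) (.node (.node (.node (.leaf []) (.leaf [0, 0, 1, 0, 0, 0, 0, 0, 1, 1, 0, 0, 0, 0, 1])) (.node (.leaf []) (.leaf [0, 0, 0, 1, 1, 1, 0, 0, 0, 0, 1]))) (.node (.node (.leaf []) (.leaf [1, 1, 0, 1, 0, 1, 0, 1, 1, 0, 0, 1])) (.node (.leaf [0, 1, 1, 1, 1, 0, 0, 1, 0, 1, 1]) (.leaf [0, 1, 0, 0, 1, 1, 0, 0, 0, 0, 1, 1, 1, 0, 1]))))) (.node (.node (.node (.node (.leaf []) (.leaf [])) (.node (.leaf []) (.leaf [0, 0, 1]))) (.node (.node (.leaf []) (.leaf [1, 0, 1, 1, 1, 0, 0,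 0, 0, 1])) (.node (.leaf [0, 0, 1]) (.leaf [0, 0, 1])))) (.node (.node (.node (.leaf [0, 0, 0, 0, 0, 0, 0, 0, 1]) (.leaf [0, 0, 1])) (.node (.leaf []) (.leaf [0, 0, 1, 1, 1, 1, 0, 0, 1, 1, 1, 0, 1, 0, 1]))) (.node (.node (.leaf []) (.leaf [1, 1, 1, 1, 1, 1, 0, 1, 0, 0, 1])) (.node (.leaf []) (.leaf [1, 1, 1, 0, 0, 1, 0, 1, 1, 0, 1, 0, 1, 0, 1])))))) (.node (.node (.node (.node (.node (.leaf [0, 0, 1]) (.leaf [])) (.node (.leaf []) (.leaf [0, 0, 1, 0, 0, 1, 0, 0, 0, 0, 0, 0, 1]))) (.node (.node (.leaf []) (.leaf [0, 0, 1])) (.node (.leaf [0, 1, 0, 0, 1, 1, 0, 0, 1, 1, 0, 1]) (.leaf [0, 0, 1])))) (.node (.node (.node (.leaf []) (.leaf [0, 0, 1, 0, 0, 0, 0, 0, 0, 0, 0, 0, 1])) (.node (.leaf []) (.leaf [1, 1, 1, 0, 0, 0, 0, 1, 0, 1, 0, 0, 1]))) (.node (.node (.leaf [0, 1, 0, 0, 0, 1, 0, 0, 0, 1, 1]) (.leaf [0, 0, 1])) (.node (.leaf [0, 0, 1]) (.leaf [1, 0, 0, 0, 1, 0, 0, 0, 0, 1, 1, 1]))))) (.node (.node (.node (.node (.leaf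 []) (.leaf [])) (.node (.leaf []) (.leaf []))) (.node (.node (.leaf [0, 0, 1]) (.leaf [0, 0, 1])) (.node (.leaf [1, 1, 1, 0, 0, 1, 0, 1, 0, 1, 0, 0, 1]) (.leaf [0, 0, 0, 0, 0, 1, 0, 0, 0, 0, 0, 0, 1])))) (.node (.node (.node (.leaf []) (.leaf [0, 0, 1])) (.node (.leaf [0, 0, 1]) (.leaf []))) (.node (.node (.leaf [0, 0, 1]) (.leaf [1, 0, 1, 1, 1, 0, 0, 0, 1])) (.node (.leaf [1, 0, 0, 1, 1, 0, 0, 0, 0, 0, 1]) (.leaf [0, 1, 1, 0, 1, 0, 0, 0, 1, 1, 0, 1, 0, 1, 1]))))))) (.node (.node (.node (.node (.node (.node (.node (.leaf []) (.leaf [1, 0, 0, 0, 0, 1, 0, 0, 0, 0, 0, 1])) (.leaf [0, 0, 0, 0, 1, 1, 0, 0, 1, 1, 0, 1])) (.node (.leaf []) (.leaf [0, 0, 1]))) (.node (.node (.leaf []) (.leaf [])) (.node (.leaf []) (.leaf [1, 0, 0, 0, 1, 0, 0, 0, 1, 1, 0, 1])))) (.node (.node (.node (.leaf []) (.leaf [0, 0, 1])) (.node (.leaf [0, 0, 1]) (.leaf [0, 0, 1]))) (.node (.node (.leaf []) (.leaf [0, 0, 1])) (.node (.leaf []) (.leaf [])))))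 (.node (.node (.node (.node (.leaf []) (.leaf [])) (.node (.leaf []) (.leaf [1, 0, 0, 1, 1, 1, 0, 0, 1, 1, 0, 0, 0, 0, 1]))) (.node (.node (.leaf []) (.leaf [])) (.node (.leaf [0, 0, 0, 0, 0, 0, 0, 0, 0, 1]) (.leaf [0, 0, 1, 0, 1, 1, 0, 0, 1, 1, 1, 1])))) (.node (.node (.node (.leaf []) (.leaf [1, 0, 1, 1, 1, 0, 0, 0, 0, 0, 1])) (.node (.leaf []) (.leaf [0, 0, 1]))) (.node (.node (.leaf []) (.leaf [0, 1, 0, 1, 1, 1, 0, 1, 0, 0, 1])) (.node (.leaf [0, 0, 1, 0, 0, 1, 0, 0, 1]) (.leaf [0, 0, 1])))))) (.node (.node (.node (.node (.node (.leaf []) (.leaf [0, 0, 0, 0, 0, 0, 0, 0, 1, 0, 1])) (.node (.leaf [0, 0, 0, 0, 0, 0, 0, 0, 0, 0, 0, 0, 0, 0, 1]) (.leaf [0, 0, 0, 0, 0, 1, 0, 0, 1, 1]))) (.node (.node (.leaf [0, 0, 0, 0, 0, 0, 0, 0, 1]) (.leaf [])) (.node (.leaf []) (.leaf [1, 0, 1, 1, 1, 1, 0, 0, 0, 1])))) (.node (.node (.node (.leaf []) (.leaf [])) (.node (.leaf []) (.leaf [0, 1, 1, 0, 0, 0, 0, 1, 0, 0, 1]))) (.node (.node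 (.leaf []) (.leaf [0, 0, 1])) (.node (.leaf [0, 0, 0, 0, 0, 0, 0, 0, 0, 1]) (.leaf [0, 1, 1, 0, 0, 0, 0, 1, 1, 1, 1, 0, 1, 0, 1]))))) (.node (.node (.node (.node (.leaf []) (.leaf [1, 0, 0, 0, 0, 0, 0, 0, 0, 0, 1])) (.node (.leaf [0, 0, 1]) (.leaf []))) (.node (.node (.leaf [0, 0, 0, 0, 0, 1, 0, 0, 1]) (.leaf [0, 1, 1, 0, 0, 0, 0, 1, 1, 1, 1])) (.node (.leaf [1, 1, 0, 0, 0, 1, 0, 1, 0, 0, 0, 0, 1]) (.leaf [1, 0, 1, 0, 1, 0, 0, 0, 0, 1, 1, 1])))) (.node (.node (.node (.leaf [0, 0, 1]) (.leaf [1, 0, 0, 1, 1, 1, 0, 0, 0, 1, 0, 0, 0, 0, 1])) (.node (.leaf [1, 1, 1, 0, 0, 0, 0, 1, 0, 0, 0, 0, 1]) (.leaf [0, 0, 1]))) (.node (.node (.leaf []) (.leaf [0, 0, 1])) (.node (.leaf [0, 0, 1]) (.leaf [0, 0, 1, 1, 1, 0, 0, 0, 1, 0, 1, 0, 1, 0, 1])))))))) (.node (.node (.node (.node (.node (.node (.node (.node (.leaf []) (.leaf [1, 1, 0, 0, 0, 0, 0, 1, 0, 0, 1])) (.leaf [0, 0, 0, 0, 0, 1])) (.node (.leaf [0, 0, 1]) (.leaf [0, 0, 1, 0, 0,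 0, 0, 0, 1, 1, 1, 0, 0, 0, 1]))) (.node (.node (.leaf []) (.leaf [0, 0, 1])) (.node (.leaf [0, 0, 1]) (.leaf [0, 0, 1])))) (.node (.node (.node (.leaf [0, 0, 1]) (.leaf [0, 0, 1])) (.node (.leaf []) (.leaf [0, 0, 1]))) (.node (.node (.leaf [0, 0, 1]) (.leaf [0, 0, 1])) (.node (.leaf []) (.leaf [0, 1, 1, 1, 1, 1, 0, 1, 1, 0, 1, 0, 1, 0, 1]))))) (.node (.node (.node (.node (.leaf [0, 0, 1]) (.leaf [0, 0, 1])) (.node (.leaf [0, 1, 1, 1, 0, 1, 0, 0, 0, 1, 0, 1]) (.leaf [0, 1, 1, 1, 1, 1, 0, 1, 1, 1, 1]))) (.node (.node (.leaf [0, 0, 1]) (.leaf [0, 0, 1])) (.node (.leaf []) (.leaf [0, 0, 1])))) (.node (.node (.node (.leaf []) (.leaf [0, 0, 1])) (.node (.leaf []) (.leaf [1, 0, 1, 1, 1, 0, 0, 0, 0, 1]))) (.node (.node (.leaf [0, 0, 1]) (.leaf [0, 0, 1])) (.node (.leaf [0, 0, 1]) (.leaf [1, 1, 0, 1, 1, 0, 0, 1, 0, 0, 1])))))) (.node (.node (.node (.node (.node (.leaf []) (.leaf [1, 1, 0, 0, 0, 1, 0, 1, 0, 0, 0, 0, 1])) (.node (.leaf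 [0, 0, 1]) (.leaf []))) (.node (.node (.leaf []) (.leaf [1, 0, 1, 0, 1, 0, 0, 0, 1, 1, 1, 1])) (.node (.leaf [0, 0, 1]) (.leaf [0, 0, 1])))) (.node (.node (.node (.leaf []) (.leaf [0, 0, 1])) (.node (.leaf [1, 0, 0, 1, 1, 0, 0, 0, 1]) (.leaf [1, 1, 1, 1, 1, 0, 0, 1, 0, 0, 1, 0, 1, 0, 1]))) (.node (.node (.leaf [0, 0, 1]) (.leaf [1, 0, 0, 1, 0, 1, 0, 0, 0, 0, 0, 1, 0, 0, 1])) (.node (.leaf []) (.leaf [0, 0, 0, 1, 1, 1, 0, 0, 0, 1, 1, 0, 1, 0, 1]))))) (.node (.node (.node (.node (.leaf []) (.leaf [0, 0, 1])) (.node (.leaf []) (.leaf []))) (.node (.node (.leaf [0, 0, 1, 0, 0, 1, 0, 0, 0, 0, 0, 0, 1]) (.leaf [1, 1, 0, 0, 1, 1, 0, 1, 0, 1, 1, 1])) (.node (.leaf [1, 0, 0, 1, 1, 1, 0, 0, 0, 1]) (.leaf [0, 0, 0, 1, 1, 1, 0, 0, 1, 0, 1])))) (.node (.node (.node (.leaf []) (.leaf [0, 0, 1])) (.node (.leaf [1, 0, 0, 1, 1, 0, 0, 0, 0, 1]) (.leaf [1, 0, 1, 1, 1, 0, 0, 0, 1, 1, 0, 0, 0, 0, 1]))) (.node (.node (.leaf [0, 0, 1]) (.leaf [0,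 0, 1])) (.node (.leaf [0, 0, 1]) (.leaf [1, 1, 1, 0, 0, 1, 0, 1, 1, 0, 1, 0, 1, 0, 1]))))))) (.node (.node (.node (.node (.node (.node (.node (.leaf []) (.leaf [0, 0, 0, 0, 0, 0, 0, 1])) (.leaf [0, 0, 1])) (.node (.leaf []) (.leaf []))) (.node (.node (.leaf []) (.leaf [0, 0, 0, 0, 0, 1, 0, 0, 0, 1])) (.node (.leaf []) (.leaf [0, 1, 1, 1, 1, 1, 0, 1, 0, 0, 0, 0, 0, 1, 1])))) (.node (.node (.node (.leaf []) (.leaf [0, 0, 1])) (.node (.leaf []) (.leaf [0, 0, 0, 0, 1, 1, 0, 0, 0, 1, 1, 1]))) (.node (.node (.leaf []) (.leaf [0, 0, 1])) (.node (.leaf []) (.leaf [0, 1, 0, 0, 0, 0, 0, 1, 0, 1, 1, 0, 1, 0, 1]))))) (.node (.node (.node (.node (.leaf [0, 0, 1]) (.leaf [0, 0, 0, 0, 0, 1, 0, 0, 0, 1, 0, 0, 1])) (.node (.leaf []) (.leaf [1, 0, 1, 1, 0, 0, 0, 0, 1, 0, 0, 1, 0, 0, 1]))) (.node (.node (.leaf []) (.leaf [0, 0, 0, 0, 0, 0, 0, 0, 1, 1, 0, 0, 0, 0, 1])) (.node (.leaf [0, 0, 1]) (.leaf [0, 0, 1])))) (.node (.node (.node (.leaf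 [0, 0, 1]) (.leaf [1, 1, 0, 1, 1, 1, 0, 1, 0, 1, 1])) (.node (.leaf []) (.leaf [1, 0, 1, 0, 0, 1, 0, 0, 0, 0, 1, 0, 1, 1]))) (.node (.node (.leaf [0, 0, 1]) (.leaf [0, 1, 0, 0, 1, 0, 0, 0, 0, 1, 1, 1, 1, 0, 1])) (.node (.leaf [0, 0, 1]) (.leaf [1, 1, 0, 1, 1, 0, 0, 1, 0, 0, 1])))))) (.node (.node (.node (.node (.node (.leaf []) (.leaf [0, 0, 1])) (.node (.leaf [0, 0, 0, 0, 0, 0, 0, 0, 1]) (.leaf [0, 0, 1]))) (.node (.node (.leaf []) (.leaf [])) (.node (.leaf []) (.leaf [1, 1, 1, 0, 0, 0, 0, 1, 1, 1, 1, 0, 1, 0, 1])))) (.node (.node (.node (.leaf []) (.leaf [0, 0, 1])) (.node (.leaf [0, 0, 1]) (.leaf [0, 1, 1, 0, 1, 0, 0, 0, 0, 1, 1, 1, 0, 0, 1]))) (.node (.node (.leaf [1, 0, 1, 1, 1, 0, 0, 0, 1]) (.leaf [0, 0, 1, 0, 0, 0, 0, 0, 1, 0, 1, 0, 0, 0, 1])) (.node (.leaf [0, 0, 1, 0, 0, 0, 0, 0, 0, 0, 0, 0, 0, 0, 1]) (.leaf [0, 1, 0, 0, 1, 0, 0, 0, 1, 1, 0, 1, 0, 1, 1]))))) (.node (.node (.node (.node (.leaf [0, 0, 1]) (.leaf [1,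 1, 0, 1, 1, 0, 0, 1, 0, 1, 1])) (.node (.leaf [0, 0, 1, 0, 0, 0, 0, 0, 1]) (.leaf [1, 0, 0, 1, 1, 1, 0, 0, 0, 0, 0, 0, 0, 0, 1]))) (.node (.node (.leaf []) (.leaf [0, 0, 0, 1, 1, 0, 0, 0, 1, 1, 1])) (.node (.leaf [0, 0, 1]) (.leaf [1, 0, 0, 1, 0, 1, 0, 0, 1, 0, 0, 1, 0, 0, 1])))) (.node (.node (.node (.leaf [0, 0, 1, 0, 0, 1, 0, 0, 0, 0, 0, 0, 1]) (.leaf [1, 1, 0, 1, 1, 1, 0, 0, 0, 1, 1])) (.node (.leaf []) (.leaf [0, 0, 1]))) (.node (.node (.leaf [0, 0, 1]) (.leaf [0, 0, 1, 0, 0, 0, 0, 0, 0, 0, 1, 0, 1, 1])) (.node (.leaf [0, 0, 1]) (.leaf [0, 1, 0, 0, 0, 0, 0, 1, 1, 0, 1, 0, 1, 0, 1]))))))))) (.node (.node (.node (.node (.node (.node (.node (.node (.node (.leaf []) (.leaf [0, 0, 0, 0, 0, 0, 0, 1])) (.leaf [])) (.node (.leaf [0, 0, 1]) (.leaf [0, 1, 0, 1, 1, 0, 0, 1, 0, 1, 1]))) (.node (.node (.leaf [0, 0, 1]) (.leaf [0, 0, 0, 0, 0, 1])) (.node (.leaf [1, 1, 1, 1, 1, 1, 0, 1, 0, 1, 1]) (.leaf [1, 1, 0, 1, 1, 0, 0, 1, 0,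 1, 1])))) (.node (.node (.node (.leaf [0, 0, 1]) (.leaf [0, 0, 1, 0, 0, 1, 0, 0, 1, 1])) (.node (.leaf [1, 1, 1, 1, 0, 1, 0, 0, 0, 0, 0, 1]) (.leaf [0, 0, 1]))) (.node (.node (.leaf [0, 0, 1]) (.leaf [0, 0, 1])) (.node (.leaf []) (.leaf [1, 1, 1, 1, 1, 0, 0, 1, 0, 0, 1]))))) (.node (.node (.node (.node (.leaf [0, 0, 1]) (.leaf [1, 1, 1, 1, 0, 0, 0, 1, 0, 1, 1, 1])) (.node (.leaf [0, 0, 1]) (.leaf [1, 1, 0, 1, 1, 1, 0, 0, 0, 0, 1]))) (.node (.node (.leaf []) (.leaf [0, 0, 1])) (.node (.leaf []) (.leaf [0, 0, 1, 0, 0, 1, 0, 0, 0, 1, 1, 0, 1, 1])))) (.node (.node (.node (.leaf [0, 0, 1]) (.leaf [])) (.node (.leaf [0, 0, 1]) (.leaf [0, 1, 1, 0, 0, 0, 0, 1, 1, 0, 1, 0, 1, 0, 1]))) (.node (.node (.leaf [0, 1, 0, 0, 0, 0, 0, 0, 0, 1, 0, 0, 1]) (.leaf [0, 0, 1])) (.node (.leaf [0, 0, 1, 0, 0, 1, 0, 0, 1, 1, 0, 0, 1]) (.leaf [0, 1, 1, 1, 1, 0, 0, 1, 0, 0, 1])))))) (.node (.node (.node (.node (.node (.leaf [0, 0, 1]) (.leaf [0, 0,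 1])) (.node (.leaf [1, 0, 0, 0, 0, 1, 0, 1, 1, 0, 0, 0, 1]) (.leaf []))) (.node (.node (.leaf []) (.leaf [0, 1, 1, 0, 1, 1, 0, 1, 0, 1, 1, 1])) (.node (.leaf [1, 0, 1, 0, 1, 1, 0, 0, 0, 1, 1, 1]) (.leaf [1, 1, 1, 1, 1, 0, 1, 1, 0, 0, 1])))) (.node (.node (.node (.leaf []) (.leaf [0, 0, 1])) (.node (.leaf []) (.leaf [1, 1, 0, 1, 1, 1, 0, 1, 0, 1, 1]))) (.node (.node (.leaf []) (.leaf [1, 1, 1, 1, 1, 1, 0, 1, 0, 1, 1])) (.node (.leaf []) (.leaf [1, 1, 0, 0, 1, 1, 0, 1, 0, 0, 1, 1]))))) (.node (.node (.node (.node (.leaf []) (.leaf [1, 0, 0, 0, 0, 1, 0, 1, 0, 1, 0, 0, 1])) (.node (.leaf [0, 0, 1]) (.leaf [1, 0, 0, 0, 1, 0, 0, 0, 1, 1, 1, 1]))) (.node (.node (.leaf []) (.leaf [0, 0, 1, 0, 0, 0, 0, 0, 1, 0, 0, 0, 0, 0, 1])) (.node (.leaf [0, 0, 1]) (.leaf [0, 0, 1])))) (.node (.node (.node (.leaf []) (.leaf [1, 0, 1, 0, 1, 0, 0, 0, 1, 1, 0, 1])) (.node (.leaf [0, 0, 1]) (.leaf [0, 0, 1]))) (.node (.node (.leaf []) (.leaf [1, 1,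 0, 1, 1, 1, 0, 1, 0, 0, 1, 0, 1, 0, 1])) (.node (.leaf [0, 1, 0, 0, 1, 0, 0, 0, 0, 1, 0, 1]) (.leaf [0, 1, 0, 1, 1, 0, 0, 1, 0, 1, 1]))))))) (.node (.node (.node (.node (.node (.node (.node (.leaf []) (.leaf [1, 1, 1, 0, 0, 0, 0, 1, 0, 1])) (.leaf [])) (.node (.leaf [1, 1, 0, 0, 0, 1, 0, 1, 1, 1, 0, 0, 1]) (.leaf [0, 0, 1]))) (.node (.node (.leaf []) (.leaf [1, 0, 1, 0, 0, 0, 0, 0, 0, 1, 1, 0, 0, 1])) (.node (.leaf [0, 0, 1]) (.leaf [0, 0, 0, 0, 1, 0, 0, 0, 1, 1, 1, 1])))) (.node (.node (.node (.leaf [0, 0, 1]) (.leaf [])) (.node (.leaf [0, 0, 1, 0, 0, 1, 0, 0, 0, 1]) (.leaf [0, 0, 1]))) (.node (.node (.leaf [0, 0, 1]) (.leaf [0, 0, 1, 0, 0, 1, 0, 0, 0, 1, 0, 0, 1])) (.node (.leaf [1, 0, 0, 1, 1, 1]) (.leaf [0, 0, 0, 1, 1, 0, 0, 0, 0, 0, 1, 0, 1, 0, 1]))))) (.node (.node (.node (.node (.leaf [0, 0, 1]) (.leaf [1, 0, 0, 0, 1, 1, 0, 0, 0, 1, 1, 1])) (.node (.leaf []) (.leaf [1, 0, 1, 0, 0, 0, 0, 0, 0, 0, 1]))) (.node (.node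 (.leaf []) (.leaf [])) (.node (.leaf [0, 0, 1]) (.leaf [0, 1, 1, 1, 1, 0, 0, 1, 1, 0, 1])))) (.node (.node (.node (.leaf []) (.leaf [1, 1, 1, 0, 0, 1, 0, 1, 1, 0, 0, 0, 1])) (.node (.leaf [1, 0, 1, 0, 1, 0, 0, 0, 0, 1, 0, 1]) (.leaf [0, 0, 1, 0, 1, 0, 0, 0, 1, 1, 0, 1]))) (.node (.node (.leaf [0, 0, 1]) (.leaf [0, 0, 1, 0, 0, 1])) (.node (.leaf [0, 0, 1]) (.leaf [0, 1, 1, 1, 1, 1, 0, 1, 0, 1, 1])))))) (.node (.node (.node (.node (.node (.leaf []) (.leaf [])) (.node (.leaf [0, 0, 0, 0, 0, 0, 0, 0, 0, 0, 0, 0, 0, 0, 1]) (.leaf [0, 0, 1]))) (.node (.node (.leaf [0, 0, 1]) (.leaf [])) (.node (.leaf [0, 0, 1]) (.leaf [1, 1, 1, 1, 1, 1, 0, 1, 0, 1, 1])))) (.node (.node (.node (.leaf []) (.leaf [])) (.node (.leaf []) (.leaf [0, 0, 0, 0, 0, 0, 0, 0, 0, 1]))) (.node (.node (.leaf []) (.leaf [1, 0, 0, 1, 0, 1, 0, 0, 0, 0, 0, 1, 0, 0, 1])) (.node (.leaf [0, 0, 1]) (.leaf [0, 1, 1, 0, 1, 1, 0, 1, 0, 0, 1, 1]))))) (.node (.node (.node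 (.node (.leaf [0, 0, 1]) (.leaf [1, 0, 1, 0, 0, 1, 0, 1, 1, 0, 0, 0, 1])) (.node (.leaf []) (.leaf [0, 0, 1]))) (.node (.node (.leaf [1, 0, 0, 0, 1, 1, 0, 0, 0, 1, 0, 1]) (.leaf [1, 0, 0, 1, 1, 0, 0, 0, 1, 1, 0, 0, 0, 0, 1])) (.node (.leaf [0, 0, 1]) (.leaf [0, 0, 1])))) (.node (.node (.node (.leaf []) (.leaf [1, 0, 1, 1, 1, 1, 0, 0, 1])) (.node (.leaf [0, 1, 0, 1, 1, 1, 0, 1, 0, 1, 1]) (.leaf [1, 1, 1, 0, 0, 1, 0, 1, 1, 1, 0, 0, 1]))) (.node (.node (.leaf []) (.leaf [])) (.node (.leaf [1, 0, 1, 0, 0, 1, 0, 0, 0, 0, 1]) (.leaf [0, 1, 1, 0, 0, 1, 0, 1, 0, 1, 1, 0, 1, 0, 1])))))))) (.node (.node (.node (.node (.node (.node (.node (.node (.leaf [0, 0, 1]) (.leaf [0, 0, 1, 1, 1, 0, 0, 0, 1])) (.leaf [0, 0, 1])) (.node (.leaf [0, 0, 1]) (.leaf [1, 1, 1, 1, 1, 0, 0, 1, 0, 1, 1]))) (.node (.node (.leaf []) (.leaf [0, 0, 1])) (.node (.leaf [1, 1, 1, 0, 1, 0, 0, 0, 0, 1, 0, 1]) (.leaf [0, 1, 1, 1, 1, 0, 0, 1, 0, 1, 1])))) (.node (.node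 (.node (.leaf [0, 0, 1]) (.leaf [0, 0, 1])) (.node (.leaf [0, 0, 0, 0, 0, 0, 0, 0, 0, 0, 0, 0, 1]) (.leaf [1, 1, 0, 0, 0, 0, 0, 1, 1, 0, 0, 0, 1]))) (.node (.node (.leaf [0, 0, 1]) (.leaf [0, 0, 1])) (.node (.leaf []) (.leaf [0, 1, 1, 0, 0, 0, 0, 1, 1, 0, 1]))))) (.node (.node (.node (.node (.leaf []) (.leaf [0, 0, 1])) (.node (.leaf []) (.leaf [0, 0, 1]))) (.node (.node (.leaf [0, 0, 1]) (.leaf [0, 0, 1])) (.node (.leaf []) (.leaf [0, 0, 0, 0, 1, 1, 0, 0, 0, 0, 1, 1])))) (.node (.node (.node (.leaf []) (.leaf [0, 0, 1, 0, 0, 0, 0, 0, 0, 0, 0, 0, 0, 0, 1])) (.node (.leaf [0, 0, 1, 0, 0, 1, 0, 0, 1, 0, 0, 0, 1]) (.leaf [0, 0, 1]))) (.node (.node (.leaf [0, 0, 1, 0, 0, 0, 0, 0, 0, 1]) (.leaf [0, 0, 1, 0, 0, 1, 0, 0, 0, 0, 1, 0, 0, 1])) (.node (.leaf [0, 0, 0, 0, 0, 0, 0, 0, 1, 1, 1]) (.leaf [0, 1, 0, 1, 1, 1, 0, 1, 1, 0, 1, 0, 1, 0, 1])))))) (.node (.node (.node (.node (.node (.leaf []) (.leaf [0, 0, 1])) (.node (.leaf [0,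 0, 1]) (.leaf []))) (.node (.node (.leaf []) (.leaf [1, 0, 1, 0, 0, 0, 0, 0, 1, 0, 1, 0, 1, 0, 1])) (.node (.leaf [0, 0, 1, 0, 0, 1, 0, 0, 0, 1]) (.leaf [0, 1, 0, 1, 1, 0, 1, 1, 0, 0, 1])))) (.node (.node (.node (.leaf [0, 0, 1]) (.leaf [0, 0, 1])) (.node (.leaf [1, 0, 0, 1, 0, 0, 0, 0, 0, 0, 0, 1]) (.leaf [1, 0, 1, 0, 0, 0, 0, 0, 0, 1, 1, 0, 1, 1]))) (.node (.node (.leaf []) (.leaf [1, 0, 1, 0, 1, 0, 0, 0, 0, 1, 1, 1])) (.node (.leaf []) (.leaf [1, 0, 1, 1, 1, 1, 0, 0, 0, 1]))))) (.node (.node (.node (.node (.leaf []) (.leaf [1, 0, 1, 1, 1, 0, 0, 0, 1])) (.node (.leaf []) (.leaf [1, 0, 1, 1, 1, 1, 0, 0, 0, 1, 0, 0, 0, 0, 1]))) (.node (.node (.leaf []) (.leaf [1, 1, 1, 0, 0, 1, 0, 1, 0, 0, 0, 0, 1])) (.node (.leaf [1, 1, 1, 0, 1, 1, 0, 0, 1, 1, 0, 1]) (.leaf [1, 0, 1, 1, 0, 1, 0, 0, 1, 1, 0, 1, 0, 0, 1])))) (.node (.node (.node (.leaf [1, 0, 1, 1, 1, 0, 0, 0, 1]) (.leaf [0, 1, 0, 0, 0, 0, 0, 1, 0, 0, 1])) (.node (.leaf [1,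 0, 0, 0, 0, 1, 0, 0, 0, 0, 1]) (.leaf [0, 0, 1]))) (.node (.node (.leaf []) (.leaf [])) (.node (.leaf [1, 0, 0, 1, 1, 1, 0, 0, 0, 1, 0, 0, 0, 0, 1]) (.leaf [1, 0, 0, 0, 1, 0, 0, 0, 0, 1, 1, 1]))))))) (.node (.node (.node (.node (.node (.node (.node (.leaf []) (.leaf [0, 0, 0, 1, 1, 0, 1, 0, 0, 1, 0, 1])) (.leaf [0, 0, 1, 0, 0, 0, 0, 0, 1])) (.node (.leaf [1, 0, 1, 1, 1, 0, 0, 0, 1]) (.leaf [0, 0, 1, 1, 0, 1, 0, 0, 0, 1, 1, 1]))) (.node (.node (.leaf [0, 0, 1]) (.leaf [0, 0, 1])) (.node (.leaf [0, 0, 1]) (.leaf [0, 0, 1])))) (.node (.node (.node (.leaf []) (.leaf [])) (.node (.leaf []) (.leaf [0, 0, 1]))) (.node (.node (.leaf [0, 0, 1]) (.leaf [1, 0, 0, 1, 1, 0, 0, 0, 1])) (.node (.leaf [1, 0, 1, 1, 1, 1, 0, 0, 1, 1]) (.leaf [0, 0, 1, 0, 1, 1, 0, 0, 0, 1, 1, 1]))))) (.node (.node (.node (.node (.leaf [0, 0, 1]) (.leaf [0, 0, 1])) (.node (.leaf [0, 0, 0, 0, 0, 0, 0, 0, 1]) (.leaf [1, 1, 1, 1, 0, 0, 0, 1, 1, 0, 0, 1]))) (.node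 (.node (.leaf [1, 0, 1, 1, 1, 0, 0, 0, 1]) (.leaf [])) (.node (.leaf [0, 0, 1]) (.leaf [0, 0, 1])))) (.node (.node (.node (.leaf [0, 0, 1]) (.leaf [1, 1, 1, 1, 1, 0, 0, 1, 0, 1, 1])) (.node (.leaf [1, 0, 0, 0, 0, 1, 0, 1, 1, 0, 0, 0, 1]) (.leaf [1, 0, 0, 1, 1, 1, 0, 0, 1, 0, 0, 0, 0, 0, 1]))) (.node (.node (.leaf []) (.leaf [1, 0, 0, 1, 1, 0, 0, 0, 0, 1])) (.node (.leaf [1, 1, 1, 0, 0, 1, 0, 1, 1, 0, 0, 0, 1]) (.leaf [0, 1, 0, 0, 1, 0, 0, 0, 1, 1, 0, 1, 1, 1])))))) (.node (.node (.node (.node (.node (.leaf []) (.leaf [1, 0, 0, 1, 1, 0, 0, 0, 1])) (.node (.leaf [0, 0, 1, 0, 0, 0, 0, 0, 0, 1]) (.leaf [0, 0, 1, 0, 0, 1, 0, 0, 0, 1, 0, 0, 1]))) (.node (.node (.leaf []) (.leaf [1, 0, 0, 1, 1, 1])) (.node (.leaf []) (.leaf [1, 1, 1, 1, 1, 0, 0, 1, 1, 1, 0, 0, 0, 1, 1])))) (.node (.node (.node (.leaf []) (.leaf [])) (.node (.leaf [0, 0, 1]) (.leaf []))) (.node (.node (.leaf [0, 0, 1]) (.leaf [0, 0, 0, 0, 0, 1, 0, 0, 1, 0, 1, 0,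 1, 0, 1])) (.node (.leaf [1, 1, 0, 1, 0, 1, 0, 1, 0, 1, 1, 1]) (.leaf [0, 1, 0, 0, 1, 1, 0, 0, 0, 0, 0, 1, 1, 1]))))) (.node (.node (.node (.node (.leaf []) (.leaf [])) (.node (.leaf [0, 0, 1]) (.leaf [0, 0, 1]))) (.node (.node (.leaf [0, 0, 1]) (.leaf [1, 0, 0, 1, 0, 1, 0, 0, 1, 1, 0, 1, 0, 0, 1])) (.node (.leaf [0, 0, 1, 0, 0, 0, 0, 0, 1, 1, 0, 0, 0, 0, 1]) (.leaf [0, 1, 0, 0, 1, 0, 0, 0, 0, 1, 1, 1, 0, 0, 1])))) (.node (.node (.node (.leaf []) (.leaf [0, 0, 1, 1, 1, 1, 0, 0, 1, 0, 1])) (.node (.leaf [1, 1, 1, 0, 0, 0, 0, 1, 0, 0, 0, 0, 1]) (.leaf [0, 0, 1]))) (.node (.node (.leaf []) (.leaf [1, 0, 1, 1, 0, 0, 0, 0, 0, 0, 1, 1])) (.node (.leaf [1, 0, 1, 1, 0, 1, 0, 0, 0, 0, 0, 1, 0, 0, 1]) (.leaf [0, 0, 1]))))))))))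

def twoL3 : Janko.Tree (List ℤ) :=
  (.node (.node (.node (.node (.node (.node (.node (.node (.node (.node (.leaf []) (.leaf [0, 0, 0, 1, 0, 0, 0, 0, 0, 0, 0, 0, 0, 0, 0])) (.leaf [0, 0, 0, 1])) (.node (.leaf [0, 0, 0, 1]) (.leaf [0, 0, 0, 1]))) (.node (.node (.leaf [0, 0, 0, 1]) (.leaf [1, 0, 0, 0, 0, 0, 0, 0, 0, 0, 0, 1, 0, 0, 1])) (.node (.leaf [0, 0, 1, 0, 0, 1, 0, 0, 1, 1]) (.leaf [0, 0, 1, 0, 0, 1, 0, 0, 0, 1, 0, 0, 1, 0, 1])))) (.node (.node (.node (.leaf [0, 0, 0, 1]) (.leaf [0, 0, 0, 1, 0, 1, 0, 0, 1, 1, 0, 0, 0, 0, 1])) (.node (.leaf []) (.leaf [0, 0, 0, 1]))) (.node (.node (.leaf [0, 0, 0, 1]) (.leaf [0, 0, 0, 1])) (.node (.leaf []) (.leaf [0, 1, 0, 1, 0, 0, 0, 0, 0, 1, 1, 0, 1]))))) (.node (.node (.node (.node (.leaf [1, 0, 0, 0, 1]) (.leaf [])) (.node (.leaf [0, 0, 1, 0, 1, 1, 0, 0, 0, 1]) (.leaf [0, 0, 1, 0, 0, 0, 0, 0, 1, 0, 0, 0, 0, 0, 1]))) (.node (.node (.leaf [0, 0, 0, 1]) (.leaf [0, 0, 0, 1])) (.node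 (.leaf []) (.leaf [1, 1, 0, 1, 0, 0, 1, 1, 0, 1, 1, 0, 1, 0, 1])))) (.node (.node (.node (.leaf [0, 0, 0, 1]) (.leaf [])) (.node (.leaf []) (.leaf [1, 0, 1, 0, 0, 0, 0, 0, 1, 0, 0, 1, 1, 0, 1]))) (.node (.node (.leaf []) (.leaf [1, 1, 1, 1, 1, 1, 0, 1, 0, 1, 1, 0, 1, 0, 1])) (.node (.leaf [0, 0, 0, 1]) (.leaf [1, 0, 1, 0, 0, 1, 0, 0, 1, 0, 1, 1, 1, 0, 1])))))) (.node (.node (.node (.node (.node (.leaf []) (.leaf [])) (.node (.leaf [0, 0, 0, 1]) (.leaf [0, 1, 1, 0, 0, 0, 1, 1, 0, 1, 0, 1, 1]))) (.node (.node (.leaf []) (.leaf [1, 0, 0, 1, 1, 0, 0, 0, 0, 1])) (.node (.leaf [0, 0, 0, 1]) (.leaf [0, 0, 1, 0, 1, 1, 0, 0, 0, 0, 0, 1, 0, 0, 1])))) (.node (.node (.node (.leaf []) (.leaf [0, 1, 1, 0, 0, 0, 1, 1, 1, 1, 0, 1, 1])) (.node (.leaf []) (.leaf [0, 0, 0, 1]))) (.node (.node (.leaf []) (.leaf [])) (.node (.leaf [1, 0, 0, 0, 1, 0, 0, 0, 1, 1]) (.leaf [1, 0, 1, 1, 1, 0, 0, 0, 0, 0, 0, 0, 1, 0, 1]))))) (.node (.node (.node (.node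 (.leaf []) (.leaf [])) (.node (.leaf [0, 0, 0, 1]) (.leaf [0, 0, 1, 1, 0, 0, 0, 0, 1, 1, 0, 0, 1, 0, 1]))) (.node (.node (.leaf []) (.leaf [1, 1, 0, 0, 0, 1, 0, 1, 0, 1, 0, 1])) (.node (.leaf [0, 0, 0, 1]) (.leaf [0, 0, 0, 1])))) (.node (.node (.node (.leaf [0, 1, 0, 0, 0, 0, 0, 0, 0, 0, 0, 0, 1]) (.leaf [0, 0, 1, 0, 0, 1])) (.node (.leaf [1, 0, 0, 0, 1, 0, 0, 0, 1]) (.leaf []))) (.node (.node (.leaf [0, 0, 1, 1, 1, 1, 0, 0, 0, 1]) (.leaf [0, 0, 0, 1])) (.node (.leaf []) (.leaf [1, 0, 0, 0, 1, 1, 0, 1, 0, 1, 0, 0, 0, 1, 1]))))))) (.node (.node (.node (.node (.node (.node (.node (.leaf []) (.leaf [1, 0, 0, 0, 0, 0, 0, 0, 0, 0, 0, 1])) (.leaf [0, 0, 0, 1])) (.node (.leaf []) (.leaf [1, 0, 0, 1, 1, 0, 0, 0, 1]))) (.node (.node (.leaf []) (.leaf [0, 1, 1, 1, 0, 0, 0, 1, 0, 1, 0, 1, 1])) (.node (.leaf []) (.leaf [0, 0, 0, 1])))) (.node (.node (.node (.leaf []) (.leaf [])) (.node (.leaf [0, 0, 1, 1, 0, 1]) (.leaf [1, 0, 1, 1, 0,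 0, 0, 0, 0, 1, 0, 1, 0, 0, 1]))) (.node (.node (.leaf []) (.leaf [0, 1, 1, 1, 0, 0, 1, 1, 1, 0, 0, 1])) (.node (.leaf [0, 0, 0, 1]) (.leaf [1, 0, 1, 0, 1, 0, 0, 0, 1, 0, 0, 0, 1, 0, 1]))))) (.node (.node (.node (.node (.leaf [0, 0, 0, 1]) (.leaf [])) (.node (.leaf [0, 1, 0, 0, 1, 1, 0, 1, 0, 1, 0, 1, 1]) (.leaf [1, 0, 0, 0, 1, 1, 0, 0, 1, 0, 0, 0, 0, 0, 1]))) (.node (.node (.leaf [0, 1, 1, 0, 0, 0, 0, 0, 1, 1, 0, 0, 1]) (.leaf [])) (.node (.leaf [0, 0, 0, 1]) (.leaf [0, 0, 0, 1])))) (.node (.node (.node (.leaf [0, 0, 0, 1]) (.leaf [1, 0, 0, 1, 1, 0, 0, 0, 0, 1, 1])) (.node (.leaf [1, 0, 1, 0, 0, 0, 0, 1, 0, 1, 0, 0, 1]) (.leaf [0, 0, 1, 0, 0, 1, 0, 0, 1, 0, 0, 0, 0, 0, 1]))) (.node (.node (.leaf [0, 0, 0, 1]) (.leaf [])) (.node (.leaf [0, 0, 0, 1]) (.leaf [1, 0, 0, 1, 0, 0, 0, 0, 0, 1, 1, 1, 1, 0, 1])))))) (.node (.node (.node (.node (.node (.leaf []) (.leaf [0, 0, 1, 1, 0, 0, 0, 0, 1, 0, 1])) (.node (.leaf [0, 0, 1, 1, 0,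 0, 0, 0, 0, 0, 0, 0, 0, 0, 1]) (.leaf [0, 0, 0, 1]))) (.node (.node (.leaf [0, 0, 0, 1]) (.leaf [])) (.node (.leaf [0, 0, 0, 1]) (.leaf [0, 0, 0, 1])))) (.node (.node (.node (.leaf []) (.leaf [])) (.node (.leaf []) (.leaf [0, 0, 0, 1]))) (.node (.node (.leaf [1, 1, 0, 0, 1, 1, 0, 1, 0, 1, 0, 1, 1]) (.leaf [1, 1, 0, 0, 0, 1, 1, 1, 1, 1, 0, 1])) (.node (.leaf [0, 0, 0, 1]) (.leaf [0, 0, 0, 1]))))) (.node (.node (.node (.node (.leaf [1, 0, 0, 0, 1]) (.leaf [])) (.node (.leaf []) (.leaf []))) (.node (.node (.leaf [0, 0, 0, 1]) (.leaf [0, 0, 0, 1])) (.node (.leaf [0, 0, 0, 1]) (.leaf [])))) (.node (.node (.node (.leaf []) (.leaf [1, 0, 0, 0, 1, 1, 0, 0, 0, 0, 0, 0, 0, 0, 1])) (.node (.leaf [1, 1, 0, 1, 1, 1, 0, 1, 0, 1, 0, 1, 1]) (.leaf [0, 1, 0, 1, 0, 1, 1, 1, 1, 1, 0, 1]))) (.node (.node (.leaf []) (.leaf [0, 0, 0, 0, 0, 0, 0, 0, 0, 0, 1, 0, 0, 1])) (.node (.leaf [1, 0, 0, 1, 1, 0, 0, 0, 1, 1]) (.leaf [0, 0, 0, 1])))))))) (.node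 (.node (.node (.node (.node (.node (.node (.node (.leaf [0, 0, 0, 1]) (.leaf [0, 0, 0, 0, 0, 0, 0, 0, 0, 0, 0, 1, 0, 0, 0])) (.leaf [0, 0, 0, 1])) (.node (.leaf [0, 0, 1]) (.leaf [0, 0, 0, 1, 0, 1, 0, 0, 1, 1, 0, 0, 0, 0, 1]))) (.node (.node (.leaf []) (.leaf [0, 0, 0, 0, 1, 0, 0, 0, 1, 1, 1])) (.node (.leaf [0, 0, 1, 0, 1, 1, 0, 0, 1, 1, 0, 1]) (.leaf [0, 0, 0, 0, 1, 0, 0, 0, 0, 0, 1, 1, 1, 0, 1])))) (.node (.node (.node (.leaf []) (.leaf [0, 1, 1, 0, 0, 0, 0, 0, 0, 1, 1])) (.node (.leaf [0, 0, 0, 1]) (.leaf [1, 1, 0, 1, 0, 1, 1, 1, 1, 1, 0, 1]))) (.node (.node (.leaf []) (.leaf [0, 1, 1, 1, 0, 1, 0, 1, 0, 0, 0, 1])) (.node (.leaf []) (.leaf [0, 0, 0, 1]))))) (.node (.node (.node (.node (.leaf [1, 0, 0, 1, 1]) (.leaf [0, 0, 1, 0, 0, 0, 0, 0, 1])) (.node (.leaf [0, 0, 0, 1]) (.leaf [0, 0, 0, 1]))) (.node (.node (.leaf []) (.leaf [0, 0, 1])) (.node (.leaf [0, 1, 0, 1, 0, 1, 0, 1, 0, 0, 0, 1, 1]) (.leaf [1, 0, 0, 0, 1, 0, 0,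 0, 0, 1])))) (.node (.node (.node (.leaf []) (.leaf [0, 0, 0, 1, 0, 0, 0, 0, 0, 1])) (.node (.leaf []) (.leaf [0, 0, 0, 1]))) (.node (.node (.leaf [0, 0, 1, 0, 0, 0, 0, 0, 0, 1]) (.leaf [])) (.node (.leaf [0, 0, 1, 0, 0, 1, 0, 0, 0, 0, 0, 0, 0, 0, 1]) (.leaf [1, 1, 1, 1, 0, 0, 0, 1, 0, 0, 0, 1, 1, 0, 1])))))) (.node (.node (.node (.node (.node (.leaf []) (.leaf [0, 0, 0, 1])) (.node (.leaf [0, 0, 1, 1, 0, 1]) (.leaf [0, 0, 1, 1, 0, 0, 1, 0, 0, 1, 0, 1, 1]))) (.node (.node (.leaf []) (.leaf [0, 0, 0, 1])) (.node (.leaf [1, 0, 1, 1, 1, 1, 0, 0, 0, 1, 0, 1]) (.leaf [1, 0, 0, 1, 0, 1, 0, 0, 1, 1, 1, 1, 1, 0, 1])))) (.node (.node (.node (.leaf [0, 0, 0, 1]) (.leaf [0, 0, 0, 0, 0, 0, 0, 0, 0, 1])) (.node (.leaf [0, 0, 0, 1]) (.leaf [0, 0, 0, 1]))) (.node (.node (.leaf []) (.leaf [0, 0, 0, 1])) (.node (.leaf [0, 1, 1, 1, 0, 1, 1, 1, 1, 1, 0, 1, 1]) (.leaf [0, 0, 0, 1]))))) (.node (.node (.node (.node (.leaf [0, 0, 0, 1]) (.leaf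 [1, 0, 1, 1, 1, 1])) (.node (.leaf [0, 0, 0, 1]) (.leaf [0, 1, 1, 0, 0, 0, 0, 0, 0, 0, 1, 0, 1]))) (.node (.node (.leaf [0, 0, 0, 1, 0, 1, 0, 0, 0, 0, 0, 0, 1]) (.leaf [])) (.node (.leaf [0, 0, 0, 1]) (.leaf [0, 0, 0, 1])))) (.node (.node (.node (.leaf [0, 0, 0, 1]) (.leaf [1, 1, 0, 1, 1, 1, 0, 0, 0, 0, 0, 1])) (.node (.leaf [1, 0, 1, 0, 1, 0, 0, 0, 0, 1]) (.leaf [0, 0, 0, 1]))) (.node (.node (.leaf []) (.leaf [0, 1, 1, 0, 1, 0, 0, 1, 0, 1, 1, 0, 1, 0, 1])) (.node (.leaf []) (.leaf [1, 0, 0, 0, 0, 0, 0, 0, 1, 1, 1, 1, 1, 0, 1]))))))) (.node (.node (.node (.node (.node (.node (.node (.leaf []) (.leaf [0, 1, 1, 0, 1, 0, 0, 1, 0, 1])) (.leaf [])) (.node (.leaf []) (.leaf []))) (.node (.node (.leaf [0, 0, 0, 1]) (.leaf [0, 0, 0, 1])) (.node (.leaf [0, 0, 0, 1]) (.leaf [0, 1, 0, 0, 0, 0, 0, 1, 1, 1, 0, 1, 1, 0, 1])))) (.node (.node (.node (.leaf []) (.leaf [])) (.node (.leaf [0, 0, 0, 1]) (.leaf [0, 0, 1, 0, 0, 0, 0, 0, 0, 1,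 0, 0, 1, 0, 1]))) (.node (.node (.leaf []) (.leaf [1, 0, 0, 1, 1, 0, 0, 0, 0, 0, 0, 0, 0, 0, 1])) (.node (.leaf [0, 0, 0, 1]) (.leaf [1, 1, 0, 1, 1, 1, 0, 1, 0, 0, 0, 1, 1, 0, 1]))))) (.node (.node (.node (.node (.leaf []) (.leaf [0, 1, 0, 0, 0, 1, 0, 1, 0, 0, 0, 1, 1])) (.node (.leaf [0, 0, 0, 1]) (.leaf [1, 0, 1, 0, 0, 0, 0, 0, 1, 1, 0, 1, 0, 0, 1]))) (.node (.node (.leaf [0, 0, 0, 1]) (.leaf [0, 0, 0, 1])) (.node (.leaf [0, 0, 1, 1, 0, 1, 0, 0, 0, 1]) (.leaf [1, 0, 1, 1, 1, 0, 0, 0, 1, 1, 0, 0, 0, 0, 1])))) (.node (.node (.node (.leaf []) (.leaf [])) (.node (.leaf [0, 0, 0, 1]) (.leaf [1, 0, 0, 1, 1, 1, 0, 0, 1, 0, 1, 1, 1, 0, 1]))) (.node (.node (.leaf []) (.leaf [0, 1, 0, 1, 1, 1, 0, 0, 0, 1, 1, 1, 0, 0, 1])) (.node (.leaf []) (.leaf [1, 0, 0, 1, 0, 0, 0, 0, 1, 1, 0, 1, 1, 0, 1])))))) (.node (.node (.node (.node (.node (.leaf [0, 0, 0, 1]) (.leaf [])) (.node (.leaf [0, 0, 0, 1]) (.leaf [1, 1, 0, 1, 0, 1, 0, 1, 0, 1,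 0, 1]))) (.node (.node (.leaf []) (.leaf [0, 0, 0, 1])) (.node (.leaf [0, 0, 0, 1]) (.leaf [0, 0, 0, 1])))) (.node (.node (.node (.leaf []) (.leaf [0, 0, 1, 0, 0, 0, 0, 0, 0, 0, 0, 0, 0, 0, 1])) (.node (.leaf [0, 0, 0, 0, 0, 1, 0, 0, 0, 1]) (.leaf [0, 0, 1, 1, 1, 1, 0, 0, 0, 0, 0, 1, 0, 0, 1]))) (.node (.node (.leaf [0, 0, 0, 1]) (.leaf [0, 0, 0, 1])) (.node (.leaf [0, 0, 0, 1]) (.leaf [0, 0, 0, 1]))))) (.node (.node (.node (.node (.leaf [1, 0, 0, 1, 1]) (.leaf [])) (.node (.leaf [0, 0, 0, 1]) (.leaf [0, 0, 0, 1]))) (.node (.node (.leaf []) (.leaf [0, 0, 0, 1])) (.node (.leaf []) (.leaf [0, 0, 0, 1])))) (.node (.node (.node (.leaf [0, 0, 0, 1, 0, 1, 0, 0, 0, 0, 0, 0, 1]) (.leaf [0, 0, 1, 1, 1, 0, 0, 1, 0, 1, 0, 1])) (.node (.leaf [0, 0, 0, 1]) (.leaf [1, 0, 0, 1, 0, 1, 0, 0, 1, 0, 0, 1, 0, 0, 1]))) (.node (.node (.leaf [0, 0, 0, 1]) (.leaf [0, 1, 0, 0, 0, 1, 0, 1, 1, 0, 0, 1, 1])) (.node (.leaf [1, 0, 1, 1, 1, 0, 0, 0, 1,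 1, 0, 1]) (.leaf [0, 0, 0, 1]))))))))) (.node (.node (.node (.node (.node (.node (.node (.node (.node (.leaf []) (.leaf [0, 0, 0, 0, 0, 0, 0, 0, 1, 0, 0, 0, 0, 0, 0])) (.leaf [0, 0, 0, 1, 0, 1, 0, 0, 0, 0, 0, 0, 1, 0, 1])) (.node (.leaf [0, 0, 0, 1, 0, 0, 0, 0, 1]) (.leaf []))) (.node (.node (.leaf []) (.leaf [0, 0, 0, 1])) (.node (.leaf []) (.leaf [0, 1, 0, 1, 1, 1, 0, 1, 1, 1, 0, 0, 0, 1, 1])))) (.node (.node (.node (.leaf []) (.leaf [0, 0, 1, 1, 0, 0, 0, 0, 1])) (.node (.leaf []) (.leaf [1, 0, 1, 1, 0, 1, 0, 0, 0, 1, 0, 1, 0, 0, 1]))) (.node (.node (.leaf []) (.leaf [0, 0, 1, 1, 1, 1, 0, 0, 1, 1, 1, 1])) (.node (.leaf [1, 0, 1, 1, 0, 0, 0, 0, 1, 1, 0, 1, 1]) (.leaf []))))) (.node (.node (.node (.node (.leaf []) (.leaf [0, 0, 0, 1])) (.node (.leaf []) (.leaf [0, 1, 0, 1, 0, 1, 0, 0, 0, 0, 1]))) (.node (.node (.leaf [0, 0, 0, 1]) (.leaf [1, 0, 1, 0, 1, 1])) (.node (.leaf []) (.leaf [1, 1, 1, 0, 1, 1, 0, 1, 1, 0, 0, 0, 0,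 1, 1])))) (.node (.node (.node (.leaf []) (.leaf [])) (.node (.leaf []) (.leaf [1, 1, 0, 1, 1, 0, 0, 1, 1, 0, 0, 1, 1, 0, 1]))) (.node (.node (.leaf [0, 1, 1, 1, 0, 1, 0, 0, 0, 1, 0, 0, 1]) (.leaf [1, 1, 1, 0, 0, 0, 0, 1, 0, 0, 0, 1])) (.node (.leaf [0, 0, 0, 1]) (.leaf [0, 1, 1, 1, 1, 1, 0, 1, 1, 1, 1, 0, 1, 0, 1])))))) (.node (.node (.node (.node (.node (.leaf []) (.leaf [1, 0, 1, 0, 1, 1, 0, 0, 0, 1, 0, 1])) (.node (.leaf [0, 0, 0, 1]) (.leaf []))) (.node (.node (.leaf []) (.leaf [])) (.node (.leaf []) (.leaf [0, 1, 1, 0, 0, 0, 1, 1, 0, 0, 1, 0, 1, 0, 1])))) (.node (.node (.node (.leaf []) (.leaf [1, 0, 0, 1, 1, 1])) (.node (.leaf [0, 0, 0, 1]) (.leaf []))) (.node (.node (.leaf []) (.leaf [])) (.node (.leaf []) (.leaf [1, 0, 1, 1, 1, 1, 0, 1, 1, 0, 0, 0, 0, 1, 1]))))) (.node (.node (.node (.node (.leaf []) (.leaf [0, 0, 1, 0, 1, 0, 0, 1, 0, 0, 0, 0, 1])) (.node (.leaf []) (.leaf [0, 0, 0, 1]))) (.node (.node (.leaf [])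 (.leaf [0, 0, 0, 1])) (.node (.leaf [1, 0, 1, 1, 1, 1, 0, 0, 0, 1, 0, 1]) (.leaf [1, 0, 0, 1, 1, 1, 0, 0, 1, 0, 0, 0, 0, 0, 1])))) (.node (.node (.node (.leaf []) (.leaf [0, 0, 0, 1])) (.node (.leaf [1, 0, 0, 1, 1, 0, 0, 0, 1, 1]) (.leaf [1, 1, 1, 0, 0, 1, 1, 1, 0, 0, 0, 1]))) (.node (.node (.leaf [0, 0, 0, 1]) (.leaf [1, 1, 0, 1, 0, 0, 0, 1, 1, 0, 0, 0, 1, 0, 1])) (.node (.leaf [0, 0, 0, 1]) (.leaf [1, 1, 0, 0, 0, 1, 0, 1, 0, 1, 1, 0, 1, 0, 1]))))))) (.node (.node (.node (.node (.node (.node (.node (.leaf [0, 0, 0, 1]) (.leaf [1, 0, 1, 0, 0, 1, 0, 0, 0, 1, 0, 1])) (.leaf [])) (.node (.leaf [0, 1, 1, 1, 1, 0, 0, 1, 1, 0, 0, 1, 1]) (.leaf []))) (.node (.node (.leaf []) (.leaf [0, 0, 0, 1])) (.node (.leaf [1, 0, 1, 0, 0, 0, 0, 0, 0, 1, 1]) (.leaf [0, 0, 0, 1])))) (.node (.node (.node (.leaf []) (.leaf [])) (.node (.leaf [0, 0, 0, 1]) (.leaf [1, 0, 0, 0, 0, 0, 0, 0, 1, 1, 1, 0, 0, 0, 1]))) (.node (.node (.leaf []) (.leaf [0,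 0, 0, 1])) (.node (.leaf [0, 0, 0, 1]) (.leaf [1, 0, 0, 0, 0, 1, 0, 0, 0, 1, 0, 1, 1, 0, 1]))))) (.node (.node (.node (.node (.leaf []) (.leaf [])) (.node (.leaf [0, 1, 1, 0, 1, 1, 0, 1, 0, 0, 0, 1, 1]) (.leaf []))) (.node (.node (.leaf []) (.leaf [])) (.node (.leaf [0, 0, 0, 1]) (.leaf [0, 0, 0, 1])))) (.node (.node (.node (.leaf [0, 0, 0, 1]) (.leaf [1, 0, 1, 0, 0, 0, 0, 0, 0, 1, 0, 1, 1])) (.node (.leaf []) (.leaf [0, 0, 0, 1]))) (.node (.node (.leaf []) (.leaf [0, 0, 0, 1])) (.node (.leaf [0, 0, 1, 1, 0, 1, 0, 0, 1, 1]) (.leaf [1, 1, 0, 0, 1, 0, 0, 1, 1, 0, 0, 1, 1, 0, 1])))))) (.node (.node (.node (.node (.node (.leaf []) (.leaf [])) (.node (.leaf [0, 0, 1, 1, 0, 1, 0, 0, 0, 0, 0, 0, 0, 0, 1]) (.leaf [0, 0, 0, 0, 0, 0, 0, 0, 1, 1, 0, 0, 0, 0, 1]))) (.node (.node (.leaf []) (.leaf [0, 1, 1, 1, 0, 0, 1, 1, 0, 1, 0, 1, 1])) (.node (.leaf []) (.leaf [1, 0, 0, 1, 0, 1, 0, 0, 0, 1, 0, 1, 1, 0, 1])))) (.node (.node (.node (.leaf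 []) (.leaf [])) (.node (.leaf [0, 0, 0, 1]) (.leaf [0, 0, 0, 1]))) (.node (.node (.leaf [0, 0, 0, 1]) (.leaf [0, 0, 0, 1])) (.node (.leaf [0, 0, 0, 0, 0, 0, 0, 0, 1, 1, 1]) (.leaf [1, 1, 0, 0, 0, 0, 0, 1, 1, 0, 0, 0, 1, 0, 1]))))) (.node (.node (.node (.node (.leaf []) (.leaf [1, 0, 1, 1, 0, 1, 0, 1, 1, 1, 0, 0, 1])) (.node (.leaf [0, 0, 0, 1]) (.leaf [0, 1, 1, 0, 0, 0, 1, 1, 1, 0, 0, 1]))) (.node (.node (.leaf [0, 0, 0, 1]) (.leaf [1, 0, 0, 0, 1, 1, 0, 0, 1, 0, 0, 0, 0, 0, 1])) (.node (.leaf [1, 0, 1, 1, 1, 0, 0, 0, 0, 1, 0, 1]) (.leaf [0, 1, 0, 0, 0, 1, 1, 1, 1, 1, 0, 1])))) (.node (.node (.node (.leaf []) (.leaf [0, 0, 0, 1])) (.node (.leaf []) (.leaf [0, 0, 0, 1]))) (.node (.node (.leaf [0, 0, 0, 1]) (.leaf [0, 0, 0, 0, 0, 1, 0, 0, 0, 1, 1, 0, 1])) (.node (.leaf []) (.leaf [0, 0, 0, 1])))))))) (.node (.node (.node (.node (.node (.node (.node (.node (.leaf []) (.leaf [0, 0, 0, 0, 0, 0, 0, 0, 0, 0, 0, 0, 1, 0, 0])) (.leaf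 [0, 1, 0, 0, 1, 0, 0, 0, 0, 0, 0, 1])) (.node (.leaf []) (.leaf [0, 0, 1, 0, 1, 1, 0, 0, 1, 1, 1, 1]))) (.node (.node (.leaf [0, 0, 0, 1]) (.leaf [])) (.node (.leaf [0, 0, 0, 1]) (.leaf [1, 1, 0, 1, 0, 1, 0, 1, 1, 1, 0, 1, 1, 0, 1])))) (.node (.node (.node (.leaf []) (.leaf [1, 0, 0, 1, 1])) (.node (.leaf [0, 0, 0, 1]) (.leaf [0, 0, 0, 1]))) (.node (.node (.leaf []) (.leaf [1, 0, 0, 1, 1, 1, 0, 0, 0, 0, 0, 0, 0, 0, 1])) (.node (.leaf [1, 0, 0, 1, 0, 1, 1, 0, 0, 0, 0, 1, 1]) (.leaf [0, 0, 0, 1]))))) (.node (.node (.node (.node (.leaf []) (.leaf [])) (.node (.leaf []) (.leaf []))) (.node (.node (.leaf []) (.leaf [])) (.node (.leaf [0, 0, 0, 1]) (.leaf [0, 0, 0, 0, 0, 1, 0, 0, 0, 1, 1, 0, 1, 1])))) (.node (.node (.node (.leaf []) (.leaf [0, 0, 0, 1])) (.node (.leaf [0, 0, 1, 1, 0, 0, 0, 0, 0, 1, 0, 0, 1]) (.leaf [0, 1, 0, 1, 0, 0, 0, 1, 0, 1, 1, 1, 0, 1]))) (.node (.node (.leaf [0, 0, 1, 1, 0, 1]) (.leaf [0, 1, 0, 0, 0, 0, 0,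 1, 0, 1, 1, 1, 0, 1])) (.node (.leaf [0, 0, 1, 1, 0, 0, 0, 0, 0, 1, 1]) (.leaf [0, 1, 1, 0, 0, 1, 0, 1, 1, 0, 0, 1, 1, 0, 1])))))) (.node (.node (.node (.node (.node (.leaf [0, 0, 0, 1]) (.leaf [])) (.node (.leaf []) (.leaf [0, 0, 0, 1]))) (.node (.node (.leaf [0, 0, 0, 1]) (.leaf [1, 0, 0, 1, 0, 1, 0, 0, 1, 1, 1, 0, 0, 0, 1])) (.node (.leaf [0, 0, 0, 1]) (.leaf [1, 1, 0, 0, 1, 1, 0, 1, 1, 0, 0, 1, 1, 0, 1])))) (.node (.node (.node (.leaf []) (.leaf [])) (.node (.leaf [0, 0, 0, 1]) (.leaf [1, 0, 0, 1, 0, 0, 0, 0, 0, 0, 1, 0, 0, 1]))) (.node (.node (.leaf [0, 0, 0, 0, 0, 0, 0, 0, 0, 0, 0, 0, 1]) (.leaf [])) (.node (.leaf [0, 0, 0, 1]) (.leaf [0, 0, 0, 1]))))) (.node (.node (.node (.node (.leaf []) (.leaf [1, 0, 0, 0, 1, 1, 0, 0, 1])) (.node (.leaf [0, 0, 0, 1]) (.leaf [0, 0, 0, 1]))) (.node (.node (.leaf []) (.leaf [0, 0, 1, 0, 0, 1, 1, 0, 0, 1, 0, 1, 1])) (.node (.leaf [0, 0, 0, 1]) (.leaf [0, 0, 0, 1])))) (.node (.node (.node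 (.leaf [0, 0, 0, 1]) (.leaf [0, 0, 0, 1])) (.node (.leaf []) (.leaf [1, 0, 1, 1, 0, 1, 0, 0, 1, 1, 0, 1, 0, 0, 1]))) (.node (.node (.leaf []) (.leaf [0, 0, 0, 1])) (.node (.leaf [1, 0, 1, 0, 1, 0, 0, 0, 0, 1, 0, 0, 0, 0, 1]) (.leaf [1, 0, 0, 1, 1, 0, 0, 0, 0, 1, 0, 0, 1, 0, 1]))))))) (.node (.node (.node (.node (.node (.node (.node (.leaf [1, 0, 0, 0, 1]) (.leaf [0, 0, 1, 1, 1, 0, 1, 0, 0, 0, 0, 1])) (.leaf [0, 0, 0, 1])) (.node (.leaf [0, 0, 0, 1]) (.leaf []))) (.node (.node (.leaf []) (.leaf [0, 0, 1, 1, 0, 0, 0, 0, 0, 1])) (.node (.leaf [0, 0, 1, 0, 1, 1, 0, 0, 0, 1, 0, 1]) (.leaf [0, 1, 1, 0, 1, 1, 0, 1, 1, 1, 1, 0, 1, 0, 1])))) (.node (.node (.node (.leaf [0, 0, 0, 1]) (.leaf [])) (.node (.leaf []) (.leaf [0, 0, 1]))) (.node (.node (.leaf []) (.leaf [0, 0, 0, 1])) (.node (.leaf [0, 0, 0, 1]) (.leaf [0, 1, 0, 0, 0, 1, 0, 0, 1, 1, 1, 0, 1, 1]))))) (.node (.node (.node (.node (.leaf []) (.leaf [0, 0, 1, 0, 0, 1])) (.node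 (.leaf [0, 0, 0, 1]) (.leaf [0, 0, 0, 1]))) (.node (.node (.leaf [0, 0, 0, 1]) (.leaf [])) (.node (.leaf [0, 0, 1, 0, 1, 1, 0, 0, 0, 1, 0, 1]) (.leaf [1, 1, 1, 1, 0, 1, 1, 1, 0, 0, 0, 1])))) (.node (.node (.node (.leaf []) (.leaf [0, 0, 0, 1])) (.node (.leaf [0, 0, 0, 1]) (.leaf [0, 0, 0, 1]))) (.node (.node (.leaf [0, 0, 1, 1, 1, 1, 0, 1, 0, 0, 0, 0, 1]) (.leaf [0, 0, 0, 1])) (.node (.leaf [0, 0, 1, 0, 0, 0, 1, 0, 1, 1, 0, 1, 1]) (.leaf [0, 1, 1, 1, 0, 1, 0, 0, 1, 0, 1, 0, 1, 1])))))) (.node (.node (.node (.node (.node (.leaf []) (.leaf [0, 0, 0, 1])) (.node (.leaf [0, 0, 1, 1]) (.leaf [0, 0, 0, 1]))) (.node (.node (.leaf []) (.leaf [0, 0, 0, 1])) (.node (.leaf [0, 0, 0, 1]) (.leaf [0, 0, 0, 1, 0, 1, 0, 0, 0, 1, 1, 0, 1, 1])))) (.node (.node (.node (.leaf [0, 0, 0, 1]) (.leaf [0, 0, 0, 0, 0, 1, 0, 0, 0, 0, 0, 0, 1])) (.node (.leaf []) (.leaf [1, 0, 0, 0, 1, 1, 0, 0, 0, 1, 0, 0, 1, 0, 1]))) (.node (.node (.leaf []) (.leaf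 [0, 0, 0, 1, 0, 1, 0, 0, 0, 1, 1, 0, 1])) (.node (.leaf [0, 0, 1, 0, 1, 1, 0, 1, 0, 1, 0, 1]) (.leaf [0, 0, 0, 1]))))) (.node (.node (.node (.node (.leaf []) (.leaf [0, 0, 0, 1])) (.node (.leaf []) (.leaf [1, 0, 0, 0, 1, 0, 0, 0, 1, 1]))) (.node (.node (.leaf [1, 0, 0, 1, 1]) (.leaf [1, 0, 1, 0, 0, 0, 0, 0, 1, 1, 0, 1, 0, 0, 1])) (.node (.leaf [0, 0, 0, 1, 0, 1, 0, 0, 1, 1, 0, 0, 0, 0, 1]) (.leaf [0, 0, 0, 1])))) (.node (.node (.node (.leaf []) (.leaf [0, 0, 0, 1])) (.node (.leaf [1, 1, 0, 1, 1, 0, 0, 1, 0, 1, 0, 1, 1]) (.leaf [0, 1, 1, 0, 1, 0, 0, 0, 0, 0, 1, 1, 0, 0, 1]))) (.node (.node (.leaf [0, 0, 0, 1]) (.leaf [])) (.node (.leaf [1, 0, 1, 0, 0, 0, 0, 0, 0, 1, 0, 1, 0, 0, 1]) (.leaf [0, 1, 1, 1, 0, 1, 0, 1, 1, 0, 1, 0, 1, 0, 1]))))))))))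

def twoL4 : Janko.Tree (List ℤ) :=
  (.node (.node (.node (.node (.node (.node (.node (.node (.node (.node (.leaf [1]) (.leaf [0, 0, 0, 0, 1, 0, 0, 0, 0, 0, 0, 0, 0, 0, 0])) (.leaf [0, 1, 1, 0, 0, 0, 0, 1, 0, 1, 1])) (.node (.leaf []) (.leaf [1, 1, 0, 1, 1, 0, 1, 1, 0, 1]))) (.node (.node (.leaf []) (.leaf [1, 0, 1, 0, 0, 1, 0, 0, 0, 1])) (.node (.leaf [0, 1, 1, 1, 1, 0, 1, 1]) (.leaf [])))) (.node (.node (.node (.leaf []) (.leaf [0, 1, 0, 0, 0, 0, 0, 1, 0, 0, 1])) (.node (.leaf [0, 0, 1, 1, 1]) (.leaf [0, 1, 1, 1, 1, 0, 1, 1, 0, 0, 1]))) (.node (.node (.leaf [1, 0, 1, 1, 0, 1, 0, 0, 0, 0, 0, 1]) (.leaf [])) (.node (.leaf [1]) (.leaf [1, 0, 0, 0, 0, 1]))))) (.node (.node (.node (.node (.leaf []) (.leaf [0, 0, 1, 1, 1])) (.node (.leaf [0, 1, 0, 1, 0, 1, 0, 0, 0, 0, 0, 1]) (.leaf [0, 0, 0, 0, 0, 1, 0, 0, 0, 1, 1, 0, 1]))) (.node (.node (.leaf [1, 1, 0, 0, 0, 1, 0, 1, 0, 0, 1]) (.leaf [1, 1, 0, 0, 0, 1, 0, 1])) (.node (.leaf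 [0, 1, 0, 1, 1, 1, 0, 0, 0, 1, 1]) (.leaf [1])))) (.node (.node (.node (.leaf [1]) (.leaf [0, 0, 1, 1, 0, 0, 0, 0, 1, 1, 0, 1, 1])) (.node (.leaf [0, 1, 0, 0, 0, 0, 0, 1]) (.leaf []))) (.node (.node (.leaf [1, 0, 1, 1, 1]) (.leaf [0, 0, 1, 1, 1])) (.node (.leaf []) (.leaf [1, 0, 1, 0, 0, 1, 0, 0, 1, 1, 0, 0, 0, 1, 1])))))) (.node (.node (.node (.node (.node (.leaf [1]) (.leaf [0, 0, 1, 1, 1])) (.node (.leaf [0, 1, 0, 1, 1, 0, 1, 1, 0, 1]) (.leaf [1, 0, 1, 0, 1, 0, 1, 0, 0, 1, 0, 1]))) (.node (.node (.leaf [1, 0, 1, 1, 1]) (.leaf [1, 1, 1, 1, 1, 0, 0, 1])) (.node (.leaf [1, 1, 1, 1, 1, 0, 1, 1]) (.leaf [1, 0, 0, 1, 0, 1, 1, 0, 0, 1, 0, 1])))) (.node (.node (.node (.leaf [0, 0, 1, 1, 1]) (.leaf [1, 0, 1, 1, 1])) (.node (.leaf [1, 1, 1, 1, 1, 0, 0, 1]) (.leaf [0, 0, 1, 1, 1]))) (.node (.node (.leaf [1, 0, 1, 1, 1]) (.leaf [1, 0, 0, 1, 1, 0, 1, 0, 0, 1])) (.node (.leaf [0, 1, 1, 1, 1, 0, 1, 1]) (.leaf [1, 0, 1, 0, 0, 0, 1, 0,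 0, 1]))))) (.node (.node (.node (.node (.leaf [1, 0, 1, 1, 1]) (.leaf [0, 0, 0, 1, 0, 1, 0, 0, 0, 1, 0, 1])) (.node (.leaf [1, 0, 0, 0, 1, 1, 1, 0, 0, 0, 0, 1]) (.leaf [0, 1, 0, 0, 1, 1, 0, 1, 1, 0, 0, 1]))) (.node (.node (.leaf [0, 1, 0, 0, 0, 0, 1, 1]) (.leaf [1, 0, 1, 1, 1])) (.node (.leaf [1, 1, 0, 0, 0, 1, 1, 1]) (.leaf [0, 1, 0, 0, 1, 1, 1, 1, 1, 0, 0, 1])))) (.node (.node (.node (.leaf []) (.leaf [0, 1, 1, 1, 1, 0, 0, 1, 0, 0, 1])) (.node (.leaf [1]) (.leaf [1, 1, 0, 0, 1, 1, 1, 1, 1, 0, 0, 1]))) (.node (.node (.leaf [1, 0, 1, 1, 1, 0, 1]) (.leaf [0, 1, 0, 1, 0, 1, 0, 1, 0, 1, 1, 1, 1, 0, 1])) (.node (.leaf []) (.leaf [1, 0, 1, 0, 0, 0, 0, 0, 0, 1]))))))) (.node (.node (.node (.node (.node (.node (.node (.leaf []) (.leaf [0, 0, 1, 1, 1, 0, 0, 0, 0, 0, 0, 1])) (.leaf [1, 0, 0, 0, 1, 1, 1, 0, 0, 0, 0, 1])) (.node (.leaf [1, 0, 1, 1, 1]) (.leaf [1]))) (.node (.node (.leaf [0, 0, 1, 1, 1]) (.leaf [0, 1, 0, 1, 1, 1, 0,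 1, 0, 1])) (.node (.leaf []) (.leaf [0, 0, 0, 0, 0, 0, 0, 0, 1])))) (.node (.node (.node (.leaf [1, 0, 1, 1, 1]) (.leaf [1, 1, 0, 1, 0, 1, 0, 1, 1, 0, 0, 1, 1])) (.node (.leaf [1, 1, 0, 0, 0, 0, 0, 1]) (.leaf [1, 0, 0, 0, 0, 0, 1]))) (.node (.node (.leaf [1, 0, 1, 1, 1]) (.leaf [])) (.node (.leaf [0, 0, 1, 1, 0, 1, 0, 0, 0, 0, 0, 1]) (.leaf [1, 1, 1, 1, 0, 1, 1, 1, 0, 0, 0, 1]))))) (.node (.node (.node (.node (.leaf []) (.leaf [1, 1, 0, 0, 0, 1, 0, 1, 0, 0, 1])) (.node (.leaf [0, 0, 1, 1, 1, 0, 1]) (.leaf [0, 0, 1, 1, 0, 0, 0, 0, 0, 0, 0, 1]))) (.node (.node (.leaf [1]) (.leaf [1, 1, 1, 0, 0, 1, 1, 1, 0, 1])) (.node (.leaf []) (.leaf [1, 1, 1, 1, 1, 0, 0, 1])))) (.node (.node (.node (.leaf [0, 1, 0, 0, 0, 0, 0, 1, 0, 0, 1]) (.leaf [0, 0, 1, 1, 1])) (.node (.leaf [1, 1, 1, 1, 1, 0, 0, 1]) (.leaf [1, 0, 1, 0, 0, 1, 0, 0, 0, 1]))) (.node (.node (.leaf []) (.leaf [1, 0, 0, 1, 1, 1, 1, 0, 0, 1])) (.node (.leaf [0, 1, 0, 1, 0,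 1, 0, 1, 1, 0, 0, 1, 1]) (.leaf [0, 1, 1, 1, 1, 1, 1, 1])))))) (.node (.node (.node (.node (.node (.leaf [0, 0, 1, 1, 1]) (.leaf [1, 0, 0, 1, 1, 0, 0, 0, 0, 1, 1])) (.node (.leaf [1]) (.leaf [0, 1, 0, 1, 0, 1, 0, 0, 0, 1, 1, 1]))) (.node (.node (.leaf [1]) (.leaf [0, 1, 0, 1, 1, 1, 1, 1, 0, 1])) (.node (.leaf []) (.leaf [0, 1, 0, 1, 1, 0, 1, 1, 0, 1])))) (.node (.node (.node (.leaf [1, 0, 1, 1, 1]) (.leaf [0, 1, 0, 0, 0, 0, 1, 1])) (.node (.leaf [0, 0, 1, 1, 1]) (.leaf [0, 1, 1, 0, 0, 1, 0, 1, 0, 1, 1]))) (.node (.node (.leaf [0, 1, 1, 1, 1, 0, 1, 1]) (.leaf [1, 0, 1, 1, 1, 0, 1])) (.node (.leaf [0, 0, 1, 1, 0, 1, 0, 0, 0, 0, 1, 1]) (.leaf [0, 0, 0, 1, 0, 1, 1, 0, 0, 1, 0, 1]))))) (.node (.node (.node (.node (.leaf []) (.leaf [0, 0, 1, 1, 1])) (.node (.leaf [0, 1, 1, 1, 1, 0, 0, 1]) (.leaf [0, 1, 1, 0, 1, 1, 1, 1, 1, 1, 0, 1]))) (.node (.node (.leaf []) (.leaf [0, 0, 1, 1, 0, 0, 0, 0, 0, 0, 0, 1])) (.node (.leaf [1, 1, 0,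 0, 0, 0, 1, 1]) (.leaf [0, 1, 1, 0, 1, 1, 1, 1, 0, 1, 0, 1])))) (.node (.node (.node (.leaf [1, 1, 0, 0, 0, 0, 1, 1]) (.leaf [0, 1, 0, 0, 0, 0, 1, 1])) (.node (.leaf [0, 0, 1, 1, 1]) (.leaf [0, 0, 1, 0, 0, 0, 0, 0, 0, 1]))) (.node (.node (.leaf [0, 1, 1, 1, 1, 0, 0, 1]) (.leaf [0, 1, 1, 0, 0, 1, 0, 1, 0, 1])) (.node (.leaf [1, 1, 1, 1, 1, 0, 1, 1]) (.leaf [0, 0, 0, 1, 0, 0, 1, 0, 0, 1, 0, 1])))))))) (.node (.node (.node (.node (.node (.node (.node (.node (.leaf []) (.leaf [0, 0, 0, 0, 1, 0, 1, 1])) (.leaf [0, 0, 1, 1, 1, 1, 1])) (.node (.leaf [1, 0, 0, 0, 0, 1]) (.leaf [0, 0, 0, 1, 1, 1, 0, 0, 0, 1]))) (.node (.node (.leaf [1, 0, 1, 0, 0, 1, 0, 0, 0, 1]) (.leaf [1, 1, 1, 0, 0, 1, 0, 1, 0, 1, 1])) (.node (.leaf [0, 1, 1, 1, 1, 1, 0, 1]) (.leaf [0, 0, 1, 0, 0, 1, 0, 0, 1, 1, 0, 0, 0, 1, 1])))) (.node (.node (.node (.leaf [1]) (.leaf [0, 0, 1, 1, 0, 0, 0, 0, 0, 0, 0, 1])) (.node (.leaf []) (.leaf [1, 0, 1, 0, 0, 0, 0, 0, 0,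 1]))) (.node (.node (.leaf [1]) (.leaf [0, 0, 1, 1, 0, 1, 0, 0, 0, 0, 0, 1])) (.node (.leaf [0, 1, 1, 1, 1, 0, 1, 1]) (.leaf [0, 0, 0, 1, 0, 1, 0, 0, 0, 1, 0, 1]))))) (.node (.node (.node (.node (.leaf [1, 0, 1, 1, 1, 0, 1]) (.leaf [1])) (.node (.leaf [1, 1, 1, 1, 1, 0, 0, 1]) (.leaf [1]))) (.node (.node (.leaf [1]) (.leaf [1])) (.node (.leaf [0, 1, 1, 1, 1, 0, 0, 1]) (.leaf [1, 1, 0, 1, 1, 1, 1, 1, 0, 1])))) (.node (.node (.node (.leaf [0, 0, 1, 1, 1]) (.leaf [0, 0, 1, 1, 1])) (.node (.leaf [1, 0, 1, 1, 1]) (.leaf [0, 0, 1, 0, 1, 1, 1, 0, 0, 1, 0, 1]))) (.node (.node (.leaf [0, 1, 1, 1, 1, 0, 0, 1]) (.leaf [1, 0, 1, 0, 0, 1, 0, 0, 1, 0, 1, 0, 1, 0, 1])) (.node (.leaf []) (.leaf [0, 0, 1, 0, 0, 0, 0, 0, 1, 1])))))) (.node (.node (.node (.node (.node (.leaf []) (.leaf [0, 0, 0, 1, 0, 1, 0, 0, 0, 1, 0, 1])) (.node (.leaf [1]) (.leaf [1, 1, 1, 1, 1, 0, 0, 1]))) (.node (.node (.leaf [0, 1, 1, 1, 1, 0, 0, 1]) (.leaf [1, 0, 0,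 1, 1, 0, 0, 0, 0, 1])) (.node (.leaf [1, 1, 0, 0, 0, 0, 0, 1]) (.leaf [0, 0, 0, 1, 1, 1, 1, 0, 1, 0, 1, 0, 1, 0, 1])))) (.node (.node (.node (.leaf [1]) (.leaf [1])) (.node (.leaf [1, 0, 0, 0, 0, 0, 1]) (.leaf [0, 1, 0, 0, 1, 0, 0, 1, 0, 0, 0, 1]))) (.node (.node (.leaf [1, 1, 0, 0, 0, 0, 0, 1]) (.leaf [1, 1, 1, 1, 1, 0, 1, 1])) (.node (.leaf [1, 1, 1, 1, 1, 0, 0, 1]) (.leaf [1, 0, 1, 1, 1, 0, 1, 0, 0, 0, 1]))))) (.node (.node (.node (.node (.leaf [1]) (.leaf [1, 1, 1, 1, 1, 0, 0, 1])) (.node (.leaf [0, 1, 0, 0, 0, 1, 0, 1]) (.leaf [0, 0, 1, 1, 1, 0, 1]))) (.node (.node (.leaf [1, 0, 1, 1, 1]) (.leaf [1, 1, 1, 0, 1, 1, 0, 1, 0, 1, 0, 1])) (.node (.leaf [1, 0, 0, 1, 1, 1, 0, 0, 1, 1]) (.leaf [0, 0, 0, 1, 1, 1, 1, 0, 0, 1])))) (.node (.node (.node (.leaf []) (.leaf [1, 1, 0, 0, 0, 0, 0, 1, 0, 0, 1])) (.node (.leaf [1, 0, 0, 0, 0, 0, 1]) (.leaf [0, 1, 1, 1, 0, 1, 1, 1, 0, 0, 0, 1]))) (.node (.node (.leaf [0, 0, 0, 1, 1, 1, 0,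 0, 0, 1, 1]) (.leaf [1, 1, 1, 1, 1, 0, 0, 1])) (.node (.leaf [0, 0, 1, 0, 0, 1, 0, 0, 0, 1]) (.leaf [1, 0, 0, 0, 0, 0, 0, 0, 1]))))))) (.node (.node (.node (.node (.node (.node (.node (.leaf [1, 0, 1, 1, 1]) (.leaf [1, 0, 1, 0, 0, 1, 0, 0, 0, 1, 0, 1])) (.leaf [1, 1, 0, 0, 0, 0, 0, 1])) (.node (.leaf [0, 1, 0, 0, 0, 0, 0, 1]) (.leaf [0, 1, 1, 0, 0, 1, 1, 1, 0, 1]))) (.node (.node (.leaf [1]) (.leaf [1, 1, 0, 0, 0, 0, 0, 1])) (.node (.leaf [1]) (.leaf [1])))) (.node (.node (.node (.leaf [0, 0, 1, 0, 0, 1, 0, 0, 0, 1]) (.leaf [0, 1, 0, 0, 0, 0, 1, 1])) (.node (.leaf [1, 1, 0, 1, 1, 0, 0, 0, 0, 1, 1]) (.leaf [0, 0, 1, 0, 0, 0, 0, 0, 0, 0, 1, 0, 1]))) (.node (.node (.leaf [0, 0, 1, 1, 1]) (.leaf [0, 0, 0, 0, 0, 0, 1])) (.node (.leaf [1, 1, 1, 0, 0, 0, 0, 1, 0, 1]) (.leaf [1, 0, 1, 0, 0, 0, 0, 0, 1, 1, 0, 0, 0, 1, 1]))))) (.node (.node (.node (.node (.leaf [1]) (.leaf [1, 0, 1, 0, 1, 1, 0, 0, 0, 1, 0, 1])) (.node (.leaf [0, 0,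 0, 1, 0, 1, 0, 0, 0, 1, 0, 1]) (.leaf [0, 0, 0, 1, 1, 1, 0, 0, 0, 1]))) (.node (.node (.leaf []) (.leaf [0, 1, 1, 1, 1, 0, 1, 1])) (.node (.leaf [1, 1, 1, 1, 0, 0, 0, 1, 0, 1, 0, 1]) (.leaf [1, 0, 1, 0, 0, 0, 1, 0, 0, 1])))) (.node (.node (.node (.leaf [1]) (.leaf [0, 1, 1, 1, 1, 0, 0, 1, 0, 0, 1])) (.node (.leaf [1, 1, 0, 1, 1, 1, 1, 1, 0, 1]) (.leaf [1, 0, 0, 1, 1, 1, 1, 0, 0, 1]))) (.node (.node (.leaf [0, 1, 0, 0, 0, 0, 0, 1]) (.leaf [0, 0, 1, 1, 0, 1, 0, 0, 0, 0, 0, 1])) (.node (.leaf [0, 1, 1, 0, 0, 1, 0, 1, 1, 1, 1]) (.leaf [0, 1, 1, 1, 1, 1, 1, 1])))))) (.node (.node (.node (.node (.node (.leaf [1]) (.leaf [0, 1, 0, 0, 0, 0, 0, 1])) (.node (.leaf [0, 1, 0, 0, 0, 1, 0, 1, 0, 0, 1]) (.leaf []))) (.node (.node (.leaf [0, 0, 1, 1, 1]) (.leaf [0, 0, 0, 1, 0, 1, 0, 0, 0, 1, 0, 1])) (.node (.leaf [1, 1, 1, 1, 0, 0, 1, 0, 0, 1, 0, 1]) (.leaf [1, 1, 1, 1, 0, 0, 0, 1, 0, 0, 1, 1, 1, 0, 1])))) (.node (.node (.node (.leaf [0,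 1, 1, 1, 1, 0, 0, 1]) (.leaf [1])) (.node (.leaf [1]) (.leaf [1, 1, 1, 0, 0, 0, 1, 1, 0, 1, 1]))) (.node (.node (.leaf [0, 1, 0, 0, 1, 1, 0, 0, 0, 1, 0, 1]) (.leaf [])) (.node (.leaf [1, 1, 1, 1, 0, 1, 0, 1, 0, 1, 0, 1]) (.leaf [1, 0, 1, 0, 0, 0, 0, 0, 1, 1, 0, 0, 0, 1, 1]))))) (.node (.node (.node (.node (.leaf [0, 0, 1, 1, 1, 0, 1]) (.leaf [0, 1, 0, 0, 0, 0, 0, 1, 0, 0, 1])) (.node (.leaf [1]) (.leaf [0, 0, 1, 1, 1]))) (.node (.node (.leaf [1, 0, 1, 1, 1, 1]) (.leaf [1, 0, 0, 1, 1, 1, 0, 0, 0, 1])) (.node (.leaf [0, 1, 1, 1, 1, 0, 0, 1]) (.leaf [0, 0, 1, 1, 1, 1])))) (.node (.node (.node (.leaf [1, 0, 1, 1, 1]) (.leaf [0, 0, 1, 1, 0, 0, 0, 0, 1, 0, 0, 1])) (.node (.leaf [1, 0, 1, 1, 0, 0, 0, 0, 0, 0, 0, 1]) (.leaf [0, 0, 1, 0, 0, 1, 1, 0, 0, 1]))) (.node (.node (.leaf [0, 1, 1, 1, 1, 0, 1, 1]) (.leaf [1, 0, 0, 0, 1, 1, 0, 0, 0, 0, 0, 1])) (.node (.leaf [1, 1, 1, 1, 1, 0, 0, 1]) (.leaf [0, 0, 0, 0, 0, 0, 0, 0, 1, 1, 1, 0,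 1, 0, 1]))))))))) (.node (.node (.node (.node (.node (.node (.node (.node (.node (.leaf []) (.leaf [0, 0, 0, 0, 0, 0, 0, 0, 0, 1, 0, 0, 0, 0, 0])) (.leaf [0, 1, 1, 0, 0, 0, 0, 1, 0, 1, 1])) (.node (.leaf [1]) (.leaf [0, 1, 1, 1, 1, 0, 0, 1]))) (.node (.node (.leaf []) (.leaf [])) (.node (.leaf [1]) (.leaf [1])))) (.node (.node (.node (.leaf []) (.leaf [0, 1, 1, 1, 0, 1, 0, 1, 0, 1, 0, 1])) (.node (.leaf [0, 1, 1, 1, 1, 0, 1, 1]) (.leaf [1, 0, 0, 0, 0, 0, 1]))) (.node (.node (.leaf [1, 0, 0, 0, 1, 0, 0, 0, 0, 1, 0, 1]) (.leaf [1, 1, 0, 0, 1, 1, 0, 1, 0, 0, 0, 1])) (.node (.leaf [0, 0, 1, 1, 1]) (.leaf [0, 0, 0, 1, 1, 1, 0, 0, 0, 1, 1]))))) (.node (.node (.node (.node (.leaf []) (.leaf [1, 0, 1, 1, 0, 0, 0, 0, 0, 0, 0, 1])) (.node (.leaf [1, 0, 0, 0, 0, 0, 1]) (.leaf [1]))) (.node (.node (.leaf []) (.leaf [1, 0, 1, 1, 0, 0, 0, 0, 0, 0, 0, 1])) (.node (.leaf [1, 1, 1, 1, 1, 0, 0, 1, 0, 0, 1]) (.leaf [1, 0, 1, 0, 1, 1, 1, 0,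 0, 1, 0, 1])))) (.node (.node (.node (.leaf [0, 1, 1, 1, 1, 0, 1, 1]) (.leaf [1, 0, 1, 1, 1])) (.node (.leaf [1, 1, 0, 0, 0, 0, 1, 1]) (.leaf [0, 0, 0, 0, 0, 1, 0, 0, 0, 1, 1, 0, 1, 0, 1]))) (.node (.node (.leaf [1, 0, 1, 1, 1]) (.leaf [1])) (.node (.leaf [1, 0, 1, 1, 1]) (.leaf [1])))))) (.node (.node (.node (.node (.node (.leaf []) (.leaf [])) (.node (.leaf [0, 0, 0, 0, 1, 0, 1, 0, 0, 1, 0, 1, 1]) (.leaf [1, 1, 0, 1, 1, 1, 1, 1, 0, 1]))) (.node (.node (.leaf [1, 0, 1, 1, 1, 0, 1]) (.leaf [1])) (.node (.leaf [1, 0, 0, 1, 0, 0, 0, 0, 0, 1, 0, 1]) (.leaf [1])))) (.node (.node (.node (.leaf [0, 0, 0, 0, 0, 0, 1]) (.leaf [1, 0, 1, 1, 0, 1, 0, 0, 0, 0, 0, 1])) (.node (.leaf [0, 1, 1, 1, 0, 1, 0, 0, 0, 1, 0, 1]) (.leaf [1, 0, 1, 1, 1, 0, 0, 0, 0, 0, 1]))) (.node (.node (.leaf [1, 0, 1, 1, 1]) (.leaf [1, 0, 1, 1, 1, 0, 1])) (.node (.leaf [0, 1, 1, 1, 1, 0, 1, 1]) (.leaf [1, 0, 1, 1, 1, 0, 1, 0, 0, 0, 1]))))) (.node (.node (.node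 (.node (.leaf []) (.leaf [0, 0, 0, 1, 0, 1, 0, 0, 0, 1, 0, 1])) (.node (.leaf [0, 1, 1, 0, 0, 1, 1, 1, 0, 1]) (.leaf [1, 1, 1, 1, 1, 0, 0, 1]))) (.node (.node (.leaf [1, 0, 1, 1, 1]) (.leaf [1, 1, 0, 0, 0, 1, 0, 1])) (.node (.leaf [0, 1, 0, 0, 0, 0, 0, 1]) (.leaf [1, 0, 1, 0, 0, 1, 1, 0, 0, 1])))) (.node (.node (.node (.leaf [0, 1, 1, 1, 1, 0, 1, 1]) (.leaf [0, 0, 1, 1, 1])) (.node (.leaf [1, 1, 1, 1, 1, 0, 0, 1]) (.leaf [1, 0, 0, 1, 1, 1, 1, 0, 0, 1]))) (.node (.node (.leaf []) (.leaf [1])) (.node (.leaf [0, 0, 1, 1, 1]) (.leaf [1, 0, 0, 1, 1, 0, 0, 0, 0, 1, 1]))))))) (.node (.node (.node (.node (.node (.node (.node (.leaf [1]) (.leaf [1, 1, 1, 0, 0, 0, 0, 1, 0, 1])) (.leaf [0, 0, 0, 1, 1, 1, 0, 0, 0, 1])) (.node (.leaf [1, 0, 1, 1, 1]) (.leaf [0, 1, 1, 0, 0, 1, 0, 1, 0, 1]))) (.node (.node (.leaf [0, 0, 0, 0, 0, 0, 1]) (.leaf [1, 0, 1, 1, 0, 0, 0, 0, 0, 0, 0, 1])) (.node (.leaf [0, 1, 1, 1, 1, 0, 0, 1]) (.leaf [0, 1, 1,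 1, 1, 1, 0, 1, 1])))) (.node (.node (.node (.leaf []) (.leaf [0, 1, 0, 0, 0, 0, 1, 1])) (.node (.leaf []) (.leaf [0, 0, 0, 0, 0, 0, 0, 0, 0, 0, 1]))) (.node (.node (.leaf [0, 1, 0, 1, 1, 1, 1, 1, 0, 1]) (.leaf [1, 1, 1, 0, 1, 1, 1, 1, 1, 1, 0, 1])) (.node (.leaf [1, 1, 1, 1, 1, 0, 1, 1]) (.leaf [1, 0, 1, 0, 0, 1, 0, 0, 1, 1]))))) (.node (.node (.node (.node (.leaf []) (.leaf [1, 0, 1, 0, 1, 1, 0, 0, 0, 1, 0, 1])) (.node (.leaf [1, 1, 1, 1, 1, 0, 0, 1]) (.leaf [1, 1, 1, 1, 1, 0, 0, 1]))) (.node (.node (.leaf [1, 1, 1, 1, 1, 0, 1, 1]) (.leaf [0, 0, 1, 1, 1, 1, 0, 0, 0, 0, 1])) (.node (.leaf []) (.leaf [1, 1, 1, 1, 1, 1, 0, 1, 1])))) (.node (.node (.node (.leaf []) (.leaf [0, 0, 1, 1, 1])) (.node (.leaf [1, 1, 1, 1, 1, 0, 0, 1]) (.leaf [1, 0, 1, 0, 0, 0, 0, 0, 0, 1]))) (.node (.node (.leaf [1]) (.leaf [0, 1, 1, 0, 0, 0, 0, 1, 0, 1, 1])) (.node (.leaf [1]) (.leaf [0, 0, 0, 1, 1, 0, 1, 0, 1, 0, 1, 0, 1, 0, 1])))))) (.node (.node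 (.node (.node (.node (.leaf []) (.leaf [0, 0, 0, 1, 1, 1, 0, 0, 0, 1])) (.node (.leaf [1, 1, 0, 0, 0, 0, 1, 1]) (.leaf [0, 0, 0, 0, 0, 0, 0, 0, 0, 0, 1]))) (.node (.node (.leaf [1, 1, 1, 1, 1, 0, 1, 1]) (.leaf [0, 1, 0, 1, 1, 1, 0, 1, 0, 1])) (.node (.leaf [1, 1, 1, 1, 1, 0, 0, 1]) (.leaf [1])))) (.node (.node (.node (.leaf [1, 0, 1, 1, 1, 0, 1]) (.leaf [0, 1, 1, 1, 1, 1, 0, 1, 0, 0, 1])) (.node (.leaf [1, 0, 1, 1, 0, 1, 0, 0, 0, 0, 0, 1]) (.leaf [0, 0, 1, 1, 0, 1, 0, 0, 0, 0, 0, 1]))) (.node (.node (.leaf [0, 0, 0, 0, 1, 1, 1, 0, 0, 0, 0, 1]) (.leaf [0, 0, 1, 1, 1, 1, 0, 0, 0, 0, 1])) (.node (.leaf [1, 0, 1, 1, 1]) (.leaf [1, 1, 0, 1, 1, 1, 1, 1, 0, 1]))))) (.node (.node (.node (.node (.leaf []) (.leaf [0, 0, 1, 1, 1])) (.node (.leaf [0, 0, 0, 0, 1, 1, 0, 0, 0, 1, 0, 1]) (.leaf [0, 0, 1, 1, 1, 0, 1]))) (.node (.node (.leaf [1]) (.leaf [1, 1, 0, 0, 0, 0, 0, 1, 0, 0, 1])) (.node (.leaf [1]) (.leaf [0, 0, 0, 1, 1, 1, 1, 0,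 0, 1])))) (.node (.node (.node (.leaf [1, 0, 1, 1, 1]) (.leaf [1, 1, 0, 0, 0, 1, 0, 1, 0, 0, 1])) (.node (.leaf [0, 1, 0, 0, 0, 1, 0, 1, 0, 0, 1]) (.leaf [1, 1, 1, 0, 1, 1, 1, 1, 0, 1, 0, 1]))) (.node (.node (.leaf [1, 0, 1, 1, 0, 0, 0, 0, 0, 0, 0, 1]) (.leaf [1, 0, 0, 0, 1, 1, 0, 0, 1, 0, 0, 1])) (.node (.leaf [1]) (.leaf [1, 0, 1, 1, 1, 1, 1, 0, 0, 0, 1])))))))) (.node (.node (.node (.node (.node (.node (.node (.node (.leaf []) (.leaf [0, 1, 0, 0, 0, 1, 0, 0, 1])) (.leaf [0, 1, 0, 0, 0, 1, 0, 1])) (.node (.leaf [1, 1, 0, 0, 0, 0, 0, 1]) (.leaf [0, 0, 0, 1, 0, 1, 0, 0, 0, 1, 0, 1]))) (.node (.node (.leaf [1]) (.leaf [0, 1, 0, 0, 0, 0, 0, 1])) (.node (.leaf [1, 0, 0, 1, 0, 1, 0, 0, 1, 1, 0, 1]) (.leaf [1, 0, 0, 0, 1, 1, 1, 0, 0, 0, 1, 1])))) (.node (.node (.node (.leaf [0, 1, 0, 0, 0, 0, 0, 1]) (.leaf [1])) (.node (.leaf [0, 1, 0, 0, 0, 1, 0, 1]) (.leaf [0, 1, 0, 0, 1, 0, 1, 1, 1, 0, 0, 1]))) (.node (.node (.leaf [0, 1, 0,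 0, 0, 0, 0, 1]) (.leaf [0, 0, 0, 0, 0, 0, 1])) (.node (.leaf [0, 1, 1, 1, 1, 0, 0, 1]) (.leaf [0, 0, 0, 0, 1, 0, 1, 0, 0, 0, 1, 1]))))) (.node (.node (.node (.node (.leaf [1, 1, 0, 0, 0, 0, 0, 1]) (.leaf [1, 1, 0, 0, 0, 0, 0, 1])) (.node (.leaf [1, 1, 0, 0, 1, 0, 0, 0, 0, 1, 0, 1]) (.leaf [0, 0, 1, 0, 0, 0, 0, 0, 0, 1]))) (.node (.node (.leaf [1, 1, 0, 0, 0, 0, 0, 1]) (.leaf [0, 1, 0, 0, 0, 0, 0, 1])) (.node (.leaf [1, 0, 0, 1, 0, 0, 0, 0, 0, 1, 0, 1]) (.leaf [0, 0, 1, 1, 1])))) (.node (.node (.node (.leaf [1, 1, 0, 0, 0, 0, 1, 1]) (.leaf [1, 1, 0, 0, 0, 1, 0, 1, 0, 0, 1])) (.node (.leaf [1, 0, 1, 1, 1]) (.leaf []))) (.node (.node (.leaf [0, 1, 1, 1, 1, 0, 0, 1]) (.leaf [1, 1, 0, 0, 1, 1, 0, 1, 0, 0, 0, 1])) (.node (.leaf [1, 1, 1, 0, 0, 1, 0, 1, 0, 1]) (.leaf [1, 0, 0, 1, 0, 0, 1, 0, 0, 1, 0, 1])))))) (.node (.node (.node (.node (.node (.leaf [1]) (.leaf [0, 1, 1, 1, 1, 0, 0, 1])) (.node (.leaf [0, 1, 1, 1, 1, 0, 0, 1])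 (.leaf [1, 0, 1, 1, 0, 0, 0, 0, 0, 0, 1, 1]))) (.node (.node (.leaf [0, 0, 1, 1, 0, 0, 0, 0, 0, 0, 0, 1]) (.leaf [0, 1, 0, 1, 0, 1, 0, 1, 0, 1, 0, 1])) (.node (.leaf [1, 0, 0, 1, 1, 1, 0, 0, 1, 1]) (.leaf [1, 1, 1, 0, 0, 0, 0, 1, 0, 1, 1])))) (.node (.node (.node (.leaf [0, 1, 1, 1, 1, 0, 0, 1]) (.leaf [0, 1, 0, 0, 0, 0, 0, 1])) (.node (.leaf [0, 0, 1, 1, 1]) (.leaf [1, 0, 1, 1, 1, 1, 0, 0, 0, 0, 1]))) (.node (.node (.leaf []) (.leaf [1, 1, 0, 0, 1, 0, 1, 1, 1, 0, 0, 1])) (.node (.leaf [1, 1, 0, 1, 0, 0, 0, 0, 0, 1, 1, 1]) (.leaf [1, 1, 1, 0, 0, 1, 0, 1, 0, 1, 1]))))) (.node (.node (.node (.node (.leaf [1, 0, 1, 1, 1]) (.leaf [0, 1, 1, 1, 0, 1, 1, 0, 0, 1, 0, 1])) (.node (.leaf []) (.leaf [0, 0, 0, 0, 1, 1, 1, 0, 0, 1, 0, 1]))) (.node (.node (.leaf [1, 1, 0, 0, 0, 0, 0, 1]) (.leaf [1, 1, 0, 0, 0, 0, 0, 1, 0, 0, 1])) (.node (.leaf [0, 1, 0, 1, 1, 1, 1, 1, 0, 1]) (.leaf [1, 1, 1, 1, 1, 0, 1, 1])))) (.node (.node (.node (.leaf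 [0, 0, 0, 0, 0, 1]) (.leaf [0, 0, 0, 1, 0, 1, 0, 0, 0, 1, 0, 1])) (.node (.leaf [0, 0, 1, 1, 1]) (.leaf [0, 0, 1, 0, 0, 0, 1, 0, 0, 1]))) (.node (.node (.leaf [0, 1, 1, 1, 1, 0, 0, 1]) (.leaf [1])) (.node (.leaf [0, 0, 1, 1, 0, 0, 0, 0, 0, 0, 0, 1]) (.leaf [1, 0, 0, 1, 1, 0, 1, 0, 0, 1, 1]))))))) (.node (.node (.node (.node (.node (.node (.leaf []) (.leaf [1, 1, 1, 1, 1, 0, 1, 1])) (.node (.leaf []) (.leaf [1, 0, 0, 0, 1, 1, 1, 0, 0, 0, 0, 1]))) (.node (.node (.leaf [0, 1, 1, 1, 1, 0, 0, 1]) (.leaf [1, 1, 0, 1, 1, 1, 1, 1, 0, 1])) (.node (.leaf [0, 0, 0, 0, 1, 1, 1, 0, 0, 0, 0, 1]) (.leaf [0, 0, 1, 0, 0, 0, 1, 0, 0, 1])))) (.node (.node (.node (.leaf [1]) (.leaf [1, 0, 1, 1, 1])) (.node (.leaf [1, 0, 1, 1, 1]) (.leaf [1, 0, 1, 0, 0, 0, 0, 0, 0, 1]))) (.node (.node (.leaf [0, 1, 0, 1, 1, 0, 1, 1, 0, 1]) (.leaf [0, 0, 1, 1, 1])) (.node (.leaf [1, 0, 1, 1, 0, 0, 0, 0, 1, 1, 0, 1, 1]) (.leaf [0, 0, 1, 1, 1]))))) (.node (.node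 (.node (.node (.leaf [1, 1, 0, 0, 0, 0, 0, 1]) (.leaf [0, 1, 1, 1, 0, 1, 0, 1, 0, 1, 0, 1])) (.node (.leaf [0, 1, 1, 0, 0, 1, 1, 1, 0, 1]) (.leaf [0, 1, 0, 0, 1, 1, 0, 1, 1, 0, 0, 1]))) (.node (.node (.leaf [0, 0, 0, 0, 0, 1]) (.leaf [1, 1, 1, 0, 1, 1, 0, 1, 1, 1, 0, 1])) (.node (.leaf [0, 1, 0, 1, 1, 0, 1, 1, 0, 1]) (.leaf [1, 0, 0, 0, 0, 1])))) (.node (.node (.node (.leaf [1, 1, 0, 0, 0, 0, 0, 1]) (.leaf [1])) (.node (.leaf [1, 0, 1, 0, 1, 1, 1, 0, 1, 0, 0, 1, 1]) (.leaf [0, 1, 0, 1, 1, 0, 1, 1, 0, 1]))) (.node (.node (.leaf [0, 0, 0, 0, 0, 0, 1]) (.leaf [1, 1, 1, 1, 0, 0, 0, 1, 0, 0, 0, 1, 1, 0, 1])) (.node (.leaf [0, 1, 1, 1, 1, 0, 1, 1]) (.leaf [0, 0, 0, 1, 1, 0, 1, 0, 1, 0, 1, 0, 1, 0, 1])))))) (.node (.node (.node (.node (.node (.leaf [1, 0, 1, 1, 1]) (.leaf [0, 0, 1, 1, 1])) (.node (.leaf [0, 0, 1, 1, 1, 1]) (.leaf [0, 1, 1, 0, 1, 1, 0, 1, 1, 1, 0, 1]))) (.node (.node (.leaf [0, 1, 0, 0, 0, 0, 1, 1]) (.leaf [0, 1,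 1, 1, 0, 1, 0, 1, 0, 0, 0, 1])) (.node (.leaf []) (.leaf [0, 1, 1, 1, 0, 1, 0, 1, 1, 0, 0, 1, 1, 0, 1])))) (.node (.node (.node (.leaf [1, 0, 1, 1, 0, 1, 0, 0, 0, 0, 0, 1]) (.leaf [1, 1, 1, 1, 1, 1, 0, 1])) (.node (.leaf [1, 1, 0, 0, 0, 0, 0, 1]) (.leaf [1, 1, 1, 0, 0, 0, 1, 1, 0, 1, 1]))) (.node (.node (.leaf [0, 0, 1, 0, 1, 1, 1, 0, 0, 0, 0, 1, 1]) (.leaf [1, 0, 0, 0, 1, 1, 1, 0, 0, 1, 0, 1])) (.node (.leaf [0, 1, 1, 1, 1, 0, 1, 1]) (.leaf [1, 0, 0, 1, 1, 0, 1, 0, 0, 0, 1, 0, 1, 0, 1]))))) (.node (.node (.node (.node (.leaf [0, 1, 0, 0, 0, 0, 0, 1]) (.leaf [1, 0, 1, 1, 0, 0, 0, 0, 0, 0, 0, 1])) (.node (.leaf [1, 0, 0, 0, 1, 0, 1, 0, 0, 1, 0, 1, 1]) (.leaf [0, 1, 1, 1, 1, 0, 1, 1, 0, 0, 1]))) (.node (.node (.leaf [0, 0, 1, 1, 1, 0, 1]) (.leaf [0, 0, 1, 0, 0, 1, 0, 0, 0, 1])) (.node (.leaf [1, 0, 1, 1, 0, 0, 0, 0, 0, 0, 0, 1]) (.leaf [0, 0, 0, 1, 0, 0, 0, 0, 0, 1, 0, 1])))) (.node (.node (.node (.leaf [1, 1, 0, 0, 0, 0, 0,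 1]) (.leaf [1, 0, 1, 1, 0, 1, 0, 0, 0, 0, 0, 1])) (.node (.leaf [1, 0, 1, 1, 0, 0, 0, 0, 0, 0, 0, 1]) (.leaf [0, 0, 0, 0, 0, 1]))) (.node (.node (.leaf []) (.leaf [0, 1, 0, 0, 0, 0, 0, 1])) (.node (.leaf [1, 0, 1, 1, 0, 1, 0, 0, 0, 0, 0, 1]) (.leaf [0, 0, 0, 0, 0, 0, 0, 0, 0, 1, 1, 0, 1, 0, 1]))))))))))

def twoL5 : Janko.Tree (List ℤ) :=
  (.node (.node (.node (.node (.node (.node (.node (.node (.node (.node (.leaf []) (.leaf [0, 0, 0, 0, 0, 1, 0, 0, 0, 0, 0, 0, 0, 0, 0])) (.leaf [0, 0, 0, 0, 0, 1, 0, 0, 0, 1, 0, 0, 1, 1])) (.node (.leaf [0, 1]) (.leaf [0, 1]))) (.node (.node (.leaf [0, 1]) (.leaf [])) (.node (.leaf [1, 1, 0, 0, 0, 1, 0, 1, 0, 1, 0, 0, 1]) (.leaf [0, 1])))) (.node (.node (.node (.leaf [0, 1]) (.leaf [0, 1])) (.node (.leaf []) (.leaf [0, 1]))) (.node (.node (.leaf [0, 1]) (.leaf [0, 1])) (.node (.leaf [0, 1, 0, 1, 1, 1, 0, 0, 1, 1]) (.leaf [0, 1]))))) (.node (.node (.node (.node (.leaf [0, 1]) (.leaf []))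 (.node (.leaf [0, 1]) (.leaf [0, 0, 0, 0, 0, 1, 0, 0, 0, 1, 0, 0, 1]))) (.node (.node (.leaf [0, 1]) (.leaf [0, 1])) (.node (.leaf []) (.leaf [0, 1, 0, 1, 0, 1, 0, 0, 0, 0, 1, 1])))) (.node (.node (.node (.leaf [0, 0, 1, 0, 0, 0, 0, 0, 0, 1]) (.leaf [1, 0, 0, 0, 0, 0, 0, 1, 0, 1, 0, 0, 1])) (.node (.leaf []) (.leaf [0, 1]))) (.node (.node (.leaf []) (.leaf [1, 1, 1, 1, 0, 0, 0, 1, 0, 0, 1, 1, 0, 1])) (.node (.leaf [0, 1]) (.leaf [0, 1])))))) (.node (.node (.node (.node (.node (.leaf []) (.leaf [0, 0, 0, 1, 1, 1, 0, 0, 1, 1])) (.node (.leaf [0, 1]) (.leaf [1, 0, 0, 0, 0, 1, 0, 1, 0, 0, 0, 0, 0, 1]))) (.node (.node (.leaf []) (.leaf [1, 0, 1, 1, 1, 0, 0, 0, 1, 1, 0, 0, 1])) (.node (.leaf []) (.leaf [0, 1])))) (.node (.node (.node (.leaf []) (.leaf [1, 1, 0, 0, 0, 1, 0, 1, 1, 0, 0, 0, 0, 1])) (.node (.leaf []) (.leaf [0, 1, 1, 1, 0, 0, 0, 1, 0, 0, 1, 1, 0, 1]))) (.node (.node (.leaf []) (.leaf [1, 1, 0, 0, 0, 0, 0, 1, 0, 1,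 0, 0, 1, 1])) (.node (.leaf []) (.leaf [0, 1]))))) (.node (.node (.node (.node (.leaf []) (.leaf [])) (.node (.leaf [0, 1]) (.leaf [0, 1, 0, 0, 0, 0, 0, 0, 1, 1, 0, 0, 1, 1]))) (.node (.node (.leaf []) (.leaf [])) (.node (.leaf [0, 1]) (.leaf [0, 0, 1, 0, 0, 0, 0, 1, 0, 1, 1, 0, 0, 1])))) (.node (.node (.node (.leaf [0, 0, 1, 0, 0, 0, 0, 0, 0, 1]) (.leaf [0, 1])) (.node (.leaf [1, 0, 1, 0, 1, 0, 1, 0, 0, 1, 0, 1]) (.leaf [0, 0, 1, 0, 0, 0, 0, 1, 0, 1, 1, 0, 0, 1]))) (.node (.node (.leaf [1, 1, 1, 0, 1, 1, 1, 0, 0, 1, 0, 1]) (.leaf [0, 1])) (.node (.leaf [0, 1, 1, 0, 1, 0, 0, 0, 0, 0, 0, 1]) (.leaf [0, 1]))))))) (.node (.node (.node (.node (.node (.node (.node (.leaf []) (.leaf [0, 0, 1, 1, 1, 0, 0, 0, 0, 0, 0, 1])) (.leaf [0, 1])) (.node (.leaf []) (.leaf [1, 0, 1, 1, 0, 1, 1, 1, 0, 1, 0, 1]))) (.node (.node (.leaf []) (.leaf [])) (.node (.leaf [0, 1]) (.leaf [0, 1])))) (.node (.node (.node (.leaf []) (.leaf [1, 1, 0, 1,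 1, 0, 0, 0, 0, 0, 0, 0, 1])) (.node (.leaf []) (.leaf [0, 1, 0, 0, 0, 1, 0, 1, 0, 1, 1, 0, 1]))) (.node (.node (.leaf []) (.leaf [0, 1])) (.node (.leaf [0, 1]) (.leaf [1, 0, 0, 0, 0, 0, 0, 1, 0, 1, 0, 0, 1, 1]))))) (.node (.node (.node (.node (.leaf [0, 1]) (.leaf [])) (.node (.leaf []) (.leaf [0, 1]))) (.node (.node (.leaf []) (.leaf [0, 0, 1, 0, 0, 1, 0, 1, 0, 1, 1])) (.node (.leaf [0, 1]) (.leaf [1, 1, 0, 1, 1, 0, 0, 1, 1, 1])))) (.node (.node (.node (.leaf [0, 1]) (.leaf [1, 0, 1, 1, 0, 0, 0, 0, 1, 0, 0, 1, 0, 1])) (.node (.leaf []) (.leaf []))) (.node (.node (.leaf [0, 1]) (.leaf [1, 1, 0, 0, 0, 0, 0, 1, 0, 1, 0, 0, 1, 1])) (.node (.leaf [0, 1]) (.leaf [0, 0, 0, 0, 0, 0, 0, 1, 0, 1, 1, 0, 1, 1])))))) (.node (.node (.node (.node (.node (.leaf []) (.leaf [])) (.node (.leaf [1, 1, 0, 0, 0, 1, 0, 1]) (.leaf [0, 1]))) (.node (.node (.leaf [1, 0, 1, 0, 0, 1, 0, 0, 0, 1]) (.leaf [1, 1, 1, 1, 0, 0, 1, 1, 0, 1, 0, 1])) (.node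 (.leaf [0, 1]) (.leaf [0, 1, 0, 0, 0, 1, 0, 1, 1, 1, 1, 0, 1, 1])))) (.node (.node (.node (.leaf []) (.leaf [0, 1, 1, 0, 0, 0, 0, 1, 0, 1, 1])) (.node (.leaf []) (.leaf [0, 0, 0, 0, 0, 0, 0, 0, 0, 1, 0, 0, 1, 0, 1]))) (.node (.node (.leaf []) (.leaf [])) (.node (.leaf [0, 1]) (.leaf [0, 1]))))) (.node (.node (.node (.node (.leaf [0, 1]) (.leaf [])) (.node (.leaf []) (.leaf [0, 1, 0, 0, 0, 1, 0, 1, 1, 0, 1, 0, 0, 1]))) (.node (.node (.leaf [0, 1]) (.leaf [0, 1])) (.node (.leaf [0, 1]) (.leaf [0, 0, 1, 0, 0, 1, 0, 1, 1, 1, 1, 0, 0, 1])))) (.node (.node (.node (.leaf []) (.leaf [1, 0, 0, 1, 1, 0, 1, 0, 0, 1, 1])) (.node (.leaf []) (.leaf [0, 1]))) (.node (.node (.leaf []) (.leaf [0, 1, 1, 0, 0, 1, 0, 0, 1, 0, 0, 0, 1])) (.node (.leaf [1, 1, 1, 0, 1, 0, 1, 1, 1, 1, 0, 1]) (.leaf [0, 1])))))))) (.node (.node (.node (.node (.node (.node (.node (.node (.leaf [0, 1]) (.leaf [1, 0, 0, 0, 0, 0, 1, 1])) (.leaf [0, 1, 0, 0, 1, 0, 1,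 0, 0, 0, 0, 1])) (.node (.leaf [0, 1]) (.leaf [0, 1]))) (.node (.node (.leaf [0, 1]) (.leaf [0, 0, 0, 0, 0, 0, 0, 0, 1, 1, 0, 0, 1, 1])) (.node (.leaf [1, 1, 0, 0, 1, 0, 0, 0, 0, 1, 1, 1]) (.leaf [])))) (.node (.node (.node (.leaf []) (.leaf [0, 1])) (.node (.leaf [0, 1]) (.leaf [0, 1]))) (.node (.node (.leaf [1, 1, 1, 1, 0, 1, 0, 0, 0, 1, 0, 1]) (.leaf [0, 1])) (.node (.leaf [1, 1, 0, 1, 0, 1, 1, 1, 0, 0, 0, 1]) (.leaf [0, 1]))))) (.node (.node (.node (.node (.leaf []) (.leaf [1, 0, 0, 1, 0, 1, 0, 1, 0, 0, 0, 1])) (.node (.leaf []) (.leaf [1, 0, 0, 0, 0, 1, 0, 1]))) (.node (.node (.leaf [1, 0, 1, 1, 0, 0, 0, 0, 0, 0, 0, 1]) (.leaf [0, 0, 1, 1, 0, 0, 1, 1, 0, 1, 0, 1])) (.node (.leaf []) (.leaf [])))) (.node (.node (.node (.leaf []) (.leaf [])) (.node (.leaf [0, 0, 1, 0, 0, 1, 0, 0, 0, 1, 0, 0, 0, 1]) (.leaf [0, 0, 1, 1, 0, 0, 1, 1, 1, 0, 0, 1, 0, 1]))) (.node (.node (.leaf [0, 0, 1, 0, 0, 0, 0, 0, 0, 0, 0, 0, 1]) (.leaf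 [])) (.node (.leaf [0, 0, 0, 0, 0, 0, 0, 0, 0, 1, 0, 0, 1]) (.leaf [0, 1])))))) (.node (.node (.node (.node (.node (.leaf [0, 1]) (.leaf [])) (.node (.leaf [1, 0, 0, 1, 1, 1, 0, 1, 0, 1]) (.leaf []))) (.node (.node (.leaf []) (.leaf [0, 1])) (.node (.leaf []) (.leaf [0, 1, 0, 0, 0, 0, 0, 1, 0, 1, 1, 0, 1, 1])))) (.node (.node (.node (.leaf [1, 1, 1, 0, 0, 1, 0, 0, 0, 1]) (.leaf [1, 0, 0, 1, 0, 0, 1, 1, 0, 0, 0, 1])) (.node (.leaf [1, 0, 1, 0, 0, 0, 0, 1, 0, 1]) (.leaf [0, 1]))) (.node (.node (.leaf []) (.leaf [0, 0, 1, 0, 0, 0, 1, 0, 0, 1])) (.node (.leaf []) (.leaf [0, 1]))))) (.node (.node (.node (.node (.leaf []) (.leaf [1, 0, 1, 1, 1, 1, 0, 0, 0, 1, 0, 0, 1])) (.node (.leaf [0, 1]) (.leaf []))) (.node (.node (.leaf []) (.leaf [0, 1, 0, 0, 0, 1, 0, 0, 0, 1, 0, 0, 1, 1])) (.node (.leaf [0, 1]) (.leaf [1, 0, 1, 0, 1, 1, 0, 0, 0, 1, 1, 1])))) (.node (.node (.node (.leaf [0, 1]) (.leaf [0, 1, 0, 1, 1, 0, 1, 0, 0, 1, 1])) (.node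 (.leaf [1, 1, 1, 0, 0, 0, 0, 1, 0, 1]) (.leaf [1, 0, 1, 0, 0, 0, 0, 1, 1, 0, 0, 0, 1, 1]))) (.node (.node (.leaf []) (.leaf [1, 0, 0, 1, 0, 1, 0, 0, 0, 1, 1, 1])) (.node (.leaf []) (.leaf [0, 1]))))))) (.node (.node (.node (.node (.node (.node (.node (.leaf []) (.leaf [1, 1, 0, 0, 1, 1, 0, 1, 0, 1, 0, 1, 1])) (.leaf [])) (.node (.leaf []) (.leaf [0, 0, 1, 0, 0, 0, 0, 1, 0, 1, 1]))) (.node (.node (.leaf [0, 1, 1, 0, 0, 1, 0, 0, 0, 1]) (.leaf [0, 1])) (.node (.leaf [1, 0, 1, 0, 1, 1, 0, 0, 1, 0, 0, 1]) (.leaf [1, 0, 0, 1, 1, 1, 0, 1, 1, 1])))) (.node (.node (.node (.leaf [0, 1]) (.leaf [0, 0, 0, 1, 0, 0, 1, 0, 0, 0, 0, 1, 1])) (.node (.leaf []) (.leaf [0, 1]))) (.node (.node (.leaf [0, 0, 1, 1, 0, 1, 0, 0, 0, 1, 0, 1]) (.leaf [0, 1, 0, 0, 0, 1, 0, 1, 0, 1, 1, 0, 1])) (.node (.leaf [0, 1]) (.leaf []))))) (.node (.node (.node (.node (.leaf []) (.leaf [0, 1, 0, 0, 0, 1, 0, 0, 0, 0, 0, 0, 0, 1])) (.node (.leaf [0, 1]) (.leaf [0,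 1]))) (.node (.node (.leaf [0, 1]) (.leaf [])) (.node (.leaf [1, 1, 0, 1, 0, 1, 0, 1, 0, 0, 0, 1]) (.leaf [0, 0, 0, 0, 0, 1, 0, 1, 0, 1, 1, 0, 1])))) (.node (.node (.node (.leaf [1, 0, 1, 1, 0, 0, 0, 0, 0, 0, 0, 1]) (.leaf [1, 0, 0, 0, 1, 0, 0, 0, 0, 1, 1, 1])) (.node (.leaf [0, 1]) (.leaf []))) (.node (.node (.leaf []) (.leaf [0, 1])) (.node (.leaf [0, 0, 1, 0, 0, 1, 0, 0, 0, 0, 0, 0, 1, 1]) (.leaf [0, 1, 1, 0, 0, 1, 0, 0, 0, 1, 0, 0, 0, 1, 1])))))) (.node (.node (.node (.node (.node (.leaf []) (.leaf [])) (.node (.leaf [0, 1]) (.leaf [0, 1]))) (.node (.node (.leaf []) (.leaf [0, 1])) (.node (.leaf [1, 0, 1, 0, 0, 1, 0, 1, 1, 1]) (.leaf [0, 1, 0, 0, 0, 1, 0, 0, 0, 1, 0, 0, 1, 0, 1])))) (.node (.node (.node (.leaf []) (.leaf [])) (.node (.leaf []) (.leaf [1, 1, 0, 0, 0, 1, 0, 1, 1, 1, 0, 0, 1, 1]))) (.node (.node (.leaf [0, 1]) (.leaf [0, 1])) (.node (.leaf [0, 1]) (.leaf [0, 1]))))) (.node (.node (.node (.node (.leaf [])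 (.leaf [1, 1, 1, 0, 1, 1, 0, 0, 0, 1, 1, 1])) (.node (.leaf [1, 1, 0, 0, 1, 1, 0, 0, 0, 1, 0, 1]) (.leaf [0, 1, 0, 1, 0, 1, 1, 1, 1, 1, 0, 1, 0, 1]))) (.node (.node (.leaf [1, 1, 0, 1, 0, 1, 0, 0, 0, 1, 0, 1]) (.leaf [0, 1])) (.node (.leaf []) (.leaf [0, 1, 0, 0, 1, 0, 0, 0, 0, 0, 0, 1])))) (.node (.node (.node (.leaf []) (.leaf [1, 1, 1, 1, 0, 0, 0, 0, 0, 0, 0, 1])) (.node (.leaf [0, 1]) (.leaf [0, 0, 1, 0, 0, 1, 0, 1, 0, 0, 1, 0, 1]))) (.node (.node (.leaf []) (.leaf [1, 1, 1, 1, 0, 0, 0, 0, 0, 0, 0, 1, 0, 1])) (.node (.leaf []) (.leaf [0, 1]))))))))) (.node (.node (.node (.node (.node (.node (.node (.node (.node (.leaf []) (.leaf [0, 0, 0, 0, 0, 0, 0, 0, 0, 1])) (.leaf [0, 0, 1, 0, 0, 0, 0, 0, 1, 0, 0, 0, 1, 1])) (.node (.leaf [1, 0, 0, 0, 1, 0, 0, 0, 0, 1, 0, 1]) (.leaf []))) (.node (.node (.leaf []) (.leaf [0, 1])) (.node (.leaf [1, 0, 1, 1, 0, 0, 0, 0, 0, 0, 0, 1]) (.leaf [1, 1, 0, 0, 0, 1, 1])))) (.node (.node (.node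 (.leaf [0, 1]) (.leaf [0, 1])) (.node (.leaf []) (.leaf [0, 1, 1, 0, 0, 1, 0, 1, 0, 0, 1, 0, 1]))) (.node (.node (.leaf [0, 1]) (.leaf [0, 1, 0, 0, 0, 0, 0, 0, 1, 1, 0, 0, 1, 1])) (.node (.leaf []) (.leaf [0, 1, 0, 0, 1, 0, 0, 0, 0, 0, 0, 1]))))) (.node (.node (.node (.node (.leaf [0, 1]) (.leaf [0, 1])) (.node (.leaf [0, 1, 1, 0, 0, 1, 0, 1, 0, 1]) (.leaf [1, 0, 1, 0, 1, 1, 0, 1, 0, 1, 0, 1]))) (.node (.node (.leaf [0, 1]) (.leaf [0, 1])) (.node (.leaf [1, 1, 0, 1, 0, 1, 0, 1, 0, 0, 0, 1]) (.leaf [0, 0, 1, 1, 0, 1, 1, 1, 0, 0, 0, 1, 0, 1])))) (.node (.node (.node (.leaf []) (.leaf [])) (.node (.leaf []) (.leaf []))) (.node (.node (.leaf []) (.leaf [1, 1, 1, 0, 0, 0, 1, 0, 0, 1])) (.node (.leaf []) (.leaf [0, 1, 1, 0, 0, 0, 1, 0, 0, 1])))))) (.node (.node (.node (.node (.node (.leaf []) (.leaf [0, 1])) (.node (.leaf [0, 1]) (.leaf [0, 1, 1, 1, 0, 1, 1, 1, 0, 1, 0, 1]))) (.node (.node (.leaf []) (.leaf [0, 0, 0, 1, 1, 0, 0,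 1, 0, 1])) (.node (.leaf []) (.leaf [1, 0, 0, 1, 0, 1, 0, 1, 0, 0, 0, 1])))) (.node (.node (.node (.leaf [1, 0, 0, 0, 0, 0, 0, 1]) (.leaf [0, 1])) (.node (.leaf [0, 1]) (.leaf [0, 0, 0, 0, 1, 0, 0, 0, 0, 0, 0, 1]))) (.node (.node (.leaf []) (.leaf [1, 0, 1, 0, 1, 1, 0, 0, 0, 1, 1, 1])) (.node (.leaf [1, 1, 1, 1, 0, 1, 1, 1, 0, 1, 0, 1]) (.leaf [1, 1, 1, 0, 1, 1, 0, 0, 0, 1, 1, 1]))))) (.node (.node (.node (.node (.leaf []) (.leaf [])) (.node (.leaf [0, 0, 1, 0, 0, 1, 0, 1, 0, 1, 1]) (.leaf []))) (.node (.node (.leaf []) (.leaf [0, 1])) (.node (.leaf []) (.leaf [0, 0, 1, 0, 0, 1, 0, 1, 0, 0, 1, 0, 1])))) (.node (.node (.node (.leaf []) (.leaf [])) (.node (.leaf [1, 0, 1, 1, 1, 1, 0, 0, 0, 1, 0, 0, 1]) (.leaf []))) (.node (.node (.leaf [0, 1]) (.leaf [1, 0, 0, 0, 1, 0, 0, 1, 0, 1, 0, 1])) (.node (.leaf []) (.leaf [0, 1]))))))) (.node (.node (.node (.node (.node (.node (.node (.leaf []) (.leaf [0, 1, 1, 0, 1, 0, 0, 1, 0, 1]))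 (.leaf [])) (.node (.leaf []) (.leaf [1, 1, 1, 1, 1, 1, 0, 0, 1, 1, 0, 0, 1]))) (.node (.node (.leaf [1, 0, 0, 0, 0, 0, 0, 1]) (.leaf [0, 1])) (.node (.leaf [1, 0, 0, 0, 1, 1, 0, 0, 0, 0, 1, 1]) (.leaf [0, 1])))) (.node (.node (.node (.leaf []) (.leaf [0, 1, 0, 0, 0, 1, 0, 1, 0, 0, 1])) (.node (.leaf [0, 1]) (.leaf [0, 1, 1, 0, 0, 1, 0, 0, 0, 0, 0, 0, 1]))) (.node (.node (.leaf []) (.leaf [0, 1, 0, 0, 0, 0, 0, 1, 1, 0, 1, 0, 0, 1])) (.node (.leaf [1, 1, 1, 0, 0, 0, 1, 1, 0, 1]) (.leaf [0, 1]))))) (.node (.node (.node (.node (.leaf [0, 1]) (.leaf [0, 1, 1, 0, 0, 1, 0, 0, 0, 1, 0, 0, 0, 1])) (.node (.leaf []) (.leaf []))) (.node (.node (.leaf []) (.leaf [])) (.node (.leaf [0, 1]) (.leaf [0, 1])))) (.node (.node (.node (.leaf [0, 1]) (.leaf [1, 0, 0, 1, 0, 1, 0, 0, 0, 1, 0, 1, 0, 1])) (.node (.leaf [1, 1, 0, 1, 1, 0, 0, 1, 0, 1]) (.leaf []))) (.node (.node (.leaf [0, 0, 1, 0, 1, 1, 1, 0, 0, 1, 0, 1]) (.leaf [0, 0, 0, 0, 0, 1,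 0, 0, 0, 1, 0, 0, 1, 0, 1])) (.node (.leaf [0, 0, 1, 0, 0, 1, 1, 1, 0, 1]) (.leaf [0, 0, 1, 0, 0, 0, 0, 1, 0, 0, 1, 0, 1, 1])))))) (.node (.node (.node (.node (.node (.leaf []) (.leaf [])) (.node (.leaf [0, 0, 0, 1, 1, 1, 0, 0, 0, 1, 1]) (.leaf []))) (.node (.node (.leaf []) (.leaf [])) (.node (.leaf []) (.leaf [0, 1, 0, 1, 0, 1, 0, 0, 0, 1, 0, 1])))) (.node (.node (.node (.leaf []) (.leaf [0, 1, 0, 1, 0, 1, 0, 1, 0, 0, 1, 1])) (.node (.leaf [0, 1]) (.leaf [0, 1]))) (.node (.node (.leaf [0, 1]) (.leaf [0, 0, 0, 0, 1, 1, 0, 0, 0, 0, 0, 1])) (.node (.leaf []) (.leaf [0, 0, 0, 0, 0, 0, 0, 0, 0, 0, 0, 0, 0, 1, 1]))))) (.node (.node (.node (.node (.leaf [0, 1]) (.leaf [])) (.node (.leaf [0, 1]) (.leaf []))) (.node (.node (.leaf [0, 1, 0, 0, 1, 1, 0, 0, 0, 1, 0, 1]) (.leaf [0, 1])) (.node (.leaf [0, 0, 0, 1, 0, 1, 0, 1, 0, 0, 0, 1]) (.leaf [])))) (.node (.node (.node (.leaf []) (.leaf [0, 1])) (.node (.leaf [0, 1, 0, 1, 1, 1, 0,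 0, 0, 1, 1]) (.leaf [0, 0, 0, 0, 0, 0, 0, 1, 0, 0, 1, 0, 0, 1]))) (.node (.node (.leaf [0, 1]) (.leaf [1, 1, 0, 1, 0, 1, 0, 0, 0, 1, 0, 1, 0, 1])) (.node (.leaf [1, 0, 0, 1, 1, 1, 0, 0, 1, 1]) (.leaf [0, 1])))))))) (.node (.node (.node (.node (.node (.node (.node (.node (.leaf []) (.leaf [0, 1, 1, 0, 0, 0, 0, 0, 0, 1])) (.leaf [1, 0, 0, 0, 0, 0, 0, 1])) (.node (.leaf [0, 0, 0, 0, 1, 1, 0, 0, 1, 1, 0, 1, 1]) (.leaf [0, 1]))) (.node (.node (.leaf []) (.leaf [1, 1, 0, 0, 0, 0, 0, 1])) (.node (.leaf [0, 1, 0, 1, 1, 0, 0, 0, 1, 1]) (.leaf [1, 0, 0, 0, 0, 1, 0, 1, 0, 1, 0, 0, 1, 1])))) (.node (.node (.node (.leaf []) (.leaf [1, 0, 1, 1, 0, 1, 1, 1, 0, 1, 0, 1])) (.node (.leaf [0, 1]) (.leaf [0, 1, 1, 0, 0, 0, 0, 1, 0, 1, 1, 0, 0, 1]))) (.node (.node (.leaf [1, 1, 0, 0, 1, 0, 0, 0, 1, 1, 0, 1, 1]) (.leaf [0, 1, 1, 0, 0, 0, 0, 1, 0, 0, 1, 0, 1])) (.node (.leaf []) (.leaf [1, 0, 0, 0, 0, 1, 0, 1, 1, 1, 0, 0, 1, 1]))))) (.node (.node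 (.node (.node (.leaf []) (.leaf [0, 1, 0, 0, 0, 1, 0, 0, 1, 1, 0, 0, 1])) (.node (.leaf [0, 0, 0, 0, 1, 0, 0, 0, 0, 1, 0, 1]) (.leaf []))) (.node (.node (.leaf []) (.leaf [0, 1, 1, 1, 1, 0, 0, 0, 0, 1, 0, 0, 1])) (.node (.leaf [0, 1]) (.leaf [])))) (.node (.node (.node (.leaf [0, 1, 1, 0, 0, 1, 0, 1, 0, 1, 1]) (.leaf [0, 1])) (.node (.leaf [0, 0, 1, 0, 0, 1, 0, 0, 0, 1, 0, 0, 0, 1]) (.leaf [0, 1]))) (.node (.node (.leaf []) (.leaf [0, 1])) (.node (.leaf [0, 1]) (.leaf [0, 1])))))) (.node (.node (.node (.node (.node (.leaf []) (.leaf [0, 0, 1, 0, 0, 1, 0, 0, 0, 0, 0, 0, 1])) (.node (.leaf []) (.leaf [0, 1]))) (.node (.node (.leaf [0, 1]) (.leaf [0, 1])) (.node (.leaf [0, 1]) (.leaf [1, 0, 1, 1, 0, 0, 0, 0, 1, 1, 1, 1])))) (.node (.node (.node (.leaf []) (.leaf [1, 1, 0, 1, 0, 1, 1, 0, 1, 0, 0, 1, 1])) (.node (.leaf []) (.leaf [0, 1]))) (.node (.node (.leaf [0, 1, 0, 0, 0, 0, 0, 0, 1]) (.leaf [0, 1, 1, 0, 0, 0, 0, 1, 0, 1,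 1, 0, 0, 1])) (.node (.leaf [0, 1]) (.leaf [1, 1, 0, 0, 1, 0, 0, 1, 1, 1, 0, 1]))))) (.node (.node (.node (.node (.leaf []) (.leaf [1, 0, 1, 0, 0, 0, 0, 1, 1, 1])) (.node (.leaf [0, 1]) (.leaf []))) (.node (.node (.leaf []) (.leaf [1, 1, 0, 1, 0, 1, 0, 0, 0, 1, 1, 1])) (.node (.leaf [0, 1]) (.leaf [0, 0, 1, 0, 0, 0, 1, 0, 0, 1])))) (.node (.node (.node (.leaf [0, 1]) (.leaf [0, 1])) (.node (.leaf []) (.leaf [0, 0, 1, 0, 0, 0, 0, 1, 0, 0, 1, 0, 1]))) (.node (.node (.leaf []) (.leaf [0, 0, 0, 1, 0, 0, 0, 1, 0, 0, 1, 1])) (.node (.leaf [0, 1]) (.leaf [1, 1, 0, 0, 1, 0, 0, 0, 0, 0, 1, 1]))))))) (.node (.node (.node (.node (.node (.node (.leaf [0, 1]) (.leaf [])) (.node (.leaf [0, 1]) (.leaf [1, 0, 0, 0, 0, 0, 0, 1, 0, 0, 0, 0, 0, 1]))) (.node (.node (.leaf []) (.leaf [0, 1])) (.node (.leaf [0, 1]) (.leaf [0, 1])))) (.node (.node (.node (.leaf []) (.leaf [1, 1, 0, 0, 0, 1, 0, 1, 0, 0, 0, 0, 0, 1])) (.node (.leaf []) (.leaf [0,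 1]))) (.node (.node (.leaf []) (.leaf [0, 1, 0, 1, 0, 0, 1, 1, 0, 1, 0, 1, 0, 1])) (.node (.leaf [0, 1]) (.leaf [0, 0, 0, 1, 0, 1, 0, 0, 0, 1, 0, 1]))))) (.node (.node (.node (.node (.leaf []) (.leaf [0, 1, 0, 1, 1, 0, 0, 1, 0, 1])) (.node (.leaf [0, 0, 1, 0, 0, 1, 0, 1, 0, 1, 1]) (.leaf [0, 1, 0, 0, 0, 1, 0, 0, 0, 1, 0, 0, 1, 1]))) (.node (.node (.leaf [0, 1]) (.leaf [0, 0, 0, 1, 0, 1, 0, 1, 1, 1, 1, 1, 0, 1])) (.node (.leaf [0, 1]) (.leaf [0, 1])))) (.node (.node (.node (.leaf []) (.leaf [1, 0, 0, 0, 1, 0, 1, 1, 1, 0, 0, 1])) (.node (.leaf [0, 1]) (.leaf [0, 0, 0, 0, 0, 1, 1]))) (.node (.node (.leaf [1, 1, 1, 0, 0, 1, 0, 1, 0, 1]) (.leaf [0, 1])) (.node (.leaf [0, 0, 0, 1, 1, 0, 0, 0, 0, 1, 1]) (.leaf [0, 1, 1, 0, 0, 1, 0, 0, 1, 1, 0, 0, 0, 1, 1])))))) (.node (.node (.node (.node (.node (.leaf []) (.leaf [])) (.node (.leaf [1, 1, 1, 1, 0, 1, 0, 0, 0, 0, 0, 1]) (.leaf [1, 0, 0, 1, 0, 1, 0, 1, 1, 1, 1, 1, 0, 1]))) (.node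 (.node (.leaf [0, 1, 1, 0, 0, 0, 0, 1, 0, 1, 1]) (.leaf [0, 1])) (.node (.leaf [0, 1]) (.leaf [0, 1, 0, 0, 0, 0, 0, 0, 0, 1, 0, 0, 1, 0, 1])))) (.node (.node (.node (.leaf [0, 1]) (.leaf [0, 1])) (.node (.leaf [0, 1, 0, 0, 0, 1, 0, 0, 0, 1, 0, 0, 1]) (.leaf [1, 1, 1, 0, 0, 0, 0, 1, 1, 0, 0, 0, 1, 1]))) (.node (.node (.leaf []) (.leaf [1, 1, 0, 1, 0, 1, 0, 1, 0, 0, 0, 1])) (.node (.leaf []) (.leaf [0, 0, 1, 0, 0, 1, 0, 0, 0, 1, 0, 0, 0, 1, 1]))))) (.node (.node (.node (.node (.leaf []) (.leaf [0, 1])) (.node (.leaf []) (.leaf [0, 1, 0, 1, 1, 0, 0, 0, 0, 1, 1]))) (.node (.node (.leaf []) (.leaf [])) (.node (.leaf [0, 1]) (.leaf [0, 1])))) (.node (.node (.node (.leaf []) (.leaf [0, 1])) (.node (.leaf [0, 1]) (.leaf [0, 1, 1, 0, 0, 1, 0, 0, 0, 0, 0, 0, 1]))) (.node (.node (.leaf [0, 1]) (.leaf [0, 1, 1, 0, 1, 1, 0, 1, 0, 1, 0, 1])) (.node (.leaf [0, 1]) (.leaf [0, 1]))))))))))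

def twoL6 : Janko.Tree (List ℤ) :=
  (.node (.node (.node (.node (.node (.node (.node (.node (.node (.node (.leaf []) (.leaf [0, 0, 0, 0, 0, 0, 1, 0, 0, 0, 0, 0, 0, 0, 0])) (.leaf [0, 0, 1, 0, 0, 1, 0, 0, 0, 1])) (.node (.leaf [0, 0, 1, 0, 0, 1, 0, 0, 1, 0, 0, 0, 1]) (.leaf [1, 1, 1, 0, 1, 1, 0, 1, 0, 1, 1, 1]))) (.node (.node (.leaf [0, 0, 1, 0, 0, 0, 0, 0, 0, 1]) (.leaf [0, 1, 0, 1, 1, 0, 0, 1, 1, 1, 1])) (.node (.leaf [0, 0, 1, 0, 0, 0, 0, 0, 1, 1]) (.leaf [0, 1, 0, 0, 1, 1, 0, 0, 0, 0, 1, 1, 1, 0, 1])))) (.node (.node (.node (.leaf []) (.leaf [0, 1, 1, 1, 1, 0, 0, 1, 0, 1, 1])) (.node (.leaf [1, 0, 1, 1, 1, 0, 0, 0, 1]) (.leaf [1, 1, 1, 1, 1, 0, 0, 1, 0, 1, 1]))) (.node (.node (.leaf []) (.leaf [])) (.node (.leaf []) (.leaf [1, 1, 0, 1, 1, 0, 0, 1, 0, 1, 1]))))) (.node (.node (.node (.node (.leaf []) (.leaf [0, 0, 1])) (.node (.leaf []) (.leaf [0, 0, 1, 0, 0, 0, 0, 0, 1, 0, 0, 0, 0, 0, 1]))) (.node (.node (.leaf [1,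 0, 1, 0, 0, 1, 0, 0, 0, 0, 1]) (.leaf [0, 0, 0, 0, 0, 1, 0, 0, 0, 1, 0, 0, 1])) (.node (.leaf [0, 1, 1, 1, 0, 1, 0, 1, 0, 1, 1, 1]) (.leaf [0, 1, 1, 0, 0, 0, 0, 1, 0, 0, 1, 0, 1, 0, 1])))) (.node (.node (.node (.leaf [0, 1, 1, 0, 0, 1, 0, 0, 0, 1, 1]) (.leaf [])) (.node (.leaf [0, 0, 1, 0, 0, 1]) (.leaf [0, 1, 0, 1, 1, 1, 0, 1, 1, 0, 1, 0, 1, 0, 1]))) (.node (.node (.leaf [0, 0, 0, 0, 0, 0, 0, 0, 0, 0, 0, 0, 1]) (.leaf [1, 1, 0, 0, 0, 1, 0, 1, 1, 0, 0, 0, 1])) (.node (.leaf []) (.leaf [1, 0, 0, 0, 0, 1, 0, 0, 0, 0, 1, 0, 1, 1])))))) (.node (.node (.node (.node (.node (.leaf []) (.leaf [1, 1, 0, 0, 1, 1, 0, 0, 1, 1, 0, 1])) (.node (.leaf [1, 0, 0, 0, 0, 1, 0, 0, 0, 0, 1]) (.leaf [0, 0, 1]))) (.node (.node (.leaf [0, 0, 1]) (.leaf [1, 0, 0, 1, 1, 0, 0, 0, 1, 1])) (.node (.leaf [0, 0, 1]) (.leaf [1, 0, 0, 0, 1, 1, 0, 0, 0, 1, 1, 1])))) (.node (.node (.node (.leaf [0, 0, 1]) (.leaf [0, 0, 1])) (.node (.leaf [0, 0, 1]) (.leaf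 [0, 0, 1]))) (.node (.node (.leaf []) (.leaf [0, 0, 0, 1, 1, 0, 0, 0, 0, 0, 1])) (.node (.leaf [0, 0, 1]) (.leaf [0, 1, 1, 1, 1, 0, 1, 1, 0, 0, 1]))))) (.node (.node (.node (.node (.leaf [0, 0, 0, 0, 0, 0, 0, 0, 1]) (.leaf [1, 1, 1, 0, 0, 0, 0, 1, 1, 1, 0, 0, 1])) (.node (.leaf []) (.leaf [0, 0, 1]))) (.node (.node (.leaf []) (.leaf [0, 0, 1])) (.node (.leaf [1, 0, 1, 0, 0, 1, 0, 1, 0, 0, 0, 0, 1]) (.leaf [0, 0, 1])))) (.node (.node (.node (.leaf [0, 0, 1, 0, 0, 0, 0, 0, 1]) (.leaf [0, 0, 0, 1, 1, 1, 0, 0, 0, 0, 1])) (.node (.leaf []) (.leaf [0, 0, 1, 0, 0, 1, 0, 0, 0, 1, 0, 0, 1]))) (.node (.node (.leaf [1, 0, 0, 1, 0, 1, 0, 0, 0, 0, 0, 1]) (.leaf [0, 0, 0, 1, 1, 0, 0, 0, 1, 0, 1, 0, 1, 0, 1])) (.node (.leaf [0, 0, 1, 0, 1, 0, 0, 0, 1, 1, 0, 1]) (.leaf [0, 1, 0, 1, 1, 0, 0, 1, 0, 1, 1]))))))) (.node (.node (.node (.node (.node (.node (.node (.leaf [0, 0, 1]) (.leaf [1, 0, 1, 0, 1, 0, 0, 0, 0, 1])) (.leaf [])) (.node (.leaf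 [1, 0, 1, 0, 0, 0, 0, 1, 0, 1, 0, 0, 1]) (.leaf []))) (.node (.node (.leaf [0, 0, 1]) (.leaf [0, 0, 1])) (.node (.leaf []) (.leaf [])))) (.node (.node (.node (.leaf [0, 0, 0, 0, 0, 0, 0, 0, 1]) (.leaf [])) (.node (.leaf [0, 0, 1]) (.leaf [1, 0, 0, 1, 0, 0, 0, 0, 0, 0, 0, 1, 0, 0, 1]))) (.node (.node (.leaf [0, 0, 0, 0, 0, 0, 0, 0, 1]) (.leaf [])) (.node (.leaf []) (.leaf [1, 0, 1, 0, 1, 0, 0, 0, 1, 0, 1, 1]))))) (.node (.node (.node (.node (.leaf []) (.leaf [0, 0, 0, 0, 0, 0, 0, 0, 1, 1])) (.node (.leaf [0, 0, 1]) (.leaf [1, 0, 1, 1, 1, 0, 0, 0, 1, 0, 0, 0, 0, 0, 1]))) (.node (.node (.leaf [0, 0, 1, 0, 0, 0, 0, 0, 1]) (.leaf [0, 0, 0, 0, 0, 1, 0, 0, 0, 1])) (.node (.leaf [0, 0, 0, 0, 1, 1, 0, 0, 0, 1, 1, 1]) (.leaf [1, 0, 1, 0, 1, 1, 0, 0, 1, 1, 0, 1])))) (.node (.node (.node (.leaf [0, 0, 1, 0, 0, 0, 0, 0, 0, 0, 1]) (.leaf [0, 0, 1, 0, 0, 0, 0, 0, 1])) (.node (.leaf [0, 0, 1]) (.leaf [1, 0, 1, 0, 1, 0, 0, 0, 1, 1, 1, 1])))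 (.node (.node (.leaf []) (.leaf [0, 1, 1, 0, 0, 0, 0, 1, 1, 0, 1])) (.node (.leaf [1, 1, 0, 0, 0, 1, 0, 1, 1, 1, 0, 0, 1]) (.leaf [0, 0, 0, 1, 1, 1, 0, 0, 0, 1, 1, 0, 1, 0, 1])))))) (.node (.node (.node (.node (.node (.leaf [0, 0, 1]) (.leaf [])) (.node (.leaf [1, 1, 1, 0, 0, 1, 0, 1, 0, 0, 0, 0, 1]) (.leaf []))) (.node (.node (.leaf [0, 1, 1, 0, 0, 0, 0, 0, 0, 1, 1]) (.leaf [0, 0, 1])) (.node (.leaf []) (.leaf [0, 1, 0, 0, 0, 0, 0, 1, 0, 0, 1, 0, 1, 0, 1])))) (.node (.node (.node (.leaf [0, 0, 1]) (.leaf [0, 0, 0, 0, 0, 0, 0, 0, 0, 1])) (.node (.leaf [0, 0, 1]) (.leaf [0, 0, 1, 0, 0, 1]))) (.node (.node (.leaf [0, 0, 1]) (.leaf [0, 0, 1])) (.node (.leaf []) (.leaf [1, 1, 1, 1, 1, 1, 0, 1, 0, 1, 1]))))) (.node (.node (.node (.node (.leaf []) (.leaf [1, 1, 0, 0, 0, 0, 0, 1, 0, 0, 0, 0, 1])) (.node (.leaf [0, 0, 1]) (.leaf [0, 0, 1, 0, 0, 1, 0, 0, 0, 1, 0, 0, 1]))) (.node (.node (.leaf []) (.leaf [1, 0, 0, 1, 1, 1, 0, 0, 1,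 1, 0, 0, 0, 0, 1])) (.node (.leaf [1, 0, 0, 0, 0, 0, 0, 1, 1, 1, 0, 0, 1]) (.leaf [1, 1, 1, 0, 0, 1, 0, 1, 0, 1, 0, 0, 1])))) (.node (.node (.node (.leaf []) (.leaf [0, 0, 1])) (.node (.leaf [0, 0, 1]) (.leaf [1, 0, 1, 0, 1, 1, 0, 0, 0, 1, 1, 1]))) (.node (.node (.leaf [0, 0, 1]) (.leaf [0, 0, 1, 0, 0, 1, 0, 0, 0, 1, 1, 0, 0, 1])) (.node (.leaf [1, 0, 0, 1, 1, 0, 0, 0, 1, 1]) (.leaf [1, 1, 1, 1, 1, 1, 0, 1, 0, 1, 1])))))))) (.node (.node (.node (.node (.node (.node (.node (.node (.leaf []) (.leaf [0, 0, 0, 0, 0, 0, 0, 0, 0, 0, 0, 1])) (.leaf [0, 0, 1])) (.node (.leaf [0, 0, 1, 0, 1, 0, 0, 0, 0, 1, 0, 1]) (.leaf [0, 0, 0, 0, 0, 0, 0, 0, 1, 1, 1, 0, 1, 0, 1]))) (.node (.node (.leaf [0, 0, 0, 0, 0, 0, 0, 0, 0, 0, 1]) (.leaf [0, 0, 0, 0, 0, 0, 0, 0, 1])) (.node (.leaf [0, 0, 1]) (.leaf [0, 1, 1, 1, 1, 1, 0, 1, 1, 0, 1, 0, 1, 0, 1])))) (.node (.node (.node (.leaf []) (.leaf [])) (.node (.leaf []) (.leaf [1, 0, 1, 0, 1, 1, 0, 0,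 0, 1, 1, 1]))) (.node (.node (.leaf []) (.leaf [])) (.node (.leaf [0, 0, 1]) (.leaf [0, 1, 1, 1, 1, 0, 0, 1, 0, 1, 1]))))) (.node (.node (.node (.node (.leaf []) (.leaf [])) (.node (.leaf []) (.leaf [1, 1, 0, 0, 0, 0, 0, 1, 0, 1, 0, 0, 1]))) (.node (.node (.leaf []) (.leaf [])) (.node (.leaf [0, 0, 1]) (.leaf [0, 0, 1])))) (.node (.node (.node (.leaf [0, 0, 1]) (.leaf [0, 0, 1])) (.node (.leaf [0, 0, 0, 0, 0, 0, 0, 0, 1, 1]) (.leaf [0, 0, 1]))) (.node (.node (.leaf [0, 0, 1, 0, 0, 0, 0, 0, 0, 1]) (.leaf [0, 1, 0, 1, 1, 0, 0, 1, 1, 1, 1, 0, 1, 0, 1])) (.node (.leaf [0, 0, 0, 0, 0, 1, 0, 0, 0, 1, 0, 0, 0, 0, 1]) (.leaf [0, 1, 0, 0, 0, 1, 0, 1, 1, 1, 1, 0, 1, 0, 1])))))) (.node (.node (.node (.node (.node (.leaf []) (.leaf [0, 0, 1])) (.node (.leaf [1, 1, 0, 1, 1, 0, 0, 1, 0, 1, 1]) (.leaf [0, 0, 1]))) (.node (.node (.leaf [0, 0, 1]) (.leaf [1, 0, 1, 0, 0, 1, 0, 0, 1, 1, 1, 0, 0, 0, 1])) (.node (.leaf [0, 0, 1]) (.leaf [0, 0,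 0, 1, 1, 0, 0, 0, 0, 1, 1, 0, 1, 0, 1])))) (.node (.node (.node (.leaf []) (.leaf [])) (.node (.leaf [0, 0, 1]) (.leaf [1, 0, 0, 0, 0, 1, 0, 0, 1, 1, 1, 0, 0, 1]))) (.node (.node (.leaf []) (.leaf [0, 0, 1])) (.node (.leaf [0, 0, 1]) (.leaf [1, 1, 0, 1, 1, 0, 1, 1, 0, 0, 1]))))) (.node (.node (.node (.node (.leaf []) (.leaf [1, 0, 0, 1, 1, 0, 0, 0, 0, 1])) (.node (.leaf [0, 1, 0, 0, 0, 0, 0, 0, 0, 1, 1]) (.leaf [0, 0, 1]))) (.node (.node (.leaf [0, 0, 1]) (.leaf [0, 1, 1, 1, 1, 1, 0, 1, 1, 1, 1])) (.node (.leaf [1, 0, 0, 1, 1, 1, 0, 0, 0, 1]) (.leaf [0, 0, 1])))) (.node (.node (.node (.leaf []) (.leaf [0, 0, 1])) (.node (.leaf []) (.leaf [0, 0, 0, 1, 1, 0, 0, 0, 1, 0, 1]))) (.node (.node (.leaf []) (.leaf [0, 0, 1])) (.node (.leaf [0, 1, 0, 0, 0, 1, 0, 1, 1, 0, 1]) (.leaf [0, 1, 1, 1, 1, 0, 0, 1, 1, 1, 1, 0, 1, 0, 1]))))))) (.node (.node (.node (.node (.node (.node (.node (.leaf []) (.leaf [1, 1, 1, 0, 0, 0, 1, 1, 0, 1]))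 (.leaf [])) (.node (.leaf [0, 0, 1]) (.leaf [1, 0, 0, 1, 1, 0, 0, 0, 1]))) (.node (.node (.leaf []) (.leaf [1, 0, 0, 0, 0, 1, 0, 0, 0, 1, 1, 0, 1, 1])) (.node (.leaf [0, 0, 1, 0, 0, 0, 0, 0, 1]) (.leaf [0, 1, 1, 0, 0, 1, 0, 1, 1, 0, 1, 0, 1, 0, 1])))) (.node (.node (.node (.leaf [1, 0, 0, 0, 0, 1, 0, 0, 0, 0, 1]) (.leaf [])) (.node (.leaf []) (.leaf [1, 0, 1, 0, 0, 1, 0, 0, 1, 1, 1, 0, 1, 0, 1]))) (.node (.node (.leaf [0, 0, 1]) (.leaf [1, 0, 1, 1, 1, 1, 0, 0, 0, 1, 0, 0, 0, 0, 1])) (.node (.leaf []) (.leaf [0, 0, 1]))))) (.node (.node (.node (.node (.leaf []) (.leaf [0, 0, 1])) (.node (.leaf []) (.leaf [1, 0, 0, 1, 0, 0, 0, 0, 1, 1, 0, 1, 0, 0, 1]))) (.node (.node (.leaf []) (.leaf [0, 0, 1])) (.node (.leaf [0, 0, 1]) (.leaf [1, 0, 1, 1, 1, 1, 0, 0, 1, 1, 0, 0, 0, 0, 1])))) (.node (.node (.node (.leaf []) (.leaf [0, 0, 1])) (.node (.leaf []) (.leaf [0, 0, 1]))) (.node (.node (.leaf []) (.leaf [0, 1, 1, 0, 1, 0, 0, 0, 0,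 1, 1, 1, 0, 0, 1])) (.node (.leaf [0, 1, 1, 1, 1, 0, 0, 1, 1, 1, 1]) (.leaf [1, 1, 0, 0, 0, 0, 0, 1, 0, 0, 1, 0, 1, 0, 1])))))) (.node (.node (.node (.node (.node (.leaf []) (.leaf [])) (.node (.leaf [0, 1, 1, 1, 1, 1, 0, 1, 0, 1, 1]) (.leaf []))) (.node (.node (.leaf [0, 0, 1]) (.leaf [])) (.node (.leaf [1, 0, 0, 1, 1, 0, 0, 0, 1]) (.leaf [0, 1, 1, 0, 1, 1, 0, 0, 1, 0, 0, 1, 0, 1, 1])))) (.node (.node (.node (.leaf [0, 0, 1]) (.leaf [0, 0, 1, 0, 0, 0, 0, 0, 0, 0, 0, 0, 0, 0, 1])) (.node (.leaf []) (.leaf [1, 0, 0, 1, 1, 1, 0, 0, 1, 1]))) (.node (.node (.leaf [0, 1, 0, 1, 0, 1, 0, 0, 0, 1, 0, 1]) (.leaf [0, 0, 0, 0, 1, 1, 0, 0, 0, 1, 1, 1])) (.node (.leaf []) (.leaf [0, 1, 0, 1, 1, 1, 0, 1, 0, 0, 0, 0, 0, 1, 1]))))) (.node (.node (.node (.node (.leaf []) (.leaf [0, 0, 1])) (.node (.leaf []) (.leaf [1, 0, 1, 1, 1, 0, 0, 0, 1, 1]))) (.node (.node (.leaf [0, 0, 1]) (.leaf [1, 0, 0, 1, 0, 1, 0, 0, 1, 1, 0, 1, 0, 0, 1])) (.node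 (.leaf []) (.leaf [0, 0, 1])))) (.node (.node (.node (.leaf [0, 0, 1]) (.leaf [0, 0, 1])) (.node (.leaf [0, 0, 1, 0, 0, 1, 0, 0, 0, 1, 0, 0, 0, 0, 1]) (.leaf [1, 0, 1, 1, 0, 1, 0, 0, 1, 1, 0, 1, 0, 0, 1]))) (.node (.node (.leaf [0, 0, 1]) (.leaf [0, 0, 1])) (.node (.leaf [0, 0, 1, 1, 1, 0, 0, 0, 0, 0, 1]) (.leaf [0, 1, 1, 0, 1, 1, 0, 0, 0, 0, 0, 1, 1, 1]))))))))) (.node (.node (.node (.node (.node (.node (.node (.node (.node (.leaf [0, 0, 1]) (.leaf [0, 0, 0, 0, 0, 0, 0, 0, 0, 1])) (.leaf [0, 0, 1])) (.node (.leaf []) (.leaf [0, 0, 0, 0, 1, 0, 0, 0, 1, 0, 1, 1]))) (.node (.node (.leaf []) (.leaf [])) (.node (.leaf [0, 0, 1, 0, 0, 0, 0, 0, 0, 1]) (.leaf [1, 1, 1, 1, 1, 0, 0, 1, 0, 0, 1])))) (.node (.node (.node (.leaf []) (.leaf [])) (.node (.leaf [0, 0, 1]) (.leaf [1, 0, 1, 1, 0, 0, 0, 0, 0, 1, 0, 1, 0, 0, 1]))) (.node (.node (.leaf []) (.leaf [0, 0, 1, 0, 1, 1, 0, 0, 1, 0, 1, 1])) (.node (.leaf [0, 0, 1]) (.leaf [0, 0, 1])))))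 (.node (.node (.node (.node (.leaf []) (.leaf [])) (.node (.leaf [0, 0, 1]) (.leaf [0, 1, 0, 0, 1, 1, 0, 1, 0, 1, 1, 1]))) (.node (.node (.leaf []) (.leaf [])) (.node (.leaf [0, 0, 1]) (.leaf [1, 0, 1, 1, 1, 1, 0, 0, 1, 1])))) (.node (.node (.node (.leaf []) (.leaf [0, 0, 0, 0, 0, 1, 0, 0, 1, 0, 0, 0, 1])) (.node (.leaf []) (.leaf [0, 0, 1]))) (.node (.node (.leaf [0, 0, 1]) (.leaf [1, 1, 0, 1, 1, 1, 0, 1, 0, 1, 1])) (.node (.leaf [0, 0, 1]) (.leaf [1, 1, 0, 1, 1, 0, 0, 1, 0, 1, 1])))))) (.node (.node (.node (.node (.node (.leaf []) (.leaf [0, 0, 1, 0, 1, 1, 0, 0, 0, 1, 1, 1])) (.node (.leaf [1, 1, 1, 0, 0, 1, 0, 1, 0, 0, 0, 0, 1]) (.leaf [0, 0, 1]))) (.node (.node (.leaf [0, 0, 1]) (.leaf [0, 1, 0, 1, 1, 0, 0, 1, 0, 1, 1])) (.node (.leaf [1, 1, 0, 0, 0, 1, 0, 1, 0, 0, 0, 0, 1]) (.leaf [0, 1, 0, 0, 1, 1, 0, 1, 0, 0, 1, 1])))) (.node (.node (.node (.leaf [0, 0, 1]) (.leaf [])) (.node (.leaf []) (.leaf [0, 0, 1]))) (.node (.node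 (.leaf [0, 0, 1]) (.leaf [0, 0, 1])) (.node (.leaf [0, 0, 1]) (.leaf [0, 0, 1]))))) (.node (.node (.node (.node (.leaf [0, 0, 1]) (.leaf [0, 0, 1])) (.node (.leaf [0, 0, 1]) (.leaf [0, 0, 1]))) (.node (.node (.leaf [0, 1, 1, 0, 0, 1, 0, 0, 0, 1, 0, 0, 1]) (.leaf [1, 1, 1, 1, 1, 1, 0, 0, 0, 1, 1])) (.node (.leaf [0, 0, 1]) (.leaf [1, 0, 0, 1, 1, 1, 0, 0, 1, 0, 0, 0, 0, 0, 1])))) (.node (.node (.node (.leaf [0, 0, 1]) (.leaf [1, 1, 0, 0, 1, 0, 0, 0, 0, 1, 0, 1])) (.node (.leaf [1, 0, 0, 1, 1, 0, 0, 0, 1, 1]) (.leaf [0, 0, 1]))) (.node (.node (.leaf []) (.leaf [0, 1, 0, 0, 0, 1, 0, 1, 0, 1, 1, 0, 1, 0, 1])) (.node (.leaf [0, 0, 1]) (.leaf [1, 1, 1, 1, 1, 1, 0, 1, 0, 1, 1]))))))) (.node (.node (.node (.node (.node (.node (.node (.leaf []) (.leaf [1, 0, 1, 0, 1, 0, 0, 0, 0, 1])) (.leaf [0, 0, 1])) (.node (.leaf [0, 0, 1]) (.leaf []))) (.node (.node (.leaf [0, 0, 1]) (.leaf [])) (.node (.leaf [0, 0, 1]) (.leaf [0, 0, 0, 1, 1, 0,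 0, 0, 0, 0, 1, 0, 1, 0, 1])))) (.node (.node (.node (.leaf []) (.leaf [1, 0, 1, 1, 1, 1, 0, 0, 0, 1])) (.node (.leaf [0, 0, 0, 0, 0, 1, 0, 0, 1]) (.leaf [1, 0, 0, 0, 0, 1, 0, 0, 1, 1, 1, 0, 0, 0, 1]))) (.node (.node (.leaf []) (.leaf [0, 0, 1])) (.node (.leaf [0, 0, 1]) (.leaf [1, 1, 0, 1, 1, 1, 0, 1, 0, 1, 0, 0, 0, 1, 1]))))) (.node (.node (.node (.node (.leaf []) (.leaf [0, 0, 0, 0, 0, 1, 0, 0, 0, 1])) (.node (.leaf [0, 0, 1]) (.leaf [0, 0, 0, 1, 1, 1, 0, 0, 1, 1, 1]))) (.node (.node (.leaf [0, 0, 1]) (.leaf [0, 0, 1])) (.node (.leaf [0, 0, 1, 0, 0, 0, 0, 0, 0, 0, 0, 0, 1]) (.leaf [0, 0, 0, 0, 0, 1, 0, 0, 0, 1, 1, 0, 1, 1])))) (.node (.node (.node (.leaf []) (.leaf [0, 0, 1])) (.node (.leaf [0, 0, 1]) (.leaf [0, 1, 1, 1, 1, 0, 0, 1, 1, 0, 1]))) (.node (.node (.leaf []) (.leaf [0, 0, 0, 0, 0, 0, 0, 0, 1, 1])) (.node (.leaf [1, 1, 0, 1, 1, 1, 0, 1, 0, 1, 1]) (.leaf [0, 1, 0, 0, 0, 0, 0, 1, 1, 0, 1, 0, 1, 0, 1])))))) (.node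 (.node (.node (.node (.node (.leaf [0, 0, 1]) (.leaf [0, 0, 1])) (.node (.leaf [0, 0, 1]) (.leaf [0, 0, 0, 0, 0, 1, 0, 0, 1, 1, 0, 0, 0, 0, 1]))) (.node (.node (.leaf []) (.leaf [0, 0, 1])) (.node (.leaf [0, 0, 1]) (.leaf [1, 1, 1, 0, 1, 1, 0, 1, 0, 0, 1, 1])))) (.node (.node (.node (.leaf [0, 0, 1]) (.leaf [0, 0, 1])) (.node (.leaf []) (.leaf [0, 1, 1, 0, 1, 1, 0, 0, 0, 0, 1, 1, 1, 0, 1]))) (.node (.node (.leaf []) (.leaf [0, 0, 1])) (.node (.leaf [0, 0, 1]) (.leaf [0, 1, 0, 0, 0, 1, 0, 1, 0, 0, 1, 0, 1, 0, 1]))))) (.node (.node (.node (.node (.leaf []) (.leaf [0, 0, 1])) (.node (.leaf []) (.leaf [0, 0, 1]))) (.node (.node (.leaf []) (.leaf [1, 0, 1, 0, 0, 0, 0, 0, 0, 0, 1])) (.node (.leaf [1, 1, 0, 1, 1, 0, 0, 1, 0, 1, 1]) (.leaf [0, 0, 1])))) (.node (.node (.node (.leaf [0, 1, 0, 0, 0, 1, 0, 0, 1, 0, 0, 0, 1]) (.leaf [1, 0, 1, 0, 0, 1, 0, 0, 0, 0, 1])) (.node (.leaf [0, 0, 1]) (.leaf [0, 0, 1]))) (.node (.node (.leaf [])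 (.leaf [0, 0, 0, 0, 0, 1, 0, 0, 1, 1])) (.node (.leaf [1, 1, 1, 1, 1, 0, 0, 0, 0, 0, 1]) (.leaf [1, 1, 0, 1, 1, 1, 0, 1, 0, 0, 1])))))))) (.node (.node (.node (.node (.node (.node (.node (.node (.leaf []) (.leaf [0, 1, 1, 0, 0, 0, 0, 0, 1, 1])) (.leaf [0, 1, 1, 0, 1, 0, 0, 0, 0, 1, 0, 1])) (.node (.leaf []) (.leaf []))) (.node (.node (.leaf []) (.leaf [])) (.node (.leaf [1, 0, 0, 0, 1, 0, 0, 0, 1, 1, 0, 1]) (.leaf [0, 1, 1, 0, 0, 1, 0, 1, 1, 0, 1])))) (.node (.node (.node (.leaf []) (.leaf [])) (.node (.leaf [0, 1, 1, 0, 0, 0, 0, 0, 1, 0, 0, 0, 1]) (.leaf [0, 0, 1]))) (.node (.node (.leaf []) (.leaf [1, 0, 0, 1, 1, 0, 0, 0, 0, 0, 0, 0, 0, 0, 1])) (.node (.leaf [0, 0, 1]) (.leaf [0, 0, 0, 0, 1, 1, 0, 0, 1, 1, 0, 1]))))) (.node (.node (.node (.node (.leaf [0, 0, 1]) (.leaf [])) (.node (.leaf [0, 0, 1]) (.leaf [0, 1, 1, 0, 0, 1, 0, 1, 0, 1, 1]))) (.node (.node (.leaf []) (.leaf [])) (.node (.leaf []) (.leaf [0, 0, 1])))) (.node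 (.node (.node (.leaf [0, 0, 1]) (.leaf [1, 0, 1, 0, 0, 1, 0, 0, 0, 0, 1])) (.node (.leaf [0, 0, 1]) (.leaf [1, 0, 0, 0, 1, 0, 0, 0, 0, 0, 1, 1]))) (.node (.node (.leaf []) (.leaf [0, 0, 0, 0, 0, 0, 0, 0, 1, 0, 1, 0, 1, 1])) (.node (.leaf [0, 0, 1, 1, 1, 0, 0, 0, 0, 0, 1]) (.leaf [1, 0, 1, 0, 1, 1, 0, 0, 0, 0, 1, 1])))))) (.node (.node (.node (.node (.node (.leaf []) (.leaf [0, 0, 1, 0, 0, 0, 0, 0, 1, 1])) (.node (.leaf []) (.leaf []))) (.node (.node (.leaf []) (.leaf [1, 1, 1, 1, 1, 0, 0, 1, 0, 1, 1])) (.node (.leaf [1, 0, 0, 0, 0, 0, 0, 0, 0, 0, 1]) (.leaf [1, 0, 1, 1, 1, 1, 0, 0, 1, 1])))) (.node (.node (.node (.leaf []) (.leaf [])) (.node (.leaf []) (.leaf [1, 1, 0, 1, 1, 0, 0, 1, 0, 0, 1]))) (.node (.node (.leaf [0, 0, 1, 0, 0, 0, 0, 0, 1]) (.leaf [1, 1, 1, 0, 0, 0, 0, 1, 1, 1, 0, 0, 1])) (.node (.leaf []) (.leaf [1, 0, 1, 1, 1, 1, 0, 0, 1, 1]))))) (.node (.node (.node (.node (.leaf []) (.leaf [0, 1, 1, 0, 1, 0, 0, 0,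 1, 1, 0, 1])) (.node (.leaf []) (.leaf [0, 0, 1]))) (.node (.node (.leaf [0, 0, 1]) (.leaf [0, 0, 1])) (.node (.leaf [1, 0, 0, 0, 0, 0, 0, 0, 0, 0, 1]) (.leaf [0, 0, 1])))) (.node (.node (.node (.leaf [1, 0, 1, 1, 0, 0, 0, 0, 0, 0, 0, 1]) (.leaf [1, 0, 1, 1, 1, 0, 0, 0, 0, 0, 0, 0, 0, 0, 1])) (.node (.leaf [1, 0, 1, 0, 0, 0, 0, 1, 1, 1, 0, 0, 1]) (.leaf [1, 0, 0, 1, 0, 0, 0, 0, 1, 0, 0, 1, 0, 0, 1]))) (.node (.node (.leaf [0, 0, 1]) (.leaf [])) (.node (.leaf [1, 0, 1, 1, 1, 1, 0, 0, 0, 0, 0, 0, 0, 0, 1]) (.leaf [0, 0, 1]))))))) (.node (.node (.node (.node (.node (.node (.leaf []) (.leaf [0, 0, 1])) (.node (.leaf [1, 0, 1, 1, 1, 1]) (.leaf [1, 0, 0, 1, 1]))) (.node (.node (.leaf []) (.leaf [0, 0, 0, 1, 0, 0, 0, 0, 0, 1, 1, 1])) (.node (.leaf []) (.leaf [0, 0, 1, 0, 1, 1, 0, 0, 0, 1, 1, 1])))) (.node (.node (.node (.leaf []) (.leaf [1, 0, 0, 1, 1, 1, 0, 0, 1])) (.node (.leaf [0, 0, 1]) (.leaf [0, 1, 1, 1, 1, 0, 0, 1, 0, 0,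 1]))) (.node (.node (.leaf []) (.leaf [0, 0, 1])) (.node (.leaf [0, 0, 0, 0, 0, 0, 0, 0, 1, 1, 0, 0, 1]) (.leaf [0, 0, 1]))))) (.node (.node (.node (.node (.leaf []) (.leaf [0, 0, 1])) (.node (.leaf [0, 0, 1]) (.leaf [0, 1, 1, 1, 0, 0, 0, 1, 0, 1, 0, 1]))) (.node (.node (.leaf [1, 0, 1, 1, 0, 1, 0, 0, 0, 0, 0, 1]) (.leaf [0, 0, 1, 0, 0, 1, 0, 0, 1, 1, 0, 0, 1])) (.node (.leaf []) (.leaf [])))) (.node (.node (.node (.leaf []) (.leaf [1, 1, 1, 0, 0, 0, 0, 1, 1, 0, 0, 0, 1])) (.node (.leaf [1, 1, 0, 0, 0, 1, 0, 1, 0, 1, 0, 0, 1]) (.leaf [0, 0, 1]))) (.node (.node (.leaf [1, 0, 0, 1, 1, 0, 0, 0, 1]) (.leaf [])) (.node (.leaf [0, 0, 1]) (.leaf [0, 0, 1])))))) (.node (.node (.node (.node (.node (.leaf []) (.leaf [])) (.node (.leaf [0, 0, 0, 0, 1, 1, 0, 0, 0, 1, 0, 1]) (.leaf [0, 0, 1]))) (.node (.node (.leaf [0, 0, 1]) (.leaf [1, 0, 1, 1, 0, 1, 0, 0, 0, 1, 1, 1])) (.node (.leaf []) (.leaf [0, 1, 1, 0, 1, 0, 0, 0, 1, 1, 0, 1, 1,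 1])))) (.node (.node (.node (.leaf []) (.leaf [0, 1, 0, 1, 0, 0, 0, 1, 0, 1, 1, 1])) (.node (.leaf []) (.leaf [1, 0, 1, 1, 1]))) (.node (.node (.leaf []) (.leaf [0, 0, 1])) (.node (.leaf [0, 0, 1]) (.leaf [0, 0, 1]))))) (.node (.node (.node (.node (.leaf [0, 0, 1]) (.leaf [0, 0, 0, 0, 0, 1, 0, 0, 1, 0, 0, 0, 0, 0, 1])) (.node (.leaf []) (.leaf [0, 0, 1]))) (.node (.node (.leaf [1, 1, 1, 1, 0, 1, 0, 0, 0, 1, 0, 1]) (.leaf [0, 1, 1, 1, 0, 0, 0, 1, 1, 0, 0, 1])) (.node (.leaf [0, 0, 0, 0, 0, 1, 0, 0, 1, 0, 0, 0, 0, 0, 1]) (.leaf [1, 0, 1, 0, 1, 0, 0, 0, 0, 0, 1, 1])))) (.node (.node (.node (.leaf [0, 0, 1]) (.leaf [1, 0, 1, 1, 0, 0, 0, 0, 0, 0, 0, 1, 0, 0, 1])) (.node (.leaf [0, 0, 1, 0, 0, 0, 0, 0, 0, 1, 0, 0, 0, 0, 1]) (.leaf [0, 1, 0, 0, 1, 1, 0, 0, 0, 1, 1, 1, 0, 0, 1]))) (.node (.node (.leaf []) (.leaf [0, 0, 1])) (.node (.leaf [1, 0, 0, 1, 0, 1, 0, 0, 0, 1, 0, 1, 0, 0, 1]) (.leaf [0, 1, 1, 0, 1, 0, 0, 0, 0, 1, 0, 1, 0,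 1, 1]))))))))))

def twoL7 : Janko.Tree (List ℤ) :=
  (.node (.node (.node (.node (.node (.node (.node (.node (.node (.node (.leaf []) (.leaf [1, 0, 0, 0, 1, 0, 1])) (.leaf [0, 0, 0, 1])) (.node (.leaf [0, 0, 1, 1, 0, 0, 0, 0, 0, 1, 0, 0, 1]) (.leaf []))) (.node (.node (.leaf [0, 0, 0, 1, 0, 0, 0, 0, 0, 1]) (.leaf [0, 0, 0, 1])) (.node (.leaf [0, 0, 0, 1]) (.leaf [0, 1, 0, 1, 0, 1, 0, 0, 0, 1, 1, 0, 1])))) (.node (.node (.node (.leaf []) (.leaf [])) (.node (.leaf [0, 0, 0, 1]) (.leaf []))) (.node (.node (.leaf []) (.leaf [0, 0, 0, 1, 0, 1, 0, 0, 0, 0, 0, 0, 1, 0, 1])) (.node (.leaf [0, 0, 0, 1, 0, 1, 0, 0, 0, 1]) (.leaf [1, 1, 1, 1, 1, 0, 0, 1, 1, 0, 0, 0, 0, 1, 1]))))) (.node (.node (.node (.node (.leaf []) (.leaf [])) (.node (.leaf []) (.leaf [0, 0, 0, 1]))) (.node (.node (.leaf []) (.leaf [1, 1, 1, 0, 0, 0, 1, 1, 1, 1, 0, 1, 1])) (.node (.leaf [0, 0, 0, 1]) (.leaf [0, 0, 1, 0, 0, 1, 0, 0, 1, 0, 1, 1, 1, 0, 1])))) (.node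 (.node (.node (.leaf []) (.leaf [0, 0, 0, 1])) (.node (.leaf [0, 0, 0, 1]) (.leaf [1, 1, 1, 1, 0, 0, 0, 1, 1, 1, 0, 0, 1, 0, 1]))) (.node (.node (.leaf [0, 0, 0, 1]) (.leaf [0, 0, 0, 1])) (.node (.leaf []) (.leaf [0, 1, 1, 0, 1, 0, 0, 1, 1, 0, 0, 0, 0, 1, 1])))))) (.node (.node (.node (.node (.node (.leaf []) (.leaf [0, 0, 0, 1])) (.node (.leaf []) (.leaf [1, 0, 0, 0, 1, 0, 0, 0, 0, 1]))) (.node (.node (.leaf []) (.leaf [0, 0, 0, 1])) (.node (.leaf [0, 0, 1, 0, 1, 1, 0, 0, 0, 1, 0, 1]) (.leaf [1, 0, 0, 1, 1, 1, 0, 0, 1, 1, 0, 0, 1, 0, 1])))) (.node (.node (.node (.leaf []) (.leaf [1, 0, 0, 0, 1, 0, 0, 0, 1, 1])) (.node (.leaf []) (.leaf [0, 1, 0, 0, 0, 1, 0, 1, 0, 1, 0, 1]))) (.node (.node (.leaf [0, 0, 0, 1]) (.leaf [0, 0, 0, 1])) (.node (.leaf [1, 0, 0, 1, 1, 0, 0, 0, 1]) (.leaf [1, 1, 1, 0, 0, 0, 1, 1, 1, 0, 1, 0, 1, 0, 1]))))) (.node (.node (.node (.node (.leaf [0, 0, 0, 1]) (.leaf [0, 0, 0, 1])) (.node (.leaf []) (.leaf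 [1, 0, 1, 1, 1, 1, 0, 0, 1, 1, 1, 1]))) (.node (.node (.leaf [0, 0, 0, 1]) (.leaf [0, 0, 0, 0, 0, 1, 0, 0, 1, 1, 0, 0, 0, 0, 1])) (.node (.leaf [0, 0, 1, 0, 1, 1, 0, 1, 0, 0, 0, 0, 1]) (.leaf [0, 1, 1, 0, 0, 1, 1, 1, 1, 0, 0, 1])))) (.node (.node (.node (.leaf [0, 0, 0, 1]) (.leaf [])) (.node (.leaf []) (.leaf [0, 0, 0, 1]))) (.node (.node (.leaf [0, 0, 0, 1]) (.leaf [1, 0, 0, 0, 0, 1, 0, 0, 0, 1, 0, 1, 1, 0, 1])) (.node (.leaf [0, 0, 0, 1]) (.leaf [0, 1, 0, 1, 1, 0, 0, 1, 1, 0, 1, 0, 1, 0, 1]))))))) (.node (.node (.node (.node (.node (.node (.node (.leaf []) (.leaf [0, 0, 1, 1, 1, 0, 0, 0, 0, 0, 0, 1])) (.leaf [])) (.node (.leaf [0, 0, 0, 1]) (.leaf [1, 1, 0, 1, 0, 0, 1, 1, 0, 0, 0, 1, 1]))) (.node (.node (.leaf []) (.leaf [1, 0, 0, 0, 0, 0, 0, 0, 0, 0, 1, 0, 0, 1])) (.node (.leaf []) (.leaf [1, 0, 1, 0, 1, 0, 0, 0, 1, 0, 0, 0, 1, 0, 1])))) (.node (.node (.node (.leaf [0, 0, 0, 1]) (.leaf [0, 0, 0, 1])) (.node (.leaf [0,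 0, 1, 0, 0, 1, 0, 0, 0, 1]) (.leaf [0, 0, 0, 1]))) (.node (.node (.leaf [0, 0, 0, 1]) (.leaf [])) (.node (.leaf []) (.leaf [0, 0, 0, 1]))))) (.node (.node (.node (.node (.leaf []) (.leaf [0, 0, 0, 1])) (.node (.leaf []) (.leaf [1, 0, 1, 0, 1, 1, 0, 0, 1, 1, 0, 0, 0, 0, 1]))) (.node (.node (.leaf [0, 0, 0, 1]) (.leaf [0, 0, 0, 1])) (.node (.leaf []) (.leaf [0, 0, 0, 1])))) (.node (.node (.node (.leaf []) (.leaf [0, 0, 0, 1])) (.node (.leaf [0, 0, 1, 0, 0, 1]) (.leaf [0, 0, 0, 1]))) (.node (.node (.leaf []) (.leaf [0, 0, 0, 1])) (.node (.leaf [0, 0, 0, 0, 0, 1, 0, 0, 1, 0, 0, 1, 1]) (.leaf [0, 0, 0, 1])))))) (.node (.node (.node (.node (.node (.leaf []) (.leaf [0, 0, 0, 1])) (.node (.leaf [0, 1, 0, 1, 1, 1, 0, 1, 0, 1, 0, 1, 1]) (.leaf []))) (.node (.node (.leaf []) (.leaf [1, 0, 1, 1, 1, 1, 0, 0, 0, 1])) (.node (.leaf []) (.leaf [0, 0, 0, 1])))) (.node (.node (.node (.leaf []) (.leaf [0, 0, 0, 1])) (.node (.leaf []) (.leaf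 [0, 0, 0, 1]))) (.node (.node (.leaf []) (.leaf [1, 0, 0, 1, 0, 0, 0, 0, 0, 0, 0, 1, 0, 0, 1])) (.node (.leaf []) (.leaf [1, 0, 0, 1, 0, 0, 0, 0, 0, 1, 0, 1, 1, 0, 1]))))) (.node (.node (.node (.node (.leaf []) (.leaf [0, 0, 0, 1])) (.node (.leaf []) (.leaf [0, 0, 0, 1]))) (.node (.node (.leaf [0, 0, 1, 1]) (.leaf [1, 0, 1, 0, 1, 0, 0, 0, 1, 1, 0, 0, 0, 0, 1])) (.node (.leaf [1, 0, 0, 1, 0, 0, 0, 1, 0, 0, 0, 0, 1]) (.leaf [0, 0, 0, 1])))) (.node (.node (.node (.leaf [0, 0, 0, 1]) (.leaf [1, 0, 0, 1, 1, 0, 0, 0, 1, 1])) (.node (.leaf [0, 0, 1, 1]) (.leaf []))) (.node (.node (.leaf []) (.leaf [0, 0, 0, 1])) (.node (.leaf [0, 0, 0, 1]) (.leaf [1, 1, 0, 0, 1, 1, 0, 1, 0, 0, 0, 1, 1, 0, 1])))))))) (.node (.node (.node (.node (.node (.node (.node (.node (.leaf []) (.leaf [1, 1, 1, 0, 0, 0, 0, 1, 0, 1, 1])) (.leaf [1, 0, 1, 0, 1, 1, 0, 0, 1, 1, 0, 1])) (.node (.leaf []) (.leaf [0, 0, 1, 1, 0, 0, 0, 0, 1, 0, 1, 0, 0, 0, 1]))) (.node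 (.node (.leaf []) (.leaf [0, 0, 0, 1])) (.node (.leaf [1, 1, 0, 0, 1, 0, 0, 0, 1, 0, 0, 1]) (.leaf [0, 0, 0, 1])))) (.node (.node (.node (.leaf []) (.leaf [])) (.node (.leaf []) (.leaf []))) (.node (.node (.leaf [1, 1, 1, 0, 1, 1, 0, 1, 1, 0, 0, 1, 1]) (.leaf [0, 1, 0, 0, 0, 0, 0, 0, 0, 1, 1, 0, 1])) (.node (.leaf [1, 0, 1, 1, 1, 1, 0, 0, 0, 1]) (.leaf [0, 1, 1, 1, 0, 0, 0, 1, 1, 0, 0, 1, 1, 0, 1]))))) (.node (.node (.node (.node (.leaf [0, 0, 0, 1]) (.leaf [1, 1, 1, 1, 0, 0, 0, 1, 0, 1, 0, 1, 1])) (.node (.leaf [0, 0, 0, 1]) (.leaf [1, 0, 0, 0, 0, 0, 1, 0, 0, 0, 0, 1, 1]))) (.node (.node (.leaf []) (.leaf [1, 0, 0, 1, 0, 0, 1, 0, 0, 0, 0, 1, 1])) (.node (.leaf []) (.leaf [0, 1, 1, 1, 0, 1, 0, 1, 1, 0, 1, 1, 0, 1])))) (.node (.node (.node (.leaf []) (.leaf [0, 0, 1, 0, 0, 0, 0, 0, 0, 0, 0, 0, 0, 0, 1])) (.node (.leaf [0, 0, 0, 1]) (.leaf [1, 0, 0, 0, 1, 1, 0, 0, 0, 1]))) (.node (.node (.leaf [0, 0, 0, 1]) (.leaf [0, 0, 0,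 1])) (.node (.leaf [0, 0, 0, 1]) (.leaf [0, 0, 1, 0, 0, 1, 0, 0, 0, 0, 1, 1, 1, 0, 1])))))) (.node (.node (.node (.node (.node (.leaf []) (.leaf [0, 0, 1, 1, 1, 0, 0, 0, 0, 1, 0, 1])) (.node (.leaf []) (.leaf []))) (.node (.node (.leaf []) (.leaf [0, 0, 1, 1, 0, 0, 0, 0, 1, 0, 0, 0, 0, 0, 1])) (.node (.leaf [0, 0, 1, 0, 0, 0, 0, 0, 0, 1]) (.leaf [0, 0, 0, 1])))) (.node (.node (.node (.leaf []) (.leaf [1, 1, 1, 1, 0, 1, 1, 1, 1, 1, 0, 1, 1])) (.node (.leaf [1, 0, 1, 1, 1, 0, 0, 0, 0, 1]) (.leaf [0, 1, 1, 0, 0, 1, 0, 1, 0, 0, 1, 1, 0, 1]))) (.node (.node (.leaf [0, 0, 0, 1]) (.leaf [0, 1, 0, 1, 0, 0, 1, 1, 0, 1, 0, 1])) (.node (.leaf []) (.leaf [1, 1, 1, 0, 1, 0, 0, 1, 1, 1, 0, 1, 1, 0, 1]))))) (.node (.node (.node (.node (.leaf []) (.leaf [0, 0, 0, 1])) (.node (.leaf []) (.leaf [1, 0, 0, 1, 1, 0, 0, 0, 0, 0, 0, 0, 0, 0, 1]))) (.node (.node (.leaf [0, 0, 1, 1]) (.leaf [0, 0, 0, 1])) (.node (.leaf [1, 0, 1, 0, 1, 1, 0, 0, 0,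 1]) (.leaf [1, 0, 0, 1, 0, 1, 0, 0, 1, 0, 0, 1, 0, 0, 1])))) (.node (.node (.node (.leaf []) (.leaf [])) (.node (.leaf [0, 0, 0, 1]) (.leaf [0, 0, 0, 1]))) (.node (.node (.leaf [0, 0, 0, 1]) (.leaf [])) (.node (.leaf [0, 0, 0, 1]) (.leaf [1, 1, 1, 0, 0, 0, 0, 1, 1, 0, 0, 1, 1, 0, 1]))))))) (.node (.node (.node (.node (.node (.node (.node (.leaf [0, 0, 0, 1]) (.leaf [0, 1, 1, 0, 1, 0, 1, 1, 0, 1])) (.leaf [0, 0, 0, 1])) (.node (.leaf [1, 0, 0, 1, 1, 1, 0, 0, 1, 1]) (.leaf [0, 0, 0, 1]))) (.node (.node (.leaf []) (.leaf [1, 1, 0, 0, 0, 0, 0, 1, 0, 0, 0, 1, 1])) (.node (.leaf [0, 0, 0, 1]) (.leaf [1, 1, 0, 1, 1, 0, 0, 1, 1, 0, 0, 1, 1, 0, 1])))) (.node (.node (.node (.leaf []) (.leaf [0, 0, 0, 1])) (.node (.leaf [0, 0, 0, 1]) (.leaf [1, 0, 1, 1, 0, 0, 0, 0, 0, 0, 1, 0, 1]))) (.node (.node (.leaf []) (.leaf [0, 0, 0, 1])) (.node (.leaf []) (.leaf [0, 1, 1, 0, 1, 1, 0, 1, 0, 1, 1, 0, 1, 0, 1]))))) (.node (.node (.node (.node (.leaf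 []) (.leaf [0, 0, 0, 1])) (.node (.leaf []) (.leaf [1, 0, 0, 0, 0, 1, 0, 0, 1, 0, 0, 1, 0, 0, 1]))) (.node (.node (.leaf []) (.leaf [0, 1, 0, 1, 0, 1, 0, 1, 1, 1, 0, 1])) (.node (.leaf [0, 0, 1, 0, 0, 1]) (.leaf [0, 0, 0, 1])))) (.node (.node (.node (.leaf []) (.leaf [])) (.node (.leaf []) (.leaf [1, 0, 1, 1, 1, 0, 0, 0, 1, 1, 0, 0, 0, 0, 1]))) (.node (.node (.leaf [0, 0, 0, 1]) (.leaf [0, 0, 0, 1, 1, 1, 0, 0, 0, 1, 0, 1, 0, 0, 1])) (.node (.leaf [0, 0, 0, 1]) (.leaf [0, 0, 0, 1])))))) (.node (.node (.node (.node (.node (.leaf []) (.leaf [0, 0, 0, 1])) (.node (.leaf []) (.leaf []))) (.node (.node (.leaf []) (.leaf [])) (.node (.leaf [0, 0, 0, 1]) (.leaf [0, 0, 0, 1])))) (.node (.node (.node (.leaf []) (.leaf [0, 0, 0, 1])) (.node (.leaf []) (.leaf [0, 0, 0, 1]))) (.node (.node (.leaf []) (.leaf [0, 0, 0, 0, 0, 1, 0, 0, 1, 0, 0, 0, 1, 0, 1])) (.node (.leaf [0, 0, 1, 0, 0, 0, 0, 0, 1, 1, 0, 0, 1]) (.leaf [1, 0, 1, 1, 0, 1,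 0, 0, 0, 0, 1, 0, 1, 1]))))) (.node (.node (.node (.node (.leaf [0, 0, 0, 1]) (.leaf [])) (.node (.leaf [0, 1, 0, 0, 1, 0, 0, 1, 0, 1, 0, 1, 1]) (.leaf [0, 0, 0, 1]))) (.node (.node (.leaf []) (.leaf [1, 0, 1, 0, 0, 1, 0, 0, 1, 1, 0, 1, 0, 0, 1])) (.node (.leaf [0, 0, 0, 1]) (.leaf [0, 1, 0, 0, 1, 0, 0, 0, 0, 1, 1, 1, 0, 0, 1])))) (.node (.node (.node (.leaf [0, 0, 1, 1, 0, 1]) (.leaf [0, 0, 1, 1, 1, 0, 0, 0, 1, 1, 0, 1])) (.node (.leaf [0, 0, 1, 1, 0, 0, 0, 0, 0, 0, 0, 0, 0, 0, 1]) (.leaf [0, 0, 0, 1]))) (.node (.node (.leaf []) (.leaf [0, 0, 1, 1, 0, 1, 0, 0, 0, 1])) (.node (.leaf [0, 0, 0, 1]) (.leaf [0, 1, 0, 1, 0, 0, 0, 0, 1, 1, 1, 0, 1, 1]))))))))) (.node (.node (.node (.node (.node (.node (.node (.node (.node (.leaf []) (.leaf [0, 0, 0, 0, 0, 0, 0, 0, 0, 0, 1, 0, 0, 0, 0])) (.leaf [1, 0, 0, 0, 1, 0, 0, 0, 0, 1, 1])) (.node (.leaf [1, 0, 1, 0, 0, 0, 0, 1, 0, 1, 0, 0, 1]) (.leaf [0, 0, 0, 1]))) (.node (.node (.leaf [0,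 0, 0, 1]) (.leaf [0, 0, 0, 1, 0, 0, 0, 0, 1, 0, 0, 0, 1, 0, 1])) (.node (.leaf [0, 0, 0, 1, 0, 1, 0, 0, 0, 1]) (.leaf [])))) (.node (.node (.node (.leaf []) (.leaf [0, 0, 0, 1, 0, 1, 0, 0, 0, 0, 0, 1, 1])) (.node (.leaf []) (.leaf [0, 0, 0, 1]))) (.node (.node (.leaf [1, 1, 0, 0, 1, 1, 0, 1, 0, 1, 0, 1, 1]) (.leaf [0, 0, 0, 1])) (.node (.leaf [0, 1, 0, 0, 0, 1, 0, 0, 0, 0, 1]) (.leaf [1, 0, 0, 0, 1, 1, 0, 0, 1, 0, 1, 1, 1, 0, 1]))))) (.node (.node (.node (.node (.leaf []) (.leaf [])) (.node (.leaf [1, 0, 0, 1, 1]) (.leaf []))) (.node (.node (.leaf []) (.leaf [])) (.node (.leaf [0, 0, 1, 0, 0, 1]) (.leaf [0, 0, 0, 1])))) (.node (.node (.node (.leaf [0, 0, 0, 1]) (.leaf [0, 0, 0, 1])) (.node (.leaf [0, 0, 0, 1]) (.leaf [1, 1, 1, 0, 1, 0, 0, 1, 1, 1, 1, 0, 1, 0, 1]))) (.node (.node (.leaf [0, 0, 1, 1]) (.leaf [])) (.node (.leaf [0, 0, 0, 1, 0, 1, 0, 0, 1, 1]) (.leaf [0, 1, 0, 0, 0, 1, 0, 1, 0, 1, 1, 0, 1, 0, 1])))))) (.node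 (.node (.node (.node (.node (.leaf [0, 0, 0, 1]) (.leaf [])) (.node (.leaf [0, 1, 0, 1, 1, 0, 0, 1, 0, 1, 0, 1, 1]) (.leaf [0, 0, 0, 0, 0, 1, 0, 0, 1, 1]))) (.node (.node (.leaf []) (.leaf [])) (.node (.leaf [0, 0, 0, 1]) (.leaf [1, 0, 0, 1, 1, 1, 0, 1, 0, 1, 0, 0, 0, 1, 1])))) (.node (.node (.node (.leaf [1, 0, 0, 1, 1]) (.leaf [])) (.node (.leaf [0, 0, 0, 1, 1, 0, 0, 1, 1, 1, 0, 0, 1]) (.leaf []))) (.node (.node (.leaf []) (.leaf [1, 0, 0, 1, 0, 0, 0, 0, 0, 0, 0, 1, 0, 0, 1])) (.node (.leaf [0, 0, 0, 0, 0, 0, 0, 0, 0, 1]) (.leaf [0, 0, 1, 1, 0, 0, 0, 0, 1, 0, 1, 1, 1, 0, 1]))))) (.node (.node (.node (.node (.leaf []) (.leaf [0, 0, 1, 1, 1, 0, 0, 0, 0, 1, 0, 1])) (.node (.leaf []) (.leaf [1, 1, 1, 1, 0, 0, 0, 1, 1, 0, 0, 1]))) (.node (.node (.leaf [0, 0, 0, 1]) (.leaf [0, 1, 1, 1, 0, 0, 0, 0, 0, 1, 1])) (.node (.leaf [1, 0, 0, 1, 1, 0, 0, 0, 0, 1]) (.leaf [0, 0, 0, 1])))) (.node (.node (.node (.leaf []) (.leaf [0, 0, 0,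 1])) (.node (.leaf [0, 0, 0, 1]) (.leaf [1, 0, 0, 1, 1, 0, 0, 0, 1, 0, 0, 0, 0, 0, 1]))) (.node (.node (.leaf []) (.leaf [1, 1, 0, 1, 1, 0, 0, 1, 1, 0, 0, 1, 1, 0, 1])) (.node (.leaf [0, 1, 0, 1, 1, 1, 0, 0, 1, 0, 0, 1]) (.leaf [0, 1, 1, 1, 0, 1, 0, 1, 1, 0, 0, 1, 1, 0, 1]))))))) (.node (.node (.node (.node (.node (.node (.node (.leaf []) (.leaf [0, 0, 0, 1, 1, 1, 0, 0, 0, 1, 0, 1])) (.leaf [0, 0, 0, 0, 0, 0, 0, 0, 0, 0, 1])) (.node (.leaf [1, 0, 0, 0, 1, 0, 0, 0, 1]) (.leaf [0, 0, 0, 1]))) (.node (.node (.leaf [1, 0, 0, 1, 1]) (.leaf [1, 0, 1, 0, 0, 1, 0, 0, 0, 0, 1, 0, 1])) (.node (.leaf []) (.leaf [1, 0, 1, 0, 0, 0, 0, 0, 1, 0, 0, 1, 1, 0, 1])))) (.node (.node (.node (.leaf [0, 0, 0, 1]) (.leaf [0, 0, 0, 1])) (.node (.leaf [0, 0, 0, 1, 0, 1, 0, 0, 1, 1]) (.leaf [0, 0, 0, 1]))) (.node (.node (.leaf [0, 0, 0, 1]) (.leaf [1, 1, 1, 0, 0, 0, 1, 1, 0, 0, 0, 1])) (.node (.leaf []) (.leaf [1, 1, 0, 0, 0, 0, 0, 1, 0, 1, 0, 1, 1,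 0, 1]))))) (.node (.node (.node (.node (.leaf []) (.leaf [0, 0, 0, 1])) (.node (.leaf []) (.leaf [0, 0, 0, 1]))) (.node (.node (.leaf []) (.leaf [0, 0, 0, 0, 0, 1, 0, 0, 1, 1, 0, 0, 0, 0, 1])) (.node (.leaf [1, 1, 1, 0, 0, 0, 0, 1, 0, 1, 0, 1, 1]) (.leaf [0, 0, 1, 1, 1, 1, 0, 0, 0, 1, 1, 1, 1, 0, 1])))) (.node (.node (.node (.leaf []) (.leaf [0, 0, 0, 1, 0, 0, 0, 0, 1])) (.node (.leaf []) (.leaf [0, 0, 0, 1]))) (.node (.node (.leaf []) (.leaf [0, 0, 0, 1])) (.node (.leaf []) (.leaf [0, 0, 0, 1])))))) (.node (.node (.node (.node (.node (.leaf []) (.leaf [])) (.node (.leaf [0, 0, 0, 0, 0, 0, 0, 0, 1]) (.leaf [0, 0, 0, 1]))) (.node (.node (.leaf [0, 0, 0, 1]) (.leaf [])) (.node (.leaf []) (.leaf [1, 1, 0, 0, 0, 1, 0, 1, 0, 0, 0, 0, 1, 0, 1])))) (.node (.node (.node (.leaf []) (.leaf [1, 0, 1, 0, 0, 1, 0, 0, 0, 0, 1])) (.node (.leaf []) (.leaf [0, 1, 1, 1, 1, 1, 0, 0, 0, 0, 1, 1, 0, 0, 1]))) (.node (.node (.leaf []) (.leaf [0,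 0, 0, 0, 0, 1, 0, 0, 1, 1, 1, 0, 0, 0, 1])) (.node (.leaf [0, 0, 0, 0, 0, 1, 0, 0, 0, 1, 0, 0, 0, 0, 1]) (.leaf [0, 0, 0, 1]))))) (.node (.node (.node (.node (.leaf []) (.leaf [0, 0, 1, 1, 1, 1, 0, 0, 0, 1, 0, 1])) (.node (.leaf [0, 0, 0, 0, 0, 0, 0, 0, 0, 0, 0, 0, 1]) (.leaf [1, 0, 0, 1, 1, 1, 0, 0, 0, 0, 0, 0, 0, 0, 1]))) (.node (.node (.leaf [1, 0, 1, 0, 1, 0, 0, 0, 0, 1]) (.leaf [])) (.node (.leaf []) (.leaf [1, 0, 1, 1, 0, 0, 0, 0, 1, 1, 0, 1, 0, 0, 1])))) (.node (.node (.node (.leaf [0, 0, 0, 1]) (.leaf [])) (.node (.leaf []) (.leaf [1, 1, 0, 0, 0, 1, 1, 1, 0, 1, 0, 1]))) (.node (.node (.leaf []) (.leaf [0, 0, 0, 1])) (.node (.leaf [1, 0, 1, 1, 1, 1, 0, 1, 0, 1, 0, 1]) (.leaf [1, 0, 0, 1, 0, 0, 0, 0, 1, 1, 0, 1, 1, 0, 1])))))))) (.node (.node (.node (.node (.node (.node (.node (.node (.leaf [0, 0, 0, 1]) (.leaf [1, 0, 0, 0, 1, 1])) (.leaf [0, 0, 0, 1])) (.node (.leaf [0, 0, 0, 1]) (.leaf []))) (.node (.node (.leaf [1,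 0, 0, 0, 1]) (.leaf [0, 0, 0, 1])) (.node (.leaf [0, 0, 0, 1]) (.leaf [0, 0, 0, 1])))) (.node (.node (.node (.leaf [0, 0, 0, 1]) (.leaf [0, 0, 1, 1, 0, 0, 1, 0, 1, 1, 0, 1, 1])) (.node (.leaf [0, 1, 0, 1, 0, 1, 0, 0, 0, 0, 0, 0, 1]) (.leaf [0, 1, 0, 0, 0, 0, 1, 1, 0, 1, 0, 1]))) (.node (.node (.leaf [0, 0, 0, 1]) (.leaf [0, 0, 0, 1])) (.node (.leaf []) (.leaf [0, 0, 0, 1]))))) (.node (.node (.node (.node (.leaf []) (.leaf [0, 0, 0, 1])) (.node (.leaf []) (.leaf [0, 0, 0, 1]))) (.node (.node (.leaf [0, 0, 0, 1]) (.leaf [0, 0, 0, 1])) (.node (.leaf []) (.leaf [0, 0, 0, 0, 0, 0, 0, 0, 1, 1, 0, 0, 0, 0, 1])))) (.node (.node (.node (.leaf []) (.leaf [1, 0, 1, 1, 0, 0, 0, 0, 0, 1, 1])) (.node (.leaf [0, 0, 1, 1, 0, 1, 0, 0, 1, 1]) (.leaf [1, 0, 1, 0, 0, 1, 0, 0, 0, 0, 1, 0, 1, 1]))) (.node (.node (.leaf [0, 0, 0, 1]) (.leaf [0, 0, 0, 1, 0, 1, 0, 0, 1, 0, 1, 0, 0, 1])) (.node (.leaf [0, 0, 0, 1, 1, 0, 0, 0, 1, 1, 1]) (.leaf [1,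 0, 0, 1, 1, 0, 0, 0, 1, 1, 0, 0, 1, 0, 1])))))) (.node (.node (.node (.node (.node (.leaf [1, 0, 0, 0, 1]) (.leaf [0, 0, 0, 1])) (.node (.leaf [0, 0, 0, 1]) (.leaf []))) (.node (.node (.leaf []) (.leaf [1, 0, 1, 0, 1, 1, 0, 0, 1, 1, 1, 1])) (.node (.leaf [1, 0, 0, 1, 0, 1, 0, 0, 0, 1, 1]) (.leaf [0, 0, 0, 1])))) (.node (.node (.node (.leaf [0, 0, 0, 1]) (.leaf [0, 0, 0, 1])) (.node (.leaf [0, 0, 0, 1]) (.leaf []))) (.node (.node (.leaf [0, 0, 0, 1]) (.leaf [0, 0, 0, 1])) (.node (.leaf []) (.leaf [0, 0, 0, 1]))))) (.node (.node (.node (.node (.leaf [0, 0, 0, 1]) (.leaf [0, 0, 0, 1])) (.node (.leaf []) (.leaf [1, 1, 1, 1, 0, 0, 1, 1, 1, 0, 0, 1]))) (.node (.node (.leaf [0, 0, 0, 0, 0, 0, 0, 0, 1]) (.leaf [])) (.node (.leaf []) (.leaf [1, 1, 0, 1, 0, 1, 1, 1, 0, 1, 0, 1])))) (.node (.node (.node (.leaf []) (.leaf [1, 0, 0, 0, 1, 1, 0, 0, 0, 0, 0, 0, 0, 0, 1])) (.node (.leaf [0, 0, 0, 1]) (.leaf [0, 0, 0, 1]))) (.node (.node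 (.leaf [0, 0, 1]) (.leaf [1, 1, 0, 1, 0, 0, 0, 1, 0, 0, 0, 1, 1])) (.node (.leaf [1, 0, 0, 0, 1, 0, 0, 0, 0, 0, 0, 0, 0, 0, 1]) (.leaf [0, 0, 1, 1, 0, 0, 0, 0, 0, 0, 1, 1, 1, 0, 1]))))))) (.node (.node (.node (.node (.node (.node (.leaf []) (.leaf [1, 0, 1, 0, 1, 0, 0, 0, 0, 1, 0, 1])) (.node (.leaf [1, 0, 1, 0, 1, 1, 0, 0, 0, 1]) (.leaf [0, 0, 0, 1]))) (.node (.node (.leaf [0, 0, 0, 1]) (.leaf [])) (.node (.leaf []) (.leaf [0, 1, 1, 0, 0, 1, 0, 0, 0, 0, 1, 0, 1, 1])))) (.node (.node (.node (.leaf [1, 0, 0, 0, 1]) (.leaf [0, 0, 0, 1])) (.node (.leaf []) (.leaf [0, 1, 0, 1, 1, 1, 0, 1, 0, 0, 1, 0, 1, 0, 1]))) (.node (.node (.leaf [0, 0, 0, 1]) (.leaf [1, 0, 0, 0, 1, 1, 0, 0, 1, 1])) (.node (.leaf [1, 1, 0, 0, 0, 0, 1, 1, 1, 0, 0, 1, 1]) (.leaf [0, 0, 0, 0, 1, 1, 0, 0, 0, 1, 0, 1, 0, 0, 1]))))) (.node (.node (.node (.node (.leaf [0, 0, 0, 1]) (.leaf [1, 0, 1, 0, 1, 0, 0, 0, 0, 1, 0, 1])) (.node (.leaf []) (.leaf [0, 0, 0, 1])))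 (.node (.node (.leaf []) (.leaf [0, 0, 0, 1])) (.node (.leaf []) (.leaf [])))) (.node (.node (.node (.leaf [0, 0, 0, 1]) (.leaf [1, 0, 1, 0, 0, 0, 1, 0, 0, 1, 0, 1, 1])) (.node (.leaf [1, 1, 1, 1, 1, 0, 0, 1, 0, 0, 0, 1, 1]) (.leaf [0, 1, 1, 1, 0, 1, 1, 1, 1, 0, 0, 1]))) (.node (.node (.leaf [0, 0, 0, 1]) (.leaf [1, 0, 0, 0, 1, 1, 0, 0, 1, 1, 0, 0, 1, 0, 1])) (.node (.leaf [0, 0, 1, 0, 0, 1]) (.leaf [1, 1, 0, 1, 0, 1, 0, 1, 1, 1, 1, 0, 1, 0, 1])))))) (.node (.node (.node (.node (.node (.leaf [0, 0, 0, 1]) (.leaf [0, 0, 0, 1])) (.node (.leaf [0, 0, 0, 1]) (.leaf [0, 1, 0, 0, 0, 1, 0, 1, 1, 1, 0, 1]))) (.node (.node (.leaf []) (.leaf [])) (.node (.leaf []) (.leaf [0, 0, 0, 1])))) (.node (.node (.node (.leaf []) (.leaf [1, 0, 1, 0, 1, 0, 0, 1, 0, 1, 0, 1])) (.node (.leaf [0, 0, 0, 1]) (.leaf [0, 0, 0, 1]))) (.node (.node (.leaf [0, 0, 0, 1]) (.leaf [0, 0, 1, 0, 0, 1, 0, 0, 1])) (.node (.leaf []) (.leaf [0, 1, 0, 1, 0, 1, 1,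 1, 1, 1, 1, 0, 1, 0, 1]))))) (.node (.node (.node (.node (.leaf []) (.leaf [0, 0, 1, 1, 0, 1, 0, 0, 1, 0, 0, 0, 0, 0, 1])) (.node (.leaf [0, 0, 0, 1]) (.leaf []))) (.node (.node (.leaf [0, 0, 0, 1]) (.leaf [0, 0, 0, 1])) (.node (.leaf [0, 0, 1, 1, 0, 1, 0, 0, 1, 0, 0, 0, 0, 0, 1]) (.leaf [0, 0, 1, 0, 0, 1, 0, 0, 0, 1, 0, 0, 1, 0, 1])))) (.node (.node (.node (.leaf [0, 0, 1, 0, 0, 1, 0, 0, 1, 1]) (.leaf [1, 0, 0, 0, 0, 0, 0, 0, 0, 0, 0, 1, 0, 0, 1])) (.node (.leaf [0, 0, 1, 1, 0, 1, 0, 0, 0, 0, 0, 0, 0, 0, 1]) (.leaf [0, 0, 0, 1]))) (.node (.node (.leaf []) (.leaf [1, 0, 0, 1, 1, 0, 0, 0, 0, 1])) (.node (.leaf [1, 0, 1, 0, 0, 1, 0, 0, 0, 1, 0, 1, 0, 0, 1]) (.leaf [1, 0, 1, 0, 1, 0, 0, 1, 0, 0, 0, 0, 0, 1, 1]))))))))))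

def twoL : Janko.Tree (List ℤ) := (.node (.node (.node twoL0 twoL4) (.node twoL2 twoL6)) (.node (.node twoL1 twoL5) (.node twoL3 twoL7)))

def twoKind0 : Janko.Tree (ℕ) :=
  (.node (.node (.node (.node (.node (.node (.node (.node (.node (.node (.leaf 0) (.leaf 2)) (.leaf 3)) (.node (.leaf 3) (.leaf 3))) (.node (.node (.leaf 3) (.leaf 3)) (.node (.leaf 3) (.leaf 3)))) (.node (.node (.node (.leaf 3) (.leaf 3)) (.node (.leaf 3) (.leaf 3))) (.node (.node (.leaf 3) (.leaf 3)) (.node (.leaf 3) (.leaf 3))))) (.node (.node (.node (.node (.leaf 3) (.leaf 0)) (.node (.leaf 3) (.leaf 3))) (.node (.node (.leaf 3) (.leaf 3)) (.node (.leaf 3) (.leaf 3)))) (.node (.node (.node (.leaf 3) (.leaf 3)) (.node (.leaf 3) (.leaf 3))) (.node (.node (.leaf 0) (.leaf 3)) (.node (.leaf 3) (.leaf 3)))))) (.node (.node (.node (.node (.node (.leaf 3) (.leaf 3)) (.node (.leaf 3) (.leaf 3))) (.node (.node (.leaf 3) (.leaf 3)) (.node (.leaf 3) (.leaf 3))))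 (.node (.node (.node (.leaf 0) (.leaf 3)) (.node (.leaf 3) (.leaf 3))) (.node (.node (.leaf 3) (.leaf 3)) (.node (.leaf 3) (.leaf 3))))) (.node (.node (.node (.node (.leaf 0) (.leaf 3)) (.node (.leaf 3) (.leaf 0))) (.node (.node (.leaf 3) (.leaf 3)) (.node (.leaf 3) (.leaf 3)))) (.node (.node (.node (.leaf 0) (.leaf 3)) (.node (.leaf 3) (.leaf 3))) (.node (.node (.leaf 3) (.leaf 3)) (.node (.leaf 3) (.leaf 3))))))) (.node (.node (.node (.node (.node (.node (.node (.leaf 3) (.leaf 3)) (.leaf 3)) (.node (.leaf 3) (.leaf 3))) (.node (.node (.leaf 0) (.leaf 3)) (.node (.leaf 3) (.leaf 3)))) (.node (.node (.node (.leaf 0) (.leaf 3)) (.node (.leaf 3) (.leaf 3))) (.node (.node (.leaf 3) (.leaf 3)) (.node (.leaf 3) (.leaf 3))))) (.node (.node (.node (.node (.leaf 3) (.leaf 3)) (.node (.leaf 3) (.leaf 3))) (.node (.node (.leaf 0) (.leaf 3)) (.node (.leaf 3) (.leaf 3)))) (.node (.node (.node (.leaf 3) (.leaf 3)) (.node (.leaf 3) (.leaf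 3))) (.node (.node (.leaf 3) (.leaf 3)) (.node (.leaf 3) (.leaf 3)))))) (.node (.node (.node (.node (.node (.leaf 0) (.leaf 3)) (.node (.leaf 3) (.leaf 3))) (.node (.node (.leaf 3) (.leaf 3)) (.node (.leaf 3) (.leaf 3)))) (.node (.node (.node (.leaf 3) (.leaf 3)) (.node (.leaf 0) (.leaf 3))) (.node (.node (.leaf 3) (.leaf 3)) (.node (.leaf 3) (.leaf 3))))) (.node (.node (.node (.node (.leaf 3) (.leaf 3)) (.node (.leaf 3) (.leaf 0))) (.node (.node (.leaf 3) (.leaf 3)) (.node (.leaf 3) (.leaf 3)))) (.node (.node (.node (.leaf 3) (.leaf 3)) (.node (.leaf 3) (.leaf 3))) (.node (.node (.leaf 3) (.leaf 3)) (.node (.leaf 3) (.leaf 3)))))))) (.node (.node (.node (.node (.node (.node (.node (.node (.leaf 0) (.leaf 3)) (.leaf 3)) (.node (.leaf 3) (.leaf 3))) (.node (.node (.leaf 3) (.leaf 3)) (.node (.leaf 3) (.leaf 3)))) (.node (.node (.node (.leaf 3) (.leaf 3)) (.node (.leaf 3) (.leaf 3))) (.node (.node (.leaf 3) (.leaf 3)) (.node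 (.leaf 3) (.leaf 3))))) (.node (.node (.node (.node (.leaf 3) (.leaf 3)) (.node (.leaf 3) (.leaf 3))) (.node (.node (.leaf 3) (.leaf 3)) (.node (.leaf 3) (.leaf 3)))) (.node (.node (.node (.leaf 0) (.leaf 3)) (.node (.leaf 0) (.leaf 3))) (.node (.node (.leaf 3) (.leaf 3)) (.node (.leaf 3) (.leaf 3)))))) (.node (.node (.node (.node (.node (.leaf 3) (.leaf 3)) (.node (.leaf 3) (.leaf 3))) (.node (.node (.leaf 3) (.leaf 3)) (.node (.leaf 3) (.leaf 3)))) (.node (.node (.node (.leaf 3) (.leaf 3)) (.node (.leaf 3) (.leaf 3))) (.node (.node (.leaf 3) (.leaf 3)) (.node (.leaf 3) (.leaf 3))))) (.node (.node (.node (.node (.leaf 0) (.leaf 3)) (.node (.leaf 3) (.leaf 3))) (.node (.node (.leaf 0) (.leaf 3)) (.node (.leaf 3) (.leaf 3)))) (.node (.node (.node (.leaf 3) (.leaf 3)) (.node (.leaf 0) (.leaf 3))) (.node (.node (.leaf 3) (.leaf 3)) (.node (.leaf 3) (.leaf 3))))))) (.node (.node (.node (.node (.node (.node (.node (.leaf 0) (.leaf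 3)) (.leaf 3)) (.node (.leaf 3) (.leaf 3))) (.node (.node (.leaf 3) (.leaf 3)) (.node (.leaf 3) (.leaf 3)))) (.node (.node (.node (.leaf 3) (.leaf 3)) (.node (.leaf 3) (.leaf 0))) (.node (.node (.leaf 3) (.leaf 3)) (.node (.leaf 3) (.leaf 3))))) (.node (.node (.node (.node (.leaf 3) (.leaf 0)) (.node (.leaf 3) (.leaf 3))) (.node (.node (.leaf 3) (.leaf 3)) (.node (.leaf 3) (.leaf 3)))) (.node (.node (.node (.leaf 3) (.leaf 3)) (.node (.leaf 3) (.leaf 3))) (.node (.node (.leaf 3) (.leaf 3)) (.node (.leaf 3) (.leaf 3)))))) (.node (.node (.node (.node (.node (.leaf 0) (.leaf 3)) (.node (.leaf 3) (.leaf 3))) (.node (.node (.leaf 0) (.leaf 3)) (.node (.leaf 3) (.leaf 3)))) (.node (.node (.node (.leaf 3) (.leaf 3)) (.node (.leaf 3) (.leaf 3))) (.node (.node (.leaf 3) (.leaf 3)) (.node (.leaf 3) (.leaf 3))))) (.node (.node (.node (.node (.leaf 3) (.leaf 3)) (.node (.leaf 3) (.leaf 3))) (.node (.node (.leaf 3) (.leaf 3)) (.node (.leaf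 3) (.leaf 3)))) (.node (.node (.node (.leaf 0) (.leaf 3)) (.node (.leaf 3) (.leaf 3))) (.node (.node (.leaf 3) (.leaf 3)) (.node (.leaf 3) (.leaf 3))))))))) (.node (.node (.node (.node (.node (.node (.node (.node (.node (.leaf 0) (.leaf 2)) (.leaf 0)) (.node (.leaf 3) (.leaf 3))) (.node (.node (.leaf 3) (.leaf 3)) (.node (.leaf 3) (.leaf 3)))) (.node (.node (.node (.leaf 3) (.leaf 3)) (.node (.leaf 3) (.leaf 3))) (.node (.node (.leaf 3) (.leaf 3)) (.node (.leaf 3) (.leaf 3))))) (.node (.node (.node (.node (.leaf 3) (.leaf 3)) (.node (.leaf 3) (.leaf 3))) (.node (.node (.leaf 3) (.leaf 3)) (.node (.leaf 3) (.leaf 3)))) (.node (.node (.node (.leaf 3) (.leaf 0)) (.node (.leaf 3) (.leaf 3))) (.node (.node (.leaf 3) (.leaf 3)) (.node (.leaf 3) (.leaf 3)))))) (.node (.node (.node (.node (.node (.leaf 0) (.leaf 3)) (.node (.leaf 3) (.leaf 3))) (.node (.node (.leaf 0) (.leaf 3)) (.node (.leaf 0) (.leaf 3)))) (.node (.node (.node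 (.leaf 3) (.leaf 3)) (.node (.leaf 3) (.leaf 3))) (.node (.node (.leaf 0) (.leaf 3)) (.node (.leaf 3) (.leaf 3))))) (.node (.node (.node (.node (.leaf 3) (.leaf 3)) (.node (.leaf 3) (.leaf 3))) (.node (.node (.leaf 0) (.leaf 3)) (.node (.leaf 3) (.leaf 3)))) (.node (.node (.node (.leaf 3) (.leaf 3)) (.node (.leaf 3) (.leaf 3))) (.node (.node (.leaf 3) (.leaf 0)) (.node (.leaf 3) (.leaf 3))))))) (.node (.node (.node (.node (.node (.node (.node (.leaf 0) (.leaf 3)) (.leaf 0)) (.node (.leaf 3) (.leaf 3))) (.node (.node (.leaf 3) (.leaf 3)) (.node (.leaf 3) (.leaf 3)))) (.node (.node (.node (.leaf 3) (.leaf 3)) (.node (.leaf 3) (.leaf 3))) (.node (.node (.leaf 3) (.leaf 3)) (.node (.leaf 3) (.leaf 3))))) (.node (.node (.node (.node (.leaf 3) (.leaf 0)) (.node (.leaf 3) (.leaf 3))) (.node (.node (.leaf 3) (.leaf 3)) (.node (.leaf 3) (.leaf 3)))) (.node (.node (.node (.leaf 3) (.leaf 3)) (.node (.leaf 3) (.leaf 3))) (.node (.node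 (.leaf 3) (.leaf 3)) (.node (.leaf 3) (.leaf 3)))))) (.node (.node (.node (.node (.node (.leaf 3) (.leaf 0)) (.node (.leaf 3) (.leaf 3))) (.node (.node (.leaf 3) (.leaf 3)) (.node (.leaf 3) (.leaf 3)))) (.node (.node (.node (.leaf 0) (.leaf 3)) (.node (.leaf 3) (.leaf 3))) (.node (.node (.leaf 3) (.leaf 3)) (.node (.leaf 3) (.leaf 3))))) (.node (.node (.node (.node (.leaf 3) (.leaf 3)) (.node (.leaf 3) (.leaf 3))) (.node (.node (.leaf 3) (.leaf 3)) (.node (.leaf 3) (.leaf 3)))) (.node (.node (.node (.leaf 0) (.leaf 3)) (.node (.leaf 3) (.leaf 3))) (.node (.node (.leaf 3) (.leaf 3)) (.node (.leaf 3) (.leaf 3)))))))) (.node (.node (.node (.node (.node (.node (.node (.node (.leaf 0) (.leaf 3)) (.leaf 3)) (.node (.leaf 3) (.leaf 3))) (.node (.node (.leaf 3) (.leaf 3)) (.node (.leaf 3) (.leaf 3)))) (.node (.node (.node (.leaf 3) (.leaf 3)) (.node (.leaf 3) (.leaf 3))) (.node (.node (.leaf 3) (.leaf 3)) (.node (.leaf 3) (.leaf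 3))))) (.node (.node (.node (.node (.leaf 3) (.leaf 3)) (.node (.leaf 3) (.leaf 3))) (.node (.node (.leaf 3) (.leaf 3)) (.node (.leaf 3) (.leaf 0)))) (.node (.node (.node (.leaf 3) (.leaf 3)) (.node (.leaf 0) (.leaf 3))) (.node (.node (.leaf 0) (.leaf 3)) (.node (.leaf 3) (.leaf 3)))))) (.node (.node (.node (.node (.node (.leaf 3) (.leaf 3)) (.node (.leaf 3) (.leaf 3))) (.node (.node (.leaf 3) (.leaf 3)) (.node (.leaf 3) (.leaf 3)))) (.node (.node (.node (.leaf 3) (.leaf 3)) (.node (.leaf 3) (.leaf 3))) (.node (.node (.leaf 3) (.leaf 3)) (.node (.leaf 3) (.leaf 3))))) (.node (.node (.node (.node (.leaf 0) (.leaf 3)) (.node (.leaf 3) (.leaf 3))) (.node (.node (.leaf 3) (.leaf 3)) (.node (.leaf 3) (.leaf 3)))) (.node (.node (.node (.leaf 3) (.leaf 3)) (.node (.leaf 3) (.leaf 3))) (.node (.node (.leaf 3) (.leaf 3)) (.node (.leaf 3) (.leaf 3))))))) (.node (.node (.node (.node (.node (.node (.node (.leaf 3) (.leaf 3)) (.leaf 3))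 (.node (.leaf 3) (.leaf 3))) (.node (.node (.leaf 3) (.leaf 3)) (.node (.leaf 3) (.leaf 3)))) (.node (.node (.node (.leaf 3) (.leaf 3)) (.node (.leaf 0) (.leaf 3))) (.node (.node (.leaf 3) (.leaf 3)) (.node (.leaf 3) (.leaf 3))))) (.node (.node (.node (.node (.leaf 3) (.leaf 3)) (.node (.leaf 3) (.leaf 3))) (.node (.node (.leaf 3) (.leaf 0)) (.node (.leaf 3) (.leaf 3)))) (.node (.node (.node (.leaf 3) (.leaf 3)) (.node (.leaf 3) (.leaf 3))) (.node (.node (.leaf 3) (.leaf 3)) (.node (.leaf 3) (.leaf 3)))))) (.node (.node (.node (.node (.node (.leaf 0) (.leaf 3)) (.node (.leaf 3) (.leaf 3))) (.node (.node (.leaf 3) (.leaf 3)) (.node (.leaf 3) (.leaf 3)))) (.node (.node (.node (.leaf 3) (.leaf 3)) (.node (.leaf 3) (.leaf 3))) (.node (.node (.leaf 3) (.leaf 3)) (.node (.leaf 3) (.leaf 3))))) (.node (.node (.node (.node (.leaf 3) (.leaf 3)) (.node (.leaf 3) (.leaf 3))) (.node (.node (.leaf 3) (.leaf 3)) (.node (.leaf 3) (.leaf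 3)))) (.node (.node (.node (.leaf 3) (.leaf 3)) (.node (.leaf 3) (.leaf 3))) (.node (.node (.leaf 3) (.leaf 3)) (.node (.leaf 3) (.leaf 3))))))))))

def twoKind1 : Janko.Tree (ℕ) :=
  (.node (.node (.node (.node (.node (.node (.node (.node (.node (.node (.leaf 0) (.leaf 2)) (.leaf 0)) (.node (.leaf 2) (.leaf 3))) (.node (.node (.leaf 3) (.leaf 3)) (.node (.leaf 3) (.leaf 3)))) (.node (.node (.node (.leaf 0) (.leaf 3)) (.node (.leaf 3) (.leaf 3))) (.node (.node (.leaf 0) (.leaf 3)) (.node (.leaf 3) (.leaf 3))))) (.node (.node (.node (.node (.leaf 0) (.leaf 3)) (.node (.leaf 3) (.leaf 0))) (.node (.node (.leaf 0) (.leaf 3)) (.node (.leaf 0) (.leaf 3)))) (.node (.node (.node (.leaf 0) (.leaf 0)) (.node (.leaf 3) (.leaf 3))) (.node (.node (.leaf 3) (.leaf 3)) (.node (.leaf 3) (.leaf 3)))))) (.node (.node (.node (.node (.node (.leaf 0) (.leaf 3)) (.node (.leaf 3) (.leaf 3))) (.node (.node (.leaf 3) (.leaf 3)) (.node (.leaf 3)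 (.leaf 3)))) (.node (.node (.node (.leaf 3) (.leaf 3)) (.node (.leaf 3) (.leaf 3))) (.node (.node (.leaf 3) (.leaf 3)) (.node (.leaf 3) (.leaf 3))))) (.node (.node (.node (.node (.leaf 3) (.leaf 3)) (.node (.leaf 0) (.leaf 3))) (.node (.node (.leaf 0) (.leaf 3)) (.node (.leaf 0) (.leaf 3)))) (.node (.node (.node (.leaf 3) (.leaf 3)) (.node (.leaf 0) (.leaf 3))) (.node (.node (.leaf 3) (.leaf 3)) (.node (.leaf 3) (.leaf 3))))))) (.node (.node (.node (.node (.node (.node (.node (.leaf 0) (.leaf 3)) (.leaf 3)) (.node (.leaf 3) (.leaf 3))) (.node (.node (.leaf 3) (.leaf 3)) (.node (.leaf 3) (.leaf 3)))) (.node (.node (.node (.leaf 3) (.leaf 0)) (.node (.leaf 0) (.leaf 0))) (.node (.node (.leaf 3) (.leaf 0)) (.node (.leaf 3) (.leaf 3))))) (.node (.node (.node (.node (.leaf 0) (.leaf 3)) (.node (.leaf 3) (.leaf 3))) (.node (.node (.leaf 3) (.leaf 3)) (.node (.leaf 0) (.leaf 0)))) (.node (.node (.node (.leaf 0) (.leaf 3)) (.node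 (.leaf 3) (.leaf 0))) (.node (.node (.leaf 0) (.leaf 3)) (.node (.leaf 3) (.leaf 3)))))) (.node (.node (.node (.node (.node (.leaf 3) (.leaf 3)) (.node (.leaf 3) (.leaf 3))) (.node (.node (.leaf 0) (.leaf 3)) (.node (.leaf 0) (.leaf 3)))) (.node (.node (.node (.leaf 3) (.leaf 3)) (.node (.leaf 3) (.leaf 3))) (.node (.node (.leaf 3) (.leaf 3)) (.node (.leaf 3) (.leaf 3))))) (.node (.node (.node (.node (.leaf 0) (.leaf 3)) (.node (.leaf 0) (.leaf 3))) (.node (.node (.leaf 3) (.leaf 0)) (.node (.leaf 0) (.leaf 3)))) (.node (.node (.node (.leaf 0) (.leaf 3)) (.node (.leaf 3) (.leaf 3))) (.node (.node (.leaf 0) (.leaf 0)) (.node (.leaf 3) (.leaf 3)))))))) (.node (.node (.node (.node (.node (.node (.node (.node (.leaf 0) (.leaf 3)) (.leaf 3)) (.node (.leaf 0) (.leaf 3))) (.node (.node (.leaf 3) (.leaf 3)) (.node (.leaf 3) (.leaf 3)))) (.node (.node (.node (.leaf 0) (.leaf 0)) (.node (.leaf 0) (.leaf 3))) (.node (.node (.leaf 0)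 (.leaf 0)) (.node (.leaf 3) (.leaf 0))))) (.node (.node (.node (.node (.leaf 3) (.leaf 3)) (.node (.leaf 0) (.leaf 3))) (.node (.node (.leaf 0) (.leaf 3)) (.node (.leaf 3) (.leaf 3)))) (.node (.node (.node (.leaf 3) (.leaf 0)) (.node (.leaf 3) (.leaf 3))) (.node (.node (.leaf 0) (.leaf 3)) (.node (.leaf 0) (.leaf 3)))))) (.node (.node (.node (.node (.node (.leaf 0) (.leaf 0)) (.node (.leaf 0) (.leaf 3))) (.node (.node (.leaf 0) (.leaf 0)) (.node (.leaf 0) (.leaf 3)))) (.node (.node (.node (.leaf 0) (.leaf 3)) (.node (.leaf 3) (.leaf 0))) (.node (.node (.leaf 0) (.leaf 3)) (.node (.leaf 3) (.leaf 3))))) (.node (.node (.node (.node (.leaf 0) (.leaf 0)) (.node (.leaf 0) (.leaf 3))) (.node (.node (.leaf 3) (.leaf 3)) (.node (.leaf 3) (.leaf 3)))) (.node (.node (.node (.leaf 0) (.leaf 0)) (.node (.leaf 3) (.leaf 3))) (.node (.node (.leaf 0) (.leaf 0)) (.node (.leaf 3) (.leaf 3))))))) (.node (.node (.node (.node (.node (.node (.node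 (.leaf 3) (.leaf 3)) (.leaf 3)) (.node (.leaf 3) (.leaf 3))) (.node (.node (.leaf 0) (.leaf 3)) (.node (.leaf 0) (.leaf 3)))) (.node (.node (.node (.leaf 3) (.leaf 3)) (.node (.leaf 0) (.leaf 3))) (.node (.node (.leaf 3) (.leaf 0)) (.node (.leaf 3) (.leaf 3))))) (.node (.node (.node (.node (.leaf 0) (.leaf 3)) (.node (.leaf 3) (.leaf 3))) (.node (.node (.leaf 0) (.leaf 0)) (.node (.leaf 3) (.leaf 0)))) (.node (.node (.node (.leaf 0) (.leaf 3)) (.node (.leaf 3) (.leaf 3))) (.node (.node (.leaf 0) (.leaf 3)) (.node (.leaf 3) (.leaf 3)))))) (.node (.node (.node (.node (.node (.leaf 0) (.leaf 0)) (.node (.leaf 3) (.leaf 0))) (.node (.node (.leaf 3) (.leaf 3)) (.node (.leaf 0) (.leaf 3)))) (.node (.node (.node (.leaf 0) (.leaf 0)) (.node (.leaf 0) (.leaf 3))) (.node (.node (.leaf 0) (.leaf 3)) (.node (.leaf 0) (.leaf 3))))) (.node (.node (.node (.node (.leaf 3) (.leaf 3)) (.node (.leaf 3) (.leaf 3))) (.node (.node (.leaf 3) (.leaf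 0)) (.node (.leaf 3) (.leaf 3)))) (.node (.node (.node (.leaf 3) (.leaf 3)) (.node (.leaf 0) (.leaf 0))) (.node (.node (.leaf 0) (.leaf 3)) (.node (.leaf 3) (.leaf 3))))))))) (.node (.node (.node (.node (.node (.node (.node (.node (.node (.leaf 3) (.leaf 3)) (.leaf 3)) (.node (.leaf 3) (.leaf 3))) (.node (.node (.leaf 3) (.leaf 3)) (.node (.leaf 3) (.leaf 3)))) (.node (.node (.node (.leaf 0) (.leaf 3)) (.node (.leaf 3) (.leaf 3))) (.node (.node (.leaf 3) (.leaf 3)) (.node (.leaf 3) (.leaf 3))))) (.node (.node (.node (.node (.leaf 0) (.leaf 0)) (.node (.leaf 3) (.leaf 3))) (.node (.node (.leaf 0) (.leaf 3)) (.node (.leaf 3) (.leaf 3)))) (.node (.node (.node (.leaf 3) (.leaf 3)) (.node (.leaf 0) (.leaf 3))) (.node (.node (.leaf 3) (.leaf 3)) (.node (.leaf 0) (.leaf 3)))))) (.node (.node (.node (.node (.node (.leaf 0) (.leaf 0)) (.node (.leaf 0) (.leaf 3))) (.node (.node (.leaf 3) (.leaf 3)) (.node (.leaf 3) (.leaf 3)))) (.node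 (.node (.node (.leaf 3) (.leaf 0)) (.node (.leaf 0) (.leaf 3))) (.node (.node (.leaf 3) (.leaf 3)) (.node (.leaf 3) (.leaf 3))))) (.node (.node (.node (.node (.leaf 3) (.leaf 3)) (.node (.leaf 3) (.leaf 3))) (.node (.node (.leaf 3) (.leaf 3)) (.node (.leaf 0) (.leaf 0)))) (.node (.node (.node (.leaf 0) (.leaf 3)) (.node (.leaf 0) (.leaf 3))) (.node (.node (.leaf 0) (.leaf 3)) (.node (.leaf 0) (.leaf 3))))))) (.node (.node (.node (.node (.node (.node (.node (.leaf 0) (.leaf 3)) (.leaf 3)) (.node (.leaf 3) (.leaf 0))) (.node (.node (.leaf 3) (.leaf 3)) (.node (.leaf 0) (.leaf 3)))) (.node (.node (.node (.leaf 3) (.leaf 3)) (.node (.leaf 3) (.leaf 3))) (.node (.node (.leaf 3) (.leaf 3)) (.node (.leaf 3) (.leaf 3))))) (.node (.node (.node (.node (.leaf 0) (.leaf 3)) (.node (.leaf 3) (.leaf 3))) (.node (.node (.leaf 0) (.leaf 3)) (.node (.leaf 3) (.leaf 0)))) (.node (.node (.node (.leaf 0) (.leaf 3)) (.node (.leaf 3) (.leaf 3)))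 (.node (.node (.leaf 0) (.leaf 3)) (.node (.leaf 3) (.leaf 3)))))) (.node (.node (.node (.node (.node (.leaf 3) (.leaf 3)) (.node (.leaf 3) (.leaf 0))) (.node (.node (.leaf 3) (.leaf 3)) (.node (.leaf 0) (.leaf 3)))) (.node (.node (.node (.leaf 3) (.leaf 3)) (.node (.leaf 0) (.leaf 3))) (.node (.node (.leaf 0) (.leaf 3)) (.node (.leaf 3) (.leaf 3))))) (.node (.node (.node (.node (.leaf 0) (.leaf 3)) (.node (.leaf 0) (.leaf 3))) (.node (.node (.leaf 3) (.leaf 3)) (.node (.leaf 0) (.leaf 3)))) (.node (.node (.node (.leaf 3) (.leaf 3)) (.node (.leaf 3) (.leaf 3))) (.node (.node (.leaf 3) (.leaf 3)) (.node (.leaf 3) (.leaf 3)))))))) (.node (.node (.node (.node (.node (.node (.node (.node (.leaf 0) (.leaf 3)) (.leaf 3)) (.node (.leaf 3) (.leaf 3))) (.node (.node (.leaf 0) (.leaf 3)) (.node (.leaf 3) (.leaf 3)))) (.node (.node (.node (.leaf 0) (.leaf 3)) (.node (.leaf 0) (.leaf 3))) (.node (.node (.leaf 0) (.leaf 0)) (.node (.leaf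 3) (.leaf 3))))) (.node (.node (.node (.node (.leaf 0) (.leaf 0)) (.node (.leaf 3) (.leaf 3))) (.node (.node (.leaf 0) (.leaf 0)) (.node (.leaf 3) (.leaf 3)))) (.node (.node (.node (.leaf 3) (.leaf 3)) (.node (.leaf 3) (.leaf 0))) (.node (.node (.leaf 3) (.leaf 3)) (.node (.leaf 3) (.leaf 3)))))) (.node (.node (.node (.node (.node (.leaf 0) (.leaf 0)) (.node (.leaf 3) (.leaf 3))) (.node (.node (.leaf 0) (.leaf 3)) (.node (.leaf 3) (.leaf 3)))) (.node (.node (.node (.leaf 0) (.leaf 0)) (.node (.leaf 3) (.leaf 3))) (.node (.node (.leaf 3) (.leaf 3)) (.node (.leaf 3) (.leaf 3))))) (.node (.node (.node (.node (.leaf 3) (.leaf 3)) (.node (.leaf 0) (.leaf 3))) (.node (.node (.leaf 3) (.leaf 3)) (.node (.leaf 3) (.leaf 3)))) (.node (.node (.node (.leaf 0) (.leaf 0)) (.node (.leaf 3) (.leaf 3))) (.node (.node (.leaf 3) (.leaf 3)) (.node (.leaf 3) (.leaf 3))))))) (.node (.node (.node (.node (.node (.node (.node (.leaf 0) (.leaf 3))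 (.leaf 3)) (.node (.leaf 3) (.leaf 3))) (.node (.node (.leaf 0) (.leaf 3)) (.node (.leaf 0) (.leaf 0)))) (.node (.node (.node (.leaf 0) (.leaf 3)) (.node (.leaf 3) (.leaf 3))) (.node (.node (.leaf 3) (.leaf 3)) (.node (.leaf 3) (.leaf 3))))) (.node (.node (.node (.node (.leaf 0) (.leaf 3)) (.node (.leaf 0) (.leaf 0))) (.node (.node (.leaf 0) (.leaf 3)) (.node (.leaf 3) (.leaf 3)))) (.node (.node (.node (.leaf 0) (.leaf 3)) (.node (.leaf 0) (.leaf 3))) (.node (.node (.leaf 3) (.leaf 3)) (.node (.leaf 3) (.leaf 3)))))) (.node (.node (.node (.node (.node (.leaf 3) (.leaf 3)) (.node (.leaf 3) (.leaf 3))) (.node (.node (.leaf 3) (.leaf 3)) (.node (.leaf 0) (.leaf 3)))) (.node (.node (.node (.leaf 0) (.leaf 3)) (.node (.leaf 0) (.leaf 3))) (.node (.node (.leaf 0) (.leaf 3)) (.node (.leaf 3) (.leaf 3))))) (.node (.node (.node (.node (.leaf 0) (.leaf 0)) (.node (.leaf 0) (.leaf 3))) (.node (.node (.leaf 3) (.leaf 3)) (.node (.leaf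 3) (.leaf 3)))) (.node (.node (.node (.leaf 3) (.leaf 0)) (.node (.leaf 3) (.leaf 3))) (.node (.node (.leaf 0) (.leaf 3)) (.node (.leaf 3) (.leaf 3))))))))))

def twoKind2 : Janko.Tree (ℕ) :=
  (.node (.node (.node (.node (.node (.node (.node (.node (.node (.node (.leaf 0) (.leaf 2)) (.leaf 3)) (.node (.leaf 3) (.leaf 3))) (.node (.node (.leaf 3) (.leaf 3)) (.node (.leaf 3) (.leaf 3)))) (.node (.node (.node (.leaf 0) (.leaf 3)) (.node (.leaf 0) (.leaf 3))) (.node (.node (.leaf 0) (.leaf 3)) (.node (.leaf 3) (.leaf 3))))) (.node (.node (.node (.node (.leaf 0) (.leaf 0)) (.node (.leaf 0) (.leaf 3))) (.node (.node (.leaf 0) (.leaf 3)) (.node (.leaf 3) (.leaf 3)))) (.node (.node (.node (.leaf 3) (.leaf 3)) (.node (.leaf 0) (.leaf 3))) (.node (.node (.leaf 0) (.leaf 3)) (.node (.leaf 0) (.leaf 3)))))) (.node (.node (.node (.node (.node (.leaf 3) (.leaf 0)) (.node (.leaf 0) (.leaf 3))) (.node (.node (.leaf 0) (.leaf 3)) (.node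 (.leaf 3) (.leaf 3)))) (.node (.node (.node (.leaf 0) (.leaf 3)) (.node (.leaf 0) (.leaf 3))) (.node (.node (.leaf 3) (.leaf 3)) (.node (.leaf 3) (.leaf 3))))) (.node (.node (.node (.node (.leaf 0) (.leaf 0)) (.node (.leaf 0) (.leaf 0))) (.node (.node (.leaf 3) (.leaf 3)) (.node (.leaf 3) (.leaf 3)))) (.node (.node (.node (.leaf 0) (.leaf 3)) (.node (.leaf 3) (.leaf 0))) (.node (.node (.leaf 3) (.leaf 3)) (.node (.leaf 3) (.leaf 3))))))) (.node (.node (.node (.node (.node (.node (.node (.leaf 0) (.leaf 3)) (.leaf 3)) (.node (.leaf 0) (.leaf 3))) (.node (.node (.leaf 0) (.leaf 0)) (.node (.leaf 0) (.leaf 3)))) (.node (.node (.node (.leaf 0) (.leaf 3)) (.node (.leaf 3) (.leaf 3))) (.node (.node (.leaf 0) (.leaf 3)) (.node (.leaf 0) (.leaf 0))))) (.node (.node (.node (.node (.leaf 0) (.leaf 0)) (.node (.leaf 0) (.leaf 3))) (.node (.node (.leaf 0) (.leaf 0)) (.node (.leaf 3) (.leaf 3)))) (.node (.node (.node (.leaf 0) (.leaf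 3)) (.node (.leaf 0) (.leaf 3))) (.node (.node (.leaf 0) (.leaf 3)) (.node (.leaf 3) (.leaf 3)))))) (.node (.node (.node (.node (.node (.leaf 0) (.leaf 3)) (.node (.leaf 2) (.leaf 3))) (.node (.node (.leaf 3) (.leaf 0)) (.node (.leaf 0) (.leaf 3)))) (.node (.node (.node (.leaf 0) (.leaf 0)) (.node (.leaf 0) (.leaf 3))) (.node (.node (.leaf 0) (.leaf 3)) (.node (.leaf 3) (.leaf 3))))) (.node (.node (.node (.node (.leaf 0) (.leaf 3)) (.node (.leaf 3) (.leaf 0))) (.node (.node (.leaf 3) (.leaf 3)) (.node (.leaf 3) (.leaf 3)))) (.node (.node (.node (.leaf 3) (.leaf 3)) (.node (.leaf 3) (.leaf 3))) (.node (.node (.leaf 0) (.leaf 3)) (.node (.leaf 3) (.leaf 3)))))))) (.node (.node (.node (.node (.node (.node (.node (.node (.leaf 0) (.leaf 3)) (.leaf 3)) (.node (.leaf 3) (.leaf 3))) (.node (.node (.leaf 0) (.leaf 3)) (.node (.leaf 3) (.leaf 3)))) (.node (.node (.node (.leaf 3) (.leaf 3)) (.node (.leaf 0) (.leaf 3))) (.node (.node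 (.leaf 3) (.leaf 3)) (.node (.leaf 0) (.leaf 3))))) (.node (.node (.node (.node (.leaf 3) (.leaf 3)) (.node (.leaf 3) (.leaf 3))) (.node (.node (.leaf 3) (.leaf 3)) (.node (.leaf 0) (.leaf 3)))) (.node (.node (.node (.leaf 0) (.leaf 3)) (.node (.leaf 0) (.leaf 3))) (.node (.node (.leaf 3) (.leaf 3)) (.node (.leaf 3) (.leaf 3)))))) (.node (.node (.node (.node (.node (.leaf 0) (.leaf 3)) (.node (.leaf 3) (.leaf 0))) (.node (.node (.leaf 0) (.leaf 3)) (.node (.leaf 3) (.leaf 3)))) (.node (.node (.node (.leaf 0) (.leaf 3)) (.node (.leaf 3) (.leaf 3))) (.node (.node (.leaf 3) (.leaf 3)) (.node (.leaf 0) (.leaf 3))))) (.node (.node (.node (.node (.leaf 0) (.leaf 3)) (.node (.leaf 0) (.leaf 0))) (.node (.node (.leaf 3) (.leaf 3)) (.node (.leaf 3) (.leaf 3)))) (.node (.node (.node (.leaf 0) (.leaf 3)) (.node (.leaf 3) (.leaf 3))) (.node (.node (.leaf 3) (.leaf 3)) (.node (.leaf 3) (.leaf 3))))))) (.node (.node (.node (.node (.node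 (.node (.node (.leaf 0) (.leaf 3)) (.leaf 3)) (.node (.leaf 0) (.leaf 0))) (.node (.node (.leaf 0) (.leaf 3)) (.node (.leaf 0) (.leaf 3)))) (.node (.node (.node (.leaf 0) (.leaf 3)) (.node (.leaf 0) (.leaf 3))) (.node (.node (.leaf 0) (.leaf 3)) (.node (.leaf 0) (.leaf 3))))) (.node (.node (.node (.node (.leaf 3) (.leaf 3)) (.node (.leaf 0) (.leaf 3))) (.node (.node (.leaf 0) (.leaf 3)) (.node (.leaf 3) (.leaf 3)))) (.node (.node (.node (.leaf 3) (.leaf 3)) (.node (.leaf 0) (.leaf 3))) (.node (.node (.leaf 3) (.leaf 3)) (.node (.leaf 3) (.leaf 3)))))) (.node (.node (.node (.node (.node (.leaf 0) (.leaf 3)) (.node (.leaf 3) (.leaf 3))) (.node (.node (.leaf 0) (.leaf 0)) (.node (.leaf 0) (.leaf 3)))) (.node (.node (.node (.leaf 0) (.leaf 3)) (.node (.leaf 3) (.leaf 3))) (.node (.node (.leaf 3) (.leaf 3)) (.node (.leaf 3) (.leaf 3))))) (.node (.node (.node (.node (.leaf 3) (.leaf 3)) (.node (.leaf 3) (.leaf 3))) (.node (.node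 (.leaf 0) (.leaf 3)) (.node (.leaf 3) (.leaf 3)))) (.node (.node (.node (.leaf 3) (.leaf 3)) (.node (.leaf 0) (.leaf 3))) (.node (.node (.leaf 3) (.leaf 3)) (.node (.leaf 3) (.leaf 3))))))))) (.node (.node (.node (.node (.node (.node (.node (.node (.node (.leaf 0) (.leaf 3)) (.leaf 0)) (.node (.leaf 3) (.leaf 3))) (.node (.node (.leaf 3) (.leaf 3)) (.node (.leaf 3) (.leaf 3)))) (.node (.node (.node (.leaf 3) (.leaf 3)) (.node (.leaf 3) (.leaf 3))) (.node (.node (.leaf 3) (.leaf 3)) (.node (.leaf 0) (.leaf 3))))) (.node (.node (.node (.node (.leaf 3) (.leaf 3)) (.node (.leaf 3) (.leaf 3))) (.node (.node (.leaf 0) (.leaf 3)) (.node (.leaf 0) (.leaf 3)))) (.node (.node (.node (.leaf 3) (.leaf 0)) (.node (.leaf 3) (.leaf 3))) (.node (.node (.leaf 3) (.leaf 3)) (.node (.leaf 3) (.leaf 3)))))) (.node (.node (.node (.node (.node (.leaf 3) (.leaf 3)) (.node (.leaf 3) (.leaf 0))) (.node (.node (.leaf 0) (.leaf 3)) (.node (.leaf 3)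 (.leaf 3)))) (.node (.node (.node (.leaf 0) (.leaf 3)) (.node (.leaf 0) (.leaf 3))) (.node (.node (.leaf 0) (.leaf 3)) (.node (.leaf 0) (.leaf 3))))) (.node (.node (.node (.node (.leaf 0) (.leaf 3)) (.node (.leaf 3) (.leaf 3))) (.node (.node (.leaf 0) (.leaf 3)) (.node (.leaf 3) (.leaf 3)))) (.node (.node (.node (.leaf 0) (.leaf 3)) (.node (.leaf 3) (.leaf 3))) (.node (.node (.leaf 0) (.leaf 3)) (.node (.leaf 3) (.leaf 3))))))) (.node (.node (.node (.node (.node (.node (.node (.leaf 0) (.leaf 3)) (.leaf 0)) (.node (.leaf 3) (.leaf 3))) (.node (.node (.leaf 0) (.leaf 3)) (.node (.leaf 3) (.leaf 3)))) (.node (.node (.node (.leaf 3) (.leaf 0)) (.node (.leaf 3) (.leaf 3))) (.node (.node (.leaf 3) (.leaf 3)) (.node (.leaf 3) (.leaf 3))))) (.node (.node (.node (.node (.leaf 3) (.leaf 3)) (.node (.leaf 0) (.leaf 3))) (.node (.node (.leaf 0) (.leaf 0)) (.node (.leaf 3) (.leaf 3)))) (.node (.node (.node (.leaf 0) (.leaf 3)) (.node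 (.leaf 3) (.leaf 3))) (.node (.node (.leaf 3) (.leaf 3)) (.node (.leaf 3) (.leaf 3)))))) (.node (.node (.node (.node (.node (.leaf 0) (.leaf 0)) (.node (.leaf 3) (.leaf 3))) (.node (.node (.leaf 3) (.leaf 0)) (.node (.leaf 3) (.leaf 3)))) (.node (.node (.node (.leaf 0) (.leaf 0)) (.node (.leaf 0) (.leaf 3))) (.node (.node (.leaf 0) (.leaf 3)) (.node (.leaf 3) (.leaf 3))))) (.node (.node (.node (.node (.leaf 3) (.leaf 3)) (.node (.leaf 0) (.leaf 3))) (.node (.node (.leaf 3) (.leaf 3)) (.node (.leaf 3) (.leaf 3)))) (.node (.node (.node (.leaf 0) (.leaf 3)) (.node (.leaf 3) (.leaf 3))) (.node (.node (.leaf 0) (.leaf 0)) (.node (.leaf 3) (.leaf 3)))))))) (.node (.node (.node (.node (.node (.node (.node (.node (.leaf 3) (.leaf 3)) (.leaf 3)) (.node (.leaf 3) (.leaf 3))) (.node (.node (.leaf 0) (.leaf 3)) (.node (.leaf 3) (.leaf 3)))) (.node (.node (.node (.leaf 3) (.leaf 3)) (.node (.leaf 3) (.leaf 3))) (.node (.node (.leaf 3)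 (.leaf 3)) (.node (.leaf 0) (.leaf 3))))) (.node (.node (.node (.node (.leaf 0) (.leaf 3)) (.node (.leaf 0) (.leaf 3))) (.node (.node (.leaf 3) (.leaf 3)) (.node (.leaf 0) (.leaf 3)))) (.node (.node (.node (.leaf 0) (.leaf 3)) (.node (.leaf 3) (.leaf 3))) (.node (.node (.leaf 3) (.leaf 3)) (.node (.leaf 3) (.leaf 3)))))) (.node (.node (.node (.node (.node (.leaf 0) (.leaf 3)) (.node (.leaf 3) (.leaf 0))) (.node (.node (.leaf 0) (.leaf 3)) (.node (.leaf 3) (.leaf 3)))) (.node (.node (.node (.leaf 3) (.leaf 3)) (.node (.leaf 3) (.leaf 3))) (.node (.node (.leaf 0) (.leaf 3)) (.node (.leaf 0) (.leaf 3))))) (.node (.node (.node (.node (.leaf 0) (.leaf 3)) (.node (.leaf 0) (.leaf 3))) (.node (.node (.leaf 0) (.leaf 3)) (.node (.leaf 3) (.leaf 3)))) (.node (.node (.node (.leaf 3) (.leaf 3)) (.node (.leaf 3) (.leaf 3))) (.node (.node (.leaf 0) (.leaf 0)) (.node (.leaf 3) (.leaf 3))))))) (.node (.node (.node (.node (.node (.node (.node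 (.leaf 0) (.leaf 3)) (.leaf 3)) (.node (.leaf 3) (.leaf 3))) (.node (.node (.leaf 3) (.leaf 3)) (.node (.leaf 3) (.leaf 3)))) (.node (.node (.node (.leaf 0) (.leaf 0)) (.node (.leaf 0) (.leaf 3))) (.node (.node (.leaf 3) (.leaf 3)) (.node (.leaf 3) (.leaf 3))))) (.node (.node (.node (.node (.leaf 3) (.leaf 3)) (.node (.leaf 3) (.leaf 3))) (.node (.node (.leaf 3) (.leaf 0)) (.node (.leaf 3) (.leaf 3)))) (.node (.node (.node (.leaf 3) (.leaf 3)) (.node (.leaf 3) (.leaf 3))) (.node (.node (.leaf 0) (.leaf 3)) (.node (.leaf 3) (.leaf 3)))))) (.node (.node (.node (.node (.node (.leaf 0) (.leaf 3)) (.node (.leaf 3) (.leaf 3))) (.node (.node (.leaf 0) (.leaf 3)) (.node (.leaf 0) (.leaf 3)))) (.node (.node (.node (.leaf 0) (.leaf 0)) (.node (.leaf 3) (.leaf 0))) (.node (.node (.leaf 3) (.leaf 3)) (.node (.leaf 3) (.leaf 3))))) (.node (.node (.node (.node (.leaf 0) (.leaf 0)) (.node (.leaf 3) (.leaf 3))) (.node (.node (.leaf 3) (.leaf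 3)) (.node (.leaf 3) (.leaf 3)))) (.node (.node (.node (.leaf 0) (.leaf 3)) (.node (.leaf 3) (.leaf 3))) (.node (.node (.leaf 0) (.leaf 3)) (.node (.leaf 3) (.leaf 3))))))))))

def twoKind3 : Janko.Tree (ℕ) :=
  (.node (.node (.node (.node (.node (.node (.node (.node (.node (.node (.leaf 0) (.leaf 2)) (.leaf 3)) (.node (.leaf 3) (.leaf 3))) (.node (.node (.leaf 3) (.leaf 3)) (.node (.leaf 3) (.leaf 3)))) (.node (.node (.node (.leaf 3) (.leaf 3)) (.node (.leaf 0) (.leaf 3))) (.node (.node (.leaf 3) (.leaf 3)) (.node (.leaf 0) (.leaf 3))))) (.node (.node (.node (.node (.leaf 3) (.leaf 0)) (.node (.leaf 3) (.leaf 3))) (.node (.node (.leaf 3) (.leaf 3)) (.node (.leaf 0) (.leaf 3)))) (.node (.node (.node (.leaf 3) (.leaf 0)) (.node (.leaf 0) (.leaf 3))) (.node (.node (.leaf 0) (.leaf 3)) (.node (.leaf 3) (.leaf 3)))))) (.node (.node (.node (.node (.node (.leaf 0) (.leaf 0)) (.node (.leaf 3) (.leaf 3))) (.node (.node (.leaf 0)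 (.leaf 3)) (.node (.leaf 3) (.leaf 3)))) (.node (.node (.node (.leaf 0) (.leaf 3)) (.node (.leaf 0) (.leaf 3))) (.node (.node (.leaf 0) (.leaf 0)) (.node (.leaf 3) (.leaf 3))))) (.node (.node (.node (.node (.leaf 0) (.leaf 0)) (.node (.leaf 3) (.leaf 3))) (.node (.node (.leaf 0) (.leaf 3)) (.node (.leaf 3) (.leaf 3)))) (.node (.node (.node (.leaf 3) (.leaf 3)) (.node (.leaf 3) (.leaf 0))) (.node (.node (.leaf 3) (.leaf 3)) (.node (.leaf 0) (.leaf 3))))))) (.node (.node (.node (.node (.node (.node (.node (.leaf 0) (.leaf 3)) (.leaf 3)) (.node (.leaf 0) (.leaf 3))) (.node (.node (.leaf 0) (.leaf 3)) (.node (.leaf 0) (.leaf 3)))) (.node (.node (.node (.leaf 0) (.leaf 0)) (.node (.leaf 3) (.leaf 3))) (.node (.node (.leaf 0) (.leaf 3)) (.node (.leaf 3) (.leaf 3))))) (.node (.node (.node (.node (.leaf 3) (.leaf 0)) (.node (.leaf 3) (.leaf 3))) (.node (.node (.leaf 3) (.leaf 0)) (.node (.leaf 3) (.leaf 3)))) (.node (.node (.node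 (.leaf 3) (.leaf 3)) (.node (.leaf 3) (.leaf 3))) (.node (.node (.leaf 3) (.leaf 0)) (.node (.leaf 3) (.leaf 3)))))) (.node (.node (.node (.node (.node (.leaf 0) (.leaf 3)) (.node (.leaf 3) (.leaf 3))) (.node (.node (.leaf 3) (.leaf 0)) (.node (.leaf 3) (.leaf 3)))) (.node (.node (.node (.leaf 0) (.leaf 0)) (.node (.leaf 0) (.leaf 3))) (.node (.node (.leaf 3) (.leaf 3)) (.node (.leaf 3) (.leaf 3))))) (.node (.node (.node (.node (.leaf 3) (.leaf 0)) (.node (.leaf 0) (.leaf 0))) (.node (.node (.leaf 3) (.leaf 3)) (.node (.leaf 3) (.leaf 0)))) (.node (.node (.node (.leaf 0) (.leaf 3)) (.node (.leaf 3) (.leaf 3))) (.node (.node (.leaf 0) (.leaf 3)) (.node (.leaf 3) (.leaf 3)))))))) (.node (.node (.node (.node (.node (.node (.node (.node (.leaf 3) (.leaf 2)) (.leaf 3)) (.node (.leaf 3) (.leaf 3))) (.node (.node (.leaf 0) (.leaf 3)) (.node (.leaf 3) (.leaf 3)))) (.node (.node (.node (.leaf 0) (.leaf 3)) (.node (.leaf 3) (.leaf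 3))) (.node (.node (.leaf 0) (.leaf 3)) (.node (.leaf 0) (.leaf 3))))) (.node (.node (.node (.node (.leaf 3) (.leaf 3)) (.node (.leaf 3) (.leaf 3))) (.node (.node (.leaf 0) (.leaf 3)) (.node (.leaf 3) (.leaf 3)))) (.node (.node (.node (.leaf 0) (.leaf 3)) (.node (.leaf 0) (.leaf 3))) (.node (.node (.leaf 3) (.leaf 0)) (.node (.leaf 3) (.leaf 3)))))) (.node (.node (.node (.node (.node (.leaf 0) (.leaf 3)) (.node (.leaf 3) (.leaf 3))) (.node (.node (.leaf 0) (.leaf 3)) (.node (.leaf 3) (.leaf 3)))) (.node (.node (.node (.leaf 3) (.leaf 3)) (.node (.leaf 3) (.leaf 3))) (.node (.node (.leaf 0) (.leaf 3)) (.node (.leaf 3) (.leaf 3))))) (.node (.node (.node (.node (.leaf 3) (.leaf 3)) (.node (.leaf 3) (.leaf 3))) (.node (.node (.leaf 3) (.leaf 0)) (.node (.leaf 3) (.leaf 3)))) (.node (.node (.node (.leaf 3) (.leaf 3)) (.node (.leaf 3) (.leaf 3))) (.node (.node (.leaf 0) (.leaf 3)) (.node (.leaf 0) (.leaf 3))))))) (.node (.node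 (.node (.node (.node (.node (.node (.leaf 0) (.leaf 3)) (.leaf 0)) (.node (.leaf 0) (.leaf 0))) (.node (.node (.leaf 3) (.leaf 3)) (.node (.leaf 3) (.leaf 3)))) (.node (.node (.node (.leaf 0) (.leaf 0)) (.node (.leaf 3) (.leaf 3))) (.node (.node (.leaf 0) (.leaf 3)) (.node (.leaf 3) (.leaf 3))))) (.node (.node (.node (.node (.leaf 0) (.leaf 3)) (.node (.leaf 3) (.leaf 3))) (.node (.node (.leaf 3) (.leaf 3)) (.node (.leaf 3) (.leaf 3)))) (.node (.node (.node (.leaf 0) (.leaf 0)) (.node (.leaf 3) (.leaf 3))) (.node (.node (.leaf 0) (.leaf 3)) (.node (.leaf 0) (.leaf 3)))))) (.node (.node (.node (.node (.node (.leaf 3) (.leaf 0)) (.node (.leaf 3) (.leaf 3))) (.node (.node (.leaf 0) (.leaf 3)) (.node (.leaf 3) (.leaf 3)))) (.node (.node (.node (.leaf 0) (.leaf 3)) (.node (.leaf 3) (.leaf 3))) (.node (.node (.leaf 3) (.leaf 3)) (.node (.leaf 3) (.leaf 3))))) (.node (.node (.node (.node (.leaf 3) (.leaf 0)) (.node (.leaf 3) (.leaf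 3))) (.node (.node (.leaf 0) (.leaf 3)) (.node (.leaf 0) (.leaf 3)))) (.node (.node (.node (.leaf 3) (.leaf 3)) (.node (.leaf 3) (.leaf 3))) (.node (.node (.leaf 3) (.leaf 3)) (.node (.leaf 3) (.leaf 3))))))))) (.node (.node (.node (.node (.node (.node (.node (.node (.node (.leaf 0) (.leaf 2)) (.leaf 3)) (.node (.leaf 3) (.leaf 0))) (.node (.node (.leaf 0) (.leaf 3)) (.node (.leaf 0) (.leaf 3)))) (.node (.node (.node (.leaf 0) (.leaf 3)) (.node (.leaf 0) (.leaf 3))) (.node (.node (.leaf 0) (.leaf 3)) (.node (.leaf 3) (.leaf 0))))) (.node (.node (.node (.node (.leaf 0) (.leaf 3)) (.node (.leaf 0) (.leaf 3))) (.node (.node (.leaf 3) (.leaf 3)) (.node (.leaf 0) (.leaf 3)))) (.node (.node (.node (.leaf 0) (.leaf 0)) (.node (.leaf 0) (.leaf 3))) (.node (.node (.leaf 3) (.leaf 3)) (.node (.leaf 3) (.leaf 3)))))) (.node (.node (.node (.node (.node (.leaf 0) (.leaf 3)) (.node (.leaf 3) (.leaf 0))) (.node (.node (.leaf 0) (.leaf 0))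 (.node (.leaf 0) (.leaf 3)))) (.node (.node (.node (.leaf 0) (.leaf 3)) (.node (.leaf 3) (.leaf 0))) (.node (.node (.leaf 0) (.leaf 0)) (.node (.leaf 0) (.leaf 3))))) (.node (.node (.node (.node (.leaf 0) (.leaf 3)) (.node (.leaf 0) (.leaf 3))) (.node (.node (.leaf 0) (.leaf 3)) (.node (.leaf 3) (.leaf 3)))) (.node (.node (.node (.leaf 0) (.leaf 3)) (.node (.leaf 3) (.leaf 3))) (.node (.node (.leaf 3) (.leaf 3)) (.node (.leaf 3) (.leaf 3))))))) (.node (.node (.node (.node (.node (.node (.node (.leaf 3) (.leaf 3)) (.leaf 0)) (.node (.leaf 3) (.leaf 0))) (.node (.node (.leaf 0) (.leaf 3)) (.node (.leaf 3) (.leaf 3)))) (.node (.node (.node (.leaf 0) (.leaf 0)) (.node (.leaf 3) (.leaf 3))) (.node (.node (.leaf 0) (.leaf 3)) (.node (.leaf 3) (.leaf 3))))) (.node (.node (.node (.node (.leaf 0) (.leaf 0)) (.node (.leaf 3) (.leaf 0))) (.node (.node (.leaf 0) (.leaf 0)) (.node (.leaf 3) (.leaf 3)))) (.node (.node (.node (.leaf 3)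 (.leaf 3)) (.node (.leaf 0) (.leaf 3))) (.node (.node (.leaf 0) (.leaf 3)) (.node (.leaf 3) (.leaf 3)))))) (.node (.node (.node (.node (.node (.leaf 0) (.leaf 0)) (.node (.leaf 3) (.leaf 3))) (.node (.node (.leaf 0) (.leaf 3)) (.node (.leaf 0) (.leaf 3)))) (.node (.node (.node (.leaf 0) (.leaf 0)) (.node (.leaf 3) (.leaf 3))) (.node (.node (.leaf 3) (.leaf 3)) (.node (.leaf 3) (.leaf 3))))) (.node (.node (.node (.node (.leaf 0) (.leaf 3)) (.node (.leaf 3) (.leaf 3))) (.node (.node (.leaf 3) (.leaf 3)) (.node (.leaf 3) (.leaf 3)))) (.node (.node (.node (.leaf 0) (.leaf 3)) (.node (.leaf 0) (.leaf 3))) (.node (.node (.leaf 3) (.leaf 3)) (.node (.leaf 0) (.leaf 3)))))))) (.node (.node (.node (.node (.node (.node (.node (.node (.leaf 0) (.leaf 2)) (.leaf 3)) (.node (.leaf 0) (.leaf 3))) (.node (.node (.leaf 3) (.leaf 0)) (.node (.leaf 3) (.leaf 3)))) (.node (.node (.node (.leaf 0) (.leaf 3)) (.node (.leaf 3) (.leaf 3))) (.node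 (.node (.leaf 0) (.leaf 3)) (.node (.leaf 3) (.leaf 3))))) (.node (.node (.node (.node (.leaf 0) (.leaf 0)) (.node (.leaf 0) (.leaf 0))) (.node (.node (.leaf 0) (.leaf 0)) (.node (.leaf 3) (.leaf 3)))) (.node (.node (.node (.leaf 0) (.leaf 3)) (.node (.leaf 3) (.leaf 3))) (.node (.node (.leaf 3) (.leaf 3)) (.node (.leaf 3) (.leaf 3)))))) (.node (.node (.node (.node (.node (.leaf 3) (.leaf 3)) (.node (.leaf 0) (.leaf 3))) (.node (.node (.leaf 3) (.leaf 3)) (.node (.leaf 3) (.leaf 3)))) (.node (.node (.node (.leaf 0) (.leaf 0)) (.node (.leaf 3) (.leaf 3))) (.node (.node (.leaf 3) (.leaf 0)) (.node (.leaf 3) (.leaf 3))))) (.node (.node (.node (.node (.leaf 0) (.leaf 3)) (.node (.leaf 3) (.leaf 3))) (.node (.node (.leaf 0) (.leaf 3)) (.node (.leaf 3) (.leaf 3)))) (.node (.node (.node (.leaf 3) (.leaf 3)) (.node (.leaf 0) (.leaf 3))) (.node (.node (.leaf 0) (.leaf 3)) (.node (.leaf 3) (.leaf 3))))))) (.node (.node (.node (.node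 (.node (.node (.node (.leaf 3) (.leaf 3)) (.leaf 3)) (.node (.leaf 3) (.leaf 0))) (.node (.node (.leaf 0) (.leaf 3)) (.node (.leaf 3) (.leaf 3)))) (.node (.node (.node (.leaf 3) (.leaf 0)) (.node (.leaf 0) (.leaf 3))) (.node (.node (.leaf 0) (.leaf 3)) (.node (.leaf 3) (.leaf 3))))) (.node (.node (.node (.node (.leaf 0) (.leaf 3)) (.node (.leaf 3) (.leaf 3))) (.node (.node (.leaf 3) (.leaf 0)) (.node (.leaf 3) (.leaf 3)))) (.node (.node (.node (.leaf 0) (.leaf 3)) (.node (.leaf 3) (.leaf 3))) (.node (.node (.leaf 3) (.leaf 3)) (.node (.leaf 3) (.leaf 3)))))) (.node (.node (.node (.node (.node (.leaf 0) (.leaf 3)) (.node (.leaf 3) (.leaf 3))) (.node (.node (.leaf 0) (.leaf 3)) (.node (.leaf 3) (.leaf 3)))) (.node (.node (.node (.leaf 3) (.leaf 3)) (.node (.leaf 0) (.leaf 3))) (.node (.node (.leaf 0) (.leaf 3)) (.node (.leaf 3) (.leaf 3))))) (.node (.node (.node (.node (.leaf 0) (.leaf 3)) (.node (.leaf 0) (.leaf 3))) (.node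 (.node (.leaf 3) (.leaf 3)) (.node (.leaf 3) (.leaf 3)))) (.node (.node (.node (.leaf 0) (.leaf 3)) (.node (.leaf 3) (.leaf 3))) (.node (.node (.leaf 3) (.leaf 0)) (.node (.leaf 3) (.leaf 3))))))))))

def twoKind4 : Janko.Tree (ℕ) :=
  (.node (.node (.node (.node (.node (.node (.node (.node (.node (.node (.leaf 3) (.leaf 2)) (.leaf 3)) (.node (.leaf 0) (.leaf 3))) (.node (.node (.leaf 0) (.leaf 3)) (.node (.leaf 3) (.leaf 3)))) (.node (.node (.node (.leaf 0) (.leaf 3)) (.node (.leaf 3) (.leaf 3))) (.node (.node (.leaf 3) (.leaf 0)) (.node (.leaf 3) (.leaf 3))))) (.node (.node (.node (.node (.leaf 0) (.leaf 3)) (.node (.leaf 3) (.leaf 3))) (.node (.node (.leaf 3) (.leaf 3)) (.node (.leaf 3) (.leaf 3)))) (.node (.node (.node (.leaf 3) (.leaf 3)) (.node (.leaf 3) (.leaf 0))) (.node (.node (.leaf 3) (.leaf 3)) (.node (.leaf 0) (.leaf 3)))))) (.node (.node (.node (.node (.node (.leaf 3) (.leaf 3)) (.node (.leaf 3) (.leaf 3)))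 (.node (.node (.leaf 3) (.leaf 3)) (.node (.leaf 3) (.leaf 3)))) (.node (.node (.node (.leaf 3) (.leaf 3)) (.node (.leaf 3) (.leaf 3))) (.node (.node (.leaf 3) (.leaf 3)) (.node (.leaf 3) (.leaf 3))))) (.node (.node (.node (.node (.leaf 3) (.leaf 3)) (.node (.leaf 3) (.leaf 3))) (.node (.node (.leaf 3) (.leaf 3)) (.node (.leaf 3) (.leaf 3)))) (.node (.node (.node (.leaf 3) (.leaf 3)) (.node (.leaf 3) (.leaf 3))) (.node (.node (.leaf 3) (.leaf 3)) (.node (.leaf 3) (.leaf 3))))))) (.node (.node (.node (.node (.node (.node (.node (.leaf 0) (.leaf 3)) (.leaf 3)) (.node (.leaf 3) (.leaf 3))) (.node (.node (.leaf 3) (.leaf 3)) (.node (.leaf 0) (.leaf 3)))) (.node (.node (.node (.leaf 3) (.leaf 3)) (.node (.leaf 3) (.leaf 3))) (.node (.node (.leaf 3) (.leaf 0)) (.node (.leaf 3) (.leaf 3))))) (.node (.node (.node (.node (.leaf 0) (.leaf 3)) (.node (.leaf 3) (.leaf 3))) (.node (.node (.leaf 3) (.leaf 3)) (.node (.leaf 0) (.leaf 3))))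 (.node (.node (.node (.leaf 3) (.leaf 3)) (.node (.leaf 3) (.leaf 3))) (.node (.node (.leaf 0) (.leaf 3)) (.node (.leaf 3) (.leaf 3)))))) (.node (.node (.node (.node (.node (.leaf 3) (.leaf 3)) (.node (.leaf 3) (.leaf 3))) (.node (.node (.leaf 3) (.leaf 3)) (.node (.leaf 0) (.leaf 3)))) (.node (.node (.node (.leaf 3) (.leaf 3)) (.node (.leaf 3) (.leaf 3))) (.node (.node (.leaf 3) (.leaf 3)) (.node (.leaf 3) (.leaf 3))))) (.node (.node (.node (.node (.leaf 0) (.leaf 3)) (.node (.leaf 3) (.leaf 3))) (.node (.node (.leaf 0) (.leaf 3)) (.node (.leaf 3) (.leaf 3)))) (.node (.node (.node (.leaf 3) (.leaf 3)) (.node (.leaf 3) (.leaf 3))) (.node (.node (.leaf 3) (.leaf 3)) (.node (.leaf 3) (.leaf 3)))))))) (.node (.node (.node (.node (.node (.node (.node (.node (.leaf 0) (.leaf 3)) (.leaf 3)) (.node (.leaf 3) (.leaf 3))) (.node (.node (.leaf 3) (.leaf 3)) (.node (.leaf 3) (.leaf 3)))) (.node (.node (.node (.leaf 3) (.leaf 3)) (.node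 (.leaf 0) (.leaf 3))) (.node (.node (.leaf 3) (.leaf 3)) (.node (.leaf 3) (.leaf 3))))) (.node (.node (.node (.node (.leaf 3) (.leaf 3)) (.node (.leaf 3) (.leaf 3))) (.node (.node (.leaf 3) (.leaf 3)) (.node (.leaf 3) (.leaf 3)))) (.node (.node (.node (.leaf 3) (.leaf 3)) (.node (.leaf 3) (.leaf 3))) (.node (.node (.leaf 3) (.leaf 3)) (.node (.leaf 3) (.leaf 3)))))) (.node (.node (.node (.node (.node (.leaf 0) (.leaf 3)) (.node (.leaf 3) (.leaf 3))) (.node (.node (.leaf 3) (.leaf 3)) (.node (.leaf 3) (.leaf 3)))) (.node (.node (.node (.leaf 3) (.leaf 3)) (.node (.leaf 3) (.leaf 3))) (.node (.node (.leaf 3) (.leaf 3)) (.node (.leaf 3) (.leaf 3))))) (.node (.node (.node (.node (.leaf 3) (.leaf 3)) (.node (.leaf 3) (.leaf 3))) (.node (.node (.leaf 3) (.leaf 3)) (.node (.leaf 3) (.leaf 3)))) (.node (.node (.node (.leaf 0) (.leaf 3)) (.node (.leaf 3) (.leaf 3))) (.node (.node (.leaf 3) (.leaf 3)) (.node (.leaf 3) (.leaf 3)))))))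 (.node (.node (.node (.node (.node (.node (.node (.leaf 3) (.leaf 3)) (.leaf 3)) (.node (.leaf 3) (.leaf 3))) (.node (.node (.leaf 3) (.leaf 3)) (.node (.leaf 3) (.leaf 3)))) (.node (.node (.node (.leaf 3) (.leaf 3)) (.node (.leaf 3) (.leaf 3))) (.node (.node (.leaf 3) (.leaf 3)) (.node (.leaf 3) (.leaf 3))))) (.node (.node (.node (.node (.leaf 3) (.leaf 3)) (.node (.leaf 3) (.leaf 3))) (.node (.node (.leaf 0) (.leaf 3)) (.node (.leaf 3) (.leaf 3)))) (.node (.node (.node (.leaf 3) (.leaf 3)) (.node (.leaf 3) (.leaf 3))) (.node (.node (.leaf 3) (.leaf 3)) (.node (.leaf 3) (.leaf 3)))))) (.node (.node (.node (.node (.node (.leaf 3) (.leaf 3)) (.node (.leaf 3) (.leaf 0))) (.node (.node (.leaf 3) (.leaf 3)) (.node (.leaf 3) (.leaf 3)))) (.node (.node (.node (.leaf 3) (.leaf 3)) (.node (.leaf 3) (.leaf 3))) (.node (.node (.leaf 3) (.leaf 0)) (.node (.leaf 3) (.leaf 3))))) (.node (.node (.node (.node (.leaf 3) (.leaf 3)) (.node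 (.leaf 3) (.leaf 3))) (.node (.node (.leaf 3) (.leaf 3)) (.node (.leaf 3) (.leaf 3)))) (.node (.node (.node (.leaf 3) (.leaf 3)) (.node (.leaf 3) (.leaf 3))) (.node (.node (.leaf 3) (.leaf 3)) (.node (.leaf 3) (.leaf 3))))))))) (.node (.node (.node (.node (.node (.node (.node (.node (.node (.leaf 0) (.leaf 2)) (.leaf 3)) (.node (.leaf 3) (.leaf 3))) (.node (.node (.leaf 0) (.leaf 0)) (.node (.leaf 3) (.leaf 3)))) (.node (.node (.node (.leaf 0) (.leaf 3)) (.node (.leaf 3) (.leaf 3))) (.node (.node (.leaf 3) (.leaf 3)) (.node (.leaf 3) (.leaf 3))))) (.node (.node (.node (.node (.leaf 0) (.leaf 3)) (.node (.leaf 3) (.leaf 3))) (.node (.node (.leaf 0) (.leaf 3)) (.node (.leaf 3) (.leaf 3)))) (.node (.node (.node (.leaf 3) (.leaf 3)) (.node (.leaf 3) (.leaf 3))) (.node (.node (.leaf 3) (.leaf 3)) (.node (.leaf 3) (.leaf 3)))))) (.node (.node (.node (.node (.node (.leaf 0) (.leaf 0)) (.node (.leaf 3) (.leaf 3))) (.node (.node (.leaf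 3) (.leaf 3)) (.node (.leaf 3) (.leaf 3)))) (.node (.node (.node (.leaf 3) (.leaf 3)) (.node (.leaf 3) (.leaf 3))) (.node (.node (.leaf 3) (.leaf 3)) (.node (.leaf 3) (.leaf 3))))) (.node (.node (.node (.node (.leaf 0) (.leaf 3)) (.node (.leaf 3) (.leaf 3))) (.node (.node (.leaf 3) (.leaf 3)) (.node (.leaf 3) (.leaf 3)))) (.node (.node (.node (.leaf 3) (.leaf 3)) (.node (.leaf 3) (.leaf 3))) (.node (.node (.leaf 0) (.leaf 3)) (.node (.leaf 3) (.leaf 3))))))) (.node (.node (.node (.node (.node (.node (.node (.leaf 3) (.leaf 3)) (.leaf 3)) (.node (.leaf 3) (.leaf 3))) (.node (.node (.leaf 3) (.leaf 3)) (.node (.leaf 3) (.leaf 3)))) (.node (.node (.node (.leaf 0) (.leaf 3)) (.node (.leaf 0) (.leaf 3))) (.node (.node (.leaf 3) (.leaf 3)) (.node (.leaf 3) (.leaf 3))))) (.node (.node (.node (.node (.leaf 0) (.leaf 3)) (.node (.leaf 3) (.leaf 3))) (.node (.node (.leaf 3) (.leaf 3)) (.node (.leaf 0) (.leaf 3)))) (.node (.node (.node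 (.leaf 0) (.leaf 3)) (.node (.leaf 3) (.leaf 3))) (.node (.node (.leaf 3) (.leaf 3)) (.node (.leaf 3) (.leaf 3)))))) (.node (.node (.node (.node (.node (.leaf 0) (.leaf 3)) (.node (.leaf 3) (.leaf 3))) (.node (.node (.leaf 3) (.leaf 3)) (.node (.leaf 3) (.leaf 3)))) (.node (.node (.node (.leaf 3) (.leaf 3)) (.node (.leaf 3) (.leaf 3))) (.node (.node (.leaf 3) (.leaf 3)) (.node (.leaf 3) (.leaf 3))))) (.node (.node (.node (.node (.leaf 0) (.leaf 3)) (.node (.leaf 3) (.leaf 3))) (.node (.node (.leaf 3) (.leaf 3)) (.node (.leaf 3) (.leaf 3)))) (.node (.node (.node (.leaf 3) (.leaf 3)) (.node (.leaf 3) (.leaf 3))) (.node (.node (.leaf 3) (.leaf 3)) (.node (.leaf 3) (.leaf 3)))))))) (.node (.node (.node (.node (.node (.node (.node (.node (.leaf 0) (.leaf 3)) (.leaf 3)) (.node (.leaf 3) (.leaf 3))) (.node (.node (.leaf 3) (.leaf 3)) (.node (.leaf 3) (.leaf 3)))) (.node (.node (.node (.leaf 3) (.leaf 3)) (.node (.leaf 3) (.leaf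 3))) (.node (.node (.leaf 3) (.leaf 3)) (.node (.leaf 3) (.leaf 3))))) (.node (.node (.node (.node (.leaf 3) (.leaf 3)) (.node (.leaf 3) (.leaf 3))) (.node (.node (.leaf 3) (.leaf 3)) (.node (.leaf 3) (.leaf 3)))) (.node (.node (.node (.leaf 3) (.leaf 3)) (.node (.leaf 3) (.leaf 0))) (.node (.node (.leaf 3) (.leaf 3)) (.node (.leaf 3) (.leaf 3)))))) (.node (.node (.node (.node (.node (.leaf 3) (.leaf 3)) (.node (.leaf 3) (.leaf 3))) (.node (.node (.leaf 3) (.leaf 3)) (.node (.leaf 3) (.leaf 3)))) (.node (.node (.node (.leaf 3) (.leaf 3)) (.node (.leaf 3) (.leaf 3))) (.node (.node (.leaf 3) (.leaf 3)) (.node (.leaf 3) (.leaf 3))))) (.node (.node (.node (.node (.leaf 3) (.leaf 3)) (.node (.leaf 0) (.leaf 3))) (.node (.node (.leaf 3) (.leaf 3)) (.node (.leaf 3) (.leaf 3)))) (.node (.node (.node (.leaf 3) (.leaf 3)) (.node (.leaf 3) (.leaf 3))) (.node (.node (.leaf 3) (.leaf 3)) (.node (.leaf 3) (.leaf 3))))))) (.node (.node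 (.node (.node (.node (.node (.leaf 0) (.leaf 3)) (.node (.leaf 0) (.leaf 3))) (.node (.node (.leaf 3) (.leaf 3)) (.node (.leaf 3) (.leaf 3)))) (.node (.node (.node (.leaf 3) (.leaf 3)) (.node (.leaf 3) (.leaf 3))) (.node (.node (.leaf 3) (.leaf 3)) (.node (.leaf 3) (.leaf 3))))) (.node (.node (.node (.node (.leaf 3) (.leaf 3)) (.node (.leaf 3) (.leaf 3))) (.node (.node (.leaf 3) (.leaf 3)) (.node (.leaf 3) (.leaf 3)))) (.node (.node (.node (.leaf 3) (.leaf 3)) (.node (.leaf 3) (.leaf 3))) (.node (.node (.leaf 3) (.leaf 3)) (.node (.leaf 3) (.leaf 3)))))) (.node (.node (.node (.node (.node (.leaf 3) (.leaf 3)) (.node (.leaf 3) (.leaf 3))) (.node (.node (.leaf 3) (.leaf 3)) (.node (.leaf 0) (.leaf 3)))) (.node (.node (.node (.leaf 3) (.leaf 3)) (.node (.leaf 3) (.leaf 3))) (.node (.node (.leaf 3) (.leaf 3)) (.node (.leaf 3) (.leaf 3))))) (.node (.node (.node (.node (.leaf 3) (.leaf 3)) (.node (.leaf 3) (.leaf 3))) (.node (.node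 (.leaf 3) (.leaf 3)) (.node (.leaf 3) (.leaf 3)))) (.node (.node (.node (.leaf 3) (.leaf 3)) (.node (.leaf 3) (.leaf 3))) (.node (.node (.leaf 0) (.leaf 3)) (.node (.leaf 3) (.leaf 3))))))))))

def twoKind5 : Janko.Tree (ℕ) :=
  (.node (.node (.node (.node (.node (.node (.node (.node (.node (.node (.leaf 0) (.leaf 2)) (.leaf 3)) (.node (.leaf 3) (.leaf 3))) (.node (.node (.leaf 3) (.leaf 0)) (.node (.leaf 3) (.leaf 3)))) (.node (.node (.node (.leaf 3) (.leaf 3)) (.node (.leaf 0) (.leaf 3))) (.node (.node (.leaf 3) (.leaf 3)) (.node (.leaf 3) (.leaf 3))))) (.node (.node (.node (.node (.leaf 3) (.leaf 0)) (.node (.leaf 3) (.leaf 3))) (.node (.node (.leaf 3) (.leaf 3)) (.node (.leaf 0) (.leaf 3)))) (.node (.node (.node (.leaf 3) (.leaf 3)) (.node (.leaf 0) (.leaf 3))) (.node (.node (.leaf 0) (.leaf 3)) (.node (.leaf 3) (.leaf 3)))))) (.node (.node (.node (.node (.node (.leaf 0) (.leaf 3)) (.node (.leaf 3) (.leaf 3))) (.node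 (.node (.leaf 0) (.leaf 3)) (.node (.leaf 0) (.leaf 3)))) (.node (.node (.node (.leaf 0) (.leaf 3)) (.node (.leaf 0) (.leaf 3))) (.node (.node (.leaf 0) (.leaf 3)) (.node (.leaf 0) (.leaf 3))))) (.node (.node (.node (.node (.leaf 0) (.leaf 0)) (.node (.leaf 3) (.leaf 3))) (.node (.node (.leaf 0) (.leaf 0)) (.node (.leaf 3) (.leaf 3)))) (.node (.node (.node (.leaf 3) (.leaf 3)) (.node (.leaf 3) (.leaf 3))) (.node (.node (.leaf 3) (.leaf 3)) (.node (.leaf 3) (.leaf 3))))))) (.node (.node (.node (.node (.node (.node (.node (.leaf 0) (.leaf 3)) (.leaf 3)) (.node (.leaf 0) (.leaf 3))) (.node (.node (.leaf 0) (.leaf 0)) (.node (.leaf 3) (.leaf 3)))) (.node (.node (.node (.leaf 0) (.leaf 3)) (.node (.leaf 0) (.leaf 3))) (.node (.node (.leaf 0) (.leaf 3)) (.node (.leaf 3) (.leaf 3))))) (.node (.node (.node (.node (.leaf 3) (.leaf 0)) (.node (.leaf 0) (.leaf 3))) (.node (.node (.leaf 3) (.leaf 3)) (.node (.leaf 3) (.leaf 3)))) (.node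 (.node (.node (.leaf 3) (.leaf 3)) (.node (.leaf 0) (.leaf 0))) (.node (.node (.leaf 3) (.leaf 3)) (.node (.leaf 3) (.leaf 3)))))) (.node (.node (.node (.node (.node (.leaf 0) (.leaf 0)) (.node (.leaf 3) (.leaf 3))) (.node (.node (.leaf 3) (.leaf 3)) (.node (.leaf 3) (.leaf 3)))) (.node (.node (.node (.leaf 0) (.leaf 3)) (.node (.leaf 0) (.leaf 3))) (.node (.node (.leaf 0) (.leaf 0)) (.node (.leaf 3) (.leaf 3))))) (.node (.node (.node (.node (.leaf 3) (.leaf 0)) (.node (.leaf 0) (.leaf 3))) (.node (.node (.leaf 3) (.leaf 3)) (.node (.leaf 3) (.leaf 3)))) (.node (.node (.node (.leaf 0) (.leaf 3)) (.node (.leaf 0) (.leaf 3))) (.node (.node (.leaf 0) (.leaf 3)) (.node (.leaf 3) (.leaf 3)))))))) (.node (.node (.node (.node (.node (.node (.node (.node (.leaf 3) (.leaf 3)) (.leaf 3)) (.node (.leaf 3) (.leaf 3))) (.node (.node (.leaf 3) (.leaf 3)) (.node (.leaf 3) (.leaf 0)))) (.node (.node (.node (.leaf 0) (.leaf 3)) (.node (.leaf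 3) (.leaf 3))) (.node (.node (.leaf 3) (.leaf 3)) (.node (.leaf 3) (.leaf 3))))) (.node (.node (.node (.node (.leaf 0) (.leaf 3)) (.node (.leaf 0) (.leaf 3))) (.node (.node (.leaf 3) (.leaf 3)) (.node (.leaf 0) (.leaf 0)))) (.node (.node (.node (.leaf 0) (.leaf 0)) (.node (.leaf 3) (.leaf 3))) (.node (.node (.leaf 3) (.leaf 0)) (.node (.leaf 3) (.leaf 3)))))) (.node (.node (.node (.node (.node (.leaf 3) (.leaf 0)) (.node (.leaf 3) (.leaf 0))) (.node (.node (.leaf 0) (.leaf 3)) (.node (.leaf 0) (.leaf 3)))) (.node (.node (.node (.leaf 3) (.leaf 3)) (.node (.leaf 3) (.leaf 3))) (.node (.node (.leaf 0) (.leaf 3)) (.node (.leaf 0) (.leaf 3))))) (.node (.node (.node (.node (.leaf 0) (.leaf 3)) (.node (.leaf 3) (.leaf 0))) (.node (.node (.leaf 0) (.leaf 3)) (.node (.leaf 3) (.leaf 3)))) (.node (.node (.node (.leaf 3) (.leaf 3)) (.node (.leaf 3) (.leaf 3))) (.node (.node (.leaf 0) (.leaf 3)) (.node (.leaf 0) (.leaf 3))))))) (.node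 (.node (.node (.node (.node (.node (.node (.leaf 0) (.leaf 3)) (.leaf 0)) (.node (.leaf 0) (.leaf 3))) (.node (.node (.leaf 3) (.leaf 3)) (.node (.leaf 3) (.leaf 3)))) (.node (.node (.node (.leaf 3) (.leaf 3)) (.node (.leaf 0) (.leaf 3))) (.node (.node (.leaf 3) (.leaf 3)) (.node (.leaf 3) (.leaf 0))))) (.node (.node (.node (.node (.leaf 0) (.leaf 3)) (.node (.leaf 3) (.leaf 3))) (.node (.node (.leaf 3) (.leaf 0)) (.node (.leaf 3) (.leaf 3)))) (.node (.node (.node (.leaf 3) (.leaf 3)) (.node (.leaf 3) (.leaf 0))) (.node (.node (.leaf 0) (.leaf 3)) (.node (.leaf 3) (.leaf 3)))))) (.node (.node (.node (.node (.node (.leaf 0) (.leaf 0)) (.node (.leaf 3) (.leaf 3))) (.node (.node (.leaf 0) (.leaf 3)) (.node (.leaf 3) (.leaf 3)))) (.node (.node (.node (.leaf 0) (.leaf 0)) (.node (.leaf 0) (.leaf 3))) (.node (.node (.leaf 3) (.leaf 3)) (.node (.leaf 3) (.leaf 3))))) (.node (.node (.node (.node (.leaf 0) (.leaf 3)) (.node (.leaf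 3) (.leaf 3))) (.node (.node (.leaf 3) (.leaf 3)) (.node (.leaf 0) (.leaf 3)))) (.node (.node (.node (.leaf 0) (.leaf 3)) (.node (.leaf 3) (.leaf 3))) (.node (.node (.leaf 0) (.leaf 3)) (.node (.leaf 0) (.leaf 3))))))))) (.node (.node (.node (.node (.node (.node (.node (.node (.node (.leaf 0) (.leaf 3)) (.leaf 3)) (.node (.leaf 3) (.leaf 0))) (.node (.node (.leaf 0) (.leaf 3)) (.node (.leaf 3) (.leaf 3)))) (.node (.node (.node (.leaf 3) (.leaf 3)) (.node (.leaf 0) (.leaf 3))) (.node (.node (.leaf 3) (.leaf 3)) (.node (.leaf 0) (.leaf 3))))) (.node (.node (.node (.node (.leaf 3) (.leaf 3)) (.node (.leaf 3) (.leaf 3))) (.node (.node (.leaf 3) (.leaf 3)) (.node (.leaf 3) (.leaf 3)))) (.node (.node (.node (.leaf 0) (.leaf 0)) (.node (.leaf 0) (.leaf 0))) (.node (.node (.leaf 0) (.leaf 3)) (.node (.leaf 0) (.leaf 3)))))) (.node (.node (.node (.node (.node (.leaf 0) (.leaf 3)) (.node (.leaf 3) (.leaf 3))) (.node (.node (.leaf 0)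 (.leaf 3)) (.node (.leaf 0) (.leaf 3)))) (.node (.node (.node (.leaf 3) (.leaf 3)) (.node (.leaf 3) (.leaf 3))) (.node (.node (.leaf 0) (.leaf 3)) (.node (.leaf 3) (.leaf 3))))) (.node (.node (.node (.node (.leaf 0) (.leaf 0)) (.node (.leaf 3) (.leaf 0))) (.node (.node (.leaf 0) (.leaf 3)) (.node (.leaf 0) (.leaf 3)))) (.node (.node (.node (.leaf 0) (.leaf 0)) (.node (.leaf 3) (.leaf 0))) (.node (.node (.leaf 3) (.leaf 3)) (.node (.leaf 0) (.leaf 3))))))) (.node (.node (.node (.node (.node (.node (.node (.leaf 0) (.leaf 3)) (.leaf 0)) (.node (.leaf 0) (.leaf 3))) (.node (.node (.leaf 3) (.leaf 3)) (.node (.leaf 3) (.leaf 3)))) (.node (.node (.node (.leaf 0) (.leaf 3)) (.node (.leaf 3) (.leaf 3))) (.node (.node (.leaf 0) (.leaf 3)) (.node (.leaf 3) (.leaf 3))))) (.node (.node (.node (.node (.leaf 3) (.leaf 3)) (.node (.leaf 0) (.leaf 0))) (.node (.node (.leaf 0) (.leaf 0)) (.node (.leaf 3) (.leaf 3)))) (.node (.node (.node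 (.leaf 3) (.leaf 3)) (.node (.leaf 3) (.leaf 0))) (.node (.node (.leaf 3) (.leaf 3)) (.node (.leaf 3) (.leaf 3)))))) (.node (.node (.node (.node (.node (.leaf 0) (.leaf 0)) (.node (.leaf 3) (.leaf 0))) (.node (.node (.leaf 0) (.leaf 0)) (.node (.leaf 0) (.leaf 3)))) (.node (.node (.node (.leaf 0) (.leaf 3)) (.node (.leaf 3) (.leaf 3))) (.node (.node (.leaf 3) (.leaf 3)) (.node (.leaf 0) (.leaf 3))))) (.node (.node (.node (.node (.leaf 3) (.leaf 0)) (.node (.leaf 3) (.leaf 0))) (.node (.node (.leaf 3) (.leaf 3)) (.node (.leaf 3) (.leaf 0)))) (.node (.node (.node (.leaf 0) (.leaf 3)) (.node (.leaf 3) (.leaf 3))) (.node (.node (.leaf 3) (.leaf 3)) (.node (.leaf 3) (.leaf 3)))))))) (.node (.node (.node (.node (.node (.node (.node (.node (.leaf 0) (.leaf 3)) (.leaf 3)) (.node (.leaf 3) (.leaf 3))) (.node (.node (.leaf 0) (.leaf 3)) (.node (.leaf 3) (.leaf 3)))) (.node (.node (.node (.leaf 0) (.leaf 3)) (.node (.leaf 3) (.leaf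 3))) (.node (.node (.leaf 3) (.leaf 3)) (.node (.leaf 0) (.leaf 3))))) (.node (.node (.node (.node (.leaf 0) (.leaf 3)) (.node (.leaf 3) (.leaf 0))) (.node (.node (.leaf 0) (.leaf 3)) (.node (.leaf 3) (.leaf 0)))) (.node (.node (.node (.leaf 3) (.leaf 3)) (.node (.leaf 3) (.leaf 3))) (.node (.node (.leaf 0) (.leaf 3)) (.node (.leaf 3) (.leaf 3)))))) (.node (.node (.node (.node (.node (.leaf 0) (.leaf 3)) (.node (.leaf 0) (.leaf 3))) (.node (.node (.leaf 3) (.leaf 3)) (.node (.leaf 3) (.leaf 3)))) (.node (.node (.node (.leaf 0) (.leaf 3)) (.node (.leaf 0) (.leaf 3))) (.node (.node (.leaf 3) (.leaf 3)) (.node (.leaf 3) (.leaf 3))))) (.node (.node (.node (.node (.leaf 0) (.leaf 3)) (.node (.leaf 3) (.leaf 0))) (.node (.node (.leaf 0) (.leaf 3)) (.node (.leaf 3) (.leaf 3)))) (.node (.node (.node (.leaf 3) (.leaf 3)) (.node (.leaf 0) (.leaf 3))) (.node (.node (.leaf 0) (.leaf 3)) (.node (.leaf 3) (.leaf 3))))))) (.node (.node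 (.node (.node (.node (.node (.leaf 3) (.leaf 0)) (.node (.leaf 3) (.leaf 3))) (.node (.node (.leaf 0) (.leaf 3)) (.node (.leaf 3) (.leaf 3)))) (.node (.node (.node (.leaf 0) (.leaf 3)) (.node (.leaf 0) (.leaf 3))) (.node (.node (.leaf 0) (.leaf 3)) (.node (.leaf 3) (.leaf 3))))) (.node (.node (.node (.node (.leaf 0) (.leaf 3)) (.node (.leaf 3) (.leaf 3))) (.node (.node (.leaf 3) (.leaf 3)) (.node (.leaf 3) (.leaf 3)))) (.node (.node (.node (.leaf 0) (.leaf 3)) (.node (.leaf 3) (.leaf 3))) (.node (.node (.leaf 3) (.leaf 3)) (.node (.leaf 3) (.leaf 3)))))) (.node (.node (.node (.node (.node (.leaf 0) (.leaf 0)) (.node (.leaf 3) (.leaf 3))) (.node (.node (.leaf 3) (.leaf 3)) (.node (.leaf 3) (.leaf 3)))) (.node (.node (.node (.leaf 3) (.leaf 3)) (.node (.leaf 3) (.leaf 3))) (.node (.node (.leaf 0) (.leaf 3)) (.node (.leaf 0) (.leaf 3))))) (.node (.node (.node (.node (.leaf 0) (.leaf 3)) (.node (.leaf 0) (.leaf 3))) (.node (.node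 (.leaf 0) (.leaf 0)) (.node (.leaf 3) (.leaf 3)))) (.node (.node (.node (.leaf 0) (.leaf 3)) (.node (.leaf 3) (.leaf 3))) (.node (.node (.leaf 3) (.leaf 3)) (.node (.leaf 3) (.leaf 3))))))))))

def twoKind6 : Janko.Tree (ℕ) :=
  (.node (.node (.node (.node (.node (.node (.node (.node (.node (.node (.leaf 0) (.leaf 2)) (.leaf 3)) (.node (.leaf 3) (.leaf 3))) (.node (.node (.leaf 3) (.leaf 3)) (.node (.leaf 3) (.leaf 3)))) (.node (.node (.node (.leaf 0) (.leaf 3)) (.node (.leaf 3) (.leaf 3))) (.node (.node (.leaf 0) (.leaf 0)) (.node (.leaf 3) (.leaf 3))))) (.node (.node (.node (.node (.leaf 0) (.leaf 3)) (.node (.leaf 0) (.leaf 3))) (.node (.node (.leaf 3) (.leaf 3)) (.node (.leaf 3) (.leaf 3)))) (.node (.node (.node (.leaf 3) (.leaf 0)) (.node (.leaf 3) (.leaf 3))) (.node (.node (.leaf 3) (.leaf 3)) (.node (.leaf 0) (.leaf 3)))))) (.node (.node (.node (.node (.node (.leaf 0) (.leaf 3)) (.node (.leaf 3) (.leaf 3))) (.node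 (.node (.leaf 3) (.leaf 3)) (.node (.leaf 3) (.leaf 3)))) (.node (.node (.node (.leaf 3) (.leaf 3)) (.node (.leaf 3) (.leaf 3))) (.node (.node (.leaf 0) (.leaf 3)) (.node (.leaf 3) (.leaf 3))))) (.node (.node (.node (.node (.leaf 3) (.leaf 3)) (.node (.leaf 0) (.leaf 3))) (.node (.node (.leaf 0) (.leaf 3)) (.node (.leaf 3) (.leaf 3)))) (.node (.node (.node (.leaf 3) (.leaf 3)) (.node (.leaf 0) (.leaf 3))) (.node (.node (.leaf 3) (.leaf 3)) (.node (.leaf 3) (.leaf 3))))))) (.node (.node (.node (.node (.node (.node (.node (.leaf 3) (.leaf 3)) (.leaf 0)) (.node (.leaf 3) (.leaf 0))) (.node (.node (.leaf 3) (.leaf 3)) (.node (.leaf 0) (.leaf 0)))) (.node (.node (.node (.leaf 3) (.leaf 0)) (.node (.leaf 3) (.leaf 3))) (.node (.node (.leaf 3) (.leaf 0)) (.node (.leaf 0) (.leaf 3))))) (.node (.node (.node (.node (.leaf 0) (.leaf 3)) (.node (.leaf 3) (.leaf 3))) (.node (.node (.leaf 3) (.leaf 3)) (.node (.leaf 3) (.leaf 3)))) (.node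 (.node (.node (.leaf 3) (.leaf 3)) (.node (.leaf 3) (.leaf 3))) (.node (.node (.leaf 0) (.leaf 3)) (.node (.leaf 3) (.leaf 3)))))) (.node (.node (.node (.node (.node (.leaf 3) (.leaf 0)) (.node (.leaf 3) (.leaf 0))) (.node (.node (.leaf 3) (.leaf 3)) (.node (.leaf 0) (.leaf 3)))) (.node (.node (.node (.leaf 3) (.leaf 3)) (.node (.leaf 3) (.leaf 3))) (.node (.node (.leaf 3) (.leaf 3)) (.node (.leaf 0) (.leaf 3))))) (.node (.node (.node (.node (.leaf 0) (.leaf 3)) (.node (.leaf 3) (.leaf 3))) (.node (.node (.leaf 3) (.leaf 3)) (.node (.leaf 3) (.leaf 3)))) (.node (.node (.node (.leaf 0) (.leaf 3)) (.node (.leaf 3) (.leaf 3))) (.node (.node (.leaf 3) (.leaf 3)) (.node (.leaf 3) (.leaf 3)))))))) (.node (.node (.node (.node (.node (.node (.node (.node (.leaf 0) (.leaf 3)) (.leaf 3)) (.node (.leaf 3) (.leaf 3))) (.node (.node (.leaf 3) (.leaf 3)) (.node (.leaf 3) (.leaf 3)))) (.node (.node (.node (.leaf 0) (.leaf 0)) (.node (.leaf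 0) (.leaf 3))) (.node (.node (.leaf 0) (.leaf 0)) (.node (.leaf 3) (.leaf 3))))) (.node (.node (.node (.node (.leaf 0) (.leaf 0)) (.node (.leaf 0) (.leaf 3))) (.node (.node (.leaf 0) (.leaf 0)) (.node (.leaf 3) (.leaf 3)))) (.node (.node (.node (.leaf 3) (.leaf 3)) (.node (.leaf 3) (.leaf 3))) (.node (.node (.leaf 3) (.leaf 3)) (.node (.leaf 3) (.leaf 3)))))) (.node (.node (.node (.node (.node (.leaf 0) (.leaf 3)) (.node (.leaf 3) (.leaf 3))) (.node (.node (.leaf 3) (.leaf 3)) (.node (.leaf 3) (.leaf 3)))) (.node (.node (.node (.leaf 0) (.leaf 0)) (.node (.leaf 3) (.leaf 3))) (.node (.node (.leaf 0) (.leaf 3)) (.node (.leaf 3) (.leaf 3))))) (.node (.node (.node (.node (.leaf 0) (.leaf 3)) (.node (.leaf 3) (.leaf 3))) (.node (.node (.leaf 3) (.leaf 3)) (.node (.leaf 3) (.leaf 3)))) (.node (.node (.node (.leaf 0) (.leaf 3)) (.node (.leaf 0) (.leaf 3))) (.node (.node (.leaf 0) (.leaf 3)) (.node (.leaf 3) (.leaf 3))))))) (.node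 (.node (.node (.node (.node (.node (.node (.leaf 0) (.leaf 3)) (.leaf 0)) (.node (.leaf 3) (.leaf 3))) (.node (.node (.leaf 0) (.leaf 3)) (.node (.leaf 3) (.leaf 3)))) (.node (.node (.node (.leaf 3) (.leaf 0)) (.node (.leaf 0) (.leaf 3))) (.node (.node (.leaf 3) (.leaf 3)) (.node (.leaf 0) (.leaf 3))))) (.node (.node (.node (.node (.leaf 0) (.leaf 3)) (.node (.leaf 0) (.leaf 3))) (.node (.node (.leaf 0) (.leaf 3)) (.node (.leaf 3) (.leaf 3)))) (.node (.node (.node (.leaf 0) (.leaf 3)) (.node (.leaf 0) (.leaf 3))) (.node (.node (.leaf 0) (.leaf 3)) (.node (.leaf 3) (.leaf 3)))))) (.node (.node (.node (.node (.node (.leaf 0) (.leaf 0)) (.node (.leaf 3) (.leaf 0))) (.node (.node (.leaf 3) (.leaf 0)) (.node (.leaf 3) (.leaf 3)))) (.node (.node (.node (.leaf 3) (.leaf 3)) (.node (.leaf 0) (.leaf 3))) (.node (.node (.leaf 3) (.leaf 3)) (.node (.leaf 0) (.leaf 3))))) (.node (.node (.node (.node (.leaf 0) (.leaf 3)) (.node (.leaf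 0) (.leaf 3))) (.node (.node (.leaf 3) (.leaf 3)) (.node (.leaf 0) (.leaf 3)))) (.node (.node (.node (.leaf 3) (.leaf 3)) (.node (.leaf 3) (.leaf 3))) (.node (.node (.leaf 3) (.leaf 3)) (.node (.leaf 3) (.leaf 3))))))))) (.node (.node (.node (.node (.node (.node (.node (.node (.node (.leaf 3) (.leaf 3)) (.leaf 3)) (.node (.leaf 0) (.leaf 3))) (.node (.node (.leaf 0) (.leaf 0)) (.node (.leaf 3) (.leaf 3)))) (.node (.node (.node (.leaf 0) (.leaf 0)) (.node (.leaf 3) (.leaf 3))) (.node (.node (.leaf 0) (.leaf 3)) (.node (.leaf 3) (.leaf 3))))) (.node (.node (.node (.node (.leaf 0) (.leaf 0)) (.node (.leaf 3) (.leaf 3))) (.node (.node (.leaf 0) (.leaf 0)) (.node (.leaf 3) (.leaf 3)))) (.node (.node (.node (.leaf 0) (.leaf 3)) (.node (.leaf 0) (.leaf 3))) (.node (.node (.leaf 3) (.leaf 3)) (.node (.leaf 3) (.leaf 3)))))) (.node (.node (.node (.node (.node (.leaf 0) (.leaf 3)) (.node (.leaf 3) (.leaf 3))) (.node (.node (.leaf 3)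 (.leaf 3)) (.node (.leaf 3) (.leaf 3)))) (.node (.node (.node (.leaf 3) (.leaf 0)) (.node (.leaf 0) (.leaf 3))) (.node (.node (.leaf 3) (.leaf 3)) (.node (.leaf 3) (.leaf 3))))) (.node (.node (.node (.node (.leaf 3) (.leaf 3)) (.node (.leaf 3) (.leaf 3))) (.node (.node (.leaf 3) (.leaf 3)) (.node (.leaf 3) (.leaf 3)))) (.node (.node (.node (.leaf 3) (.leaf 3)) (.node (.leaf 3) (.leaf 3))) (.node (.node (.leaf 0) (.leaf 3)) (.node (.leaf 3) (.leaf 3))))))) (.node (.node (.node (.node (.node (.node (.node (.leaf 0) (.leaf 3)) (.leaf 3)) (.node (.leaf 3) (.leaf 0))) (.node (.node (.leaf 3) (.leaf 0)) (.node (.leaf 3) (.leaf 3)))) (.node (.node (.node (.leaf 0) (.leaf 3)) (.node (.leaf 3) (.leaf 3))) (.node (.node (.leaf 0) (.leaf 3)) (.node (.leaf 3) (.leaf 3))))) (.node (.node (.node (.node (.leaf 0) (.leaf 3)) (.node (.leaf 3) (.leaf 3))) (.node (.node (.leaf 3) (.leaf 3)) (.node (.leaf 3) (.leaf 3)))) (.node (.node (.node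 (.leaf 0) (.leaf 3)) (.node (.leaf 3) (.leaf 3))) (.node (.node (.leaf 0) (.leaf 3)) (.node (.leaf 3) (.leaf 3)))))) (.node (.node (.node (.node (.node (.leaf 3) (.leaf 3)) (.node (.leaf 3) (.leaf 3))) (.node (.node (.leaf 0) (.leaf 3)) (.node (.leaf 3) (.leaf 3)))) (.node (.node (.node (.leaf 3) (.leaf 3)) (.node (.leaf 0) (.leaf 3))) (.node (.node (.leaf 0) (.leaf 3)) (.node (.leaf 3) (.leaf 3))))) (.node (.node (.node (.node (.leaf 0) (.leaf 3)) (.node (.leaf 0) (.leaf 3))) (.node (.node (.leaf 0) (.leaf 3)) (.node (.leaf 3) (.leaf 3)))) (.node (.node (.node (.leaf 3) (.leaf 3)) (.node (.leaf 3) (.leaf 3))) (.node (.node (.leaf 0) (.leaf 3)) (.node (.leaf 3) (.leaf 3)))))))) (.node (.node (.node (.node (.node (.node (.node (.node (.leaf 0) (.leaf 3)) (.leaf 3)) (.node (.leaf 0) (.leaf 0))) (.node (.node (.leaf 0) (.leaf 0)) (.node (.leaf 3) (.leaf 3)))) (.node (.node (.node (.leaf 0) (.leaf 0)) (.node (.leaf 3) (.leaf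 3))) (.node (.node (.leaf 0) (.leaf 3)) (.node (.leaf 3) (.leaf 3))))) (.node (.node (.node (.node (.leaf 3) (.leaf 0)) (.node (.leaf 3) (.leaf 3))) (.node (.node (.leaf 0) (.leaf 0)) (.node (.leaf 0) (.leaf 3)))) (.node (.node (.node (.leaf 3) (.leaf 3)) (.node (.leaf 3) (.leaf 3))) (.node (.node (.leaf 0) (.leaf 3)) (.node (.leaf 3) (.leaf 3)))))) (.node (.node (.node (.node (.node (.leaf 0) (.leaf 3)) (.node (.leaf 0) (.leaf 0))) (.node (.node (.leaf 0) (.leaf 3)) (.node (.leaf 3) (.leaf 3)))) (.node (.node (.node (.leaf 0) (.leaf 0)) (.node (.leaf 0) (.leaf 3))) (.node (.node (.leaf 3) (.leaf 3)) (.node (.leaf 0) (.leaf 3))))) (.node (.node (.node (.node (.leaf 0) (.leaf 3)) (.node (.leaf 0) (.leaf 3))) (.node (.node (.leaf 3) (.leaf 3)) (.node (.leaf 3) (.leaf 3)))) (.node (.node (.node (.leaf 3) (.leaf 3)) (.node (.leaf 3) (.leaf 3))) (.node (.node (.leaf 3) (.leaf 0)) (.node (.leaf 3) (.leaf 3))))))) (.node (.node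 (.node (.node (.node (.node (.leaf 0) (.leaf 3)) (.node (.leaf 3) (.leaf 3))) (.node (.node (.leaf 0) (.leaf 3)) (.node (.leaf 0) (.leaf 3)))) (.node (.node (.node (.leaf 0) (.leaf 3)) (.node (.leaf 3) (.leaf 3))) (.node (.node (.leaf 0) (.leaf 3)) (.node (.leaf 3) (.leaf 3))))) (.node (.node (.node (.node (.leaf 0) (.leaf 3)) (.node (.leaf 3) (.leaf 3))) (.node (.node (.leaf 3) (.leaf 3)) (.node (.leaf 0) (.leaf 0)))) (.node (.node (.node (.leaf 0) (.leaf 3)) (.node (.leaf 3) (.leaf 3))) (.node (.node (.leaf 3) (.leaf 0)) (.node (.leaf 3) (.leaf 3)))))) (.node (.node (.node (.node (.node (.leaf 0) (.leaf 0)) (.node (.leaf 3) (.leaf 3))) (.node (.node (.leaf 3) (.leaf 3)) (.node (.leaf 0) (.leaf 3)))) (.node (.node (.node (.leaf 0) (.leaf 3)) (.node (.leaf 0) (.leaf 3))) (.node (.node (.leaf 0) (.leaf 3)) (.node (.leaf 3) (.leaf 3))))) (.node (.node (.node (.node (.leaf 3) (.leaf 3)) (.node (.leaf 0) (.leaf 3))) (.node (.node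 (.leaf 3) (.leaf 3)) (.node (.leaf 3) (.leaf 3)))) (.node (.node (.node (.leaf 3) (.leaf 3)) (.node (.leaf 3) (.leaf 3))) (.node (.node (.leaf 0) (.leaf 3)) (.node (.leaf 3) (.leaf 3))))))))))

def twoKind7 : Janko.Tree (ℕ) :=
  (.node (.node (.node (.node (.node (.node (.node (.node (.node (.node (.leaf 0) (.leaf 3)) (.leaf 3)) (.node (.leaf 3) (.leaf 0))) (.node (.node (.leaf 3) (.leaf 3)) (.node (.leaf 3) (.leaf 3)))) (.node (.node (.node (.leaf 0) (.leaf 0)) (.node (.leaf 3) (.leaf 0))) (.node (.node (.leaf 0) (.leaf 3)) (.node (.leaf 3) (.leaf 3))))) (.node (.node (.node (.node (.leaf 0) (.leaf 0)) (.node (.leaf 0) (.leaf 3))) (.node (.node (.leaf 0) (.leaf 3)) (.node (.leaf 3) (.leaf 3)))) (.node (.node (.node (.leaf 0) (.leaf 3)) (.node (.leaf 3) (.leaf 3))) (.node (.node (.leaf 3) (.leaf 3)) (.node (.leaf 0) (.leaf 3)))))) (.node (.node (.node (.node (.node (.leaf 0) (.leaf 3)) (.node (.leaf 0) (.leaf 3))) (.node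 (.node (.leaf 0) (.leaf 3)) (.node (.leaf 3) (.leaf 3)))) (.node (.node (.node (.leaf 0) (.leaf 3)) (.node (.leaf 0) (.leaf 3))) (.node (.node (.leaf 3) (.leaf 3)) (.node (.leaf 3) (.leaf 3))))) (.node (.node (.node (.node (.leaf 3) (.leaf 3)) (.node (.leaf 0) (.leaf 3))) (.node (.node (.leaf 3) (.leaf 3)) (.node (.leaf 3) (.leaf 3)))) (.node (.node (.node (.leaf 3) (.leaf 0)) (.node (.leaf 0) (.leaf 3))) (.node (.node (.leaf 3) (.leaf 3)) (.node (.leaf 3) (.leaf 3))))))) (.node (.node (.node (.node (.node (.node (.node (.leaf 0) (.leaf 3)) (.leaf 0)) (.node (.leaf 3) (.leaf 3))) (.node (.node (.leaf 0) (.leaf 3)) (.node (.leaf 0) (.leaf 3)))) (.node (.node (.node (.leaf 3) (.leaf 3)) (.node (.leaf 3) (.leaf 3))) (.node (.node (.leaf 3) (.leaf 0)) (.node (.leaf 0) (.leaf 3))))) (.node (.node (.node (.node (.leaf 0) (.leaf 3)) (.node (.leaf 0) (.leaf 3))) (.node (.node (.leaf 3) (.leaf 3)) (.node (.leaf 0) (.leaf 3)))) (.node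 (.node (.node (.leaf 0) (.leaf 3)) (.node (.leaf 3) (.leaf 3))) (.node (.node (.leaf 0) (.leaf 3)) (.node (.leaf 3) (.leaf 3)))))) (.node (.node (.node (.node (.node (.leaf 0) (.leaf 3)) (.node (.leaf 3) (.leaf 0))) (.node (.node (.leaf 0) (.leaf 3)) (.node (.leaf 0) (.leaf 3)))) (.node (.node (.node (.leaf 0) (.leaf 3)) (.node (.leaf 0) (.leaf 3))) (.node (.node (.leaf 0) (.leaf 3)) (.node (.leaf 0) (.leaf 3))))) (.node (.node (.node (.node (.leaf 0) (.leaf 3)) (.node (.leaf 0) (.leaf 3))) (.node (.node (.leaf 3) (.leaf 3)) (.node (.leaf 3) (.leaf 3)))) (.node (.node (.node (.leaf 3) (.leaf 3)) (.node (.leaf 3) (.leaf 0))) (.node (.node (.leaf 0) (.leaf 3)) (.node (.leaf 3) (.leaf 3)))))))) (.node (.node (.node (.node (.node (.node (.node (.node (.leaf 0) (.leaf 3)) (.leaf 3)) (.node (.leaf 0) (.leaf 3))) (.node (.node (.leaf 0) (.leaf 3)) (.node (.leaf 3) (.leaf 3)))) (.node (.node (.node (.leaf 0) (.leaf 0)) (.node (.leaf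 0) (.leaf 0))) (.node (.node (.leaf 3) (.leaf 3)) (.node (.leaf 3) (.leaf 3))))) (.node (.node (.node (.node (.leaf 3) (.leaf 3)) (.node (.leaf 3) (.leaf 3))) (.node (.node (.leaf 0) (.leaf 3)) (.node (.leaf 0) (.leaf 3)))) (.node (.node (.node (.leaf 0) (.leaf 3)) (.node (.leaf 3) (.leaf 3))) (.node (.node (.leaf 3) (.leaf 3)) (.node (.leaf 3) (.leaf 3)))))) (.node (.node (.node (.node (.node (.leaf 0) (.leaf 3)) (.node (.leaf 0) (.leaf 0))) (.node (.node (.leaf 0) (.leaf 3)) (.node (.leaf 3) (.leaf 3)))) (.node (.node (.node (.leaf 0) (.leaf 3)) (.node (.leaf 3) (.leaf 3))) (.node (.node (.leaf 3) (.leaf 3)) (.node (.leaf 0) (.leaf 3))))) (.node (.node (.node (.node (.leaf 0) (.leaf 3)) (.node (.leaf 0) (.leaf 3))) (.node (.node (.leaf 3) (.leaf 3)) (.node (.leaf 3) (.leaf 3)))) (.node (.node (.node (.leaf 0) (.leaf 0)) (.node (.leaf 3) (.leaf 3))) (.node (.node (.leaf 3) (.leaf 0)) (.node (.leaf 3) (.leaf 3))))))) (.node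 (.node (.node (.node (.node (.node (.node (.leaf 3) (.leaf 3)) (.leaf 3)) (.node (.leaf 3) (.leaf 3))) (.node (.node (.leaf 0) (.leaf 3)) (.node (.leaf 3) (.leaf 3)))) (.node (.node (.node (.leaf 0) (.leaf 3)) (.node (.leaf 3) (.leaf 3))) (.node (.node (.leaf 0) (.leaf 3)) (.node (.leaf 0) (.leaf 3))))) (.node (.node (.node (.node (.leaf 0) (.leaf 3)) (.node (.leaf 0) (.leaf 3))) (.node (.node (.leaf 0) (.leaf 3)) (.node (.leaf 3) (.leaf 3)))) (.node (.node (.node (.leaf 0) (.leaf 0)) (.node (.leaf 0) (.leaf 3))) (.node (.node (.leaf 3) (.leaf 3)) (.node (.leaf 3) (.leaf 3)))))) (.node (.node (.node (.node (.node (.leaf 0) (.leaf 3)) (.node (.leaf 0) (.leaf 0))) (.node (.node (.leaf 0) (.leaf 0)) (.node (.leaf 3) (.leaf 3)))) (.node (.node (.node (.leaf 0) (.leaf 3)) (.node (.leaf 0) (.leaf 3))) (.node (.node (.leaf 0) (.leaf 3)) (.node (.leaf 3) (.leaf 3))))) (.node (.node (.node (.node (.leaf 3) (.leaf 0)) (.node (.leaf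 3) (.leaf 3))) (.node (.node (.leaf 0) (.leaf 3)) (.node (.leaf 3) (.leaf 3)))) (.node (.node (.node (.leaf 3) (.leaf 3)) (.node (.leaf 3) (.leaf 3))) (.node (.node (.leaf 0) (.leaf 3)) (.node (.leaf 3) (.leaf 3))))))))) (.node (.node (.node (.node (.node (.node (.node (.node (.node (.leaf 0) (.leaf 2)) (.leaf 3)) (.node (.leaf 3) (.leaf 3))) (.node (.node (.leaf 3) (.leaf 3)) (.node (.leaf 3) (.leaf 0)))) (.node (.node (.node (.leaf 0) (.leaf 3)) (.node (.leaf 0) (.leaf 3))) (.node (.node (.leaf 3) (.leaf 3)) (.node (.leaf 3) (.leaf 3))))) (.node (.node (.node (.node (.leaf 0) (.leaf 0)) (.node (.leaf 3) (.leaf 0))) (.node (.node (.leaf 0) (.leaf 0)) (.node (.leaf 3) (.leaf 3)))) (.node (.node (.node (.leaf 3) (.leaf 3)) (.node (.leaf 3) (.leaf 3))) (.node (.node (.leaf 3) (.leaf 0)) (.node (.leaf 3) (.leaf 3)))))) (.node (.node (.node (.node (.node (.leaf 3) (.leaf 0)) (.node (.leaf 3) (.leaf 3))) (.node (.node (.leaf 0)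 (.leaf 0)) (.node (.leaf 3) (.leaf 3)))) (.node (.node (.node (.leaf 3) (.leaf 0)) (.node (.leaf 3) (.leaf 0))) (.node (.node (.leaf 0) (.leaf 3)) (.node (.leaf 3) (.leaf 3))))) (.node (.node (.node (.node (.leaf 0) (.leaf 3)) (.node (.leaf 0) (.leaf 3))) (.node (.node (.leaf 3) (.leaf 3)) (.node (.leaf 3) (.leaf 3)))) (.node (.node (.node (.leaf 0) (.leaf 3)) (.node (.leaf 3) (.leaf 3))) (.node (.node (.leaf 0) (.leaf 3)) (.node (.leaf 3) (.leaf 3))))))) (.node (.node (.node (.node (.node (.node (.node (.leaf 0) (.leaf 3)) (.leaf 3)) (.node (.leaf 3) (.leaf 3))) (.node (.node (.leaf 3) (.leaf 3)) (.node (.leaf 0) (.leaf 3)))) (.node (.node (.node (.leaf 3) (.leaf 3)) (.node (.leaf 3) (.leaf 3))) (.node (.node (.leaf 3) (.leaf 3)) (.node (.leaf 0) (.leaf 3))))) (.node (.node (.node (.node (.leaf 0) (.leaf 3)) (.node (.leaf 0) (.leaf 3))) (.node (.node (.leaf 0) (.leaf 3)) (.node (.leaf 3) (.leaf 3)))) (.node (.node (.node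 (.leaf 0) (.leaf 3)) (.node (.leaf 0) (.leaf 3))) (.node (.node (.leaf 0) (.leaf 3)) (.node (.leaf 0) (.leaf 3)))))) (.node (.node (.node (.node (.node (.leaf 0) (.leaf 0)) (.node (.leaf 3) (.leaf 3))) (.node (.node (.leaf 3) (.leaf 0)) (.node (.leaf 0) (.leaf 3)))) (.node (.node (.node (.leaf 0) (.leaf 3)) (.node (.leaf 0) (.leaf 3))) (.node (.node (.leaf 0) (.leaf 3)) (.node (.leaf 3) (.leaf 3))))) (.node (.node (.node (.node (.leaf 0) (.leaf 3)) (.node (.leaf 3) (.leaf 3))) (.node (.node (.leaf 3) (.leaf 0)) (.node (.leaf 0) (.leaf 3)))) (.node (.node (.node (.leaf 3) (.leaf 0)) (.node (.leaf 0) (.leaf 3))) (.node (.node (.leaf 0) (.leaf 3)) (.node (.leaf 3) (.leaf 3)))))))) (.node (.node (.node (.node (.node (.node (.node (.node (.leaf 3) (.leaf 3)) (.leaf 3)) (.node (.leaf 3) (.leaf 0))) (.node (.node (.leaf 3) (.leaf 3)) (.node (.leaf 3) (.leaf 3)))) (.node (.node (.node (.leaf 3) (.leaf 3)) (.node (.leaf 3) (.leaf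 3))) (.node (.node (.leaf 3) (.leaf 3)) (.node (.leaf 0) (.leaf 3))))) (.node (.node (.node (.node (.leaf 0) (.leaf 3)) (.node (.leaf 0) (.leaf 3))) (.node (.node (.leaf 3) (.leaf 3)) (.node (.leaf 0) (.leaf 3)))) (.node (.node (.node (.leaf 0) (.leaf 3)) (.node (.leaf 3) (.leaf 3))) (.node (.node (.leaf 3) (.leaf 3)) (.node (.leaf 3) (.leaf 3)))))) (.node (.node (.node (.node (.node (.leaf 3) (.leaf 3)) (.node (.leaf 3) (.leaf 0))) (.node (.node (.leaf 0) (.leaf 3)) (.node (.leaf 3) (.leaf 3)))) (.node (.node (.node (.leaf 3) (.leaf 3)) (.node (.leaf 3) (.leaf 0))) (.node (.node (.leaf 3) (.leaf 3)) (.node (.leaf 0) (.leaf 3))))) (.node (.node (.node (.node (.leaf 3) (.leaf 3)) (.node (.leaf 0) (.leaf 3))) (.node (.node (.leaf 3) (.leaf 0)) (.node (.leaf 0) (.leaf 3)))) (.node (.node (.node (.leaf 0) (.leaf 3)) (.node (.leaf 3) (.leaf 3))) (.node (.node (.leaf 3) (.leaf 3)) (.node (.leaf 3) (.leaf 3))))))) (.node (.node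 (.node (.node (.node (.node (.leaf 0) (.leaf 3)) (.node (.leaf 3) (.leaf 3))) (.node (.node (.leaf 3) (.leaf 0)) (.node (.leaf 0) (.leaf 3)))) (.node (.node (.node (.leaf 3) (.leaf 3)) (.node (.leaf 0) (.leaf 3))) (.node (.node (.leaf 3) (.leaf 3)) (.node (.leaf 3) (.leaf 3))))) (.node (.node (.node (.node (.leaf 3) (.leaf 3)) (.node (.leaf 0) (.leaf 3))) (.node (.node (.leaf 0) (.leaf 3)) (.node (.leaf 0) (.leaf 0)))) (.node (.node (.node (.leaf 3) (.leaf 3)) (.node (.leaf 3) (.leaf 3))) (.node (.node (.leaf 3) (.leaf 3)) (.node (.leaf 3) (.leaf 3)))))) (.node (.node (.node (.node (.node (.leaf 3) (.leaf 3)) (.node (.leaf 3) (.leaf 3))) (.node (.node (.leaf 0) (.leaf 0)) (.node (.leaf 0) (.leaf 3)))) (.node (.node (.node (.leaf 0) (.leaf 3)) (.node (.leaf 3) (.leaf 3))) (.node (.node (.leaf 3) (.leaf 3)) (.node (.leaf 0) (.leaf 3))))) (.node (.node (.node (.node (.leaf 0) (.leaf 3)) (.node (.leaf 3) (.leaf 0))) (.node (.node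 (.leaf 3) (.leaf 3)) (.node (.leaf 3) (.leaf 3)))) (.node (.node (.node (.leaf 3) (.leaf 3)) (.node (.leaf 3) (.leaf 3))) (.node (.node (.leaf 0) (.leaf 3)) (.node (.leaf 3) (.leaf 3))))))))))

def twoKind : Janko.Tree (ℕ) := (.node (.node (.node twoKind0 twoKind4) (.node twoKind2 twoKind6)) (.node (.node twoKind1 twoKind5) (.node twoKind3 twoKind7)))

def twoRank0 : Janko.Tree (ℕ) :=
  (.node (.node (.node (.node (.node (.node (.node (.node (.node (.node (.leaf 0) (.leaf 1023)) (.leaf 2572)) (.node (.leaf 2100) (.leaf 2225))) (.node (.node (.leaf 2359) (.leaf 2955)) (.node (.leaf 2357) (.leaf 2886)))) (.node (.node (.node (.leaf 2243) (.leaf 2958)) (.node (.leaf 2967) (.leaf 2565))) (.node (.node (.leaf 2425) (.leaf 3486)) (.node (.leaf 2724) (.leaf 3534))))) (.node (.node (.node (.node (.leaf 1110) (.leaf 787)) (.node (.leaf 1077) (.leaf 2422))) (.node (.node (.leaf 2251) (.leaf 3457)) (.node (.leaf 2077) (.leaf 4055))))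 (.node (.node (.node (.leaf 2146) (.leaf 2215)) (.node (.leaf 2816) (.leaf 3991))) (.node (.node (.leaf 442) (.leaf 2475)) (.node (.leaf 3360) (.leaf 1026)))))) (.node (.node (.node (.node (.node (.leaf 2122) (.leaf 2959)) (.node (.leaf 2325) (.leaf 3458))) (.node (.node (.leaf 2991) (.leaf 2379)) (.node (.leaf 2169) (.leaf 2282)))) (.node (.node (.node (.leaf 196) (.leaf 3173)) (.node (.leaf 1074) (.leaf 2093))) (.node (.node (.leaf 2616) (.leaf 2688)) (.node (.leaf 2058) (.leaf 2811))))) (.node (.node (.node (.node (.leaf 125) (.leaf 2541)) (.node (.leaf 2585) (.leaf 971))) (.node (.node (.leaf 2322) (.leaf 3139)) (.node (.leaf 3684) (.leaf 3150)))) (.node (.node (.node (.leaf 258) (.leaf 2397)) (.node (.leaf 2060) (.leaf 2529))) (.node (.node (.leaf 2242) (.leaf 2751)) (.node (.leaf 2695) (.leaf 3925))))))) (.node (.node (.node (.node (.node (.node (.node (.leaf 1117) (.leaf 2172)) (.leaf 3092)) (.node (.leaf 2492) (.leaf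 2599))) (.node (.node (.leaf 297) (.leaf 1051)) (.node (.leaf 3024) (.leaf 3054)))) (.node (.node (.node (.leaf 181) (.leaf 2277)) (.node (.leaf 2066) (.leaf 2290))) (.node (.node (.leaf 3003) (.leaf 2944)) (.node (.leaf 3701) (.leaf 3421))))) (.node (.node (.node (.node (.leaf 2250) (.leaf 2885)) (.node (.leaf 3042) (.leaf 2802))) (.node (.node (.leaf 359) (.leaf 2845)) (.node (.leaf 3186) (.leaf 2544)))) (.node (.node (.node (.leaf 2256) (.leaf 2558)) (.node (.leaf 1072) (.leaf 2427))) (.node (.node (.leaf 2779) (.leaf 2676)) (.node (.leaf 2101) (.leaf 2644)))))) (.node (.node (.node (.node (.node (.leaf 68) (.leaf 2985)) (.node (.leaf 2907) (.leaf 2510))) (.node (.node (.leaf 2132) (.leaf 2856)) (.node (.leaf 2763) (.leaf 2701)))) (.node (.node (.node (.leaf 2966) (.leaf 2826)) (.node (.leaf 596) (.leaf 2562))) (.node (.node (.leaf 1085) (.leaf 3345)) (.node (.leaf 2301) (.leaf 2486))))) (.node (.node (.node (.node (.leaf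 1106) (.leaf 2543)) (.node (.leaf 2068) (.leaf 977))) (.node (.node (.leaf 2349) (.leaf 2549)) (.node (.leaf 2103) (.leaf 2462)))) (.node (.node (.node (.leaf 2333) (.leaf 2906)) (.node (.leaf 3251) (.leaf 2431))) (.node (.node (.leaf 1083) (.leaf 2524)) (.node (.leaf 2360) (.leaf 2596)))))))) (.node (.node (.node (.node (.node (.node (.node (.node (.leaf 13) (.leaf 2214)) (.leaf 2738)) (.node (.leaf 2396) (.leaf 3283))) (.node (.node (.leaf 1095) (.leaf 3217)) (.node (.leaf 2206) (.leaf 2653)))) (.node (.node (.node (.leaf 2201) (.leaf 2063)) (.node (.leaf 3667) (.leaf 2261))) (.node (.node (.leaf 2192) (.leaf 2275)) (.node (.leaf 2815) (.leaf 3909))))) (.node (.node (.node (.node (.leaf 2202) (.leaf 2794)) (.node (.leaf 2190) (.leaf 3047))) (.node (.node (.leaf 2129) (.leaf 2602)) (.node (.leaf 1067) (.leaf 3446)))) (.node (.node (.node (.leaf 234) (.leaf 2052)) (.node (.leaf 619) (.leaf 3623))) (.node (.node (.leaf 2384)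 (.leaf 2673)) (.node (.leaf 2289) (.leaf 2650)))))) (.node (.node (.node (.node (.node (.leaf 1113) (.leaf 3289)) (.node (.leaf 2136) (.leaf 1040))) (.node (.node (.leaf 1092) (.leaf 2414)) (.node (.leaf 3637) (.leaf 2663)))) (.node (.node (.node (.leaf 2193) (.leaf 2262)) (.node (.leaf 2203) (.leaf 3903))) (.node (.node (.leaf 2392) (.leaf 2297)) (.node (.leaf 1063) (.leaf 4025))))) (.node (.node (.node (.node (.leaf 134) (.leaf 2233)) (.node (.leaf 2516) (.leaf 2911))) (.node (.node (.leaf 381) (.leaf 1047)) (.node (.leaf 2381) (.leaf 3052)))) (.node (.node (.node (.leaf 2319) (.leaf 2059)) (.node (.leaf 635) (.leaf 2515))) (.node (.node (.leaf 2140) (.leaf 3936)) (.node (.leaf 2731) (.leaf 3491))))))) (.node (.node (.node (.node (.node (.node (.node (.leaf 37) (.leaf 3403)) (.leaf 2344)) (.node (.leaf 1081) (.leaf 2841))) (.node (.node (.leaf 2187) (.leaf 3437)) (.node (.leaf 2386) (.leaf 3620)))) (.node (.node (.node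 (.leaf 1103) (.leaf 2376)) (.node (.leaf 2276) (.leaf 985))) (.node (.node (.leaf 3015) (.leaf 2280)) (.node (.leaf 2371) (.leaf 1029))))) (.node (.node (.node (.node (.leaf 2205) (.leaf 804)) (.node (.leaf 2401) (.leaf 3279))) (.node (.node (.leaf 2326) (.leaf 2793)) (.node (.leaf 3443) (.leaf 2601)))) (.node (.node (.node (.leaf 2143) (.leaf 1054)) (.node (.leaf 2334) (.leaf 3472))) (.node (.node (.leaf 2365) (.leaf 2956)) (.node (.leaf 2700) (.leaf 2656)))))) (.node (.node (.node (.node (.node (.leaf 78) (.leaf 2339)) (.node (.leaf 2347) (.leaf 2211))) (.node (.node (.leaf 335) (.leaf 2532)) (.node (.leaf 2389) (.leaf 2485)))) (.node (.node (.node (.leaf 1100) (.leaf 2296)) (.node (.leaf 2298) (.leaf 2804))) (.node (.node (.leaf 2147) (.leaf 2795)) (.node (.leaf 2263) (.leaf 4000))))) (.node (.node (.node (.node (.leaf 2199) (.leaf 1058)) (.node (.leaf 2108) (.leaf 2283))) (.node (.node (.leaf 3118) (.leaf 2416)) (.node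 (.leaf 2721) (.leaf 2512)))) (.node (.node (.node (.leaf 280) (.leaf 1052)) (.node (.leaf 2336) (.leaf 2606))) (.node (.node (.leaf 2287) (.leaf 3436)) (.node (.leaf 3112) (.leaf 2528))))))))) (.node (.node (.node (.node (.node (.node (.node (.node (.node (.leaf 7) (.leaf 2207)) (.leaf 754)) (.node (.leaf 2072) (.leaf 1042))) (.node (.node (.leaf 2500) (.leaf 2748)) (.node (.leaf 2734) (.leaf 2592)))) (.node (.node (.node (.leaf 2155) (.leaf 1057)) (.node (.leaf 2987) (.leaf 2264))) (.node (.node (.leaf 3018) (.leaf 3429)) (.node (.leaf 2913) (.leaf 1030))))) (.node (.node (.node (.node (.leaf 2116) (.leaf 2778)) (.node (.leaf 2181) (.leaf 3408))) (.node (.node (.leaf 2127) (.leaf 3435)) (.node (.leaf 2880) (.leaf 3927)))) (.node (.node (.node (.leaf 2244) (.leaf 849)) (.node (.leaf 2368) (.leaf 1036))) (.node (.node (.leaf 3641) (.leaf 2055)) (.node (.leaf 2085) (.leaf 2533)))))) (.node (.node (.node (.node (.node (.leaf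 52) (.leaf 2405)) (.node (.leaf 2138) (.leaf 2850))) (.node (.node (.leaf 316) (.leaf 2548)) (.node (.leaf 658) (.leaf 2536)))) (.node (.node (.node (.leaf 2507) (.leaf 2395)) (.node (.leaf 2373) (.leaf 1037))) (.node (.node (.leaf 419) (.leaf 2691)) (.node (.leaf 2912) (.leaf 1028))))) (.node (.node (.node (.node (.leaf 2177) (.leaf 3264)) (.node (.leaf 2130) (.leaf 3036))) (.node (.node (.leaf 377) (.leaf 3725)) (.node (.leaf 3265) (.leaf 2605)))) (.node (.node (.node (.leaf 1097) (.leaf 2330)) (.node (.leaf 2358) (.leaf 3155))) (.node (.node (.leaf 2142) (.leaf 928)) (.node (.leaf 2099) (.leaf 1024))))))) (.node (.node (.node (.node (.node (.node (.node (.leaf 31) (.leaf 2837)) (.leaf 758)) (.node (.leaf 3661) (.leaf 2591))) (.node (.node (.leaf 2573) (.leaf 2586)) (.node (.leaf 2580) (.leaf 3001)))) (.node (.node (.node (.leaf 2613) (.leaf 2932)) (.node (.leaf 2234) (.leaf 2790))) (.node (.node (.leaf 2509) (.leaf 3337))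 (.node (.leaf 2284) (.leaf 3479))))) (.node (.node (.node (.node (.leaf 2165) (.leaf 802)) (.node (.leaf 1076) (.leaf 2708))) (.node (.node (.leaf 1089) (.leaf 2827)) (.node (.leaf 3587) (.leaf 2542)))) (.node (.node (.node (.leaf 2141) (.leaf 3179)) (.node (.leaf 2171) (.leaf 2413))) (.node (.node (.leaf 2074) (.leaf 2683)) (.node (.leaf 2071) (.leaf 2891)))))) (.node (.node (.node (.node (.node (.leaf 2180) (.leaf 776)) (.node (.leaf 2872) (.leaf 2781))) (.node (.node (.leaf 2249) (.leaf 1049)) (.node (.leaf 2511) (.leaf 2822)))) (.node (.node (.node (.leaf 215) (.leaf 2874)) (.node (.leaf 2784) (.leaf 2678))) (.node (.node (.leaf 3248) (.leaf 2305)) (.node (.leaf 2782) (.leaf 1027))))) (.node (.node (.node (.node (.leaf 2110) (.leaf 3626)) (.node (.leaf 2342) (.leaf 3325))) (.node (.node (.leaf 2182) (.leaf 2953)) (.node (.leaf 2075) (.leaf 3136)))) (.node (.node (.node (.leaf 276) (.leaf 2361)) (.node (.leaf 1070) (.leaf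 3145))) (.node (.node (.leaf 2257) (.leaf 2889)) (.node (.leaf 2740) (.leaf 4021)))))))) (.node (.node (.node (.node (.node (.node (.node (.node (.leaf 19) (.leaf 2444)) (.leaf 2436)) (.node (.leaf 2323) (.leaf 3040))) (.node (.node (.leaf 2109) (.leaf 2387)) (.node (.leaf 2437) (.leaf 2847)))) (.node (.node (.node (.leaf 2318) (.leaf 2247)) (.node (.leaf 2094) (.leaf 3711))) (.node (.node (.leaf 2409) (.leaf 2271)) (.node (.leaf 1064) (.leaf 3050))))) (.node (.node (.node (.node (.leaf 1109) (.leaf 2222)) (.node (.leaf 2973) (.leaf 2705))) (.node (.node (.leaf 2364) (.leaf 2433)) (.node (.leaf 2432) (.leaf 1009)))) (.node (.node (.node (.leaf 2610) (.leaf 2302)) (.node (.leaf 622) (.leaf 2594))) (.node (.node (.leaf 448) (.leaf 2869)) (.node (.leaf 3190) (.leaf 3482)))))) (.node (.node (.node (.node (.node (.leaf 2121) (.leaf 2241)) (.node (.leaf 2746) (.leaf 2221))) (.node (.node (.leaf 2408) (.leaf 3639)) (.node (.leaf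 2378) (.leaf 2664)))) (.node (.node (.node (.leaf 2761) (.leaf 2216)) (.node (.leaf 2310) (.leaf 2867))) (.node (.node (.leaf 3008) (.leaf 2480)) (.node (.leaf 2254) (.leaf 2702))))) (.node (.node (.node (.node (.leaf 140) (.leaf 3007)) (.node (.leaf 2096) (.leaf 2270))) (.node (.node (.leaf 1088) (.leaf 1046)) (.node (.leaf 2980) (.leaf 2626)))) (.node (.node (.node (.leaf 2163) (.leaf 2571)) (.node (.leaf 2489) (.leaf 2604))) (.node (.node (.leaf 2933) (.leaf 2345)) (.node (.leaf 2903) (.leaf 2876))))))) (.node (.node (.node (.node (.node (.node (.node (.leaf 1115) (.leaf 2240)) (.leaf 2113)) (.node (.leaf 2352) (.leaf 3002))) (.node (.node (.leaf 2765) (.leaf 3459)) (.node (.leaf 2419) (.leaf 3938)))) (.node (.node (.node (.leaf 2115) (.leaf 2567)) (.node (.leaf 582) (.leaf 2947))) (.node (.node (.leaf 2578) (.leaf 2088)) (.node (.leaf 2087) (.leaf 2465))))) (.node (.node (.node (.node (.leaf 2327) (.leaf 3044)) (.node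 (.leaf 2156) (.leaf 2545))) (.node (.node (.leaf 2153) (.leaf 898)) (.node (.leaf 3056) (.leaf 2589)))) (.node (.node (.node (.leaf 2372) (.leaf 3380)) (.node (.leaf 2089) (.leaf 2623))) (.node (.node (.leaf 3075) (.leaf 2755)) (.node (.leaf 1061) (.leaf 3984)))))) (.node (.node (.node (.node (.node (.leaf 84) (.leaf 2969)) (.node (.leaf 1078) (.leaf 3142))) (.node (.node (.leaf 2499) (.leaf 2513)) (.node (.leaf 2105) (.leaf 4004)))) (.node (.node (.node (.leaf 2420) (.leaf 2949)) (.node (.leaf 2253) (.leaf 3916))) (.node (.node (.leaf 2412) (.leaf 3723)) (.node (.leaf 2307) (.leaf 3897))))) (.node (.node (.node (.node (.leaf 1105) (.leaf 2220)) (.node (.leaf 2400) (.leaf 2053))) (.node (.node (.leaf 2194) (.leaf 3629)) (.node (.leaf 2954) (.leaf 2617)))) (.node (.node (.node (.leaf 1096) (.leaf 2335)) (.node (.leaf 1069) (.leaf 2618))) (.node (.node (.leaf 2362) (.leaf 2546)) (.node (.leaf 2805) (.leaf 3942))))))))))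

def twoRank1 : Janko.Tree (ℕ) :=
  (.node (.node (.node (.node (.node (.node (.node (.node (.node (.node (.leaf 1) (.leaf 1119)) (.leaf 753)) (.node (.leaf 3732) (.leaf 3499))) (.node (.node (.leaf 3691) (.leaf 1249)) (.node (.leaf 2752) (.leaf 1169)))) (.node (.node (.node (.leaf 162) (.leaf 1270)) (.node (.leaf 1348) (.leaf 3768))) (.node (.node (.leaf 392) (.leaf 3765)) (.node (.leaf 1309) (.leaf 1150))))) (.node (.node (.node (.node (.leaf 89) (.leaf 1281)) (.node (.leaf 3082) (.leaf 964))) (.node (.node (.leaf 343) (.leaf 3779)) (.node (.leaf 679) (.leaf 3997)))) (.node (.node (.node (.leaf 229) (.leaf 846)) (.node (.leaf 1339) (.leaf 1175))) (.node (.node (.leaf 1375) (.leaf 1219)) (.node (.leaf 3364) (.leaf 3221)))))) (.node (.node (.node (.node (.node (.leaf 47) (.leaf 1285)) (.node (.leaf 3316) (.leaf 1200))) (.node (.node (.leaf 1398) (.leaf 3049)) (.node (.leaf 2984) (.leaf 2926)))) (.node (.node (.node (.leaf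 1416) (.leaf 1264)) (.node (.leaf 3083) (.leaf 3812))) (.node (.node (.leaf 1380) (.leaf 2685)) (.node (.leaf 3748) (.leaf 1143))))) (.node (.node (.node (.node (.leaf 1425) (.leaf 1276)) (.node (.leaf 537) (.leaf 1189))) (.node (.node (.leaf 373) (.leaf 3833)) (.node (.leaf 696) (.leaf 3819)))) (.node (.node (.node (.leaf 1407) (.leaf 2686)) (.node (.leaf 631) (.leaf 1171))) (.node (.node (.leaf 2501) (.leaf 3762)) (.node (.leaf 1294) (.leaf 1129))))))) (.node (.node (.node (.node (.node (.node (.node (.leaf 25) (.leaf 2902)) (.leaf 3068)) (.node (.leaf 1364) (.leaf 2900))) (.node (.node (.leaf 1400) (.leaf 2839)) (.node (.leaf 1327) (.leaf 3783)))) (.node (.node (.node (.leaf 1418) (.leaf 823)) (.node (.leaf 575) (.leaf 984))) (.node (.node (.leaf 1382) (.leaf 913)) (.node (.leaf 3370) (.leaf 1147))))) (.node (.node (.node (.node (.leaf 106) (.leaf 1279)) (.node (.leaf 1354) (.leaf 1194))) (.node (.node (.leaf 1391) (.leaf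 1235)) (.node (.leaf 690) (.leaf 1011)))) (.node (.node (.node (.leaf 242) (.leaf 1256)) (.node (.leaf 3081) (.leaf 995))) (.node (.node (.leaf 451) (.leaf 1216)) (.node (.leaf 3790) (.leaf 2893)))))) (.node (.node (.node (.node (.node (.leaf 1432) (.leaf 1283)) (.node (.leaf 1359) (.leaf 3511))) (.node (.node (.leaf 330) (.leaf 1240)) (.node (.leaf 663) (.leaf 3383)))) (.node (.node (.node (.leaf 1414) (.leaf 1262)) (.node (.leaf 1341) (.leaf 3782))) (.node (.node (.leaf 2978) (.leaf 3808)) (.node (.leaf 3510) (.leaf 3841))))) (.node (.node (.node (.node (.leaf 145) (.leaf 1273)) (.node (.leaf 551) (.leaf 1187))) (.node (.node (.leaf 3321) (.leaf 904)) (.node (.leaf 700) (.leaf 1152)))) (.node (.node (.node (.leaf 272) (.leaf 1252)) (.node (.leaf 1331) (.leaf 2534))) (.node (.node (.leaf 477) (.leaf 933)) (.node (.leaf 2730) (.leaf 3840)))))))) (.node (.node (.node (.node (.node (.node (.node (.node (.leaf 14) (.leaf 2232))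 (.leaf 3744)) (.node (.leaf 495) (.leaf 1206))) (.node (.node (.leaf 2577) (.leaf 3764)) (.node (.leaf 3078) (.leaf 2849)))) (.node (.node (.node (.leaf 172) (.leaf 819)) (.node (.leaf 569) (.leaf 2476))) (.node (.node (.leaf 398) (.leaf 910)) (.node (.leaf 1307) (.leaf 1020))))) (.node (.node (.node (.node (.leaf 2312) (.leaf 2860)) (.node (.leaf 520) (.leaf 3745))) (.node (.node (.leaf 351) (.leaf 2898)) (.node (.leaf 2865) (.leaf 3793)))) (.node (.node (.node (.leaf 1411) (.leaf 853)) (.node (.leaf 1338) (.leaf 3737))) (.node (.node (.leaf 447) (.leaf 2828)) (.node (.leaf 743) (.leaf 1136)))))) (.node (.node (.node (.node (.node (.leaf 58) (.leaf 771)) (.node (.leaf 510) (.leaf 2895))) (.node (.node (.leaf 321) (.leaf 875)) (.node (.leaf 661) (.leaf 2927)))) (.node (.node (.node (.leaf 203) (.leaf 2914)) (.node (.leaf 3304) (.leaf 988))) (.node (.node (.leaf 424) (.leaf 3532)) (.node (.leaf 2832) (.leaf 3854))))) (.node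 (.node (.node (.node (.leaf 135) (.leaf 809)) (.node (.leaf 543) (.leaf 1188))) (.node (.node (.leaf 1387) (.leaf 3037)) (.node (.leaf 3573) (.leaf 3763)))) (.node (.node (.node (.leaf 265) (.leaf 859)) (.node (.leaf 1333) (.leaf 3124))) (.node (.node (.leaf 470) (.leaf 929)) (.node (.leaf 2753) (.leaf 1126))))))) (.node (.node (.node (.node (.node (.node (.node (.leaf 1435) (.leaf 3121)) (.leaf 2993)) (.node (.leaf 3098) (.leaf 1202))) (.node (.node (.leaf 304) (.leaf 3733)) (.node (.leaf 652) (.leaf 1163)))) (.node (.node (.node (.leaf 2505) (.leaf 2563)) (.node (.leaf 578) (.leaf 1184))) (.node (.node (.leaf 1381) (.leaf 917)) (.node (.leaf 3339) (.leaf 3477))))) (.node (.node (.node (.node (.leaf 116) (.leaf 1277)) (.node (.leaf 3654) (.leaf 1191))) (.node (.node (.leaf 366) (.leaf 896)) (.node (.leaf 3791) (.leaf 1013)))) (.node (.node (.node (.leaf 250) (.leaf 2560)) (.node (.leaf 3655) (.leaf 1172))) (.node (.node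 (.leaf 460) (.leaf 1215)) (.node (.leaf 3114) (.leaf 1131)))))) (.node (.node (.node (.node (.node (.leaf 79) (.leaf 781)) (.node (.leaf 3361) (.leaf 960))) (.node (.node (.leaf 1395) (.leaf 3567)) (.node (.leaf 672) (.leaf 3980)))) (.node (.node (.node (.leaf 220) (.leaf 843)) (.node (.leaf 605) (.leaf 1177))) (.node (.node (.leaf 436) (.leaf 3529)) (.node (.leaf 733) (.leaf 3992))))) (.node (.node (.node (.node (.leaf 2314) (.leaf 3009)) (.node (.leaf 3309) (.leaf 3518))) (.node (.node (.leaf 1385) (.leaf 906)) (.node (.leaf 3053) (.leaf 3531)))) (.node (.node (.node (.leaf 1403) (.leaf 3089)) (.node (.leaf 642) (.leaf 1003))) (.node (.node (.leaf 485) (.leaf 1209)) (.node (.leaf 3065) (.leaf 3917))))))))) (.node (.node (.node (.node (.node (.node (.node (.node (.node (.leaf 1437) (.leaf 2209)) (.leaf 1288)) (.node (.leaf 3754) (.leaf 2540))) (.node (.node (.leaf 2611) (.leaf 3784)) (.node (.leaf 1328) (.leaf 1167)))) (.node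 (.node (.node (.leaf 167) (.leaf 2975)) (.node (.leaf 1347) (.leaf 2923))) (.node (.node (.leaf 3012) (.leaf 3785)) (.node (.leaf 1308) (.leaf 2530))))) (.node (.node (.node (.node (.leaf 94) (.leaf 792)) (.node (.leaf 3084) (.leaf 1195))) (.node (.node (.leaf 346) (.leaf 3795)) (.node (.leaf 1320) (.leaf 1156)))) (.node (.node (.node (.leaf 2758) (.leaf 1258)) (.node (.leaf 615) (.leaf 3213))) (.node (.node (.leaf 1374) (.leaf 3802)) (.node (.leaf 741) (.leaf 1137)))))) (.node (.node (.node (.node (.node (.leaf 53) (.leaf 768)) (.node (.leaf 509) (.leaf 1199))) (.node (.node (.leaf 1397) (.leaf 1244)) (.node (.leaf 1324) (.leaf 1160)))) (.node (.node (.node (.leaf 1415) (.leaf 832)) (.node (.leaf 591) (.leaf 2479))) (.node (.node (.leaf 1379) (.leaf 1223)) (.node (.leaf 1303) (.leaf 2948))))) (.node (.node (.node (.node (.leaf 1424) (.leaf 1275)) (.node (.leaf 2979) (.leaf 3757))) (.node (.node (.leaf 1388) (.leaf 3525))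 (.node (.leaf 697) (.leaf 1016)))) (.node (.node (.node (.leaf 260) (.leaf 3302)) (.node (.leaf 634) (.leaf 3829))) (.node (.node (.leaf 465) (.leaf 1211)) (.node (.leaf 747) (.leaf 2463))))))) (.node (.node (.node (.node (.node (.node (.node (.leaf 32) (.leaf 2230)) (.leaf 1286)) (.node (.leaf 1363) (.leaf 942))) (.node (.node (.leaf 1399) (.leaf 3615)) (.node (.leaf 650) (.leaf 3769)))) (.node (.node (.node (.leaf 2498) (.leaf 1266)) (.node (.leaf 3589) (.leaf 2888))) (.node (.node (.leaf 2773) (.leaf 3818)) (.node (.leaf 3129) (.leaf 1146))))) (.node (.node (.node (.node (.leaf 111) (.leaf 1278)) (.node (.leaf 3011) (.leaf 1192))) (.node (.node (.leaf 361) (.leaf 1234)) (.node (.leaf 3775) (.leaf 1012)))) (.node (.node (.node (.leaf 245) (.leaf 1255)) (.node (.leaf 1336) (.leaf 3474))) (.node (.node (.leaf 456) (.leaf 3900)) (.node (.leaf 3774) (.leaf 1132)))))) (.node (.node (.node (.node (.node (.leaf 1431) (.leaf 1282))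 (.node (.leaf 1358) (.leaf 958))) (.node (.node (.leaf 2772) (.leaf 2897)) (.node (.leaf 668) (.leaf 1158)))) (.node (.node (.node (.leaf 1413) (.leaf 1261)) (.node (.leaf 601) (.leaf 3896))) (.node (.node (.leaf 432) (.leaf 3526)) (.node (.leaf 2862) (.leaf 2922))))) (.node (.node (.node (.node (.leaf 150) (.leaf 1272)) (.node (.leaf 555) (.leaf 3830))) (.node (.node (.leaf 3099) (.leaf 1230)) (.node (.leaf 701) (.leaf 3807)))) (.node (.node (.node (.leaf 1404) (.leaf 3207)) (.node (.leaf 2491) (.leaf 3799))) (.node (.node (.leaf 3372) (.leaf 1210)) (.node (.leaf 1291) (.leaf 3855)))))))) (.node (.node (.node (.node (.node (.node (.node (.node (.leaf 20) (.leaf 2082)) (.leaf 3117)) (.node (.leaf 2488) (.leaf 1204))) (.node (.node (.leaf 293) (.leaf 3038)) (.node (.leaf 3238) (.leaf 1166)))) (.node (.node (.node (.leaf 177) (.leaf 2835)) (.node (.leaf 574) (.leaf 3796))) (.node (.node (.leaf 401) (.leaf 912)) (.node (.leaf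 2950) (.leaf 3741))))) (.node (.node (.node (.node (.leaf 101) (.leaf 796)) (.node (.leaf 1355) (.leaf 3029))) (.node (.node (.leaf 355) (.leaf 888)) (.node (.leaf 3574) (.leaf 1155)))) (.node (.node (.node (.leaf 1410) (.leaf 3530)) (.node (.leaf 1337) (.leaf 993))) (.node (.node (.leaf 1373) (.leaf 1218)) (.node (.leaf 1297) (.leaf 1134)))))) (.node (.node (.node (.node (.node (.leaf 64) (.leaf 773)) (.node (.leaf 2741) (.leaf 3602))) (.node (.node (.leaf 326) (.leaf 1242)) (.node (.leaf 3605) (.leaf 1159)))) (.node (.node (.node (.leaf 207) (.leaf 836)) (.node (.leaf 3105) (.leaf 1180))) (.node (.node (.leaf 1378) (.leaf 1222)) (.node (.leaf 3176) (.leaf 3376))))) (.node (.node (.node (.node (.leaf 1423) (.leaf 1274)) (.node (.leaf 546) (.leaf 3730))) (.node (.node (.leaf 3094) (.leaf 3445)) (.node (.leaf 3305) (.leaf 3130)))) (.node (.node (.node (.leaf 270) (.leaf 861)) (.node (.leaf 1332) (.leaf 2878))) (.node (.node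 (.leaf 1369) (.leaf 3442)) (.node (.leaf 1293) (.leaf 1124))))))) (.node (.node (.node (.node (.node (.node (.node (.leaf 42) (.leaf 2237)) (.leaf 3301)) (.node (.leaf 3413) (.leaf 1201))) (.node (.node (.leaf 308) (.leaf 3753)) (.node (.leaf 654) (.leaf 1007)))) (.node (.node (.node (.leaf 192) (.leaf 1265)) (.node (.leaf 1343) (.leaf 2941))) (.node (.node (.leaf 2771) (.leaf 3792)) (.node (.leaf 3738) (.leaf 1144))))) (.node (.node (.node (.node (.leaf 121) (.leaf 2981)) (.node (.leaf 535) (.leaf 970))) (.node (.node (.leaf 371) (.leaf 1233)) (.node (.leaf 2547) (.leaf 2593)))) (.node (.node (.node (.leaf 254) (.leaf 3786)) (.node (.leaf 630) (.leaf 3122))) (.node (.node (.leaf 1371) (.leaf 3740)) (.node (.leaf 3202) (.leaf 1130)))))) (.node (.node (.node (.node (.node (.leaf 1430) (.leaf 3315)) (.node (.leaf 3064) (.leaf 3821))) (.node (.node (.leaf 1394) (.leaf 3182)) (.node (.leaf 674) (.leaf 1157)))) (.node (.node (.node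 (.leaf 225) (.leaf 1260)) (.node (.leaf 609) (.leaf 1176))) (.node (.node (.leaf 438) (.leaf 1220)) (.node (.leaf 1299) (.leaf 3923))))) (.node (.node (.node (.node (.leaf 157) (.leaf 815)) (.node (.leaf 559) (.leaf 3736))) (.node (.node (.leaf 2502) (.leaf 1227)) (.node (.leaf 1311) (.leaf 3515)))) (.node (.node (.node (.leaf 3104) (.leaf 863)) (.node (.leaf 3241) (.leaf 2817))) (.node (.node (.leaf 488) (.leaf 1208)) (.node (.leaf 1290) (.leaf 3951))))))))))

def twoRank2 : Janko.Tree (ℕ) :=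
  (.node (.node (.node (.node (.node (.node (.node (.node (.node (.node (.leaf 2) (.leaf 1438)) (.leaf 3381)) (.node (.leaf 3690) (.leaf 3570))) (.node (.node (.leaf 3373) (.leaf 4113)) (.node (.leaf 1621) (.leaf 2882)))) (.node (.node (.node (.leaf 163) (.leaf 4124)) (.node (.leaf 563) (.leaf 3706))) (.node (.node (.leaf 393) (.leaf 3496)) (.node (.leaf 2716) (.leaf 4108))))) (.node (.node (.node (.node (.leaf 90) (.leaf 788)) (.node (.leaf 516) (.leaf 1495))) (.node (.node (.leaf 344) (.leaf 3585)) (.node (.leaf 1610) (.leaf 1460)))) (.node (.node (.node (.leaf 2448) (.leaf 1549)) (.node (.leaf 612) (.leaf 4027))) (.node (.node (.leaf 443) (.leaf 2667)) (.node (.leaf 737) (.leaf 4074)))))) (.node (.node (.node (.node (.node (.leaf 1727) (.leaf 766)) (.node (.leaf 507) (.leaf 3562))) (.node (.node (.leaf 312) (.leaf 1535)) (.node (.leaf 3022) (.leaf 1462)))) (.node (.node (.node (.leaf 197) (.leaf 3359)) (.node (.leaf 587)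 (.leaf 3347))) (.node (.node (.leaf 2767) (.leaf 1517)) (.node (.leaf 1596) (.leaf 2821))))) (.node (.node (.node (.node (.leaf 126) (.leaf 805)) (.node (.leaf 538) (.leaf 972))) (.node (.node (.leaf 1681) (.leaf 1527)) (.node (.leaf 3662) (.leaf 3565)))) (.node (.node (.node (.leaf 259) (.leaf 1544)) (.node (.leaf 1625) (.leaf 999))) (.node (.node (.leaf 1662) (.leaf 3228)) (.node (.leaf 2680) (.leaf 3906))))))) (.node (.node (.node (.node (.node (.node (.node (.leaf 26) (.leaf 2905)) (.leaf 3086)) (.node (.leaf 499) (.leaf 1503))) (.node (.node (.leaf 298) (.leaf 869)) (.node (.leaf 645) (.leaf 3448)))) (.node (.node (.node (.leaf 182) (.leaf 1557)) (.node (.leaf 1637) (.leaf 1482))) (.node (.node (.leaf 404) (.leaf 1521)) (.node (.leaf 714) (.leaf 1021))))) (.node (.node (.node (.node (.leaf 107) (.leaf 799)) (.node (.leaf 526) (.leaf 4154))) (.node (.node (.leaf 360) (.leaf 891)) (.node (.leaf 3551) (.leaf 3483)))) (.node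 (.node (.node (.leaf 243) (.leaf 2694)) (.node (.leaf 623) (.leaf 1474))) (.node (.node (.leaf 452) (.leaf 2666)) (.node (.leaf 3374) (.leaf 1442)))))) (.node (.node (.node (.node (.node (.leaf 69) (.leaf 3556)) (.node (.leaf 3860) (.leaf 3541))) (.node (.node (.leaf 2459) (.leaf 876)) (.node (.leaf 664) (.leaf 3378)))) (.node (.node (.node (.leaf 211) (.leaf 839)) (.node (.leaf 597) (.leaf 3387))) (.node (.node (.leaf 429) (.leaf 1514)) (.node (.leaf 3168) (.leaf 3998))))) (.node (.node (.node (.node (.leaf 146) (.leaf 2707)) (.node (.leaf 1641) (.leaf 978))) (.node (.node (.leaf 3205) (.leaf 3494)) (.node (.leaf 3250) (.leaf 2877)))) (.node (.node (.node (.leaf 1697) (.leaf 3868)) (.node (.leaf 3280) (.leaf 1468))) (.node (.node (.leaf 478) (.leaf 1506)) (.node (.leaf 1582) (.leaf 4075)))))))) (.node (.node (.node (.node (.node (.node (.node (.node (.leaf 15) (.leaf 2638)) (.leaf 3688)) (.node (.leaf 1656) (.leaf 4098)))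 (.node (.node (.leaf 290) (.leaf 1539)) (.node (.leaf 1620) (.leaf 1464)))) (.node (.node (.node (.leaf 1712) (.leaf 1559)) (.node (.leaf 570) (.leaf 1484))) (.node (.node (.leaf 1675) (.leaf 1523)) (.node (.leaf 709) (.leaf 4087))))) (.node (.node (.node (.node (.leaf 1722) (.leaf 1568)) (.node (.leaf 2971) (.leaf 3418))) (.node (.node (.leaf 1684) (.leaf 1531)) (.node (.leaf 684) (.leaf 1459)))) (.node (.node (.node (.leaf 235) (.leaf 1548)) (.node (.leaf 620) (.leaf 3617))) (.node (.node (.leaf 1665) (.leaf 1509)) (.node (.leaf 1588) (.leaf 2632)))))) (.node (.node (.node (.node (.node (.leaf 59) (.leaf 3268)) (.node (.leaf 1652) (.leaf 950))) (.node (.node (.leaf 322) (.leaf 3480)) (.node (.leaf 1614) (.leaf 1461)))) (.node (.node (.node (.leaf 204) (.leaf 1553)) (.node (.leaf 2457) (.leaf 3937))) (.node (.node (.leaf 1669) (.leaf 4116)) (.node (.leaf 724) (.leaf 4070))))) (.node (.node (.node (.node (.leaf 136) (.leaf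 1562)) (.node (.leaf 544) (.leaf 974))) (.node (.node (.leaf 3276) (.leaf 2964)) (.node (.leaf 3456) (.leaf 3484)))) (.node (.node (.node (.leaf 266) (.leaf 1543)) (.node (.leaf 3183) (.leaf 4095))) (.node (.node (.leaf 1661) (.leaf 1508)) (.node (.leaf 1583) (.leaf 4067))))))) (.node (.node (.node (.node (.node (.node (.node (.leaf 38) (.leaf 2228)) (.leaf 1576)) (.node (.leaf 503) (.leaf 945))) (.node (.node (.leaf 305) (.leaf 3606)) (.node (.leaf 653) (.leaf 4063)))) (.node (.node (.node (.leaf 189) (.leaf 1556)) (.node (.leaf 579) (.leaf 2928))) (.node (.node (.leaf 410) (.leaf 1519)) (.node (.leaf 718) (.leaf 4024))))) (.node (.node (.node (.node (.leaf 1719) (.leaf 3575)) (.node (.leaf 532) (.leaf 4106))) (.node (.node (.leaf 367) (.leaf 3974)) (.node (.leaf 1607) (.leaf 1456)))) (.node (.node (.node (.leaf 1700) (.leaf 2697)) (.node (.leaf 627) (.leaf 3858))) (.node (.node (.leaf 1663) (.leaf 4121)) (.node (.leaf 1586)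 (.leaf 2654)))))) (.node (.node (.node (.node (.node (.leaf 80) (.leaf 1570)) (.node (.leaf 3365) (.leaf 1497))) (.node (.node (.leaf 336) (.leaf 881)) (.node (.leaf 673) (.leaf 3994)))) (.node (.node (.node (.leaf 221) (.leaf 1550)) (.node (.leaf 1631) (.leaf 3880))) (.node (.node (.leaf 2450) (.leaf 3972)) (.node (.leaf 3887) (.leaf 4071))))) (.node (.node (.node (.node (.leaf 1715) (.leaf 2709)) (.node (.leaf 2442) (.leaf 3877))) (.node (.node (.leaf 388) (.leaf 3450)) (.node (.leaf 1601) (.leaf 3964)))) (.node (.node (.node (.leaf 3247) (.leaf 3407)) (.node (.leaf 643) (.leaf 1466))) (.node (.node (.leaf 3166) (.leaf 3805)) (.node (.leaf 1581) (.leaf 3948))))))))) (.node (.node (.node (.node (.node (.node (.node (.node (.node (.leaf 8) (.leaf 2218)) (.leaf 755)) (.node (.leaf 1657) (.leaf 2713))) (.node (.node (.leaf 1694) (.leaf 3375)) (.node (.leaf 2726) (.leaf 2651)))) (.node (.node (.node (.leaf 1713) (.leaf 3503))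 (.node (.leaf 3023) (.leaf 1485))) (.node (.node (.leaf 1676) (.leaf 1524)) (.node (.leaf 707) (.leaf 2640))))) (.node (.node (.node (.node (.leaf 1723) (.leaf 2829)) (.node (.leaf 1649) (.leaf 3191))) (.node (.node (.leaf 347) (.leaf 1532)) (.node (.leaf 682) (.leaf 3856)))) (.node (.node (.node (.leaf 1703) (.leaf 850)) (.node (.leaf 1629) (.leaf 3993))) (.node (.node (.leaf 3656) (.leaf 1510)) (.node (.leaf 3320) (.leaf 2633)))))) (.node (.node (.node (.node (.node (.leaf 1726) (.leaf 1574)) (.node (.leaf 3664) (.leaf 948))) (.node (.node (.leaf 317) (.leaf 2999)) (.node (.leaf 3051) (.leaf 2659)))) (.node (.node (.node (.leaf 201) (.leaf 1554)) (.node (.leaf 592) (.leaf 2671))) (.node (.node (.leaf 420) (.leaf 2696)) (.node (.leaf 722) (.leaf 2942))))) (.node (.node (.node (.node (.leaf 129) (.leaf 3295)) (.node (.leaf 1643) (.leaf 3473))) (.node (.node (.leaf 378) (.leaf 4139)) (.node (.leaf 1604) (.leaf 1453)))) (.node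 (.node (.node (.leaf 261) (.leaf 3087)) (.node (.leaf 1624) (.leaf 1471))) (.node (.node (.leaf 466) (.leaf 3913)) (.node (.leaf 3259) (.leaf 2646))))))) (.node (.node (.node (.node (.node (.node (.node (.leaf 33) (.leaf 2482)) (.leaf 759)) (.node (.leaf 3685) (.leaf 1502))) (.node (.node (.leaf 302) (.leaf 3811)) (.node (.leaf 1618) (.leaf 3492)))) (.node (.node (.node (.leaf 1710) (.leaf 826)) (.node (.leaf 3715) (.leaf 1481))) (.node (.node (.leaf 1673) (.leaf 3400)) (.node (.leaf 3521) (.leaf 3981))))) (.node (.node (.node (.node (.leaf 1720) (.leaf 3000)) (.node (.leaf 529) (.leaf 2712))) (.node (.node (.leaf 362) (.leaf 893)) (.node (.leaf 3455) (.leaf 3453)))) (.node (.node (.node (.leaf 246) (.leaf 3177)) (.node (.leaf 3100) (.leaf 3478))) (.node (.node (.leaf 1664) (.leaf 3714)) (.node (.leaf 1587) (.leaf 2639)))))) (.node (.node (.node (.node (.node (.leaf 73) (.leaf 777)) (.node (.leaf 4123) (.leaf 1498))) (.node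 (.node (.leaf 1687) (.leaf 878)) (.node (.leaf 1612) (.leaf 2672)))) (.node (.node (.node (.leaf 216) (.leaf 841)) (.node (.leaf 602) (.leaf 3689))) (.node (.node (.leaf 433) (.leaf 3867)) (.node (.leaf 1592) (.leaf 2943))))) (.node (.node (.node (.node (.leaf 1716) (.leaf 3663)) (.node (.leaf 556) (.leaf 1489))) (.node (.node (.leaf 3103) (.leaf 3975)) (.node (.leaf 1602) (.leaf 1450)))) (.node (.node (.node (.leaf 277) (.leaf 3203)) (.node (.leaf 2750) (.leaf 3592))) (.node (.node (.leaf 482) (.leaf 934)) (.node (.leaf 2747) (.leaf 4077)))))))) (.node (.node (.node (.node (.node (.node (.node (.node (.leaf 1729) (.leaf 2440)) (.leaf 1578)) (.node (.leaf 1655) (.leaf 2710))) (.node (.node (.leaf 294) (.leaf 1538)) (.node (.leaf 3256) (.leaf 2652)))) (.node (.node (.node (.leaf 1711) (.leaf 1558)) (.node (.leaf 3285) (.leaf 3416))) (.node (.node (.leaf 1674) (.leaf 1522)) (.node (.leaf 711) (.leaf 3422))))) (.node (.node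 (.node (.node (.leaf 102) (.leaf 1567)) (.node (.leaf 523) (.leaf 1494))) (.node (.node (.leaf 1683) (.leaf 1530)) (.node (.leaf 687) (.leaf 2887)))) (.node (.node (.node (.leaf 239) (.leaf 4110)) (.node (.leaf 3175) (.leaf 1475))) (.node (.node (.leaf 3558) (.leaf 3822)) (.node (.leaf 3549) (.leaf 4011)))))) (.node (.node (.node (.node (.node (.leaf 65) (.leaf 1572)) (.node (.leaf 1651) (.leaf 953))) (.node (.node (.leaf 327) (.leaf 4126)) (.node (.leaf 3618) (.leaf 2658)))) (.node (.node (.node (.leaf 1707) (.leaf 1552)) (.node (.leaf 3097) (.leaf 3832))) (.node (.node (.leaf 428) (.leaf 2820)) (.node (.leaf 727) (.leaf 3389))))) (.node (.node (.node (.node (.leaf 141) (.leaf 3509)) (.node (.leaf 547) (.leaf 4038))) (.node (.node (.leaf 383) (.leaf 3612)) (.node (.leaf 3014) (.leaf 4131)))) (.node (.node (.node (.leaf 2458) (.leaf 3392)) (.node (.leaf 2727) (.leaf 1469))) (.node (.node (.leaf 474) (.leaf 931)) (.node (.leaf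 4049) (.leaf 2892))))))) (.node (.node (.node (.node (.node (.node (.node (.leaf 43) (.leaf 2801)) (.leaf 2460)) (.node (.leaf 3371) (.leaf 3055))) (.node (.node (.leaf 1691) (.leaf 1536)) (.node (.leaf 1616) (.leaf 1463)))) (.node (.node (.node (.leaf 193) (.leaf 830)) (.node (.leaf 583) (.leaf 1480))) (.node (.node (.leaf 1671) (.leaf 3366)) (.node (.leaf 3713) (.leaf 2921))))) (.node (.node (.node (.node (.leaf 1718) (.leaf 1565)) (.node (.leaf 2441) (.leaf 3487))) (.node (.node (.leaf 2452) (.leaf 899)) (.node (.leaf 1605) (.leaf 1455)))) (.node (.node (.node (.leaf 1699) (.leaf 3391)) (.node (.leaf 3681) (.leaf 4141))) (.node (.node (.leaf 464) (.leaf 3390)) (.node (.leaf 3695) (.leaf 3846)))))) (.node (.node (.node (.node (.node (.leaf 85) (.leaf 2439)) (.node (.leaf 3163) (.leaf 3580))) (.node (.node (.leaf 340) (.leaf 3555)) (.node (.leaf 675) (.leaf 4083)))) (.node (.node (.node (.leaf 226) (.leaf 845)) (.node (.leaf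 1630) (.leaf 990))) (.node (.node (.leaf 1667) (.leaf 4137)) (.node (.leaf 2834) (.leaf 3851))))) (.node (.node (.node (.node (.leaf 158) (.leaf 816)) (.node (.leaf 1639) (.leaf 1487))) (.node (.node (.leaf 1677) (.leaf 4132)) (.node (.leaf 4096) (.leaf 3875)))) (.node (.node (.node (.leaf 282) (.leaf 3219)) (.node (.leaf 3284) (.leaf 1465))) (.node (.node (.leaf 489) (.leaf 3027)) (.node (.leaf 3890) (.leaf 1439))))))))))

def twoRank3 : Janko.Tree (ℕ) :=
  (.node (.node (.node (.node (.node (.node (.node (.node (.node (.node (.leaf 3) (.leaf 1731)) (.leaf 1896)) (.node (.leaf 1974) (.leaf 1815))) (.node (.node (.leaf 2016) (.leaf 4109)) (.node (.leaf 3703) (.leaf 3960)))) (.node (.node (.node (.leaf 2034) (.leaf 4128)) (.node (.leaf 564) (.leaf 1795))) (.node (.node (.leaf 1997) (.leaf 1836)) (.node (.leaf 706) (.leaf 3120))))) (.node (.node (.node (.node (.leaf 2145) (.leaf 789)) (.node (.leaf 2615) (.leaf 4107))) (.node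 (.node (.leaf 2008) (.leaf 1846)) (.node (.leaf 680) (.leaf 4035)))) (.node (.node (.node (.leaf 2026) (.leaf 847)) (.node (.leaf 613) (.leaf 4001))) (.node (.node (.leaf 444) (.leaf 4060)) (.node (.leaf 1906) (.leaf 4057)))))) (.node (.node (.node (.node (.node (.leaf 48) (.leaf 767)) (.node (.leaf 1970) (.leaf 3579))) (.node (.node (.leaf 313) (.leaf 3466)) (.node (.leaf 1929) (.leaf 3889)))) (.node (.node (.node (.leaf 198) (.leaf 3171)) (.node (.leaf 588) (.leaf 1790))) (.node (.node (.leaf 416) (.leaf 918)) (.node (.leaf 3210) (.leaf 3914))))) (.node (.node (.node (.node (.leaf 127) (.leaf 806)) (.node (.leaf 1961) (.leaf 4076))) (.node (.node (.leaf 374) (.leaf 3141)) (.node (.leaf 1918) (.leaf 1755)))) (.node (.node (.node (.leaf 3645) (.leaf 3236)) (.node (.leaf 3232) (.leaf 1000))) (.node (.node (.leaf 2614) (.leaf 1819)) (.node (.leaf 746) (.leaf 3912))))))) (.node (.node (.node (.node (.node (.node (.node (.leaf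 27) (.leaf 2873)) (.leaf 1892)) (.node (.leaf 500) (.leaf 3537))) (.node (.node (.leaf 299) (.leaf 3611)) (.node (.leaf 646) (.leaf 1769)))) (.node (.node (.node (.leaf 183) (.leaf 824)) (.node (.leaf 3652) (.leaf 4044))) (.node (.node (.leaf 405) (.leaf 3396)) (.node (.leaf 1913) (.leaf 4090))))) (.node (.node (.node (.node (.leaf 2040) (.leaf 800)) (.node (.leaf 3281) (.leaf 4148))) (.node (.node (.leaf 3674) (.leaf 892)) (.node (.leaf 1920) (.leaf 1759)))) (.node (.node (.node (.leaf 2024) (.leaf 3385)) (.node (.leaf 3672) (.leaf 4105))) (.node (.node (.leaf 1983) (.leaf 926)) (.node (.leaf 1903) (.leaf 4019)))))) (.node (.node (.node (.node (.node (.leaf 70) (.leaf 3554)) (.node (.leaf 3864) (.leaf 1809))) (.node (.node (.leaf 2010) (.leaf 877)) (.node (.leaf 1926) (.leaf 1765)))) (.node (.node (.node (.leaf 212) (.leaf 840)) (.node (.leaf 598) (.leaf 1788))) (.node (.node (.leaf 3242) (.leaf 3355)) (.node (.leaf 1908)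 (.leaf 1741))))) (.node (.node (.node (.node (.leaf 2131) (.leaf 810)) (.node (.leaf 552) (.leaf 979))) (.node (.node (.leaf 2000) (.leaf 1839)) (.node (.leaf 1915) (.leaf 1017)))) (.node (.node (.node (.leaf 273) (.leaf 3872)) (.node (.leaf 3249) (.leaf 3135))) (.node (.node (.leaf 479) (.leaf 3803)) (.node (.leaf 3211) (.leaf 1734)))))))) (.node (.node (.node (.node (.node (.node (.node (.node (.leaf 2049) (.leaf 2797)) (.leaf 1894)) (.node (.leaf 3298) (.leaf 4092))) (.node (.node (.leaf 291) (.leaf 3215)) (.node (.leaf 3072) (.leaf 3962)))) (.node (.node (.node (.leaf 173) (.leaf 3405)) (.node (.leaf 1954) (.leaf 3415))) (.node (.node (.leaf 399) (.leaf 3707)) (.node (.leaf 710) (.leaf 1748))))) (.node (.node (.node (.node (.leaf 2164) (.leaf 3508)) (.node (.leaf 1965) (.leaf 1805))) (.node (.node (.leaf 352) (.leaf 3557)) (.node (.leaf 3561) (.leaf 3624)))) (.node (.node (.node (.leaf 236) (.leaf 3708)) (.node (.leaf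 621) (.leaf 1783))) (.node (.node (.leaf 3444) (.leaf 924)) (.node (.leaf 3891) (.leaf 3941)))))) (.node (.node (.node (.node (.node (.leaf 60) (.leaf 1888)) (.node (.leaf 3239) (.leaf 3600))) (.node (.node (.leaf 323) (.leaf 1849)) (.node (.leaf 3649) (.leaf 4030)))) (.node (.node (.node (.leaf 2029) (.leaf 3412)) (.node (.leaf 1948) (.leaf 1789))) (.node (.node (.leaf 425) (.leaf 1829)) (.node (.leaf 3174) (.leaf 1744))))) (.node (.node (.node (.node (.leaf 2037) (.leaf 3463)) (.node (.leaf 1960) (.leaf 3535))) (.node (.node (.leaf 3243) (.leaf 902)) (.node (.leaf 1917) (.leaf 1753)))) (.node (.node (.node (.leaf 2020) (.leaf 3677)) (.node (.leaf 3159) (.leaf 1777))) (.node (.node (.leaf 471) (.leaf 3915)) (.node (.leaf 749) (.leaf 4080))))))) (.node (.node (.node (.node (.node (.node (.node (.leaf 39) (.leaf 2468)) (.leaf 762)) (.node (.leaf 504) (.leaf 946))) (.node (.node (.leaf 2013) (.leaf 1851)) (.node (.leaf 1931)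 (.leaf 3947)))) (.node (.node (.node (.leaf 190) (.leaf 828)) (.node (.leaf 1951) (.leaf 4036))) (.node (.node (.leaf 411) (.leaf 4120)) (.node (.leaf 1911) (.leaf 3983))))) (.node (.node (.node (.node (.leaf 117) (.leaf 3564)) (.node (.leaf 1963) (.leaf 4100))) (.node (.node (.leaf 2004) (.leaf 1843)) (.node (.leaf 3717) (.leaf 3970)))) (.node (.node (.node (.leaf 251) (.leaf 855)) (.node (.leaf 1940) (.leaf 4078))) (.node (.node (.leaf 461) (.leaf 4117)) (.node (.leaf 745) (.leaf 3939)))))) (.node (.node (.node (.node (.node (.leaf 2043) (.leaf 782)) (.node (.leaf 1967) (.leaf 3140))) (.node (.node (.leaf 337) (.leaf 1848)) (.node (.leaf 1925) (.leaf 1763)))) (.node (.node (.node (.leaf 222) (.leaf 4112)) (.node (.leaf 3184) (.leaf 3878))) (.node (.node (.leaf 1988) (.leaf 1826)) (.node (.leaf 1907) (.leaf 1739))))) (.node (.node (.node (.node (.leaf 2154) (.leaf 813)) (.node (.leaf 1957) (.leaf 1797))) (.node (.node (.leaf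 389) (.leaf 1838)) (.node (.leaf 703) (.leaf 1750)))) (.node (.node (.node (.leaf 3292) (.leaf 3161)) (.node (.leaf 1935) (.leaf 4147))) (.node (.node (.leaf 1976) (.leaf 3591)) (.node (.leaf 3071) (.leaf 1732))))))))) (.node (.node (.node (.node (.node (.node (.node (.node (.node (.leaf 9) (.leaf 2438)) (.leaf 3956)) (.node (.leaf 3200) (.leaf 937))) (.node (.node (.leaf 286) (.leaf 1855)) (.node (.leaf 644) (.leaf 4013)))) (.node (.node (.node (.leaf 168) (.leaf 3507)) (.node (.leaf 566) (.leaf 3883))) (.node (.node (.leaf 396) (.leaf 3427)) (.node (.leaf 3178) (.leaf 1019))))) (.node (.node (.node (.node (.leaf 95) (.leaf 1882)) (.node (.leaf 519) (.leaf 3189))) (.node (.node (.leaf 2007) (.leaf 3608)) (.node (.leaf 683) (.leaf 3932)))) (.node (.node (.node (.leaf 231) (.leaf 851)) (.node (.leaf 616) (.leaf 4006))) (.node (.node (.leaf 3679) (.leaf 3692)) (.node (.leaf 1905) (.leaf 4084)))))) (.node (.node (.node (.node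 (.node (.leaf 54) (.leaf 3266)) (.node (.leaf 1969) (.leaf 949))) (.node (.node (.leaf 318) (.leaf 873)) (.node (.leaf 659) (.leaf 3957)))) (.node (.node (.node (.leaf 202) (.leaf 3680)) (.node (.leaf 1949) (.leaf 986))) (.node (.node (.leaf 421) (.leaf 919)) (.node (.leaf 723) (.leaf 4017))))) (.node (.node (.node (.node (.leaf 130) (.leaf 3299)) (.node (.leaf 541) (.leaf 1800))) (.node (.node (.leaf 379) (.leaf 1841)) (.node (.leaf 3290) (.leaf 4127)))) (.node (.node (.node (.leaf 262) (.leaf 1861)) (.node (.leaf 3705) (.leaf 3149))) (.node (.node (.leaf 1979) (.leaf 3920)) (.node (.leaf 1900) (.leaf 4079))))))) (.node (.node (.node (.node (.node (.node (.node (.leaf 2047) (.leaf 2808)) (.leaf 760)) (.node (.leaf 3668) (.leaf 943))) (.node (.node (.leaf 303) (.leaf 1852)) (.node (.leaf 3527) (.leaf 1768)))) (.node (.node (.node (.leaf 185) (.leaf 827)) (.node (.leaf 1952) (.leaf 4155))) (.node (.node (.leaf 407) (.leaf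 1833)) (.node (.leaf 1912) (.leaf 4003))))) (.node (.node (.node (.node (.leaf 112) (.leaf 803)) (.node (.leaf 3660) (.leaf 968))) (.node (.node (.leaf 363) (.leaf 894)) (.node (.leaf 1919) (.leaf 1757)))) (.node (.node (.node (.leaf 2023) (.leaf 3353)) (.node (.leaf 625) (.leaf 1781))) (.node (.node (.leaf 457) (.leaf 1822)) (.node (.leaf 3208) (.leaf 3926)))))) (.node (.node (.node (.node (.node (.leaf 74) (.leaf 778)) (.node (.leaf 4119) (.leaf 4153))) (.node (.node (.leaf 332) (.leaf 3576)) (.node (.leaf 669) (.leaf 3935)))) (.node (.node (.node (.leaf 217) (.leaf 842)) (.node (.leaf 1945) (.leaf 1786))) (.node (.node (.leaf 1989) (.leaf 1827)) (.node (.leaf 3547) (.leaf 4056))))) (.node (.node (.node (.node (.leaf 151) (.leaf 3675)) (.node (.leaf 1958) (.leaf 3693))) (.node (.node (.leaf 1999) (.leaf 3973)) (.node (.leaf 3633) (.leaf 3146)))) (.node (.node (.node (.leaf 278) (.leaf 1858)) (.node (.leaf 640) (.leaf 1774)))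 (.node (.node (.leaf 1977) (.leaf 3722)) (.node (.leaf 751) (.leaf 1733)))))))) (.node (.node (.node (.node (.node (.node (.node (.node (.leaf 21) (.leaf 3119)) (.leaf 3676)) (.node (.leaf 497) (.leaf 3430))) (.node (.node (.leaf 2014) (.leaf 867)) (.node (.leaf 1933) (.leaf 4066)))) (.node (.node (.node (.leaf 178) (.leaf 3318)) (.node (.leaf 1953) (.leaf 1793))) (.node (.node (.leaf 402) (.leaf 3863)) (.node (.leaf 3350) (.leaf 1747))))) (.node (.node (.node (.node (.leaf 103) (.leaf 797)) (.node (.leaf 524) (.leaf 966))) (.node (.node (.leaf 356) (.leaf 889)) (.node (.leaf 1921) (.leaf 3839)))) (.node (.node (.node (.leaf 240) (.leaf 1864)) (.node (.leaf 3349) (.leaf 3835))) (.node (.node (.leaf 3552) (.leaf 3826)) (.node (.leaf 3513) (.leaf 4020)))))) (.node (.node (.node (.node (.node (.leaf 2044) (.leaf 3441)) (.node (.leaf 512) (.leaf 1810))) (.node (.node (.leaf 2011) (.leaf 4130)) (.node (.leaf 1927) (.leaf 3928))))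 (.node (.node (.node (.leaf 208) (.leaf 837)) (.node (.leaf 1947) (.leaf 3836))) (.node (.node (.leaf 3275) (.leaf 920)) (.node (.leaf 1909) (.leaf 1743))))) (.node (.node (.node (.node (.leaf 142) (.leaf 3501)) (.node (.leaf 1959) (.leaf 1799))) (.node (.node (.leaf 384) (.leaf 3597)) (.node (.leaf 1916) (.leaf 1752)))) (.node (.node (.node (.leaf 2019) (.leaf 1859)) (.node (.leaf 637) (.leaf 4097))) (.node (.node (.leaf 475) (.leaf 1818)) (.node (.leaf 4047) (.leaf 4062))))))) (.node (.node (.node (.node (.node (.node (.node (.leaf 2161) (.leaf 2799)) (.leaf 1890)) (.node (.leaf 1971) (.leaf 947))) (.node (.node (.leaf 309) (.leaf 3583)) (.node (.leaf 3635) (.leaf 4065)))) (.node (.node (.node (.leaf 2030) (.leaf 831)) (.node (.leaf 584) (.leaf 3329))) (.node (.node (.leaf 413) (.leaf 1831)) (.node (.leaf 1910) (.leaf 3853))))) (.node (.node (.node (.node (.leaf 122) (.leaf 3625)) (.node (.leaf 1962) (.leaf 1802))) (.node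 (.node (.leaf 2003) (.leaf 900)) (.node (.leaf 3631) (.leaf 3156)))) (.node (.node (.node (.leaf 255) (.leaf 1862)) (.node (.leaf 1939) (.leaf 1779))) (.node (.node (.leaf 3296) (.leaf 1820)) (.node (.leaf 3330) (.leaf 3848)))))) (.node (.node (.node (.node (.node (.leaf 86) (.leaf 1884)) (.node (.leaf 3196) (.leaf 1807))) (.node (.node (.leaf 341) (.leaf 1847)) (.node (.leaf 1923) (.leaf 3838)))) (.node (.node (.node (.leaf 2027) (.leaf 3358)) (.node (.leaf 610) (.leaf 3934))) (.node (.node (.leaf 439) (.leaf 3721)) (.node (.leaf 3158) (.leaf 1738))))) (.node (.node (.node (.node (.leaf 159) (.leaf 1874)) (.node (.leaf 560) (.leaf 3704))) (.node (.node (.leaf 2168) (.leaf 4136)) (.node (.leaf 4094) (.leaf 1749)))) (.node (.node (.node (.leaf 283) (.leaf 1857)) (.node (.leaf 3245) (.leaf 4050))) (.node (.node (.leaf 1975) (.leaf 935)) (.node (.leaf 3884) (.leaf 3958))))))))))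

def twoRank4 : Janko.Tree (ℕ) :=
  (.node (.node (.node (.node (.node (.node (.node (.node (.node (.node (.leaf 1118) (.leaf 2050)) (.leaf 2756)) (.node (.leaf 493) (.leaf 2538))) (.node (.node (.leaf 285) (.leaf 2493)) (.node (.leaf 2227) (.leaf 3126)))) (.node (.node (.node (.leaf 164) (.leaf 2714)) (.node (.leaf 2133) (.leaf 2684))) (.node (.node (.leaf 2960) (.leaf 908)) (.node (.leaf 1065) (.leaf 2526))))) (.node (.node (.node (.node (.leaf 91) (.leaf 2067)) (.node (.leaf 3113) (.leaf 3720))) (.node (.node (.leaf 2768) (.leaf 3439)) (.node (.leaf 2769) (.leaf 1031)))) (.node (.node (.node (.leaf 1099) (.leaf 3696)) (.node (.leaf 2306) (.leaf 991))) (.node (.node (.leaf 2102) (.leaf 2086)) (.node (.leaf 738) (.leaf 4014)))))) (.node (.node (.node (.node (.node (.leaf 1114) (.leaf 2159)) (.node (.leaf 2494) (.leaf 3462))) (.node (.node (.leaf 2135) (.leaf 2383)) (.node (.leaf 2417) (.leaf 2819)))) (.node (.node (.node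 (.leaf 2117) (.leaf 2054)) (.node (.leaf 2369) (.leaf 2051))) (.node (.node (.leaf 2104) (.leaf 2559)) (.node (.leaf 2394) (.leaf 2535))))) (.node (.node (.node (.node (.leaf 2162) (.leaf 3648)) (.node (.leaf 2995) (.leaf 3475))) (.node (.node (.leaf 2324) (.leaf 2426)) (.node (.leaf 3288) (.leaf 3152)))) (.node (.node (.node (.leaf 2120) (.leaf 2682)) (.node (.leaf 1071) (.leaf 3153))) (.node (.node (.leaf 2308) (.leaf 3892)) (.node (.leaf 2315) (.leaf 2522))))))) (.node (.node (.node (.node (.node (.node (.node (.leaf 28) (.leaf 2870)) (.leaf 3004)) (.node (.leaf 2098) (.leaf 1041))) (.node (.node (.leaf 2111) (.leaf 2597)) (.node (.leaf 647) (.leaf 3488)))) (.node (.node (.node (.leaf 2152) (.leaf 3197)) (.node (.leaf 2236) (.leaf 2288))) (.node (.node (.leaf 2166) (.leaf 914)) (.node (.leaf 2924) (.leaf 3034))))) (.node (.node (.node (.node (.leaf 108) (.leaf 3406)) (.node (.leaf 2186) (.leaf 2951))) (.node (.node (.leaf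 2125) (.leaf 2582)) (.node (.leaf 691) (.leaf 2403)))) (.node (.node (.node (.leaf 2777) (.leaf 2092)) (.node (.leaf 2393) (.leaf 2554))) (.node (.node (.leaf 453) (.leaf 2568)) (.node (.leaf 3341) (.leaf 2525)))))) (.node (.node (.node (.node (.node (.leaf 2123) (.leaf 2789)) (.node (.leaf 1079) (.leaf 2809))) (.node (.node (.leaf 1091) (.leaf 2625)) (.node (.leaf 665) (.leaf 2478)))) (.node (.node (.node (.leaf 2149) (.leaf 2292)) (.node (.leaf 2126) (.leaf 2704))) (.node (.node (.leaf 2410) (.leaf 2303)) (.node (.leaf 2840) (.leaf 2814))))) (.node (.node (.node (.node (.leaf 147) (.leaf 2095)) (.node (.leaf 2346) (.leaf 3354))) (.node (.node (.leaf 386) (.leaf 3060)) (.node (.leaf 3651) (.leaf 3134)))) (.node (.node (.node (.leaf 2331) (.leaf 2350)) (.node (.leaf 2079) (.leaf 2469))) (.node (.node (.leaf 2259) (.leaf 2520)) (.node (.leaf 2354) (.leaf 2857)))))))) (.node (.node (.node (.node (.node (.node (.node (.node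 (.leaf 16) (.leaf 2212)) (.leaf 2184)) (.node (.leaf 2173) (.leaf 3632))) (.node (.node (.leaf 2504) (.leaf 2745)) (.node (.leaf 2435) (.leaf 4007)))) (.node (.node (.node (.leaf 1104) (.leaf 2823)) (.node (.leaf 571) (.leaf 2484))) (.node (.node (.leaf 1086) (.leaf 2917)) (.node (.leaf 2269) (.leaf 2881))))) (.node (.node (.node (.node (.leaf 2200) (.leaf 1059)) (.node (.leaf 2421) (.leaf 1038))) (.node (.node (.leaf 1090) (.leaf 1048)) (.node (.leaf 2430) (.leaf 2518)))) (.node (.node (.node (.leaf 2160) (.leaf 2304)) (.node (.leaf 2091) (.leaf 3465))) (.node (.node (.leaf 2380) (.leaf 4002)) (.node (.leaf 2291) (.leaf 3452)))))) (.node (.node (.node (.node (.node (.leaf 61) (.leaf 3630)) (.node (.leaf 1080) (.leaf 2210))) (.node (.node (.leaf 2406) (.leaf 3273)) (.node (.leaf 2382) (.leaf 3921)))) (.node (.node (.node (.leaf 1101) (.leaf 1055)) (.node (.leaf 2309) (.leaf 2800))) (.node (.node (.leaf 2388) (.leaf 2258))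 (.node (.leaf 2252) (.leaf 2660))))) (.node (.node (.node (.node (.leaf 1107) (.leaf 2235)) (.node (.leaf 2619) (.leaf 2272))) (.node (.node (.leaf 2080) (.leaf 3028)) (.node (.leaf 2976) (.leaf 2624)))) (.node (.node (.node (.leaf 267) (.leaf 2725)) (.node (.leaf 2320) (.leaf 2962))) (.node (.node (.leaf 2780) (.leaf 2341)) (.node (.leaf 2490) (.leaf 3419))))))) (.node (.node (.node (.node (.node (.node (.node (.leaf 2124) (.leaf 2803)) (.leaf 2340)) (.node (.leaf 2348) (.leaf 2579))) (.node (.node (.leaf 1093) (.leaf 3461)) (.node (.leaf 2119) (.leaf 1034)))) (.node (.node (.node (.leaf 2576) (.leaf 2367)) (.node (.leaf 2770) (.leaf 3524))) (.node (.node (.leaf 2144) (.leaf 2278)) (.node (.leaf 2561) (.leaf 3987))))) (.node (.node (.node (.node (.leaf 1108) (.leaf 3468)) (.node (.leaf 3025) (.leaf 3636))) (.node (.node (.leaf 368) (.leaf 2213)) (.node (.leaf 3010) (.leaf 2603)))) (.node (.node (.node (.leaf 1098) (.leaf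 2679)) (.node (.leaf 2569) (.leaf 2627))) (.node (.node (.leaf 2363) (.leaf 2908)) (.node (.leaf 3214) (.leaf 2595)))))) (.node (.node (.node (.node (.node (.leaf 1111) (.leaf 2343)) (.node (.leaf 2749) (.leaf 961))) (.node (.node (.leaf 2150) (.leaf 2875)) (.node (.leaf 2986) (.leaf 3901)))) (.node (.node (.node (.leaf 2418) (.leaf 2294)) (.node (.leaf 1073) (.leaf 2733))) (.node (.node (.leaf 2974) (.leaf 922)) (.node (.leaf 2939) (.leaf 3905))))) (.node (.node (.node (.node (.leaf 2204) (.leaf 2711)) (.node (.leaf 1075) (.leaf 2084))) (.node (.node (.leaf 2178) (.leaf 3269)) (.node (.leaf 2415) (.leaf 2621)))) (.node (.node (.node (.leaf 2139) (.leaf 3109)) (.node (.leaf 3062) (.leaf 2584))) (.node (.node (.leaf 2375) (.leaf 3440)) (.node (.leaf 2338) (.leaf 3907))))))))) (.node (.node (.node (.node (.node (.node (.node (.node (.node (.leaf 10) (.leaf 2461)) (.leaf 3384)) (.node (.leaf 1082) (.leaf 2404))) (.node (.node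 (.leaf 287) (.leaf 865)) (.node (.leaf 1068) (.leaf 1035)))) (.node (.node (.node (.leaf 169) (.leaf 2915)) (.node (.leaf 2402) (.leaf 2266))) (.node (.node (.leaf 2982) (.leaf 3058)) (.node (.leaf 2073) (.leaf 2647))))) (.node (.node (.node (.node (.leaf 96) (.leaf 2846)) (.node (.leaf 2188) (.leaf 1039))) (.node (.node (.leaf 348) (.leaf 2884)) (.node (.leaf 2791) (.leaf 3571)))) (.node (.node (.node (.leaf 2246) (.leaf 2081)) (.node (.leaf 2229) (.leaf 3989))) (.node (.node (.leaf 2076) (.leaf 1045)) (.node (.leaf 2056) (.leaf 1025)))))) (.node (.node (.node (.node (.node (.leaf 55) (.leaf 769)) (.node (.leaf 3282) (.leaf 2622))) (.node (.node (.leaf 2189) (.leaf 1050)) (.node (.leaf 3278) (.leaf 1033)))) (.node (.node (.node (.leaf 2197) (.leaf 2918)) (.node (.leaf 3067) (.leaf 2665))) (.node (.node (.leaf 2078) (.leaf 2295)) (.node (.leaf 2299) (.leaf 2657))))) (.node (.node (.node (.node (.leaf 131) (.leaf 3287)) (.node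 (.leaf 2506) (.leaf 2208))) (.node (.node (.leaf 2106) (.leaf 3188)) (.node (.leaf 2377) (.leaf 2581)))) (.node (.node (.node (.leaf 2317) (.leaf 2090)) (.node (.leaf 2356) (.leaf 2629))) (.node (.node (.leaf 467) (.leaf 1044)) (.node (.leaf 2069) (.leaf 2641))))))) (.node (.node (.node (.node (.node (.node (.node (.leaf 1116) (.leaf 2496)) (.leaf 2514)) (.node (.leaf 2070) (.leaf 2598))) (.node (.node (.leaf 2191) (.leaf 2855)) (.node (.leaf 2390) (.leaf 3431)))) (.node (.node (.node (.leaf 186) (.leaf 2281)) (.node (.leaf 577) (.leaf 2792))) (.node (.node (.leaf 2519) (.leaf 3414)) (.node (.leaf 2374) (.leaf 3493))))) (.node (.node (.node (.node (.leaf 113) (.leaf 3716)) (.node (.leaf 2399) (.leaf 2219))) (.node (.node (.leaf 2328) (.leaf 2785)) (.node (.leaf 693) (.leaf 3449)))) (.node (.node (.node (.leaf 247) (.leaf 2061)) (.node (.leaf 2332) (.leaf 2552))) (.node (.node (.leaf 1084) (.leaf 2687)) (.node (.leaf 1062)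 (.leaf 3950)))))) (.node (.node (.node (.node (.node (.leaf 75) (.leaf 2583)) (.node (.leaf 2353) (.leaf 2796))) (.node (.node (.leaf 2268) (.leaf 2517)) (.node (.leaf 2385) (.leaf 1032)))) (.node (.node (.node (.leaf 2195) (.leaf 2786)) (.node (.leaf 2925) (.leaf 2798))) (.node (.node (.leaf 2992) (.leaf 2764)) (.node (.leaf 2265) (.leaf 2481))))) (.node (.node (.node (.node (.leaf 152) (.leaf 2065)) (.node (.leaf 2977) (.leaf 2285))) (.node (.node (.leaf 1087) (.leaf 2718)) (.node (.leaf 1066) (.leaf 2628)))) (.node (.node (.node (.leaf 2137) (.leaf 2728)) (.node (.leaf 2737) (.leaf 3147))) (.node (.node (.leaf 2824) (.leaf 3584)) (.node (.leaf 1060) (.leaf 2635)))))))) (.node (.node (.node (.node (.node (.node (.node (.node (.leaf 22) (.leaf 3417)) (.leaf 2434)) (.node (.leaf 2321) (.leaf 2890))) (.node (.node (.leaf 1094) (.leaf 2391)) (.node (.leaf 3088) (.leaf 3031)))) (.node (.node (.node (.leaf 2316) (.leaf 1056))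 (.node (.leaf 3634) (.leaf 3397))) (.node (.node (.leaf 2411) (.leaf 2248)) (.node (.leaf 2274) (.leaf 3039))))) (.node (.node (.node (.node (.leaf 2267) (.leaf 2224)) (.node (.leaf 3006) (.leaf 2539))) (.node (.node (.leaf 2366) (.leaf 2429)) (.node (.leaf 2851) (.leaf 2423)))) (.node (.node (.node (.leaf 2293) (.leaf 3410)) (.node (.leaf 2062) (.leaf 994))) (.node (.node (.leaf 2273) (.leaf 2807)) (.node (.leaf 2564) (.leaf 2842)))))) (.node (.node (.node (.node (.node (.leaf 1112) (.leaf 2238)) (.node (.leaf 2337) (.leaf 2879))) (.node (.node (.leaf 3016) (.leaf 2994)) (.node (.leaf 2968) (.leaf 2699)))) (.node (.node (.node (.leaf 2428) (.leaf 2260)) (.node (.leaf 2128) (.leaf 2668))) (.node (.node (.leaf 2114) (.leaf 3694)) (.node (.leaf 2810) (.leaf 2703))))) (.node (.node (.node (.node (.leaf 2112) (.leaf 3021)) (.node (.leaf 548) (.leaf 2938))) (.node (.node (.leaf 2351) (.leaf 2715)) (.node (.leaf 2553) (.leaf 2223))))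 (.node (.node (.node (.leaf 2176) (.leaf 2871)) (.node (.leaf 2107) (.leaf 2600))) (.node (.node (.leaf 2311) (.leaf 1043)) (.node (.leaf 3061) (.leaf 2631))))))) (.node (.node (.node (.node (.node (.node (.leaf 44) (.leaf 2407)) (.node (.leaf 506) (.leaf 3607))) (.node (.node (.leaf 2424) (.leaf 2556)) (.node (.leaf 2972) (.leaf 2467)))) (.node (.node (.node (.leaf 1102) (.leaf 2083)) (.node (.leaf 2064) (.leaf 2472))) (.node (.node (.leaf 2590) (.leaf 2057)) (.node (.leaf 3332) (.leaf 2279))))) (.node (.node (.node (.node (.leaf 2329) (.leaf 3043)) (.node (.leaf 2575) (.leaf 3425))) (.node (.node (.leaf 2175) (.leaf 3137)) (.node (.leaf 2551) (.leaf 2587)))) (.node (.node (.node (.leaf 2370) (.leaf 1053)) (.node (.leaf 3670) (.leaf 2531))) (.node (.node (.leaf 2198) (.leaf 4033)) (.node (.leaf 2398) (.leaf 4069)))))) (.node (.node (.node (.node (.node (.leaf 2118) (.leaf 2097)) (.node (.leaf 2179) (.leaf 3144))) (.node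 (.node (.leaf 2300) (.leaf 3026)) (.node (.leaf 676) (.leaf 3996)))) (.node (.node (.node (.leaf 2996) (.leaf 2286)) (.node (.leaf 2217) (.leaf 2754))) (.node (.node (.leaf 3658) (.leaf 2945)) (.node (.leaf 2255) (.leaf 3954))))) (.node (.node (.node (.node (.leaf 2245) (.leaf 2952)) (.node (.leaf 3270) (.leaf 2677))) (.node (.node (.leaf 2196) (.leaf 2555)) (.node (.leaf 3059) (.leaf 2852)))) (.node (.node (.node (.leaf 2355) (.leaf 2909)) (.node (.leaf 2904) (.leaf 2620))) (.node (.node (.leaf 490) (.leaf 2239)) (.node (.leaf 2957) (.leaf 4016))))))))))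

def twoRank5 : Janko.Tree (ℕ) :=
  (.node (.node (.node (.node (.node (.node (.node (.node (.node (.node (.leaf 4) (.leaf 2170)) (.leaf 3758)) (.node (.leaf 1366) (.leaf 1207))) (.node (.node (.leaf 1402) (.leaf 864)) (.node (.leaf 3697) (.leaf 1168)))) (.node (.node (.node (.leaf 1420) (.leaf 1269)) (.node (.leaf 565) (.leaf 1186))) (.node (.node (.leaf 1384) (.leaf 1226)) (.node (.leaf 2989) (.leaf 1149))))) (.node (.node (.node (.node (.leaf 1429) (.leaf 790)) (.node (.leaf 1356) (.leaf 3516))) (.node (.node (.leaf 1393) (.leaf 1237)) (.node (.leaf 681) (.leaf 3388)))) (.node (.node (.node (.leaf 2497) (.leaf 3331)) (.node (.leaf 614) (.leaf 1174))) (.node (.node (.leaf 445) (.leaf 3834)) (.node (.leaf 1298) (.leaf 1138)))))) (.node (.node (.node (.node (.node (.leaf 49) (.leaf 3013)) (.node (.leaf 1361) (.leaf 3751))) (.node (.node (.leaf 314) (.leaf 3616)) (.node (.leaf 657) (.leaf 1161)))) (.node (.node (.node (.leaf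 199) (.leaf 3794)) (.node (.leaf 589) (.leaf 3824))) (.node (.node (.leaf 417) (.leaf 3742)) (.node (.leaf 721) (.leaf 1142))))) (.node (.node (.node (.node (.leaf 128) (.leaf 807)) (.node (.leaf 1352) (.leaf 3759))) (.node (.node (.leaf 375) (.leaf 901)) (.node (.leaf 1315) (.leaf 3809)))) (.node (.node (.node (.leaf 3312) (.leaf 1254)) (.node (.leaf 3108) (.leaf 3797))) (.node (.node (.leaf 3095) (.leaf 1212)) (.node (.leaf 3310) (.leaf 1128))))))) (.node (.node (.node (.node (.node (.node (.node (.leaf 29) (.leaf 2868)) (.leaf 1287)) (.node (.leaf 501) (.leaf 2863))) (.node (.node (.leaf 300) (.leaf 870)) (.node (.leaf 1326) (.leaf 1165)))) (.node (.node (.node (.leaf 184) (.leaf 3327)) (.node (.leaf 576) (.leaf 3517))) (.node (.node (.leaf 406) (.leaf 1224)) (.node (.leaf 1306) (.leaf 3743))))) (.node (.node (.node (.node (.leaf 1427) (.leaf 801)) (.node (.leaf 527) (.leaf 1193))) (.node (.node (.leaf 3300) (.leaf 3519))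 (.node (.leaf 1318) (.leaf 3428)))) (.node (.node (.node (.leaf 1409) (.leaf 3752)) (.node (.leaf 624) (.leaf 996))) (.node (.node (.leaf 1372) (.leaf 3760)) (.node (.leaf 1295) (.leaf 3849)))))) (.node (.node (.node (.node (.node (.leaf 71) (.leaf 774)) (.node (.leaf 3255) (.leaf 1197))) (.node (.node (.leaf 2612) (.leaf 2838)) (.node (.leaf 1322) (.leaf 3816)))) (.node (.node (.node (.leaf 213) (.leaf 3520)) (.node (.leaf 599) (.leaf 3999))) (.node (.node (.leaf 430) (.leaf 921)) (.node (.leaf 1301) (.leaf 1140))))) (.node (.node (.node (.node (.leaf 1422) (.leaf 811)) (.node (.leaf 553) (.leaf 3798))) (.node (.node (.leaf 1386) (.leaf 1231)) (.node (.leaf 1312) (.leaf 3817)))) (.node (.node (.node (.leaf 274) (.leaf 2744)) (.node (.leaf 639) (.leaf 1170))) (.node (.node (.leaf 480) (.leaf 3500)) (.node (.leaf 3367) (.leaf 1123)))))))) (.node (.node (.node (.node (.node (.node (.node (.node (.leaf 1436) (.leaf 2226)) (.leaf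 3070)) (.node (.leaf 1365) (.leaf 1205))) (.node (.node (.leaf 1401) (.leaf 3766)) (.node (.leaf 3115) (.leaf 1005)))) (.node (.node (.node (.leaf 174) (.leaf 1267)) (.node (.leaf 1346) (.leaf 1185))) (.node (.node (.leaf 2970) (.leaf 1225)) (.node (.leaf 2831) (.leaf 1148))))) (.node (.node (.node (.node (.leaf 99) (.leaf 2899)) (.node (.leaf 521) (.leaf 3464))) (.node (.node (.leaf 3069) (.leaf 2861)) (.node (.leaf 685) (.leaf 1008)))) (.node (.node (.node (.leaf 237) (.leaf 854)) (.node (.leaf 3772) (.leaf 3749))) (.node (.node (.leaf 3568) (.leaf 925)) (.node (.leaf 3727) (.leaf 1135)))))) (.node (.node (.node (.node (.node (.leaf 1433) (.leaf 772)) (.node (.leaf 2570) (.leaf 951))) (.node (.node (.leaf 324) (.leaf 1243)) (.node (.leaf 662) (.leaf 3844)))) (.node (.node (.node (.leaf 2574) (.leaf 2836)) (.node (.leaf 2608) (.leaf 1181))) (.node (.node (.leaf 426) (.leaf 2473)) (.node (.leaf 725) (.leaf 1141))))) (.node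 (.node (.node (.node (.leaf 137) (.leaf 3614)) (.node (.leaf 1351) (.leaf 975))) (.node (.node (.leaf 382) (.leaf 3767)) (.node (.leaf 1314) (.leaf 2844)))) (.node (.node (.node (.leaf 1406) (.leaf 2742)) (.node (.leaf 3306) (.leaf 3781))) (.node (.node (.leaf 472) (.leaf 2997)) (.node (.leaf 750) (.leaf 1125))))))) (.node (.node (.node (.node (.node (.node (.node (.leaf 40) (.leaf 3123)) (.leaf 763)) (.node (.leaf 505) (.leaf 3193))) (.node (.node (.leaf 2508) (.leaf 1246)) (.node (.leaf 3311) (.leaf 3424)))) (.node (.node (.node (.leaf 1417) (.leaf 3346)) (.node (.leaf 580) (.leaf 1183))) (.node (.node (.leaf 3020) (.leaf 3719)) (.node (.leaf 1305) (.leaf 1022))))) (.node (.node (.node (.node (.leaf 118) (.leaf 3755)) (.node (.leaf 1353) (.leaf 1190))) (.node (.node (.leaf 1390) (.leaf 897)) (.node (.leaf 3041) (.leaf 3514)))) (.node (.node (.node (.leaf 3077) (.leaf 3116)) (.node (.leaf 1335) (.leaf 998))) (.node (.node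 (.leaf 462) (.leaf 1214)) (.node (.leaf 3756) (.leaf 4034)))))) (.node (.node (.node (.node (.node (.leaf 81) (.leaf 783)) (.node (.leaf 1357) (.leaf 1196))) (.node (.node (.leaf 338) (.leaf 1239)) (.node (.leaf 3307) (.leaf 3893)))) (.node (.node (.node (.leaf 223) (.leaf 844)) (.node (.leaf 606) (.leaf 3770))) (.node (.node (.leaf 1376) (.leaf 1221)) (.node (.leaf 1300) (.leaf 1139))))) (.node (.node (.node (.node (.leaf 155) (.leaf 2961)) (.node (.leaf 3019) (.leaf 3750))) (.node (.node (.leaf 3111) (.leaf 1228)) (.node (.leaf 704) (.leaf 2825)))) (.node (.node (.node (.leaf 281) (.leaf 3063)) (.node (.leaf 1330) (.leaf 3728))) (.node (.node (.leaf 486) (.leaf 3789)) (.node (.leaf 752) (.leaf 1121))))))))) (.node (.node (.node (.node (.node (.node (.node (.node (.node (.leaf 11) (.leaf 2471)) (.leaf 3746)) (.node (.leaf 3073) (.leaf 938))) (.node (.node (.leaf 288) (.leaf 1248)) (.node (.leaf 3066) (.leaf 2588)))) (.node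 (.node (.node (.leaf 1419) (.leaf 1268)) (.node (.leaf 567) (.leaf 3731))) (.node (.node (.leaf 1383) (.leaf 3787)) (.node (.leaf 708) (.leaf 2883))))) (.node (.node (.node (.node (.leaf 1428) (.leaf 1280)) (.node (.leaf 2609) (.leaf 2998))) (.node (.node (.leaf 1392) (.leaf 1236)) (.node (.leaf 2894) (.leaf 3777)))) (.node (.node (.node (.leaf 232) (.leaf 852)) (.node (.leaf 617) (.leaf 992))) (.node (.node (.leaf 446) (.leaf 2483)) (.node (.leaf 742) (.leaf 2470)))))) (.node (.node (.node (.node (.node (.leaf 56) (.leaf 1284)) (.node (.leaf 1360) (.leaf 2864))) (.node (.node (.leaf 319) (.leaf 2550)) (.node (.leaf 660) (.leaf 2946)))) (.node (.node (.node (.leaf 2313) (.leaf 1263)) (.node (.leaf 1342) (.leaf 2818))) (.node (.node (.leaf 422) (.leaf 2931)) (.node (.leaf 2916) (.leaf 2919))))) (.node (.node (.node (.node (.leaf 132) (.leaf 808)) (.node (.leaf 2759) (.leaf 973))) (.node (.node (.leaf 380) (.leaf 1232)) (.node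 (.leaf 698) (.leaf 3128)))) (.node (.node (.node (.leaf 263) (.leaf 858)) (.node (.leaf 3199) (.leaf 1001))) (.node (.node (.leaf 1370) (.leaf 3379)) (.node (.leaf 748) (.leaf 1127))))))) (.node (.node (.node (.node (.node (.node (.node (.leaf 34) (.leaf 2477)) (.leaf 761)) (.node (.leaf 502) (.leaf 3590))) (.node (.node (.leaf 2231) (.leaf 1247)) (.node (.leaf 3030) (.leaf 1164)))) (.node (.node (.node (.leaf 187) (.leaf 3125)) (.node (.leaf 1344) (.leaf 3729))) (.node (.node (.leaf 408) (.leaf 3806)) (.node (.leaf 2557) (.leaf 1145))))) (.node (.node (.node (.node (.leaf 1426) (.leaf 3735)) (.node (.leaf 530) (.leaf 969))) (.node (.node (.leaf 364) (.leaf 895)) (.node (.leaf 1317) (.leaf 1154)))) (.node (.node (.node (.leaf 1408) (.leaf 3734)) (.node (.leaf 2495) (.leaf 997))) (.node (.node (.leaf 3110) (.leaf 3995)) (.node (.leaf 2566) (.leaf 3827)))))) (.node (.node (.node (.node (.node (.leaf 76) (.leaf 779)) (.node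 (.leaf 2743) (.leaf 959))) (.node (.node (.leaf 333) (.leaf 879)) (.node (.leaf 670) (.leaf 2930)))) (.node (.node (.node (.leaf 218) (.leaf 2896)) (.node (.leaf 1340) (.leaf 1178))) (.node (.node (.leaf 1377) (.leaf 2854)) (.node (.leaf 732) (.leaf 3946))))) (.node (.node (.node (.node (.leaf 1421) (.leaf 812)) (.node (.leaf 1349) (.leaf 980))) (.node (.node (.leaf 3074) (.leaf 1229)) (.node (.leaf 3045) (.leaf 1018)))) (.node (.node (.node (.leaf 279) (.leaf 1251)) (.node (.leaf 2729) (.leaf 3831))) (.node (.node (.leaf 1368) (.leaf 3773)) (.node (.leaf 3085) (.leaf 1122)))))))) (.node (.node (.node (.node (.node (.node (.node (.node (.leaf 23) (.leaf 3132)) (.leaf 3258)) (.node (.leaf 3647) (.leaf 1203))) (.node (.node (.leaf 295) (.leaf 3467)) (.node (.leaf 3076) (.leaf 3771)))) (.node (.node (.node (.leaf 179) (.leaf 2940)) (.node (.leaf 1345) (.leaf 3828))) (.node (.node (.leaf 3644) (.leaf 3528)) (.node (.leaf 712)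 (.leaf 3761))))) (.node (.node (.node (.node (.leaf 104) (.leaf 3613)) (.node (.leaf 2983) (.leaf 967))) (.node (.node (.leaf 357) (.leaf 3569)) (.node (.leaf 1319) (.leaf 1010)))) (.node (.node (.node (.leaf 2760) (.leaf 1257)) (.node (.leaf 3788) (.leaf 1173))) (.node (.node (.leaf 449) (.leaf 1217)) (.node (.leaf 1296) (.leaf 1133)))))) (.node (.node (.node (.node (.node (.leaf 66) (.leaf 3566)) (.node (.leaf 513) (.leaf 1198))) (.node (.node (.leaf 1396) (.leaf 1241)) (.node (.leaf 1323) (.leaf 3226)))) (.node (.node (.node (.leaf 209) (.leaf 3322)) (.node (.leaf 594) (.leaf 1179))) (.node (.node (.leaf 3303) (.leaf 3820)) (.node (.leaf 1302) (.leaf 3216))))) (.node (.node (.node (.node (.leaf 143) (.leaf 3313)) (.node (.leaf 1350) (.leaf 976))) (.node (.node (.leaf 385) (.leaf 3048)) (.node (.leaf 1313) (.leaf 2521)))) (.node (.node (.node (.leaf 1405) (.leaf 1253)) (.node (.leaf 638) (.leaf 3404))) (.node (.node (.leaf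 476) (.leaf 2901)) (.node (.leaf 1292) (.leaf 2859))))))) (.node (.node (.node (.node (.node (.node (.leaf 1434) (.leaf 765)) (.node (.leaf 1362) (.leaf 3739))) (.node (.node (.leaf 310) (.leaf 1245)) (.node (.leaf 1325) (.leaf 1162)))) (.node (.node (.node (.leaf 194) (.leaf 3778)) (.node (.leaf 585) (.leaf 1182))) (.node (.node (.leaf 414) (.leaf 3776)) (.node (.leaf 1304) (.leaf 2934))))) (.node (.node (.node (.node (.leaf 123) (.leaf 2537)) (.node (.leaf 2757) (.leaf 3747))) (.node (.node (.leaf 1389) (.leaf 3801)) (.node (.leaf 1316) (.leaf 1153)))) (.node (.node (.node (.leaf 256) (.leaf 3362)) (.node (.leaf 1334) (.leaf 2527))) (.node (.node (.leaf 3314) (.leaf 1213)) (.node (.leaf 2693) (.leaf 4028)))))) (.node (.node (.node (.node (.node (.leaf 87) (.leaf 785)) (.node (.leaf 3101) (.leaf 3813))) (.node (.node (.leaf 2774) (.leaf 1238)) (.node (.leaf 1321) (.leaf 4073)))) (.node (.node (.node (.leaf 1412) (.leaf 1259))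 (.node (.leaf 3324) (.leaf 3780))) (.node (.node (.leaf 440) (.leaf 2937)) (.node (.leaf 735) (.leaf 3898))))) (.node (.node (.node (.node (.leaf 160) (.leaf 1271)) (.node (.leaf 561) (.leaf 2692))) (.node (.node (.leaf 391) (.leaf 907)) (.node (.leaf 1310) (.leaf 1151)))) (.node (.node (.node (.leaf 284) (.leaf 1250)) (.node (.leaf 1329) (.leaf 3724))) (.node (.node (.leaf 1367) (.leaf 2965)) (.node (.leaf 1289) (.leaf 1120))))))))))

def twoRank6 : Janko.Tree (ℕ) :=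
  (.node (.node (.node (.node (.node (.node (.node (.node (.node (.node (.leaf 5) (.leaf 2183)) (.leaf 3687)) (.node (.leaf 3401) (.leaf 3032))) (.node (.node (.leaf 3169) (.leaf 3227)) (.node (.leaf 3333) (.leaf 4046)))) (.node (.node (.node (.leaf 165) (.leaf 2706)) (.node (.leaf 2443) (.leaf 2689))) (.node (.node (.leaf 394) (.leaf 909)) (.node (.leaf 3546) (.leaf 2636))))) (.node (.node (.node (.node (.leaf 92) (.leaf 1569)) (.node (.leaf 517) (.leaf 4149))) (.node (.node (.leaf 2762) (.leaf 3595)) (.node (.leaf 2833) (.leaf 3924)))) (.node (.node (.node (.leaf 2775) (.leaf 848)) (.node (.leaf 3160) (.leaf 4031))) (.node (.node (.leaf 3244) (.leaf 3340)) (.node (.leaf 739) (.leaf 3859)))))) (.node (.node (.node (.node (.node (.leaf 50) (.leaf 2990)) (.node (.leaf 2739) (.leaf 1501))) (.node (.node (.leaf 1690) (.leaf 3622)) (.node (.leaf 1615) (.leaf 2813)))) (.node (.node (.node (.leaf 1709) (.leaf 1555)) (.node (.leaf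 1634) (.leaf 1479))) (.node (.node (.leaf 418) (.leaf 3393)) (.node (.leaf 1595) (.leaf 2661))))) (.node (.node (.node (.node (.leaf 2454) (.leaf 3669)) (.node (.leaf 539) (.leaf 1493))) (.node (.node (.leaf 376) (.leaf 1526)) (.node (.leaf 3252) (.leaf 1454)))) (.node (.node (.node (.leaf 2455) (.leaf 2698)) (.node (.leaf 632) (.leaf 3598))) (.node (.node (.leaf 3107) (.leaf 3922)) (.node (.leaf 3091) (.leaf 2642))))))) (.node (.node (.node (.node (.node (.node (.node (.leaf 1728) (.leaf 2487)) (.leaf 756)) (.node (.leaf 3294) (.leaf 941))) (.node (.node (.leaf 1693) (.leaf 1537)) (.node (.leaf 648) (.leaf 1006)))) (.node (.node (.node (.leaf 2456) (.leaf 825)) (.node (.leaf 1636) (.leaf 3879))) (.node (.node (.leaf 2446) (.leaf 915)) (.node (.leaf 715) (.leaf 3451))))) (.node (.node (.node (.node (.leaf 109) (.leaf 3506)) (.node (.leaf 1646) (.leaf 4104))) (.node (.node (.leaf 2453) (.leaf 3553)) (.node (.leaf 3033) (.leaf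 3423)))) (.node (.node (.node (.leaf 2788) (.leaf 3206)) (.node (.leaf 1627) (.leaf 3420))) (.node (.node (.leaf 454) (.leaf 3220)) (.node (.leaf 3323) (.leaf 3952)))))) (.node (.node (.node (.node (.node (.leaf 1725) (.leaf 775)) (.node (.leaf 3274) (.leaf 956))) (.node (.node (.leaf 2766) (.leaf 1534)) (.node (.leaf 666) (.leaf 3899)))) (.node (.node (.node (.leaf 1706) (.leaf 3162)) (.node (.leaf 1632) (.leaf 3686))) (.node (.node (.leaf 1668) (.leaf 1513)) (.node (.leaf 730) (.leaf 2670))))) (.node (.node (.node (.node (.leaf 148) (.leaf 3272)) (.node (.leaf 1640) (.leaf 3348))) (.node (.node (.leaf 3317) (.leaf 4134)) (.node (.leaf 3671) (.leaf 3578)))) (.node (.node (.node (.leaf 275) (.leaf 1541)) (.node (.leaf 1623) (.leaf 2843))) (.node (.node (.leaf 1659) (.leaf 3837)) (.node (.leaf 3363) (.leaf 2648)))))))) (.node (.node (.node (.node (.node (.node (.node (.node (.leaf 17) (.leaf 2910)) (.leaf 1579)) (.node (.leaf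 3102) (.leaf 4144))) (.node (.node (.leaf 2783) (.leaf 3230)) (.node (.leaf 1619) (.leaf 4081)))) (.node (.node (.node (.leaf 175) (.leaf 820)) (.node (.leaf 572) (.leaf 2812))) (.node (.node (.leaf 400) (.leaf 911)) (.node (.leaf 1599) (.leaf 2637))))) (.node (.node (.node (.node (.leaf 100) (.leaf 795)) (.node (.leaf 522) (.leaf 3581))) (.node (.node (.leaf 353) (.leaf 887)) (.node (.leaf 1608) (.leaf 1458)))) (.node (.node (.node (.leaf 1702) (.leaf 1547)) (.node (.leaf 3334) (.leaf 1476))) (.node (.node (.leaf 3586) (.leaf 4058)) (.node (.leaf 4048) (.leaf 4088)))))) (.node (.node (.node (.node (.node (.leaf 62) (.leaf 1573)) (.node (.leaf 2735) (.leaf 1499))) (.node (.node (.leaf 1688) (.leaf 3969)) (.node (.leaf 1613) (.leaf 3945)))) (.node (.node (.node (.leaf 205) (.leaf 835)) (.node (.leaf 1633) (.leaf 3800))) (.node (.node (.leaf 427) (.leaf 1515)) (.node (.leaf 1593) (.leaf 2662))))) (.node (.node (.node (.node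 (.leaf 138) (.leaf 3604)) (.node (.leaf 2776) (.leaf 1491))) (.node (.node (.leaf 1680) (.leaf 3481)) (.node (.leaf 3544) (.leaf 1452)))) (.node (.node (.node (.leaf 268) (.leaf 1542)) (.node (.leaf 636) (.leaf 3433))) (.node (.node (.leaf 473) (.leaf 1507)) (.node (.leaf 3225) (.leaf 4061))))))) (.node (.node (.node (.node (.node (.node (.node (.leaf 41) (.leaf 2466)) (.leaf 764)) (.node (.leaf 1653) (.leaf 3543))) (.node (.node (.leaf 306) (.leaf 3825)) (.node (.leaf 2447) (.leaf 3961)))) (.node (.node (.node (.leaf 2787) (.leaf 829)) (.node (.leaf 581) (.leaf 4151))) (.node (.node (.leaf 1672) (.leaf 3865)) (.node (.leaf 719) (.leaf 1446))))) (.node (.node (.node (.node (.leaf 119) (.leaf 1566)) (.node (.leaf 533) (.leaf 4152))) (.node (.node (.leaf 369) (.leaf 1528)) (.node (.leaf 1606) (.leaf 4129)))) (.node (.node (.node (.leaf 252) (.leaf 1545)) (.node (.leaf 628) (.leaf 1473))) (.node (.node (.leaf 463) (.leaf 3862))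 (.node (.leaf 3224) (.leaf 4026)))))) (.node (.node (.node (.node (.node (.leaf 82) (.leaf 784)) (.node (.leaf 2732) (.leaf 962))) (.node (.node (.leaf 1686) (.leaf 882)) (.node (.leaf 2449) (.leaf 3929)))) (.node (.node (.node (.leaf 1704) (.leaf 3873)) (.node (.leaf 607) (.leaf 3223))) (.node (.node (.leaf 3005) (.leaf 2920)) (.node (.leaf 734) (.leaf 4085))))) (.node (.node (.node (.node (.leaf 156) (.leaf 1560)) (.node (.leaf 558) (.leaf 3343))) (.node (.node (.leaf 1678) (.leaf 3977)) (.node (.leaf 705) (.leaf 1448)))) (.node (.node (.node (.leaf 1696) (.leaf 1540)) (.node (.leaf 3882) (.leaf 4093))) (.node (.node (.leaf 1658) (.leaf 1505)) (.node (.leaf 3386) (.leaf 3852))))))))) (.node (.node (.node (.node (.node (.node (.node (.node (.node (.leaf 1730) (.leaf 2523)) (.leaf 1580)) (.node (.leaf 494) (.leaf 3432))) (.node (.node (.leaf 289) (.leaf 866)) (.node (.leaf 3157) (.leaf 2649)))) (.node (.node (.node (.leaf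 170) (.leaf 818)) (.node (.leaf 1638) (.leaf 4040))) (.node (.node (.leaf 397) (.leaf 3454)) (.node (.leaf 1600) (.leaf 1447))))) (.node (.node (.node (.node (.leaf 97) (.leaf 793)) (.node (.leaf 1648) (.leaf 3057))) (.node (.node (.leaf 349) (.leaf 885)) (.node (.leaf 1609) (.leaf 3498)))) (.node (.node (.node (.leaf 233) (.leaf 3172)) (.node (.leaf 618) (.leaf 1477))) (.node (.node (.leaf 1666) (.leaf 2669)) (.node (.leaf 1589) (.leaf 2655)))))) (.node (.node (.node (.node (.node (.leaf 57) (.leaf 2963)) (.node (.leaf 3254) (.leaf 1500))) (.node (.node (.leaf 1689) (.leaf 2723)) (.node (.leaf 3293) (.leaf 2936)))) (.node (.node (.node (.leaf 1708) (.leaf 833)) (.node (.leaf 593) (.leaf 1478))) (.node (.node (.leaf 1670) (.leaf 1516)) (.node (.leaf 1594) (.leaf 1444))))) (.node (.node (.node (.node (.leaf 1717) (.leaf 1563)) (.node (.leaf 1642) (.leaf 1492))) (.node (.node (.leaf 3653) (.leaf 3409)) (.node (.leaf 1603) (.leaf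 3966)))) (.node (.node (.node (.leaf 1698) (.leaf 3237)) (.node (.leaf 3342) (.leaf 1470))) (.node (.node (.leaf 468) (.leaf 3894)) (.node (.leaf 1584) (.leaf 2643))))))) (.node (.node (.node (.node (.node (.node (.node (.leaf 35) (.leaf 2474)) (.leaf 1577)) (.node (.leaf 1654) (.leaf 944))) (.node (.node (.leaf 1692) (.leaf 871)) (.node (.leaf 1617) (.leaf 3959)))) (.node (.node (.node (.leaf 188) (.leaf 3512)) (.node (.leaf 3536) (.leaf 4101))) (.node (.node (.leaf 409) (.leaf 1520)) (.node (.leaf 1597) (.leaf 4009))))) (.node (.node (.node (.node (.leaf 114) (.leaf 3603)) (.node (.leaf 1645) (.leaf 3471))) (.node (.node (.leaf 1682) (.leaf 1529)) (.node (.leaf 3610) (.leaf 3857)))) (.node (.node (.node (.leaf 248) (.leaf 1546)) (.node (.leaf 1626) (.leaf 3490))) (.node (.node (.leaf 458) (.leaf 3229)) (.node (.leaf 2690) (.leaf 3943)))))) (.node (.node (.node (.node (.node (.leaf 1724) (.leaf 1571)) (.node (.leaf 1650)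 (.leaf 4103))) (.node (.node (.leaf 334) (.leaf 1533)) (.node (.leaf 1611) (.leaf 2935)))) (.node (.node (.node (.leaf 1705) (.leaf 1551)) (.node (.leaf 603) (.leaf 4041))) (.node (.node (.leaf 434) (.leaf 1512)) (.node (.leaf 1591) (.leaf 3895))))) (.node (.node (.node (.node (.leaf 153) (.leaf 1561)) (.node (.leaf 557) (.leaf 1488))) (.node (.node (.leaf 387) (.leaf 2722)) (.node (.leaf 2719) (.leaf 1449)))) (.node (.node (.node (.leaf 3643) (.leaf 2736)) (.node (.leaf 1622) (.leaf 1467))) (.node (.node (.leaf 483) (.leaf 3718)) (.node (.leaf 3187) (.leaf 2645)))))))) (.node (.node (.node (.node (.node (.node (.node (.node (.leaf 24) (.leaf 3235)) (.leaf 3240)) (.node (.leaf 498) (.leaf 939))) (.node (.node (.leaf 296) (.leaf 868)) (.node (.leaf 3090) (.leaf 3489)))) (.node (.node (.node (.leaf 180) (.leaf 822)) (.node (.leaf 3646) (.leaf 1483))) (.node (.node (.leaf 403) (.leaf 4118)) (.node (.leaf 1598) (.leaf 3495)))))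 (.node (.node (.node (.node (.leaf 1721) (.leaf 798)) (.node (.leaf 1647) (.leaf 3621))) (.node (.node (.leaf 358) (.leaf 890)) (.node (.leaf 688) (.leaf 1457)))) (.node (.node (.node (.leaf 1701) (.leaf 3504)) (.node (.leaf 1628) (.leaf 2853))) (.node (.node (.leaf 450) (.leaf 3814)) (.node (.leaf 2681) (.leaf 2858)))))) (.node (.node (.node (.node (.node (.leaf 67) (.leaf 3497)) (.node (.leaf 514) (.leaf 954))) (.node (.node (.leaf 328) (.leaf 2720)) (.node (.leaf 3538) (.leaf 3222)))) (.node (.node (.node (.leaf 210) (.leaf 838)) (.node (.leaf 595) (.leaf 2674))) (.node (.node (.leaf 2445) (.leaf 3698)) (.node (.leaf 728) (.leaf 3212))))) (.node (.node (.node (.node (.leaf 144) (.leaf 3017)) (.node (.leaf 549) (.leaf 1490))) (.node (.node (.leaf 1679) (.leaf 1525)) (.node (.leaf 2717) (.leaf 1451)))) (.node (.node (.node (.leaf 3096) (.leaf 4115)) (.node (.leaf 3666) (.leaf 4143))) (.node (.node (.leaf 1660) (.leaf 932))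 (.node (.leaf 3888) (.leaf 1440))))))) (.node (.node (.node (.node (.node (.node (.leaf 45) (.leaf 1575)) (.node (.leaf 3194) (.leaf 3601))) (.node (.node (.leaf 311) (.leaf 3046)) (.node (.leaf 655) (.leaf 2929)))) (.node (.node (.node (.leaf 195) (.leaf 3204)) (.node (.leaf 1635) (.leaf 2675))) (.node (.node (.leaf 415) (.leaf 1518)) (.node (.leaf 3336) (.leaf 1445))))) (.node (.node (.node (.node (.leaf 124) (.leaf 1564)) (.node (.leaf 1644) (.leaf 3619))) (.node (.node (.leaf 3106) (.leaf 3594)) (.node (.leaf 694) (.leaf 1014)))) (.node (.node (.node (.leaf 257) (.leaf 3710)) (.node (.leaf 3659) (.leaf 1472))) (.node (.node (.leaf 2451) (.leaf 927)) (.node (.leaf 1585) (.leaf 1441)))))) (.node (.node (.node (.node (.node (.leaf 88) (.leaf 786)) (.node (.leaf 3093) (.leaf 1496))) (.node (.node (.leaf 1685) (.leaf 3035)) (.node (.leaf 677) (.leaf 3847)))) (.node (.node (.node (.leaf 227) (.leaf 2830)) (.node (.leaf 611)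 (.leaf 3377))) (.node (.node (.leaf 441) (.leaf 1511)) (.node (.leaf 1590) (.leaf 1443))))) (.node (.node (.node (.node (.leaf 1714) (.leaf 3967)) (.node (.leaf 562) (.leaf 1486))) (.node (.node (.leaf 2988) (.leaf 3426)) (.node (.leaf 4146) (.leaf 2848)))) (.node (.node (.node (.leaf 1695) (.leaf 3870)) (.node (.leaf 4043) (.leaf 3885))) (.node (.node (.leaf 491) (.leaf 1504)) (.node (.leaf 4051) (.leaf 4005))))))))))

def twoRank7 : Janko.Tree (ℕ) :=
  (.node (.node (.node (.node (.node (.node (.node (.node (.node (.node (.leaf 6) (.leaf 2185)) (.leaf 1895)) (.node (.leaf 3399) (.leaf 936))) (.node (.node (.leaf 3181) (.leaf 1856)) (.node (.leaf 1934) (.leaf 3533)))) (.node (.node (.node (.leaf 166) (.leaf 817)) (.node (.leaf 1955) (.leaf 982))) (.node (.node (.leaf 395) (.leaf 3953)) (.node (.leaf 3550) (.leaf 4091))))) (.node (.node (.node (.node (.leaf 93) (.leaf 791)) (.node (.leaf 518) (.leaf 1806))) (.node (.node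 (.leaf 345) (.leaf 3593)) (.node (.leaf 1922) (.leaf 3930)))) (.node (.node (.node (.leaf 230) (.leaf 1866)) (.node (.leaf 1943) (.leaf 4029))) (.node (.node (.leaf 1986) (.leaf 1825)) (.node (.leaf 740) (.leaf 4008)))))) (.node (.node (.node (.node (.node (.leaf 51) (.leaf 1889)) (.node (.leaf 508) (.leaf 3470))) (.node (.node (.leaf 315) (.leaf 1850)) (.node (.leaf 3286) (.leaf 4032)))) (.node (.node (.node (.leaf 200) (.leaf 3700)) (.node (.leaf 590) (.leaf 3328))) (.node (.node (.leaf 1992) (.leaf 1830)) (.node (.leaf 3233) (.leaf 4054))))) (.node (.node (.node (.node (.leaf 2038) (.leaf 1878)) (.node (.leaf 540) (.leaf 3485))) (.node (.node (.leaf 2002) (.leaf 3978)) (.node (.leaf 3263) (.leaf 3154)))) (.node (.node (.node (.leaf 2021) (.leaf 857)) (.node (.leaf 633) (.leaf 1778))) (.node (.node (.leaf 1980) (.leaf 3902)) (.node (.leaf 1901) (.leaf 3986))))))) (.node (.node (.node (.node (.node (.node (.node (.leaf 30)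 (.leaf 2866)) (.leaf 757)) (.node (.leaf 1972) (.leaf 3609))) (.node (.node (.leaf 301) (.leaf 3823)) (.node (.leaf 649) (.leaf 4082)))) (.node (.node (.node (.leaf 2032) (.leaf 1873)) (.node (.leaf 3469) (.leaf 1792))) (.node (.node (.leaf 1995) (.leaf 916)) (.node (.leaf 716) (.leaf 1745))))) (.node (.node (.node (.node (.leaf 110) (.leaf 1880)) (.node (.leaf 528) (.leaf 4102))) (.node (.node (.leaf 2005) (.leaf 1844)) (.node (.leaf 692) (.leaf 1758)))) (.node (.node (.node (.leaf 244) (.leaf 1863)) (.node (.leaf 3262) (.leaf 1782))) (.node (.node (.leaf 455) (.leaf 1823)) (.node (.leaf 3198) (.leaf 1737)))))) (.node (.node (.node (.node (.node (.leaf 72) (.leaf 1886)) (.node (.leaf 3267) (.leaf 957))) (.node (.node (.leaf 331) (.leaf 3559)) (.node (.leaf 667) (.leaf 1764)))) (.node (.node (.node (.leaf 214) (.leaf 1868)) (.node (.leaf 600) (.leaf 1787))) (.node (.node (.leaf 431) (.leaf 4122)) (.node (.leaf 731) (.leaf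 3990))))) (.node (.node (.node (.node (.leaf 149) (.leaf 1875)) (.node (.leaf 554) (.leaf 1798))) (.node (.node (.leaf 3192) (.leaf 4138)) (.node (.leaf 3665) (.leaf 1751)))) (.node (.node (.node (.leaf 2018) (.leaf 3699)) (.node (.leaf 3257) (.leaf 1002))) (.node (.node (.leaf 481) (.leaf 1817)) (.node (.leaf 1898) (.leaf 4015)))))))) (.node (.node (.node (.node (.node (.node (.node (.node (.leaf 18) (.leaf 2634)) (.leaf 3080)) (.node (.leaf 496) (.leaf 4142))) (.node (.node (.leaf 292) (.leaf 1854)) (.node (.leaf 3231) (.leaf 1771)))) (.node (.node (.node (.leaf 176) (.leaf 821)) (.node (.leaf 573) (.leaf 983))) (.node (.node (.leaf 3682) (.leaf 3127)) (.node (.leaf 3170) (.leaf 4089))))) (.node (.node (.node (.node (.leaf 2041) (.leaf 3596)) (.node (.leaf 1964) (.leaf 3560))) (.node (.node (.leaf 354) (.leaf 3563)) (.node (.leaf 686) (.leaf 3815)))) (.node (.node (.node (.leaf 238) (.leaf 3871)) (.node (.leaf 1941) (.leaf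 3572))) (.node (.node (.leaf 1985) (.leaf 1824)) (.node (.leaf 1904) (.leaf 4086)))))) (.node (.node (.node (.node (.node (.leaf 63) (.leaf 3683)) (.node (.leaf 511) (.leaf 952))) (.node (.node (.leaf 325) (.leaf 3963)) (.node (.leaf 3460) (.leaf 1767)))) (.node (.node (.node (.leaf 206) (.leaf 3402)) (.node (.leaf 2503) (.leaf 3804))) (.node (.node (.leaf 1991) (.leaf 3326)) (.node (.leaf 726) (.leaf 4072))))) (.node (.node (.node (.node (.leaf 139) (.leaf 1877)) (.node (.leaf 545) (.leaf 3881))) (.node (.node (.leaf 3297) (.leaf 1840)) (.node (.leaf 3548) (.leaf 3968)))) (.node (.node (.node (.leaf 269) (.leaf 860)) (.node (.leaf 1937) (.leaf 1776))) (.node (.node (.leaf 1978) (.leaf 930)) (.node (.leaf 1899) (.leaf 3949))))))) (.node (.node (.node (.node (.node (.node (.node (.leaf 2046) (.leaf 2464)) (.leaf 1891)) (.node (.leaf 3394) (.leaf 1812))) (.node (.node (.leaf 307) (.leaf 3577)) (.node (.leaf 1930) (.leaf 3908))))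 (.node (.node (.node (.leaf 191) (.leaf 1871)) (.node (.leaf 1950) (.leaf 3726))) (.node (.node (.leaf 412) (.leaf 1832)) (.node (.leaf 720) (.leaf 4018))))) (.node (.node (.node (.node (.leaf 120) (.leaf 3588)) (.node (.leaf 534) (.leaf 4150))) (.node (.node (.leaf 370) (.leaf 3143)) (.node (.leaf 3650) (.leaf 1756)))) (.node (.node (.node (.leaf 253) (.leaf 856)) (.node (.leaf 629) (.leaf 4099))) (.node (.node (.leaf 1982) (.leaf 3866)) (.node (.leaf 1902) (.leaf 1735)))))) (.node (.node (.node (.node (.node (.leaf 83) (.leaf 1885)) (.node (.leaf 515) (.leaf 963))) (.node (.node (.leaf 339) (.leaf 883)) (.node (.leaf 1924) (.leaf 1762)))) (.node (.node (.node (.leaf 224) (.leaf 1867)) (.node (.leaf 608) (.leaf 1785))) (.node (.node (.leaf 437) (.leaf 3919)) (.node (.leaf 3335) (.leaf 3843))))) (.node (.node (.node (.node (.leaf 2035) (.leaf 814)) (.node (.leaf 3291) (.leaf 1796))) (.node (.node (.leaf 390) (.leaf 3971))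 (.node (.leaf 1914) (.leaf 4114)))) (.node (.node (.node (.leaf 3261) (.leaf 3079)) (.node (.leaf 3876) (.leaf 1773))) (.node (.node (.leaf 487) (.leaf 3438)) (.node (.leaf 1897) (.leaf 3850))))))))) (.node (.node (.node (.node (.node (.node (.node (.node (.node (.leaf 12) (.leaf 2630)) (.leaf 3382)) (.node (.leaf 3678) (.leaf 1814))) (.node (.node (.leaf 2015) (.leaf 4053)) (.node (.leaf 3185) (.leaf 1004)))) (.node (.node (.node (.leaf 171) (.leaf 3398)) (.node (.leaf 568) (.leaf 1794))) (.node (.node (.leaf 3253) (.leaf 1835)) (.node (.leaf 3131) (.leaf 4023))))) (.node (.node (.node (.node (.leaf 98) (.leaf 794)) (.node (.leaf 2158) (.leaf 965))) (.node (.node (.leaf 350) (.leaf 886)) (.node (.leaf 3545) (.leaf 1760)))) (.node (.node (.node (.leaf 2025) (.leaf 1865)) (.node (.leaf 1942) (.leaf 4012))) (.node (.node (.leaf 3627) (.leaf 923)) (.node (.leaf 3351) (.leaf 3944)))))) (.node (.node (.node (.node (.node (.leaf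 2045) (.leaf 770)) (.node (.leaf 3271) (.leaf 3539))) (.node (.node (.leaf 320) (.leaf 874)) (.node (.leaf 1928) (.leaf 3931)))) (.node (.node (.node (.leaf 2148) (.leaf 834)) (.node (.leaf 3308) (.leaf 987))) (.node (.node (.leaf 423) (.leaf 3861)) (.node (.leaf 3180) (.leaf 3911))))) (.node (.node (.node (.node (.leaf 133) (.leaf 3277)) (.node (.leaf 542) (.leaf 3352))) (.node (.node (.leaf 2001) (.leaf 3411)) (.node (.leaf 3434) (.leaf 1754)))) (.node (.node (.node (.leaf 264) (.leaf 1860)) (.node (.leaf 1938) (.leaf 4145))) (.node (.node (.leaf 469) (.leaf 3910)) (.node (.leaf 3234) (.leaf 4068))))))) (.node (.node (.node (.node (.node (.node (.node (.leaf 36) (.leaf 2806)) (.leaf 3505)) (.node (.leaf 3673) (.leaf 1813))) (.node (.node (.leaf 2134) (.leaf 3523)) (.node (.leaf 651) (.leaf 3904)))) (.node (.node (.node (.leaf 2031) (.leaf 1872)) (.node (.leaf 3540) (.leaf 1791))) (.node (.node (.leaf 1994) (.leaf 3712))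 (.node (.leaf 717) (.leaf 3979))))) (.node (.node (.node (.node (.leaf 115) (.leaf 1879)) (.node (.leaf 531) (.leaf 1803))) (.node (.node (.leaf 365) (.leaf 4133)) (.node (.leaf 3599) (.leaf 3940)))) (.node (.node (.node (.leaf 249) (.leaf 3368)) (.node (.leaf 626) (.leaf 1780))) (.node (.node (.leaf 459) (.leaf 1821)) (.node (.leaf 744) (.leaf 1736)))))) (.node (.node (.node (.node (.node (.leaf 77) (.leaf 780)) (.node (.leaf 3201) (.leaf 1808))) (.node (.node (.leaf 2009) (.leaf 880)) (.node (.leaf 671) (.leaf 3955)))) (.node (.node (.node (.leaf 219) (.leaf 3502)) (.node (.leaf 604) (.leaf 4039))) (.node (.node (.leaf 435) (.leaf 4135)) (.node (.leaf 4052) (.leaf 1740))))) (.node (.node (.node (.node (.leaf 154) (.leaf 3640)) (.node (.leaf 3246) (.leaf 4042))) (.node (.node (.leaf 2607) (.leaf 905)) (.node (.leaf 702) (.leaf 4125)))) (.node (.node (.node (.leaf 2017) (.leaf 862)) (.node (.leaf 641) (.leaf 3133))) (.node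 (.node (.leaf 484) (.leaf 1816)) (.node (.leaf 3167) (.leaf 3988)))))))) (.node (.node (.node (.node (.node (.node (.node (.node (.leaf 2048) (.leaf 2174)) (.leaf 1893)) (.node (.leaf 1973) (.leaf 940))) (.node (.node (.leaf 2157) (.leaf 1853)) (.node (.leaf 1932) (.leaf 1770)))) (.node (.node (.node (.leaf 2033) (.leaf 3709)) (.node (.leaf 3642) (.leaf 3338))) (.node (.node (.leaf 1996) (.leaf 1834)) (.node (.leaf 713) (.leaf 1746))))) (.node (.node (.node (.node (.leaf 105) (.leaf 1881)) (.node (.leaf 525) (.leaf 1804))) (.node (.node (.leaf 2006) (.leaf 1845)) (.node (.leaf 689) (.leaf 3976)))) (.node (.node (.node (.leaf 241) (.leaf 3522)) (.node (.leaf 3702) (.leaf 3842))) (.node (.node (.leaf 1984) (.leaf 3810)) (.node (.leaf 3218) (.leaf 4010)))))) (.node (.node (.node (.node (.node (.leaf 2151) (.leaf 1887)) (.node (.leaf 1968) (.leaf 955))) (.node (.node (.leaf 329) (.leaf 3476)) (.node (.leaf 3542) (.leaf 1766))))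 (.node (.node (.node (.leaf 2028) (.leaf 1869)) (.node (.leaf 1946) (.leaf 989))) (.node (.node (.leaf 1990) (.leaf 1828)) (.node (.leaf 729) (.leaf 1742))))) (.node (.node (.node (.node (.leaf 2036) (.leaf 1876)) (.node (.leaf 550) (.leaf 3344))) (.node (.node (.leaf 3369) (.leaf 903)) (.node (.leaf 699) (.leaf 3148)))) (.node (.node (.node (.leaf 271) (.leaf 4111)) (.node (.leaf 1936) (.leaf 1775))) (.node (.node (.leaf 3195) (.leaf 3582)) (.node (.leaf 3886) (.leaf 4064))))))) (.node (.node (.node (.node (.node (.node (.leaf 46) (.leaf 3628)) (.node (.leaf 3165) (.leaf 1811))) (.node (.node (.leaf 2012) (.leaf 872)) (.node (.leaf 656) (.leaf 3845)))) (.node (.node (.node (.leaf 2167) (.leaf 1870)) (.node (.leaf 586) (.leaf 3933))) (.node (.node (.leaf 1993) (.leaf 3395)) (.node (.leaf 3319) (.leaf 3869))))) (.node (.node (.node (.node (.leaf 2039) (.leaf 3638)) (.node (.leaf 536) (.leaf 1801))) (.node (.node (.leaf 372)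 (.leaf 1842)) (.node (.leaf 695) (.leaf 1015)))) (.node (.node (.node (.leaf 2022) (.leaf 3357)) (.node (.leaf 3657) (.leaf 3151))) (.node (.node (.leaf 1981) (.leaf 4059)) (.node (.leaf 3260) (.leaf 4022)))))) (.node (.node (.node (.node (.node (.leaf 2042) (.leaf 1883)) (.node (.leaf 1966) (.leaf 3138))) (.node (.node (.leaf 342) (.leaf 884)) (.node (.leaf 678) (.leaf 1761)))) (.node (.node (.node (.leaf 228) (.leaf 3164)) (.node (.leaf 1944) (.leaf 1784))) (.node (.node (.leaf 1987) (.leaf 3356)) (.node (.leaf 736) (.leaf 3918))))) (.node (.node (.node (.node (.leaf 161) (.leaf 3965)) (.node (.leaf 1956) (.leaf 981))) (.node (.node (.leaf 1998) (.leaf 1837)) (.node (.leaf 4140) (.leaf 3982)))) (.node (.node (.node (.leaf 3209) (.leaf 3874)) (.node (.leaf 4037) (.leaf 1772))) (.node (.node (.leaf 492) (.leaf 3447)) (.node (.leaf 4045) (.leaf 3985))))))))))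

def twoRank : Janko.Tree (ℕ) := (.node (.node (.node twoRank0 twoRank4) (.node twoRank2 twoRank6)) (.node (.node twoRank1 twoRank5) (.node twoRank3 twoRank7)))

def twoVia0 : Janko.Tree (ℕ × ℕ) :=
  (.node (.node (.node (.node (.node (.node (.node (.node (.node (.node (.leaf (0, 0)) (.leaf (0, 0))) (.leaf (0, 630))) (.node (.leaf (25, 490)) (.leaf (10, 768)))) (.node (.node (.leaf (57, 44)) (.leaf (22, 640))) (.node (.leaf (7, 72)) (.leaf (56, 1014))))) (.node (.node (.node (.leaf (17, 12)) (.leaf (22, 576))) (.node (.leaf (57, 320)) (.leaf (50, 491)))) (.node (.node (.leaf (21, 76)) (.leaf (57, 405))) (.node (.leaf (42, 93)) (.leaf (53, 732)))))) (.node (.node (.node (.node (.leaf (0, 32)) (.leaf (0, 0))) (.node (.leaf (0, 288)) (.leaf (8, 800)))) (.node (.node (.leaf (41, 40)) (.leaf (32, 140))) (.node (.leaf (4, 416)) (.leaf (57, 584))))) (.node (.node (.node (.leaf (25, 29)) (.leaf (16, 597))) (.node (.leaf (57, 452))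 (.leaf (57, 957)))) (.node (.node (.leaf (0, 0)) (.leaf (46, 736))) (.node (.leaf (32, 824)) (.leaf (0, 992))))))) (.node (.node (.node (.node (.node (.leaf (25, 16)) (.leaf (22, 528))) (.node (.leaf (10, 272)) (.leaf (58, 78)))) (.node (.node (.leaf (58, 230)) (.leaf (4, 656))) (.node (.leaf (25, 27)) (.leaf (17, 234))))) (.node (.node (.node (.leaf (0, 0)) (.leaf (52, 167))) (.node (.leaf (0, 336)) (.leaf (25, 612)))) (.node (.node (.leaf (46, 51)) (.leaf (55, 157))) (.node (.leaf (0, 719)) (.leaf (55, 976)))))) (.node (.node (.node (.node (.leaf (0, 0)) (.leaf (56, 560))) (.node (.leaf (9, 304)) (.leaf (0, 0)))) (.node (.node (.leaf (57, 362)) (.leaf (26, 420))) (.node (.leaf (57, 659)) (.leaf (57, 899))))) (.node (.node (.node (.leaf (0, 0)) (.leaf (6, 624))) (.node (.leaf (0, 628)) (.leaf (41, 880)))) (.node (.node (.leaf (56, 62)) (.leaf (57, 504))) (.node (.leaf (57, 588)) (.leaf (46, 989)))))))) (.node (.node (.node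 (.node (.node (.node (.node (.leaf (0, 8)) (.leaf (32, 362))) (.leaf (34, 520))) (.node (.leaf (57, 264)) (.leaf (25, 776)))) (.node (.node (.leaf (0, 0)) (.leaf (0, 648))) (.node (.leaf (58, 449)) (.leaf (57, 656))))) (.node (.node (.node (.leaf (0, 0)) (.leaf (56, 332))) (.node (.leaf (0, 571)) (.leaf (56, 244)))) (.node (.node (.leaf (56, 782)) (.leaf (54, 975))) (.node (.leaf (43, 456)) (.leaf (47, 968)))))) (.node (.node (.node (.node (.leaf (57, 6)) (.leaf (57, 675))) (.node (.leaf (57, 568)) (.leaf (58, 808)))) (.node (.node (.leaf (0, 0)) (.leaf (55, 1015))) (.node (.leaf (59, 454)) (.leaf (41, 572))))) (.node (.node (.node (.leaf (41, 64)) (.leaf (57, 620))) (.node (.leaf (0, 360)) (.leaf (0, 872)))) (.node (.node (.leaf (57, 546)) (.leaf (57, 836))) (.node (.leaf (0, 488)) (.leaf (54, 545))))))) (.node (.node (.node (.node (.node (.leaf (0, 0)) (.leaf (57, 578))) (.node (.leaf (57, 280)) (.leaf (25, 202)))) (.node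 (.node (.leaf (25, 53)) (.leaf (57, 664))) (.node (.leaf (57, 39)) (.leaf (55, 66))))) (.node (.node (.node (.leaf (55, 692)) (.leaf (56, 913))) (.node (.leaf (0, 0)) (.leaf (50, 461)))) (.node (.node (.leaf (0, 216)) (.leaf (57, 824))) (.node (.leaf (25, 159)) (.leaf (0, 984)))))) (.node (.node (.node (.node (.leaf (0, 56)) (.leaf (5, 568))) (.node (.leaf (0, 545)) (.leaf (0, 0)))) (.node (.node (.leaf (57, 68)) (.leaf (50, 659))) (.node (.leaf (0, 440)) (.leaf (12, 759))))) (.node (.node (.node (.leaf (56, 261)) (.leaf (34, 628))) (.node (.leaf (52, 121)) (.leaf (6, 888)))) (.node (.node (.leaf (0, 248)) (.leaf (14, 1010))) (.node (.leaf (7, 117)) (.leaf (0, 1016))))))))) (.node (.node (.node (.node (.node (.node (.node (.node (.leaf (0, 0)) (.leaf (16, 677))) (.leaf (55, 68))) (.node (.leaf (56, 101)) (.leaf (59, 772)))) (.node (.node (.leaf (0, 132)) (.leaf (59, 866))) (.node (.leaf (7, 75)) (.leaf (13, 900))))) (.node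 (.node (.node (.leaf (25, 68)) (.leaf (4, 580))) (.node (.leaf (58, 14)) (.leaf (41, 104)))) (.node (.node (.leaf (7, 196)) (.leaf (0, 708))) (.node (.leaf (55, 985)) (.leaf (58, 883)))))) (.node (.node (.node (.node (.leaf (4, 68)) (.leaf (25, 548))) (.node (.leaf (25, 147)) (.leaf (57, 228)))) (.node (.node (.leaf (25, 164)) (.leaf (8, 940))) (.node (.leaf (0, 420)) (.leaf (59, 806))))) (.node (.node (.node (.leaf (0, 0)) (.leaf (0, 849))) (.node (.leaf (0, 0)) (.leaf (57, 551)))) (.node (.node (.leaf (57, 81)) (.leaf (54, 164))) (.node (.leaf (57, 244)) (.leaf (42, 689))))))) (.node (.node (.node (.node (.node (.leaf (0, 20)) (.leaf (58, 56))) (.node (.leaf (4, 276)) (.leaf (0, 788)))) (.node (.node (.leaf (0, 148)) (.leaf (0, 874))) (.node (.leaf (47, 560)) (.leaf (54, 332))))) (.node (.node (.node (.leaf (25, 196)) (.leaf (25, 596))) (.node (.leaf (25, 36)) (.leaf (58, 729)))) (.node (.node (.leaf (57, 78)) (.leaf (57,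 343))) (.node (.leaf (0, 468)) (.leaf (58, 942)))))) (.node (.node (.node (.node (.leaf (0, 0)) (.leaf (17, 297))) (.node (.leaf (9, 308)) (.leaf (22, 820)))) (.node (.node (.leaf (0, 0)) (.leaf (0, 692))) (.node (.leaf (0, 436)) (.leaf (57, 435))))) (.node (.node (.node (.leaf (57, 23)) (.leaf (4, 628))) (.node (.leaf (0, 0)) (.leaf (57, 545)))) (.node (.node (.leaf (4, 244)) (.leaf (59, 509))) (.node (.leaf (54, 171)) (.leaf (59, 1012)))))))) (.node (.node (.node (.node (.node (.node (.node (.leaf (0, 0)) (.leaf (48, 463))) (.leaf (57, 55))) (.node (.leaf (0, 268)) (.leaf (57, 780)))) (.node (.node (.leaf (25, 297)) (.leaf (58, 84))) (.node (.leaf (57, 191)) (.leaf (58, 318))))) (.node (.node (.node (.leaf (0, 76)) (.leaf (0, 588))) (.node (.leaf (17, 332)) (.leaf (0, 0)))) (.node (.node (.leaf (32, 528)) (.leaf (56, 451))) (.node (.leaf (7, 460)) (.leaf (0, 972)))))) (.node (.node (.node (.node (.leaf (25, 44)) (.leaf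 (0, 0))) (.node (.leaf (57, 19)) (.leaf (47, 812)))) (.node (.node (.leaf (50, 175)) (.leaf (0, 843))) (.node (.leaf (59, 694)) (.leaf (4, 940))))) (.node (.node (.node (.leaf (25, 108)) (.leaf (0, 620))) (.node (.leaf (57, 261)) (.leaf (59, 876)))) (.node (.node (.leaf (56, 61)) (.leaf (57, 748))) (.node (.leaf (57, 236)) (.leaf (14, 946))))))) (.node (.node (.node (.node (.node (.leaf (0, 0)) (.leaf (17, 292))) (.node (.leaf (17, 268)) (.leaf (6, 796)))) (.node (.node (.leaf (0, 0)) (.leaf (46, 293))) (.node (.leaf (0, 412)) (.leaf (55, 478))))) (.node (.node (.node (.leaf (0, 92)) (.leaf (56, 343))) (.node (.leaf (20, 106)) (.leaf (52, 860)))) (.node (.node (.leaf (0, 220)) (.leaf (9, 548))) (.node (.leaf (20, 242)) (.leaf (59, 988)))))) (.node (.node (.node (.node (.leaf (25, 60)) (.leaf (0, 572))) (.node (.leaf (25, 17)) (.leaf (57, 234)))) (.node (.node (.leaf (56, 833)) (.leaf (0, 700))) (.node (.leaf (54, 91)) (.leaf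 (57, 410))))) (.node (.node (.node (.leaf (0, 0)) (.leaf (0, 636))) (.node (.leaf (0, 638)) (.leaf (0, 946)))) (.node (.node (.leaf (31, 163)) (.leaf (59, 782))) (.node (.leaf (55, 487)) (.leaf (20, 933)))))))))) (.node (.node (.node (.node (.node (.node (.node (.node (.node (.leaf (0, 0)) (.leaf (7, 0))) (.leaf (0, 0))) (.node (.leaf (0, 490)) (.leaf (0, 770)))) (.node (.node (.leaf (57, 130)) (.leaf (57, 127))) (.node (.leaf (51, 370)) (.leaf (14, 898))))) (.node (.node (.node (.leaf (25, 66)) (.leaf (0, 578))) (.node (.leaf (58, 536)) (.leaf (57, 162)))) (.node (.node (.leaf (43, 151)) (.leaf (59, 909))) (.node (.leaf (55, 450)) (.leaf (0, 962)))))) (.node (.node (.node (.node (.leaf (25, 34)) (.leaf (57, 307))) (.node (.leaf (4, 290)) (.leaf (55, 637)))) (.node (.node (.leaf (25, 345)) (.leaf (57, 782))) (.node (.leaf (57, 791)) (.leaf (59, 937))))) (.node (.node (.node (.leaf (57, 3)) (.leaf (0, 0))) (.node (.leaf (4,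 354)) (.leaf (0, 866)))) (.node (.node (.leaf (59, 655)) (.leaf (4, 738))) (.node (.leaf (25, 738)) (.leaf (14, 994))))))) (.node (.node (.node (.node (.node (.leaf (0, 0)) (.leaf (0, 530))) (.node (.leaf (0, 274)) (.leaf (46, 310)))) (.node (.node (.leaf (0, 0)) (.leaf (56, 659))) (.node (.leaf (0, 0)) (.leaf (14, 914))))) (.node (.node (.node (.leaf (54, 50)) (.leaf (0, 594))) (.node (.leaf (57, 22)) (.leaf (0, 850)))) (.node (.node (.leaf (0, 0)) (.leaf (56, 354))) (.node (.leaf (57, 466)) (.leaf (0, 978)))))) (.node (.node (.node (.node (.leaf (31, 50)) (.leaf (53, 238))) (.node (.leaf (4, 306)) (.leaf (57, 212)))) (.node (.node (.leaf (0, 0)) (.leaf (32, 958))) (.node (.leaf (59, 562)) (.leaf (8, 946))))) (.node (.node (.node (.leaf (0, 114)) (.leaf (50, 261))) (.node (.leaf (6, 384)) (.leaf (26, 666)))) (.node (.node (.leaf (0, 242)) (.leaf (0, 0))) (.node (.leaf (0, 498)) (.leaf (0, 1010)))))))) (.node (.node (.node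 (.node (.node (.node (.node (.leaf (0, 0)) (.leaf (40, 59))) (.leaf (0, 0))) (.node (.leaf (58, 770)) (.leaf (57, 207)))) (.node (.node (.leaf (14, 341)) (.leaf (57, 304))) (.node (.leaf (17, 416)) (.leaf (57, 540))))) (.node (.node (.node (.leaf (57, 74)) (.leaf (56, 916))) (.node (.leaf (4, 564)) (.leaf (57, 537)))) (.node (.node (.leaf (57, 9)) (.leaf (57, 111))) (.node (.leaf (10, 828)) (.leaf (47, 970)))))) (.node (.node (.node (.node (.leaf (25, 42)) (.leaf (0, 0))) (.node (.leaf (0, 298)) (.leaf (57, 530)))) (.node (.node (.leaf (0, 170)) (.leaf (57, 682))) (.node (.leaf (57, 679)) (.leaf (50, 560))))) (.node (.node (.node (.leaf (25, 244)) (.leaf (57, 99))) (.node (.leaf (5, 362)) (.leaf (21, 222)))) (.node (.node (.leaf (0, 451)) (.leaf (51, 260))) (.node (.leaf (4, 490)) (.leaf (56, 1002))))))) (.node (.node (.node (.node (.node (.leaf (4, 26)) (.leaf (0, 0))) (.node (.leaf (57, 631)) (.leaf (57, 543)))) (.node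 (.node (.leaf (10, 711)) (.leaf (0, 666))) (.node (.leaf (17, 410)) (.leaf (56, 608))))) (.node (.node (.node (.leaf (0, 0)) (.leaf (35, 537))) (.node (.leaf (57, 159)) (.leaf (55, 101)))) (.node (.node (.leaf (55, 446)) (.leaf (57, 345))) (.node (.leaf (8, 794)) (.leaf (0, 986)))))) (.node (.node (.node (.node (.leaf (25, 58)) (.leaf (58, 221))) (.node (.leaf (57, 140)) (.leaf (59, 726)))) (.node (.node (.leaf (25, 290)) (.leaf (22, 698))) (.node (.leaf (4, 442)) (.leaf (57, 889))))) (.node (.node (.node (.leaf (0, 0)) (.leaf (4, 384))) (.node (.leaf (0, 378)) (.leaf (7, 890)))) (.node (.node (.leaf (57, 104)) (.leaf (56, 1000))) (.node (.leaf (57, 176)) (.leaf (58, 935))))))))) (.node (.node (.node (.node (.node (.node (.node (.node (.leaf (0, 0)) (.leaf (24, 306))) (.leaf (0, 518))) (.node (.leaf (56, 362)) (.leaf (46, 767)))) (.node (.node (.leaf (4, 134)) (.leaf (4, 646))) (.node (.leaf (4, 518)) (.leaf (55, 902)))))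 (.node (.node (.node (.leaf (56, 23)) (.leaf (25, 582))) (.node (.leaf (25, 571)) (.leaf (57, 284)))) (.node (.node (.leaf (17, 79)) (.leaf (4, 710))) (.node (.leaf (0, 454)) (.leaf (57, 757)))))) (.node (.node (.node (.node (.leaf (0, 38)) (.leaf (4, 550))) (.node (.leaf (57, 294)) (.leaf (18, 806)))) (.node (.node (.leaf (57, 13)) (.leaf (4, 678))) (.node (.leaf (7, 415)) (.leaf (0, 0))))) (.node (.node (.node (.leaf (57, 139)) (.leaf (21, 345))) (.node (.leaf (0, 0)) (.leaf (31, 889)))) (.node (.node (.leaf (0, 0)) (.leaf (37, 737))) (.node (.leaf (58, 820)) (.leaf (58, 527))))))) (.node (.node (.node (.node (.node (.leaf (4, 22)) (.leaf (56, 297))) (.node (.leaf (55, 44)) (.leaf (10, 790)))) (.node (.node (.leaf (57, 52)) (.leaf (52, 325))) (.node (.leaf (57, 196)) (.leaf (42, 455))))) (.node (.node (.node (.leaf (55, 29)) (.leaf (7, 608))) (.node (.leaf (0, 342)) (.leaf (39, 849)))) (.node (.node (.leaf (59, 566)) (.leaf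 (57, 610))) (.node (.leaf (57, 40)) (.leaf (38, 833)))))) (.node (.node (.node (.node (.leaf (0, 0)) (.leaf (58, 200))) (.node (.leaf (25, 545)) (.leaf (9, 453)))) (.node (.node (.leaf (0, 182)) (.leaf (0, 694))) (.node (.leaf (57, 197)) (.leaf (9, 665))))) (.node (.node (.node (.leaf (0, 118)) (.leaf (51, 176))) (.node (.leaf (57, 378)) (.leaf (4, 886)))) (.node (.node (.leaf (57, 586)) (.leaf (4, 524))) (.node (.leaf (33, 498)) (.leaf (55, 1014)))))))) (.node (.node (.node (.node (.node (.node (.node (.leaf (0, 14)) (.leaf (56, 147))) (.leaf (4, 55))) (.node (.leaf (57, 16)) (.leaf (55, 81)))) (.node (.node (.leaf (9, 731)) (.leaf (59, 784))) (.node (.leaf (56, 32)) (.leaf (59, 910))))) (.node (.node (.node (.leaf (4, 78)) (.leaf (57, 590))) (.node (.leaf (0, 0)) (.leaf (54, 247)))) (.node (.node (.leaf (57, 51)) (.leaf (0, 718))) (.node (.leaf (25, 719)) (.leaf (55, 974)))))) (.node (.node (.node (.node (.leaf (57, 14))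 (.leaf (56, 306))) (.node (.leaf (4, 135)) (.leaf (0, 936)))) (.node (.node (.leaf (0, 174)) (.leaf (0, 0))) (.node (.leaf (57, 430)) (.leaf (31, 686))))) (.node (.node (.node (.leaf (7, 109)) (.leaf (58, 465))) (.node (.leaf (25, 628)) (.leaf (9, 787)))) (.node (.node (.leaf (55, 831)) (.leaf (0, 863))) (.node (.leaf (0, 494)) (.leaf (59, 1006))))))) (.node (.node (.node (.node (.node (.leaf (0, 0)) (.leaf (59, 407))) (.node (.leaf (0, 286)) (.leaf (57, 961)))) (.node (.node (.leaf (32, 158)) (.leaf (10, 956))) (.node (.leaf (0, 414)) (.leaf (58, 955))))) (.node (.node (.node (.leaf (57, 28)) (.leaf (56, 911))) (.node (.leaf (56, 160)) (.leaf (58, 608)))) (.node (.node (.leaf (7, 33)) (.leaf (57, 312))) (.node (.leaf (31, 107)) (.leaf (59, 990)))))) (.node (.node (.node (.node (.leaf (0, 62)) (.leaf (0, 811))) (.node (.leaf (56, 135)) (.leaf (4, 830)))) (.node (.node (.leaf (4, 190)) (.leaf (59, 702))) (.node (.leaf (0,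 698)) (.leaf (10, 958))))) (.node (.node (.node (.leaf (0, 126)) (.leaf (21, 120))) (.node (.leaf (0, 382)) (.leaf (4, 894)))) (.node (.node (.leaf (17, 235)) (.leaf (41, 766))) (.node (.leaf (57, 510)) (.leaf (59, 938)))))))))))

def twoVia1 : Janko.Tree (ℕ × ℕ) :=
  (.node (.node (.node (.node (.node (.node (.node (.node (.node (.node (.leaf (0, 0)) (.leaf (1, 0))) (.leaf (0, 0))) (.node (.leaf (13, 0)) (.leaf (27, 292)))) (.node (.node (.leaf (58, 517)) (.leaf (1, 640))) (.node (.leaf (41, 629)) (.leaf (1, 896))))) (.node (.node (.node (.leaf (0, 0)) (.leaf (1, 576))) (.node (.leaf (1, 320)) (.leaf (55, 970)))) (.node (.node (.leaf (0, 0)) (.leaf (59, 817))) (.node (.leaf (1, 448)) (.leaf (1, 960)))))) (.node (.node (.node (.node (.leaf (0, 0)) (.leaf (1, 544))) (.node (.leaf (57, 259)) (.leaf (0, 0)))) (.node (.node (.leaf (0, 0)) (.leaf (59, 785))) (.node (.leaf (0, 0)) (.leaf (58, 598))))) (.node (.node (.node (.leaf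 (0, 0)) (.leaf (0, 0))) (.node (.leaf (1, 352)) (.leaf (1, 864)))) (.node (.node (.leaf (1, 224)) (.leaf (1, 736))) (.node (.leaf (47, 592)) (.leaf (40, 501))))))) (.node (.node (.node (.node (.node (.leaf (0, 0)) (.leaf (1, 528))) (.node (.leaf (59, 438)) (.leaf (1, 784)))) (.node (.node (.leaf (1, 144)) (.leaf (56, 803))) (.node (.leaf (59, 578)) (.leaf (55, 986))))) (.node (.node (.node (.leaf (1, 80)) (.leaf (1, 592))) (.node (.leaf (55, 259)) (.leaf (58, 686)))) (.node (.node (.leaf (1, 208)) (.leaf (55, 833))) (.node (.leaf (53, 719)) (.leaf (1, 976)))))) (.node (.node (.node (.node (.leaf (1, 48)) (.leaf (1, 560))) (.node (.leaf (0, 0)) (.leaf (1, 816)))) (.node (.node (.leaf (0, 0)) (.leaf (59, 849))) (.node (.leaf (0, 0)) (.leaf (59, 839))))) (.node (.node (.node (.leaf (1, 112)) (.leaf (56, 495))) (.node (.leaf (0, 0)) (.leaf (1, 880)))) (.node (.node (.leaf (57, 5)) (.leaf (59, 861))) (.node (.leaf (1, 496)) (.leaf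 (1, 1008)))))))) (.node (.node (.node (.node (.node (.node (.node (.leaf (0, 0)) (.leaf (33, 161))) (.leaf (59, 507))) (.node (.leaf (1, 264)) (.leaf (54, 962)))) (.node (.node (.leaf (1, 136)) (.leaf (57, 393))) (.node (.leaf (1, 392)) (.leaf (59, 966))))) (.node (.node (.node (.leaf (1, 72)) (.leaf (0, 0))) (.node (.leaf (0, 0)) (.leaf (0, 0)))) (.node (.node (.leaf (1, 200)) (.leaf (0, 0))) (.node (.leaf (58, 44)) (.leaf (1, 968)))))) (.node (.node (.node (.node (.leaf (0, 0)) (.leaf (1, 552))) (.node (.leaf (1, 296)) (.leaf (1, 808)))) (.node (.node (.leaf (1, 168)) (.leaf (1, 680))) (.node (.leaf (0, 0)) (.leaf (0, 0))))) (.node (.node (.node (.leaf (0, 0)) (.leaf (1, 616))) (.node (.leaf (59, 286)) (.leaf (0, 0)))) (.node (.node (.leaf (0, 0)) (.leaf (1, 744))) (.node (.leaf (59, 652)) (.leaf (56, 886))))))) (.node (.node (.node (.node (.node (.leaf (1, 24)) (.leaf (1, 536))) (.node (.leaf (1, 280)) (.leaf (58, 586))))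 (.node (.node (.leaf (0, 0)) (.leaf (1, 664))) (.node (.leaf (0, 0)) (.leaf (52, 495))))) (.node (.node (.node (.leaf (1, 88)) (.leaf (1, 600))) (.node (.leaf (1, 344)) (.leaf (59, 721)))) (.node (.node (.leaf (57, 315)) (.leaf (59, 825))) (.node (.leaf (58, 669)) (.leaf (1, 1016)))))) (.node (.node (.node (.node (.leaf (0, 0)) (.leaf (1, 568))) (.node (.leaf (0, 0)) (.leaf (1, 824)))) (.node (.node (.leaf (55, 854)) (.leaf (0, 0))) (.node (.leaf (0, 0)) (.leaf (1, 952))))) (.node (.node (.node (.leaf (0, 0)) (.leaf (1, 632))) (.node (.leaf (1, 376)) (.leaf (56, 995)))) (.node (.node (.leaf (0, 0)) (.leaf (0, 0))) (.node (.leaf (55, 283)) (.leaf (49, 737))))))))) (.node (.node (.node (.node (.node (.node (.node (.node (.leaf (0, 0)) (.leaf (17, 291))) (.leaf (55, 939))) (.node (.leaf (0, 0)) (.leaf (1, 772)))) (.node (.node (.leaf (57, 85)) (.leaf (50, 906))) (.node (.leaf (57, 41)) (.leaf (56, 946))))) (.node (.node (.node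 (.leaf (0, 0)) (.leaf (0, 0))) (.node (.leaf (0, 0)) (.leaf (57, 736)))) (.node (.node (.leaf (0, 0)) (.leaf (0, 0))) (.node (.leaf (1, 452)) (.leaf (0, 0)))))) (.node (.node (.node (.node (.leaf (56, 60)) (.leaf (23, 898))) (.node (.leaf (0, 0)) (.leaf (59, 707)))) (.node (.node (.leaf (0, 0)) (.leaf (54, 776))) (.node (.leaf (57, 210)) (.leaf (59, 868))))) (.node (.node (.node (.leaf (1, 100)) (.leaf (0, 0))) (.node (.leaf (1, 356)) (.leaf (59, 932)))) (.node (.node (.leaf (0, 0)) (.leaf (56, 922))) (.node (.leaf (0, 0)) (.leaf (1, 996))))))) (.node (.node (.node (.node (.node (.leaf (0, 0)) (.leaf (0, 0))) (.node (.leaf (0, 0)) (.leaf (57, 544)))) (.node (.node (.leaf (0, 0)) (.leaf (0, 0))) (.node (.leaf (0, 0)) (.leaf (56, 986))))) (.node (.node (.node (.leaf (0, 0)) (.leaf (57, 450))) (.node (.leaf (55, 566)) (.leaf (0, 0)))) (.node (.node (.leaf (0, 0)) (.leaf (32, 893))) (.node (.leaf (56, 607)) (.leaf (53, 798))))))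 (.node (.node (.node (.node (.leaf (0, 0)) (.leaf (0, 0))) (.node (.leaf (0, 0)) (.leaf (1, 820)))) (.node (.node (.leaf (1, 180)) (.leaf (55, 297))) (.node (.leaf (43, 668)) (.leaf (59, 906))))) (.node (.node (.node (.leaf (0, 0)) (.leaf (0, 0))) (.node (.leaf (1, 372)) (.leaf (53, 956)))) (.node (.node (.leaf (0, 0)) (.leaf (0, 0))) (.node (.leaf (56, 633)) (.leaf (1, 1012)))))))) (.node (.node (.node (.node (.node (.node (.node (.leaf (1, 12)) (.leaf (49, 820))) (.leaf (55, 444))) (.node (.leaf (58, 117)) (.leaf (1, 780)))) (.node (.node (.leaf (0, 0)) (.leaf (59, 488))) (.node (.leaf (0, 0)) (.leaf (1, 908))))) (.node (.node (.node (.leaf (57, 141)) (.leaf (31, 491))) (.node (.leaf (0, 0)) (.leaf (1, 844)))) (.node (.node (.leaf (1, 204)) (.leaf (0, 0))) (.node (.leaf (37, 585)) (.leaf (47, 198)))))) (.node (.node (.node (.node (.leaf (0, 0)) (.leaf (1, 556))) (.node (.leaf (58, 261)) (.leaf (1, 812)))) (.node (.node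 (.leaf (0, 0)) (.leaf (0, 0))) (.node (.leaf (59, 256)) (.leaf (0, 0))))) (.node (.node (.node (.leaf (0, 0)) (.leaf (21, 110))) (.node (.leaf (59, 560)) (.leaf (1, 876)))) (.node (.node (.leaf (0, 0)) (.leaf (1, 748))) (.node (.leaf (56, 722)) (.leaf (1, 1004))))))) (.node (.node (.node (.node (.node (.leaf (0, 0)) (.leaf (0, 0))) (.node (.leaf (53, 505)) (.leaf (0, 0)))) (.node (.node (.leaf (1, 156)) (.leaf (59, 810))) (.node (.leaf (0, 0)) (.leaf (59, 984))))) (.node (.node (.node (.leaf (0, 0)) (.leaf (0, 0))) (.node (.leaf (0, 0)) (.leaf (1, 860)))) (.node (.node (.leaf (0, 0)) (.leaf (50, 822))) (.node (.leaf (0, 0)) (.leaf (59, 864)))))) (.node (.node (.node (.node (.leaf (57, 36)) (.leaf (57, 325))) (.node (.leaf (49, 562)) (.leaf (32, 950)))) (.node (.node (.leaf (1, 188)) (.leaf (0, 0))) (.node (.leaf (55, 134)) (.leaf (50, 884))))) (.node (.node (.node (.leaf (1, 124)) (.leaf (52, 372))) (.node (.leaf (0, 0))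 (.leaf (0, 0)))) (.node (.node (.leaf (0, 0)) (.leaf (1, 764))) (.node (.leaf (1, 508)) (.leaf (59, 1001)))))))))) (.node (.node (.node (.node (.node (.node (.node (.node (.node (.leaf (1, 2)) (.leaf (9, 819))) (.leaf (1, 514))) (.node (.leaf (59, 490)) (.leaf (9, 317)))) (.node (.node (.leaf (55, 139)) (.leaf (55, 908))) (.node (.leaf (1, 386)) (.leaf (1, 898))))) (.node (.node (.node (.leaf (0, 0)) (.leaf (58, 399))) (.node (.leaf (1, 322)) (.leaf (54, 584)))) (.node (.node (.leaf (55, 770)) (.leaf (59, 815))) (.node (.leaf (1, 450)) (.leaf (56, 880)))))) (.node (.node (.node (.node (.leaf (0, 0)) (.leaf (0, 0))) (.node (.leaf (57, 517)) (.leaf (1, 802)))) (.node (.node (.leaf (0, 0)) (.leaf (59, 783))) (.node (.leaf (1, 418)) (.leaf (1, 930))))) (.node (.node (.node (.leaf (55, 206)) (.leaf (1, 610))) (.node (.leaf (0, 0)) (.leaf (59, 643)))) (.node (.node (.leaf (1, 226)) (.leaf (59, 799))) (.node (.leaf (0, 0)) (.leaf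 (1, 994))))))) (.node (.node (.node (.node (.node (.leaf (0, 0)) (.leaf (0, 0))) (.node (.leaf (0, 0)) (.leaf (1, 786)))) (.node (.node (.leaf (1, 146)) (.leaf (1, 658))) (.node (.leaf (1, 402)) (.leaf (1, 914))))) (.node (.node (.node (.leaf (1, 82)) (.leaf (0, 0))) (.node (.leaf (0, 0)) (.leaf (21, 249)))) (.node (.node (.leaf (1, 210)) (.leaf (1, 722))) (.node (.leaf (1, 466)) (.leaf (56, 846)))))) (.node (.node (.node (.node (.leaf (1, 50)) (.leaf (1, 562))) (.node (.leaf (55, 658)) (.leaf (59, 693)))) (.node (.node (.leaf (1, 178)) (.leaf (53, 845))) (.node (.leaf (0, 0)) (.leaf (0, 0))))) (.node (.node (.node (.leaf (0, 0)) (.leaf (59, 497))) (.node (.leaf (0, 0)) (.leaf (59, 944)))) (.node (.node (.leaf (0, 0)) (.leaf (1, 754))) (.node (.leaf (0, 0)) (.leaf (56, 952)))))))) (.node (.node (.node (.node (.node (.node (.node (.leaf (0, 0)) (.leaf (41, 336))) (.leaf (1, 522))) (.node (.leaf (1, 266)) (.leaf (0, 0)))) (.node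 (.node (.leaf (1, 138)) (.leaf (58, 81))) (.node (.leaf (0, 0)) (.leaf (59, 948))))) (.node (.node (.node (.leaf (57, 153)) (.leaf (1, 586))) (.node (.leaf (29, 556)) (.leaf (56, 955)))) (.node (.node (.leaf (55, 307)) (.leaf (59, 891))) (.node (.leaf (53, 466)) (.leaf (1, 970)))))) (.node (.node (.node (.node (.leaf (0, 0)) (.leaf (1, 554))) (.node (.leaf (55, 205)) (.leaf (1, 810)))) (.node (.node (.leaf (0, 0)) (.leaf (1, 682))) (.node (.leaf (59, 258)) (.leaf (0, 0))))) (.node (.node (.node (.leaf (0, 0)) (.leaf (1, 618))) (.node (.leaf (1, 362)) (.leaf (40, 660)))) (.node (.node (.leaf (0, 0)) (.leaf (58, 894))) (.node (.leaf (59, 654)) (.leaf (1, 1002))))))) (.node (.node (.node (.node (.node (.leaf (1, 26)) (.leaf (1, 538))) (.node (.leaf (1, 282)) (.leaf (0, 0)))) (.node (.node (.leaf (57, 309)) (.leaf (57, 409))) (.node (.leaf (0, 0)) (.leaf (1, 922))))) (.node (.node (.node (.leaf (1, 90)) (.leaf (1, 602))) (.node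 (.leaf (0, 0)) (.leaf (58, 613)))) (.node (.node (.leaf (0, 0)) (.leaf (50, 845))) (.node (.leaf (54, 994)) (.leaf (54, 451)))))) (.node (.node (.node (.node (.leaf (0, 0)) (.leaf (1, 570))) (.node (.leaf (0, 0)) (.leaf (59, 727)))) (.node (.node (.leaf (57, 342)) (.leaf (1, 698))) (.node (.leaf (0, 0)) (.leaf (59, 890))))) (.node (.node (.node (.leaf (1, 122)) (.leaf (40, 385))) (.node (.leaf (51, 120)) (.leaf (59, 954)))) (.node (.node (.leaf (47, 470)) (.leaf (1, 762))) (.node (.leaf (1, 506)) (.leaf (1, 1018))))))))) (.node (.node (.node (.node (.node (.node (.node (.node (.leaf (0, 0)) (.leaf (25, 849))) (.leaf (57, 465))) (.node (.leaf (38, 363)) (.leaf (1, 774)))) (.node (.node (.leaf (0, 0)) (.leaf (56, 806))) (.node (.leaf (58, 4)) (.leaf (1, 902))))) (.node (.node (.node (.leaf (0, 0)) (.leaf (57, 107))) (.node (.leaf (0, 0)) (.leaf (23, 945)))) (.node (.node (.leaf (0, 0)) (.leaf (0, 0))) (.node (.leaf (57, 233))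 (.leaf (59, 904)))))) (.node (.node (.node (.node (.leaf (0, 0)) (.leaf (0, 0))) (.node (.leaf (1, 294)) (.leaf (55, 191)))) (.node (.node (.leaf (0, 0)) (.leaf (0, 0))) (.node (.leaf (59, 943)) (.leaf (1, 934))))) (.node (.node (.node (.leaf (1, 102)) (.leaf (32, 897))) (.node (.leaf (1, 358)) (.leaf (0, 0)))) (.node (.node (.leaf (1, 230)) (.leaf (1, 742))) (.node (.leaf (1, 486)) (.leaf (1, 998))))))) (.node (.node (.node (.node (.node (.leaf (0, 0)) (.leaf (0, 0))) (.node (.leaf (55, 506)) (.leaf (40, 565)))) (.node (.node (.leaf (0, 0)) (.leaf (1, 662))) (.node (.leaf (52, 55)) (.leaf (1, 918))))) (.node (.node (.node (.leaf (0, 0)) (.leaf (0, 0))) (.node (.leaf (57, 268)) (.leaf (1, 854)))) (.node (.node (.leaf (1, 214)) (.leaf (1, 726))) (.node (.leaf (55, 853)) (.leaf (40, 858)))))) (.node (.node (.node (.node (.leaf (1, 54)) (.leaf (1, 566))) (.node (.leaf (0, 0)) (.leaf (50, 711)))) (.node (.node (.leaf (58, 72))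 (.leaf (47, 134))) (.node (.leaf (59, 542)) (.leaf (53, 539))))) (.node (.node (.node (.leaf (0, 0)) (.leaf (0, 0))) (.node (.leaf (1, 374)) (.leaf (56, 940)))) (.node (.node (.leaf (1, 246)) (.leaf (39, 525))) (.node (.leaf (1, 502)) (.leaf (1, 1014)))))))) (.node (.node (.node (.node (.node (.node (.node (.leaf (0, 0)) (.leaf (57, 137))) (.leaf (59, 336))) (.node (.leaf (49, 387)) (.leaf (1, 782)))) (.node (.node (.leaf (0, 0)) (.leaf (59, 763))) (.node (.leaf (0, 0)) (.leaf (0, 0))))) (.node (.node (.node (.leaf (0, 0)) (.leaf (1, 590))) (.node (.leaf (1, 334)) (.leaf (54, 978)))) (.node (.node (.leaf (51, 303)) (.leaf (55, 790))) (.node (.leaf (59, 718)) (.leaf (1, 974)))))) (.node (.node (.node (.node (.leaf (0, 0)) (.leaf (55, 443))) (.node (.leaf (0, 0)) (.leaf (0, 0)))) (.node (.node (.leaf (0, 0)) (.leaf (1, 686))) (.node (.leaf (14, 659)) (.leaf (56, 899))))) (.node (.node (.node (.leaf (0, 0)) (.leaf (59, 515)))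 (.node (.leaf (0, 0)) (.leaf (49, 950)))) (.node (.node (.leaf (1, 238)) (.leaf (53, 803))) (.node (.leaf (58, 241)) (.leaf (1, 1006))))))) (.node (.node (.node (.node (.node (.leaf (1, 30)) (.leaf (59, 340))) (.node (.leaf (57, 129)) (.leaf (55, 436)))) (.node (.node (.leaf (1, 158)) (.leaf (59, 792))) (.node (.leaf (0, 0)) (.leaf (1, 926))))) (.node (.node (.node (.leaf (0, 0)) (.leaf (1, 606))) (.node (.leaf (0, 0)) (.leaf (1, 862)))) (.node (.node (.leaf (0, 0)) (.leaf (1, 734))) (.node (.leaf (1, 478)) (.leaf (54, 815)))))) (.node (.node (.node (.node (.leaf (0, 0)) (.leaf (0, 0))) (.node (.leaf (0, 0)) (.leaf (55, 694)))) (.node (.node (.leaf (57, 341)) (.leaf (1, 702))) (.node (.leaf (1, 446)) (.leaf (21, 895))))) (.node (.node (.node (.leaf (58, 48)) (.leaf (0, 0))) (.node (.leaf (59, 264)) (.leaf (56, 976)))) (.node (.node (.leaf (0, 0)) (.leaf (1, 766))) (.node (.leaf (1, 510)) (.leaf (59, 1003)))))))))))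

def twoVia2 : Janko.Tree (ℕ × ℕ) :=
  (.node (.node (.node (.node (.node (.node (.node (.node (.node (.node (.leaf (0, 0)) (.leaf (2, 0))) (.leaf (57, 929))) (.node (.leaf (30, 255)) (.leaf (52, 134)))) (.node (.node (.leaf (59, 487)) (.leaf (59, 242))) (.node (.leaf (2, 384)) (.leaf (57, 879))))) (.node (.node (.node (.leaf (0, 0)) (.leaf (29, 328))) (.node (.leaf (0, 0)) (.leaf (30, 635)))) (.node (.node (.leaf (0, 0)) (.leaf (56, 972))) (.node (.leaf (54, 28)) (.leaf (29, 795)))))) (.node (.node (.node (.node (.leaf (0, 0)) (.leaf (0, 0))) (.node (.leaf (0, 0)) (.leaf (2, 800)))) (.node (.node (.leaf (0, 0)) (.leaf (56, 668))) (.node (.leaf (2, 416)) (.leaf (2, 928))))) (.node (.node (.node (.leaf (25, 215)) (.leaf (2, 608))) (.node (.leaf (0, 0)) (.leaf (54, 936)))) (.node (.node (.leaf (0, 0)) (.leaf (54, 613))) (.node (.leaf (0, 0)) (.leaf (59, 747))))))) (.node (.node (.node (.node (.node (.leaf (2, 16)) (.leaf (0,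 0))) (.node (.leaf (0, 0)) (.leaf (59, 899)))) (.node (.node (.leaf (0, 0)) (.leaf (2, 656))) (.node (.leaf (59, 331)) (.leaf (2, 912))))) (.node (.node (.node (.leaf (0, 0)) (.leaf (59, 977))) (.node (.leaf (0, 0)) (.leaf (58, 104)))) (.node (.node (.leaf (57, 158)) (.leaf (2, 720))) (.node (.leaf (2, 464)) (.leaf (56, 710)))))) (.node (.node (.node (.node (.leaf (0, 0)) (.leaf (0, 0))) (.node (.leaf (0, 0)) (.leaf (0, 0)))) (.node (.node (.leaf (2, 176)) (.leaf (2, 688))) (.node (.leaf (59, 447)) (.leaf (58, 548))))) (.node (.node (.node (.leaf (0, 0)) (.leaf (2, 624))) (.node (.leaf (2, 368)) (.leaf (0, 0)))) (.node (.node (.leaf (2, 240)) (.leaf (56, 992))) (.node (.leaf (57, 337)) (.leaf (59, 989)))))))) (.node (.node (.node (.node (.node (.node (.node (.leaf (0, 0)) (.leaf (34, 377))) (.leaf (59, 271))) (.node (.leaf (0, 0)) (.leaf (2, 776)))) (.node (.node (.leaf (0, 0)) (.leaf (0, 0))) (.node (.leaf (0, 0)) (.leaf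 (30, 757))))) (.node (.node (.node (.leaf (0, 0)) (.leaf (2, 584))) (.node (.leaf (2, 328)) (.leaf (2, 840)))) (.node (.node (.leaf (0, 0)) (.leaf (2, 712))) (.node (.leaf (0, 0)) (.leaf (0, 0)))))) (.node (.node (.node (.node (.leaf (0, 0)) (.leaf (0, 0))) (.node (.leaf (0, 0)) (.leaf (58, 408)))) (.node (.node (.leaf (0, 0)) (.leaf (0, 0))) (.node (.leaf (59, 802)) (.leaf (59, 998))))) (.node (.node (.node (.leaf (0, 0)) (.leaf (57, 624))) (.node (.leaf (0, 0)) (.leaf (2, 872)))) (.node (.node (.leaf (0, 0)) (.leaf (57, 598))) (.node (.leaf (57, 470)) (.leaf (2, 1000))))))) (.node (.node (.node (.node (.node (.leaf (0, 0)) (.leaf (57, 601))) (.node (.leaf (14, 0)) (.leaf (59, 458)))) (.node (.node (.leaf (24, 321)) (.leaf (0, 0))) (.node (.leaf (0, 0)) (.leaf (32, 624))))) (.node (.node (.node (.leaf (0, 0)) (.leaf (0, 0))) (.node (.leaf (0, 0)) (.leaf (32, 171)))) (.node (.node (.leaf (0, 0)) (.leaf (2, 728))) (.node (.leaf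 (58, 349)) (.leaf (55, 1005)))))) (.node (.node (.node (.node (.leaf (0, 0)) (.leaf (54, 564))) (.node (.leaf (2, 312)) (.leaf (0, 0)))) (.node (.node (.leaf (32, 356)) (.leaf (59, 971))) (.node (.leaf (58, 79)) (.leaf (56, 951))))) (.node (.node (.node (.leaf (2, 120)) (.leaf (55, 950))) (.node (.leaf (58, 402)) (.leaf (2, 888)))) (.node (.node (.leaf (0, 0)) (.leaf (2, 760))) (.node (.leaf (2, 504)) (.leaf (54, 811))))))))) (.node (.node (.node (.node (.node (.node (.node (.node (.leaf (0, 0)) (.leaf (18, 1009))) (.leaf (29, 262))) (.node (.leaf (2, 260)) (.leaf (58, 346)))) (.node (.node (.leaf (0, 0)) (.leaf (2, 644))) (.node (.leaf (2, 388)) (.leaf (2, 900))))) (.node (.node (.node (.leaf (2, 68)) (.leaf (2, 580))) (.node (.leaf (0, 0)) (.leaf (2, 836)))) (.node (.node (.leaf (2, 196)) (.leaf (2, 708))) (.node (.leaf (0, 0)) (.leaf (59, 1008)))))) (.node (.node (.node (.node (.leaf (2, 36)) (.leaf (2, 548))) (.node (.leaf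 (57, 80)) (.leaf (28, 770)))) (.node (.node (.leaf (2, 164)) (.leaf (2, 676))) (.node (.leaf (0, 0)) (.leaf (2, 932))))) (.node (.node (.node (.leaf (0, 0)) (.leaf (2, 612))) (.node (.leaf (0, 0)) (.leaf (58, 58)))) (.node (.node (.leaf (2, 228)) (.leaf (2, 740))) (.node (.leaf (2, 484)) (.leaf (54, 416))))))) (.node (.node (.node (.node (.node (.leaf (0, 0)) (.leaf (58, 194))) (.node (.leaf (2, 276)) (.leaf (0, 0)))) (.node (.node (.leaf (0, 0)) (.leaf (59, 970))) (.node (.leaf (2, 404)) (.leaf (2, 916))))) (.node (.node (.node (.leaf (0, 0)) (.leaf (2, 596))) (.node (.leaf (25, 174)) (.leaf (58, 821)))) (.node (.node (.leaf (2, 212)) (.leaf (55, 956))) (.node (.leaf (0, 0)) (.leaf (59, 1007)))))) (.node (.node (.node (.node (.leaf (0, 0)) (.leaf (2, 564))) (.node (.leaf (0, 0)) (.leaf (0, 0)))) (.node (.node (.leaf (59, 568)) (.leaf (57, 149))) (.node (.leaf (32, 671)) (.leaf (57, 998))))) (.node (.node (.node (.leaf (0,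 0)) (.leaf (2, 628))) (.node (.leaf (58, 471)) (.leaf (59, 902)))) (.node (.node (.leaf (2, 244)) (.leaf (2, 756))) (.node (.leaf (2, 500)) (.leaf (59, 814)))))))) (.node (.node (.node (.node (.node (.node (.node (.leaf (0, 0)) (.leaf (50, 369))) (.leaf (2, 524))) (.node (.leaf (0, 0)) (.leaf (0, 0)))) (.node (.node (.leaf (0, 0)) (.leaf (58, 147))) (.node (.leaf (0, 0)) (.leaf (58, 796))))) (.node (.node (.node (.leaf (0, 0)) (.leaf (2, 588))) (.node (.leaf (0, 0)) (.leaf (54, 242)))) (.node (.node (.leaf (0, 0)) (.leaf (2, 716))) (.node (.leaf (0, 0)) (.leaf (59, 951)))))) (.node (.node (.node (.node (.leaf (2, 44)) (.leaf (56, 541))) (.node (.leaf (0, 0)) (.leaf (58, 416)))) (.node (.node (.leaf (0, 0)) (.leaf (59, 999))) (.node (.leaf (2, 428)) (.leaf (2, 940))))) (.node (.node (.node (.leaf (2, 108)) (.leaf (55, 594))) (.node (.leaf (0, 0)) (.leaf (18, 874)))) (.node (.node (.leaf (2, 236)) (.leaf (59, 580))) (.node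 (.leaf (2, 492)) (.leaf (54, 394))))))) (.node (.node (.node (.node (.node (.leaf (0, 0)) (.leaf (2, 540))) (.node (.leaf (59, 592)) (.leaf (2, 796)))) (.node (.node (.leaf (0, 0)) (.leaf (0, 0))) (.node (.leaf (0, 0)) (.leaf (54, 693))))) (.node (.node (.node (.leaf (0, 0)) (.leaf (2, 604))) (.node (.leaf (2, 348)) (.leaf (57, 887)))) (.node (.node (.leaf (2, 413)) (.leaf (59, 1000))) (.node (.leaf (59, 913)) (.leaf (57, 1007)))))) (.node (.node (.node (.node (.leaf (2, 60)) (.leaf (42, 329))) (.node (.leaf (25, 526)) (.leaf (59, 878)))) (.node (.node (.leaf (0, 0)) (.leaf (59, 939))) (.node (.leaf (2, 444)) (.leaf (59, 996))))) (.node (.node (.node (.leaf (59, 439)) (.leaf (58, 251))) (.node (.leaf (0, 0)) (.leaf (2, 892)))) (.node (.node (.leaf (58, 597)) (.leaf (59, 1009))) (.node (.leaf (2, 508)) (.leaf (58, 800)))))))))) (.node (.node (.node (.node (.node (.node (.node (.node (.node (.leaf (0, 0)) (.leaf (10, 351)))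 (.leaf (0, 0))) (.node (.leaf (2, 258)) (.leaf (46, 149)))) (.node (.node (.leaf (2, 130)) (.leaf (30, 487))) (.node (.leaf (57, 115)) (.leaf (42, 649))))) (.node (.node (.node (.leaf (2, 66)) (.leaf (59, 669))) (.node (.leaf (39, 191)) (.leaf (2, 834)))) (.node (.node (.leaf (2, 194)) (.leaf (2, 706))) (.node (.leaf (0, 0)) (.leaf (54, 955)))))) (.node (.node (.node (.node (.leaf (2, 34)) (.leaf (23, 894))) (.node (.leaf (2, 290)) (.leaf (59, 486)))) (.node (.node (.leaf (0, 0)) (.leaf (2, 674))) (.node (.leaf (0, 0)) (.leaf (15, 746))))) (.node (.node (.node (.leaf (2, 98)) (.leaf (0, 0))) (.node (.leaf (2, 354)) (.leaf (59, 857)))) (.node (.node (.leaf (59, 273)) (.leaf (2, 738))) (.node (.leaf (58, 453)) (.leaf (54, 689))))))) (.node (.node (.node (.node (.node (.leaf (2, 18)) (.leaf (2, 530))) (.node (.leaf (56, 749)) (.leaf (0, 0)))) (.node (.node (.leaf (0, 0)) (.leaf (55, 656))) (.node (.leaf (7, 695)) (.leaf (44,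 584))))) (.node (.node (.node (.leaf (0, 0)) (.leaf (2, 594))) (.node (.leaf (0, 0)) (.leaf (2, 985)))) (.node (.node (.leaf (0, 0)) (.leaf (56, 588))) (.node (.leaf (0, 0)) (.leaf (44, 911)))))) (.node (.node (.node (.node (.leaf (0, 0)) (.leaf (56, 631))) (.node (.leaf (2, 306)) (.leaf (58, 323)))) (.node (.node (.leaf (0, 0)) (.leaf (59, 1002))) (.node (.leaf (2, 434)) (.leaf (2, 946))))) (.node (.node (.node (.leaf (0, 0)) (.leaf (57, 271))) (.node (.leaf (2, 370)) (.leaf (2, 882)))) (.node (.node (.leaf (0, 0)) (.leaf (58, 735))) (.node (.leaf (58, 7)) (.leaf (54, 883)))))))) (.node (.node (.node (.node (.node (.node (.node (.leaf (0, 0)) (.leaf (42, 349))) (.leaf (0, 0))) (.node (.leaf (59, 659)) (.leaf (2, 778)))) (.node (.node (.leaf (0, 0)) (.leaf (59, 934))) (.node (.leaf (2, 394)) (.leaf (58, 430))))) (.node (.node (.node (.leaf (2, 74)) (.leaf (0, 0))) (.node (.leaf (52, 140)) (.leaf (2, 842)))) (.node (.node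 (.leaf (2, 202)) (.leaf (58, 247))) (.node (.leaf (59, 781)) (.leaf (55, 984)))))) (.node (.node (.node (.node (.leaf (2, 42)) (.leaf (57, 222))) (.node (.leaf (0, 0)) (.leaf (57, 299)))) (.node (.node (.leaf (0, 0)) (.leaf (0, 0))) (.node (.leaf (30, 425)) (.leaf (59, 997))))) (.node (.node (.node (.leaf (0, 0)) (.leaf (59, 610))) (.node (.leaf (58, 129)) (.leaf (59, 816)))) (.node (.node (.leaf (2, 234)) (.leaf (2, 746))) (.node (.leaf (2, 490)) (.leaf (18, 1010))))))) (.node (.node (.node (.node (.node (.leaf (0, 0)) (.leaf (0, 0))) (.node (.leaf (59, 276)) (.leaf (2, 794)))) (.node (.node (.leaf (2, 154)) (.leaf (0, 0))) (.node (.leaf (2, 410)) (.leaf (55, 840))))) (.node (.node (.node (.leaf (0, 0)) (.leaf (0, 0))) (.node (.leaf (0, 0)) (.leaf (32, 518)))) (.node (.node (.leaf (0, 0)) (.leaf (59, 986))) (.node (.leaf (2, 474)) (.leaf (56, 975)))))) (.node (.node (.node (.node (.leaf (2, 58)) (.leaf (54, 639))) (.node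 (.leaf (0, 0)) (.leaf (2, 826)))) (.node (.node (.leaf (57, 43)) (.leaf (57, 960))) (.node (.leaf (2, 442)) (.leaf (2, 954))))) (.node (.node (.node (.leaf (0, 0)) (.leaf (59, 590))) (.node (.leaf (57, 363)) (.leaf (58, 474)))) (.node (.node (.leaf (0, 0)) (.leaf (0, 0))) (.node (.leaf (57, 70)) (.leaf (59, 928))))))))) (.node (.node (.node (.node (.node (.node (.node (.node (.leaf (2, 6)) (.leaf (26, 321))) (.leaf (2, 518))) (.node (.leaf (2, 262)) (.leaf (2, 774)))) (.node (.node (.leaf (0, 0)) (.leaf (2, 646))) (.node (.leaf (59, 365)) (.leaf (54, 872))))) (.node (.node (.node (.leaf (2, 70)) (.leaf (2, 582))) (.node (.leaf (56, 809)) (.leaf (58, 478)))) (.node (.node (.leaf (2, 198)) (.leaf (2, 710))) (.node (.leaf (0, 0)) (.leaf (58, 558)))))) (.node (.node (.node (.node (.leaf (0, 0)) (.leaf (2, 550))) (.node (.leaf (0, 0)) (.leaf (2, 806)))) (.node (.node (.leaf (2, 166)) (.leaf (2, 678))) (.node (.leaf (0, 0)) (.leaf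 (57, 667))))) (.node (.node (.node (.leaf (0, 0)) (.leaf (58, 985))) (.node (.leaf (59, 847)) (.leaf (2, 870)))) (.node (.node (.leaf (58, 552)) (.leaf (59, 737))) (.node (.leaf (59, 777)) (.leaf (59, 696))))))) (.node (.node (.node (.node (.node (.leaf (0, 0)) (.leaf (2, 534))) (.node (.leaf (2, 278)) (.leaf (0, 0)))) (.node (.node (.leaf (0, 0)) (.leaf (58, 523))) (.node (.leaf (32, 573)) (.leaf (54, 231))))) (.node (.node (.node (.leaf (2, 86)) (.leaf (2, 598))) (.node (.leaf (57, 15)) (.leaf (55, 396)))) (.node (.node (.leaf (0, 0)) (.leaf (56, 725))) (.node (.leaf (0, 0)) (.leaf (59, 754)))))) (.node (.node (.node (.node (.leaf (0, 0)) (.leaf (59, 680))) (.node (.leaf (0, 0)) (.leaf (59, 884)))) (.node (.node (.leaf (0, 0)) (.leaf (59, 995))) (.node (.leaf (58, 95)) (.leaf (59, 963))))) (.node (.node (.node (.leaf (25, 239)) (.leaf (32, 459))) (.node (.leaf (55, 370)) (.leaf (2, 886)))) (.node (.node (.leaf (0, 0)) (.leaf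 (0, 0))) (.node (.leaf (57, 795)) (.leaf (56, 796)))))))) (.node (.node (.node (.node (.node (.node (.node (.leaf (0, 0)) (.leaf (58, 853))) (.leaf (25, 316))) (.node (.leaf (59, 620)) (.leaf (46, 656)))) (.node (.node (.leaf (2, 142)) (.leaf (2, 654))) (.node (.leaf (2, 398)) (.leaf (2, 910))))) (.node (.node (.node (.leaf (0, 0)) (.leaf (0, 0))) (.node (.leaf (0, 0)) (.leaf (2, 846)))) (.node (.node (.leaf (2, 206)) (.leaf (32, 487))) (.node (.leaf (29, 270)) (.leaf (56, 716)))))) (.node (.node (.node (.node (.leaf (2, 46)) (.leaf (2, 558))) (.node (.leaf (26, 526)) (.leaf (43, 998)))) (.node (.node (.leaf (25, 340)) (.leaf (0, 0))) (.node (.leaf (2, 430)) (.leaf (2, 942))))) (.node (.node (.node (.leaf (2, 110)) (.leaf (56, 755))) (.node (.leaf (26, 562)) (.leaf (59, 896)))) (.node (.node (.leaf (0, 0)) (.leaf (57, 754))) (.node (.leaf (59, 850)) (.leaf (30, 847))))))) (.node (.node (.node (.node (.node (.leaf (0, 0))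 (.leaf (11, 542))) (.node (.leaf (41, 118)) (.leaf (58, 776)))) (.node (.node (.leaf (0, 0)) (.leaf (59, 648))) (.node (.leaf (0, 0)) (.leaf (59, 877))))) (.node (.node (.node (.leaf (0, 0)) (.leaf (0, 0))) (.node (.leaf (2, 350)) (.leaf (0, 0)))) (.node (.node (.leaf (2, 222)) (.leaf (59, 1004))) (.node (.leaf (57, 471)) (.leaf (29, 479)))))) (.node (.node (.node (.node (.leaf (0, 0)) (.leaf (0, 0))) (.node (.leaf (2, 318)) (.leaf (2, 830)))) (.node (.node (.leaf (2, 190)) (.leaf (55, 717))) (.node (.leaf (57, 835)) (.leaf (59, 979))))) (.node (.node (.node (.leaf (0, 0)) (.leaf (32, 337))) (.node (.leaf (58, 439)) (.leaf (2, 894)))) (.node (.node (.leaf (0, 0)) (.leaf (57, 318))) (.node (.leaf (58, 335)) (.leaf (2, 1022)))))))))))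

def twoVia3 : Janko.Tree (ℕ × ℕ) :=
  (.node (.node (.node (.node (.node (.node (.node (.node (.node (.node (.leaf (0, 0)) (.leaf (3, 0))) (.leaf (3, 512))) (.node (.leaf (3, 256)) (.leaf (3, 768)))) (.node (.node (.leaf (3, 128)) (.leaf (59, 985))) (.node (.leaf (57, 386)) (.leaf (59, 879))))) (.node (.node (.node (.leaf (3, 64)) (.leaf (57, 959))) (.node (.leaf (0, 0)) (.leaf (3, 832)))) (.node (.node (.leaf (3, 192)) (.leaf (3, 704))) (.node (.leaf (0, 0)) (.leaf (27, 820)))))) (.node (.node (.node (.node (.leaf (25, 205)) (.leaf (0, 0))) (.node (.leaf (3, 288)) (.leaf (59, 410)))) (.node (.node (.leaf (3, 160)) (.leaf (3, 672))) (.node (.leaf (0, 0)) (.leaf (57, 901))))) (.node (.node (.node (.leaf (3, 96)) (.leaf (0, 0))) (.node (.leaf (0, 0)) (.leaf (57, 840)))) (.node (.node (.leaf (0, 0)) (.leaf (59, 993))) (.node (.leaf (3, 480)) (.leaf (57, 723))))))) (.node (.node (.node (.node (.node (.leaf (0, 0)) (.leaf (0,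 0))) (.node (.leaf (3, 272)) (.leaf (52, 647)))) (.node (.node (.leaf (0, 0)) (.leaf (57, 695))) (.node (.leaf (3, 400)) (.leaf (59, 499))))) (.node (.node (.node (.leaf (0, 0)) (.leaf (53, 271))) (.node (.leaf (0, 0)) (.leaf (3, 848)))) (.node (.node (.leaf (0, 0)) (.leaf (0, 0))) (.node (.leaf (32, 506)) (.leaf (57, 630)))))) (.node (.node (.node (.node (.leaf (0, 0)) (.leaf (0, 0))) (.node (.leaf (3, 304)) (.leaf (58, 794)))) (.node (.node (.leaf (0, 0)) (.leaf (3, 796))) (.node (.leaf (3, 432)) (.leaf (3, 944))))) (.node (.node (.node (.leaf (59, 833)) (.leaf (30, 831))) (.node (.leaf (57, 833)) (.leaf (0, 0)))) (.node (.node (.leaf (7, 50)) (.leaf (3, 752))) (.node (.leaf (0, 0)) (.leaf (59, 982)))))))) (.node (.node (.node (.node (.node (.node (.node (.leaf (0, 0)) (.leaf (35, 115))) (.leaf (3, 520))) (.node (.leaf (0, 0)) (.leaf (59, 762)))) (.node (.node (.leaf (0, 0)) (.leaf (47, 525))) (.node (.leaf (0, 0)) (.leaf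 (3, 904))))) (.node (.node (.node (.leaf (0, 0)) (.leaf (0, 0))) (.node (.leaf (59, 443)) (.leaf (59, 377)))) (.node (.node (.leaf (0, 0)) (.leaf (29, 599))) (.node (.leaf (3, 456)) (.leaf (57, 940)))))) (.node (.node (.node (.node (.leaf (3, 40)) (.leaf (0, 0))) (.node (.leaf (59, 325)) (.leaf (55, 263)))) (.node (.node (.leaf (59, 722)) (.leaf (0, 0))) (.node (.leaf (3, 424)) (.leaf (3, 936))))) (.node (.node (.node (.leaf (3, 104)) (.leaf (57, 166))) (.node (.leaf (58, 492)) (.leaf (59, 416)))) (.node (.node (.leaf (3, 232)) (.leaf (0, 0))) (.node (.leaf (3, 488)) (.leaf (59, 936))))))) (.node (.node (.node (.node (.node (.leaf (0, 0)) (.leaf (58, 648))) (.node (.leaf (57, 744)) (.leaf (3, 792)))) (.node (.node (.leaf (3, 152)) (.leaf (0, 0))) (.node (.leaf (3, 408)) (.leaf (3, 920))))) (.node (.node (.node (.leaf (0, 0)) (.leaf (0, 0))) (.node (.leaf (0, 0)) (.leaf (3, 856)))) (.node (.node (.leaf (53, 240)) (.leaf (57,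 977))) (.node (.leaf (3, 472)) (.leaf (3, 984)))))) (.node (.node (.node (.node (.leaf (25, 306)) (.leaf (0, 0))) (.node (.leaf (0, 0)) (.leaf (0, 0)))) (.node (.node (.leaf (3, 184)) (.leaf (3, 696))) (.node (.leaf (3, 440)) (.leaf (0, 0))))) (.node (.node (.node (.leaf (0, 0)) (.leaf (57, 976))) (.node (.leaf (59, 446)) (.leaf (24, 953)))) (.node (.node (.leaf (0, 0)) (.leaf (59, 483))) (.node (.leaf (57, 506)) (.leaf (3, 1016))))))))) (.node (.node (.node (.node (.node (.node (.node (.node (.leaf (3, 4)) (.leaf (11, 0))) (.leaf (3, 516))) (.node (.leaf (57, 282)) (.leaf (28, 935)))) (.node (.node (.leaf (0, 0)) (.leaf (57, 253))) (.node (.leaf (57, 387)) (.leaf (59, 888))))) (.node (.node (.node (.leaf (0, 0)) (.leaf (53, 941))) (.node (.leaf (3, 324)) (.leaf (57, 837)))) (.node (.node (.leaf (0, 0)) (.leaf (30, 609))) (.node (.leaf (0, 0)) (.leaf (3, 964)))))) (.node (.node (.node (.node (.leaf (25, 3)) (.leaf (57, 677)))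 (.node (.leaf (3, 292)) (.leaf (3, 804)))) (.node (.node (.leaf (0, 0)) (.leaf (59, 552))) (.node (.leaf (57, 787)) (.leaf (59, 692))))) (.node (.node (.node (.leaf (0, 0)) (.leaf (57, 978))) (.node (.leaf (0, 0)) (.leaf (3, 868)))) (.node (.node (.leaf (57, 554)) (.leaf (0, 0))) (.node (.leaf (59, 345)) (.leaf (55, 863))))))) (.node (.node (.node (.node (.node (.leaf (0, 0)) (.leaf (3, 532))) (.node (.leaf (59, 720)) (.leaf (57, 419)))) (.node (.node (.leaf (0, 0)) (.leaf (3, 660))) (.node (.leaf (57, 770)) (.leaf (57, 912))))) (.node (.node (.node (.leaf (3, 84)) (.leaf (59, 709))) (.node (.leaf (3, 340)) (.leaf (3, 852)))) (.node (.node (.leaf (0, 0)) (.leaf (3, 724))) (.node (.leaf (57, 478)) (.leaf (3, 980)))))) (.node (.node (.node (.node (.leaf (3, 52)) (.leaf (57, 671))) (.node (.leaf (3, 308)) (.leaf (57, 451)))) (.node (.node (.leaf (57, 145)) (.leaf (0, 0))) (.node (.leaf (3, 436)) (.leaf (3, 948))))) (.node (.node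 (.node (.leaf (3, 116)) (.leaf (57, 749))) (.node (.leaf (57, 468)) (.leaf (3, 884)))) (.node (.node (.leaf (0, 0)) (.leaf (59, 630))) (.node (.leaf (0, 0)) (.leaf (47, 924)))))))) (.node (.node (.node (.node (.node (.node (.node (.leaf (0, 0)) (.leaf (51, 583))) (.leaf (0, 0))) (.node (.leaf (0, 0)) (.leaf (0, 0)))) (.node (.node (.leaf (3, 140)) (.leaf (3, 652))) (.node (.leaf (3, 396)) (.leaf (59, 921))))) (.node (.node (.node (.leaf (0, 0)) (.leaf (0, 0))) (.node (.leaf (3, 332)) (.leaf (59, 823)))) (.node (.node (.leaf (0, 0)) (.leaf (57, 733))) (.node (.leaf (3, 460)) (.leaf (57, 946)))))) (.node (.node (.node (.node (.leaf (0, 0)) (.leaf (57, 548))) (.node (.leaf (3, 300)) (.leaf (55, 47)))) (.node (.node (.leaf (3, 172)) (.leaf (3, 684))) (.node (.leaf (59, 790)) (.leaf (59, 563))))) (.node (.node (.node (.leaf (0, 0)) (.leaf (0, 0))) (.node (.leaf (3, 364)) (.leaf (57, 875)))) (.node (.node (.leaf (0, 0)) (.leaf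 (59, 956))) (.node (.leaf (0, 0)) (.leaf (59, 700))))))) (.node (.node (.node (.node (.node (.leaf (3, 28)) (.leaf (0, 0))) (.node (.leaf (3, 284)) (.leaf (57, 797)))) (.node (.node (.leaf (0, 0)) (.leaf (3, 668))) (.node (.leaf (3, 412)) (.leaf (3, 924))))) (.node (.node (.node (.leaf (0, 0)) (.leaf (57, 981))) (.node (.leaf (59, 457)) (.leaf (58, 923)))) (.node (.node (.leaf (3, 220)) (.leaf (3, 732))) (.node (.leaf (3, 476)) (.leaf (3, 988)))))) (.node (.node (.node (.node (.leaf (25, 6)) (.leaf (0, 0))) (.node (.leaf (3, 316)) (.leaf (3, 828)))) (.node (.node (.leaf (0, 0)) (.leaf (3, 700))) (.node (.leaf (0, 0)) (.leaf (3, 956))))) (.node (.node (.node (.leaf (57, 89)) (.leaf (52, 73))) (.node (.leaf (3, 380)) (.leaf (59, 442)))) (.node (.node (.leaf (3, 252)) (.leaf (50, 650))) (.node (.leaf (58, 336)) (.leaf (3, 1020)))))))))) (.node (.node (.node (.node (.node (.node (.node (.node (.node (.leaf (0, 0)) (.leaf (8,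 0))) (.leaf (57, 512))) (.node (.leaf (59, 585)) (.leaf (0, 0)))) (.node (.node (.leaf (0, 0)) (.leaf (3, 642))) (.node (.leaf (0, 0)) (.leaf (53, 826))))) (.node (.node (.node (.leaf (0, 0)) (.leaf (59, 691))) (.node (.leaf (0, 0)) (.leaf (59, 375)))) (.node (.node (.leaf (0, 0)) (.leaf (59, 968))) (.node (.leaf (29, 349)) (.leaf (0, 0)))))) (.node (.node (.node (.node (.leaf (0, 0)) (.leaf (3, 546))) (.node (.leaf (0, 0)) (.leaf (59, 820)))) (.node (.node (.leaf (3, 162)) (.leaf (59, 699))) (.node (.leaf (0, 0)) (.leaf (53, 1008))))) (.node (.node (.node (.leaf (0, 0)) (.leaf (0, 0))) (.node (.leaf (0, 0)) (.leaf (58, 827)))) (.node (.node (.leaf (57, 223)) (.leaf (59, 974))) (.node (.leaf (3, 482)) (.leaf (29, 741))))))) (.node (.node (.node (.node (.node (.leaf (0, 0)) (.leaf (57, 531))) (.node (.leaf (3, 274)) (.leaf (0, 0)))) (.node (.node (.leaf (0, 0)) (.leaf (0, 0))) (.node (.leaf (0, 0)) (.leaf (59, 1020))))) (.node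 (.node (.node (.leaf (0, 0)) (.leaf (59, 632))) (.node (.leaf (3, 338)) (.leaf (0, 0)))) (.node (.node (.leaf (0, 0)) (.leaf (0, 0))) (.node (.leaf (0, 0)) (.leaf (57, 708)))))) (.node (.node (.node (.node (.leaf (0, 0)) (.leaf (59, 282))) (.node (.leaf (0, 0)) (.leaf (3, 818)))) (.node (.node (.leaf (0, 0)) (.leaf (3, 690))) (.node (.leaf (57, 769)) (.leaf (59, 561))))) (.node (.node (.node (.leaf (0, 0)) (.leaf (3, 626))) (.node (.leaf (57, 500)) (.leaf (29, 777)))) (.node (.node (.leaf (3, 242)) (.leaf (55, 904))) (.node (.leaf (3, 498)) (.leaf (59, 924)))))))) (.node (.node (.node (.node (.node (.node (.node (.leaf (3, 10)) (.leaf (43, 610))) (.leaf (0, 0))) (.node (.leaf (59, 662)) (.leaf (0, 0)))) (.node (.node (.leaf (0, 0)) (.leaf (3, 650))) (.node (.leaf (49, 841)) (.leaf (3, 906))))) (.node (.node (.node (.leaf (0, 0)) (.leaf (0, 0))) (.node (.leaf (3, 330)) (.leaf (59, 414)))) (.node (.node (.leaf (0, 0)) (.leaf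 (3, 714))) (.node (.leaf (3, 458)) (.leaf (59, 955)))))) (.node (.node (.node (.node (.leaf (0, 0)) (.leaf (0, 0))) (.node (.leaf (59, 770)) (.leaf (0, 0)))) (.node (.node (.leaf (0, 0)) (.leaf (0, 0))) (.node (.leaf (3, 426)) (.leaf (3, 938))))) (.node (.node (.node (.leaf (3, 106)) (.leaf (40, 250))) (.node (.leaf (0, 0)) (.leaf (3, 874)))) (.node (.node (.leaf (0, 0)) (.leaf (3, 746))) (.node (.leaf (59, 494)) (.leaf (58, 550))))))) (.node (.node (.node (.node (.node (.leaf (0, 0)) (.leaf (0, 0))) (.node (.leaf (59, 947)) (.leaf (59, 408)))) (.node (.node (.leaf (0, 0)) (.leaf (59, 961))) (.node (.leaf (0, 0)) (.leaf (55, 707))))) (.node (.node (.node (.leaf (0, 0)) (.leaf (0, 0))) (.node (.leaf (3, 346)) (.leaf (3, 858)))) (.node (.node (.leaf (3, 218)) (.leaf (3, 730))) (.node (.leaf (59, 780)) (.leaf (59, 641)))))) (.node (.node (.node (.node (.leaf (0, 0)) (.leaf (57, 150))) (.node (.leaf (3, 314)) (.leaf (24, 592))))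 (.node (.node (.leaf (3, 186)) (.leaf (58, 999))) (.node (.leaf (58, 766)) (.leaf (57, 995))))) (.node (.node (.node (.leaf (0, 0)) (.leaf (3, 634))) (.node (.leaf (0, 0)) (.leaf (3, 890)))) (.node (.node (.leaf (3, 250)) (.leaf (3, 762))) (.node (.leaf (0, 0)) (.leaf (3, 1018))))))))) (.node (.node (.node (.node (.node (.node (.node (.node (.leaf (0, 0)) (.leaf (12, 0))) (.leaf (59, 749))) (.node (.leaf (0, 0)) (.leaf (57, 395)))) (.node (.node (.leaf (3, 134)) (.leaf (0, 0))) (.node (.leaf (3, 390)) (.leaf (30, 1008))))) (.node (.node (.node (.leaf (0, 0)) (.leaf (59, 251))) (.node (.leaf (3, 326)) (.leaf (3, 838)))) (.node (.node (.leaf (0, 0)) (.leaf (59, 546))) (.node (.leaf (57, 348)) (.leaf (3, 966)))))) (.node (.node (.node (.node (.leaf (0, 0)) (.leaf (0, 0))) (.node (.leaf (0, 0)) (.leaf (0, 0)))) (.node (.node (.leaf (0, 0)) (.leaf (0, 0))) (.node (.leaf (3, 422)) (.leaf (3, 934))))) (.node (.node (.node (.leaf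 (0, 0)) (.leaf (3, 614))) (.node (.leaf (58, 348)) (.leaf (59, 787)))) (.node (.node (.leaf (52, 602)) (.leaf (59, 994))) (.node (.leaf (55, 174)) (.leaf (57, 935))))))) (.node (.node (.node (.node (.node (.leaf (3, 22)) (.leaf (57, 573))) (.node (.leaf (0, 0)) (.leaf (3, 790)))) (.node (.node (.leaf (3, 150)) (.leaf (58, 963))) (.node (.leaf (3, 406)) (.leaf (58, 819))))) (.node (.node (.node (.leaf (0, 0)) (.leaf (0, 0))) (.node (.leaf (3, 342)) (.leaf (57, 871)))) (.node (.node (.leaf (58, 568)) (.leaf (0, 0))) (.node (.leaf (3, 470)) (.leaf (3, 982)))))) (.node (.node (.node (.node (.leaf (0, 0)) (.leaf (53, 668))) (.node (.leaf (3, 310)) (.leaf (3, 822)))) (.node (.node (.leaf (0, 0)) (.leaf (57, 676))) (.node (.leaf (3, 438)) (.leaf (3, 950))))) (.node (.node (.node (.leaf (3, 118)) (.leaf (3, 630))) (.node (.leaf (0, 0)) (.leaf (59, 440)))) (.node (.node (.leaf (0, 0)) (.leaf (3, 758))) (.node (.leaf (58, 918)) (.leaf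 (59, 807)))))))) (.node (.node (.node (.node (.node (.node (.node (.leaf (25, 101)) (.leaf (59, 859))) (.leaf (3, 526))) (.node (.leaf (3, 270)) (.leaf (0, 0)))) (.node (.node (.leaf (0, 0)) (.leaf (27, 653))) (.node (.leaf (58, 10)) (.leaf (59, 873))))) (.node (.node (.node (.leaf (3, 78)) (.leaf (0, 0))) (.node (.leaf (0, 0)) (.leaf (57, 911)))) (.node (.node (.leaf (0, 0)) (.leaf (3, 718))) (.node (.leaf (3, 462)) (.leaf (30, 819)))))) (.node (.node (.node (.node (.leaf (0, 0)) (.leaf (29, 149))) (.node (.leaf (3, 302)) (.leaf (3, 814)))) (.node (.node (.leaf (3, 174)) (.leaf (0, 0))) (.node (.leaf (57, 431)) (.leaf (57, 943))))) (.node (.node (.node (.leaf (0, 0)) (.leaf (3, 622))) (.node (.leaf (3, 366)) (.leaf (3, 878)))) (.node (.node (.leaf (52, 631)) (.leaf (3, 750))) (.node (.leaf (59, 854)) (.leaf (29, 608))))))) (.node (.node (.node (.node (.node (.leaf (0, 0)) (.leaf (3, 542))) (.node (.leaf (57, 583)) (.leaf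 (3, 798)))) (.node (.node (.leaf (0, 0)) (.leaf (3, 670))) (.node (.leaf (3, 414)) (.leaf (27, 934))))) (.node (.node (.node (.leaf (3, 94)) (.leaf (57, 596))) (.node (.leaf (0, 0)) (.leaf (59, 930)))) (.node (.node (.leaf (0, 0)) (.leaf (57, 523))) (.node (.leaf (59, 471)) (.leaf (3, 990)))))) (.node (.node (.node (.node (.leaf (0, 0)) (.leaf (3, 574))) (.node (.leaf (0, 0)) (.leaf (32, 500)))) (.node (.node (.leaf (3, 190)) (.leaf (57, 1004))) (.node (.leaf (58, 902)) (.leaf (3, 958))))) (.node (.node (.node (.leaf (0, 0)) (.leaf (3, 638))) (.node (.leaf (52, 47)) (.leaf (59, 498)))) (.node (.node (.leaf (3, 254)) (.leaf (0, 0))) (.node (.leaf (55, 199)) (.leaf (53, 991)))))))))))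

def twoVia4 : Janko.Tree (ℕ × ℕ) :=
  (.node (.node (.node (.node (.node (.node (.node (.node (.node (.node (.leaf (0, 1)) (.leaf (4, 0))) (.leaf (57, 183))) (.node (.leaf (0, 0)) (.leaf (56, 770)))) (.node (.node (.leaf (0, 0)) (.leaf (55, 175))) (.node (.leaf (21, 369)) (.leaf (53, 843))))) (.node (.node (.node (.leaf (0, 0)) (.leaf (42, 149))) (.node (.leaf (0, 321)) (.leaf (46, 465)))) (.node (.node (.leaf (57, 193)) (.leaf (0, 0))) (.node (.leaf (0, 449)) (.leaf (41, 962)))))) (.node (.node (.node (.node (.leaf (0, 0)) (.leaf (4, 545))) (.node (.leaf (38, 37)) (.leaf (50, 828)))) (.node (.node (.leaf (57, 161)) (.leaf (52, 297))) (.node (.leaf (57, 206)) (.leaf (0, 929))))) (.node (.node (.node (.leaf (0, 97)) (.leaf (33, 609))) (.node (.leaf (21, 108)) (.leaf (0, 0)))) (.node (.node (.leaf (25, 442)) (.leaf (0, 737))) (.node (.leaf (0, 0)) (.leaf (57, 421))))))) (.node (.node (.node (.node (.node (.leaf (0, 17)) (.leaf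 (25, 51))) (.node (.leaf (31, 273)) (.leaf (59, 671)))) (.node (.node (.leaf (25, 145)) (.leaf (4, 405))) (.node (.leaf (0, 401)) (.leaf (42, 821))))) (.node (.node (.node (.leaf (0, 81)) (.leaf (0, 830))) (.node (.leaf (7, 354)) (.leaf (4, 849)))) (.node (.node (.leaf (25, 416)) (.leaf (50, 620))) (.node (.leaf (56, 157)) (.leaf (14, 977)))))) (.node (.node (.node (.node (.leaf (25, 11)) (.leaf (58, 52))) (.node (.leaf (55, 663)) (.leaf (59, 972)))) (.node (.node (.leaf (57, 119)) (.leaf (8, 689))) (.node (.leaf (59, 433)) (.leaf (57, 880))))) (.node (.node (.node (.leaf (25, 1)) (.leaf (57, 459))) (.node (.leaf (0, 369)) (.leaf (0, 945)))) (.node (.node (.leaf (9, 159)) (.leaf (53, 740))) (.node (.leaf (57, 170)) (.leaf (56, 1010)))))))) (.node (.node (.node (.node (.node (.node (.node (.leaf (0, 0)) (.leaf (36, 737))) (.leaf (57, 521))) (.node (.leaf (25, 499)) (.leaf (0, 777)))) (.node (.node (.leaf (0, 137)) (.leaf (55,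 87))) (.node (.leaf (0, 0)) (.leaf (59, 905))))) (.node (.node (.node (.leaf (25, 20)) (.leaf (53, 585))) (.node (.leaf (4, 329)) (.leaf (21, 164)))) (.node (.node (.leaf (4, 79)) (.leaf (0, 0))) (.node (.leaf (55, 979)) (.leaf (57, 411)))))) (.node (.node (.node (.node (.leaf (0, 0)) (.leaf (59, 583))) (.node (.leaf (7, 297)) (.leaf (22, 809)))) (.node (.node (.leaf (4, 13)) (.leaf (10, 947))) (.node (.leaf (0, 0)) (.leaf (21, 323))))) (.node (.node (.node (.leaf (57, 105)) (.leaf (0, 617))) (.node (.leaf (17, 157)) (.leaf (41, 443)))) (.node (.node (.leaf (0, 0)) (.leaf (50, 590))) (.node (.leaf (43, 854)) (.leaf (55, 143))))))) (.node (.node (.node (.node (.node (.leaf (0, 25)) (.leaf (57, 63))) (.node (.leaf (0, 281)) (.leaf (43, 793)))) (.node (.node (.leaf (0, 153)) (.leaf (8, 949))) (.node (.leaf (0, 0)) (.leaf (45, 850))))) (.node (.node (.node (.leaf (25, 89)) (.leaf (21, 244))) (.node (.leaf (4, 345)) (.leaf (0,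 983)))) (.node (.node (.leaf (56, 79)) (.leaf (57, 108))) (.node (.leaf (55, 473)) (.leaf (56, 479)))))) (.node (.node (.node (.node (.leaf (0, 0)) (.leaf (0, 569))) (.node (.leaf (57, 134)) (.leaf (58, 231)))) (.node (.node (.leaf (0, 0)) (.leaf (0, 697))) (.node (.leaf (58, 322)) (.leaf (57, 1010))))) (.node (.node (.node (.leaf (21, 261)) (.leaf (7, 173))) (.node (.leaf (4, 377)) (.leaf (51, 648)))) (.node (.node (.leaf (7, 249)) (.leaf (57, 203))) (.node (.leaf (4, 283)) (.leaf (56, 1017))))))))) (.node (.node (.node (.node (.node (.node (.node (.node (.leaf (0, 0)) (.leaf (20, 788))) (.leaf (6, 517))) (.node (.leaf (32, 261)) (.leaf (52, 224)))) (.node (.node (.leaf (55, 133)) (.leaf (57, 384))) (.node (.leaf (4, 389)) (.leaf (59, 901))))) (.node (.node (.node (.leaf (0, 69)) (.leaf (55, 922))) (.node (.leaf (0, 0)) (.leaf (57, 481)))) (.node (.node (.leaf (0, 197)) (.leaf (54, 583))) (.node (.leaf (25, 453)) (.leaf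 (55, 965)))))) (.node (.node (.node (.node (.leaf (4, 60)) (.leaf (0, 549))) (.node (.leaf (21, 132)) (.leaf (0, 805)))) (.node (.node (.leaf (0, 165)) (.leaf (0, 677))) (.node (.leaf (4, 421)) (.leaf (6, 933))))) (.node (.node (.node (.leaf (4, 101)) (.leaf (56, 345))) (.node (.leaf (25, 619)) (.leaf (59, 695)))) (.node (.node (.leaf (57, 91)) (.leaf (58, 840))) (.node (.leaf (57, 164)) (.leaf (58, 559))))))) (.node (.node (.node (.node (.node (.leaf (0, 0)) (.leaf (47, 431))) (.node (.leaf (0, 277)) (.leaf (9, 789)))) (.node (.node (.leaf (21, 149)) (.leaf (59, 661))) (.node (.leaf (57, 34)) (.leaf (58, 975))))) (.node (.node (.node (.leaf (0, 85)) (.leaf (0, 597))) (.node (.leaf (4, 341)) (.leaf (59, 853)))) (.node (.node (.leaf (57, 84)) (.leaf (7, 243))) (.node (.leaf (57, 160)) (.leaf (42, 584)))))) (.node (.node (.node (.node (.leaf (0, 53)) (.leaf (0, 565))) (.node (.leaf (9, 894)) (.leaf (0, 821)))) (.node (.node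 (.leaf (0, 377)) (.leaf (57, 329))) (.node (.leaf (57, 437)) (.leaf (4, 949))))) (.node (.node (.node (.leaf (0, 0)) (.leaf (18, 629))) (.node (.leaf (50, 119)) (.leaf (55, 78)))) (.node (.node (.leaf (50, 208)) (.leaf (4, 757))) (.node (.leaf (50, 378)) (.leaf (58, 398)))))))) (.node (.node (.node (.node (.node (.node (.node (.leaf (25, 25)) (.leaf (52, 568))) (.leaf (57, 292))) (.node (.leaf (7, 268)) (.leaf (25, 206)))) (.node (.node (.leaf (0, 141)) (.leaf (47, 55))) (.node (.leaf (4, 31)) (.leaf (0, 909))))) (.node (.node (.node (.leaf (41, 76)) (.leaf (7, 589))) (.node (.leaf (57, 417)) (.leaf (57, 211)))) (.node (.node (.leaf (4, 205)) (.leaf (20, 451))) (.node (.leaf (57, 461)) (.leaf (57, 760)))))) (.node (.node (.node (.node (.leaf (0, 45)) (.leaf (59, 805))) (.node (.leaf (57, 392)) (.leaf (59, 813)))) (.node (.node (.leaf (0, 0)) (.leaf (20, 677))) (.node (.leaf (57, 429)) (.leaf (9, 676))))) (.node (.node (.node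 (.leaf (0, 109)) (.leaf (38, 621))) (.node (.leaf (14, 365)) (.leaf (4, 877)))) (.node (.node (.leaf (7, 254)) (.leaf (32, 280))) (.node (.leaf (58, 594)) (.leaf (20, 870))))))) (.node (.node (.node (.node (.node (.leaf (0, 29)) (.leaf (0, 541))) (.node (.leaf (7, 285)) (.leaf (0, 0)))) (.node (.node (.leaf (4, 157)) (.leaf (57, 669))) (.node (.leaf (59, 536)) (.leaf (59, 925))))) (.node (.node (.node (.leaf (21, 93)) (.leaf (21, 343))) (.node (.leaf (0, 349)) (.leaf (57, 269)))) (.node (.node (.leaf (58, 407)) (.leaf (0, 0))) (.node (.leaf (54, 820)) (.leaf (58, 892)))))) (.node (.node (.node (.node (.leaf (4, 36)) (.leaf (54, 147))) (.node (.leaf (0, 317)) (.leaf (0, 829)))) (.node (.node (.leaf (4, 189)) (.leaf (59, 701))) (.node (.leaf (20, 198)) (.leaf (4, 957))))) (.node (.node (.node (.leaf (25, 125)) (.leaf (40, 637))) (.node (.leaf (57, 381)) (.leaf (57, 539)))) (.node (.node (.leaf (0, 459)) (.leaf (59, 673))) (.node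 (.leaf (0, 509)) (.leaf (56, 982)))))))))) (.node (.node (.node (.node (.node (.node (.node (.node (.node (.leaf (0, 0)) (.leaf (9, 0))) (.leaf (59, 755))) (.node (.leaf (0, 259)) (.leaf (0, 937)))) (.node (.node (.leaf (0, 0)) (.leaf (0, 0))) (.node (.leaf (0, 387)) (.leaf (0, 899))))) (.node (.node (.node (.leaf (0, 0)) (.leaf (54, 914))) (.node (.leaf (7, 57)) (.leaf (57, 242)))) (.node (.node (.leaf (57, 439)) (.leaf (7, 554))) (.node (.leaf (4, 451)) (.leaf (54, 523)))))) (.node (.node (.node (.node (.leaf (0, 0)) (.leaf (57, 680))) (.node (.leaf (4, 291)) (.leaf (0, 803)))) (.node (.node (.leaf (0, 0)) (.leaf (46, 209))) (.node (.leaf (8, 842)) (.leaf (57, 422))))) (.node (.node (.node (.leaf (57, 20)) (.leaf (4, 349))) (.node (.leaf (50, 336)) (.leaf (58, 760)))) (.node (.node (.leaf (0, 442)) (.leaf (0, 739))) (.node (.leaf (0, 738)) (.leaf (0, 995))))))) (.node (.node (.node (.node (.node (.leaf (0, 0)) (.leaf (0,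 0))) (.node (.leaf (58, 325)) (.leaf (25, 787)))) (.node (.node (.leaf (4, 147)) (.leaf (0, 659))) (.node (.leaf (59, 658)) (.leaf (0, 915))))) (.node (.node (.node (.leaf (4, 83)) (.leaf (57, 595))) (.node (.leaf (22, 339)) (.leaf (18, 851)))) (.node (.node (.leaf (0, 416)) (.leaf (57, 106))) (.node (.leaf (6, 467)) (.leaf (18, 979)))))) (.node (.node (.node (.node (.leaf (0, 0)) (.leaf (57, 402))) (.node (.leaf (57, 27)) (.leaf (8, 819)))) (.node (.node (.leaf (25, 377)) (.leaf (55, 508))) (.node (.leaf (17, 196)) (.leaf (57, 416))))) (.node (.node (.node (.leaf (57, 4)) (.leaf (0, 627))) (.node (.leaf (57, 25)) (.leaf (0, 955)))) (.node (.node (.leaf (0, 0)) (.leaf (0, 755))) (.node (.leaf (4, 499)) (.leaf (42, 800)))))))) (.node (.node (.node (.node (.node (.node (.node (.leaf (0, 11)) (.leaf (44, 7))) (.leaf (17, 545))) (.node (.leaf (0, 499)) (.leaf (4, 649)))) (.node (.node (.leaf (4, 139)) (.leaf (56, 1015))) (.node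 (.leaf (57, 31)) (.leaf (39, 445))))) (.node (.node (.node (.leaf (0, 0)) (.leaf (9, 716))) (.node (.leaf (0, 0)) (.leaf (9, 419)))) (.node (.node (.leaf (41, 143)) (.leaf (59, 837))) (.node (.leaf (7, 459)) (.leaf (40, 936)))))) (.node (.node (.node (.node (.leaf (0, 0)) (.leaf (57, 790))) (.node (.leaf (17, 135)) (.leaf (10, 811)))) (.node (.node (.leaf (56, 14)) (.leaf (57, 414))) (.node (.leaf (0, 0)) (.leaf (40, 937))))) (.node (.node (.node (.leaf (0, 0)) (.leaf (4, 619))) (.node (.leaf (57, 175)) (.leaf (50, 431)))) (.node (.node (.leaf (0, 235)) (.leaf (57, 495))) (.node (.leaf (0, 491)) (.leaf (58, 872))))))) (.node (.node (.node (.node (.node (.leaf (0, 0)) (.leaf (17, 539))) (.node (.leaf (7, 48)) (.leaf (0, 795)))) (.node (.node (.leaf (57, 11)) (.leaf (57, 308))) (.node (.leaf (17, 191)) (.leaf (0, 923))))) (.node (.node (.node (.leaf (4, 91)) (.leaf (8, 683))) (.node (.leaf (57, 457)) (.leaf (19, 859)))) (.node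 (.node (.leaf (57, 219)) (.leaf (57, 408))) (.node (.leaf (56, 242)) (.leaf (55, 607)))))) (.node (.node (.node (.node (.leaf (0, 0)) (.leaf (4, 571))) (.node (.leaf (59, 437)) (.leaf (9, 827)))) (.node (.node (.leaf (0, 187)) (.leaf (57, 401))) (.node (.leaf (0, 443)) (.leaf (8, 955))))) (.node (.node (.node (.leaf (25, 276)) (.leaf (57, 120))) (.node (.leaf (57, 46)) (.leaf (26, 677)))) (.node (.node (.leaf (57, 581)) (.leaf (59, 668))) (.node (.leaf (0, 507)) (.leaf (23, 1019))))))))) (.node (.node (.node (.node (.node (.node (.node (.node (.leaf (0, 0)) (.leaf (28, 454))) (.leaf (10, 519))) (.node (.leaf (21, 119)) (.leaf (57, 775)))) (.node (.node (.leaf (0, 135)) (.leaf (4, 395))) (.node (.leaf (34, 391)) (.leaf (57, 646))))) (.node (.node (.node (.leaf (50, 362)) (.leaf (0, 583))) (.node (.leaf (59, 766)) (.leaf (57, 713)))) (.node (.node (.leaf (57, 10)) (.leaf (9, 582))) (.node (.leaf (56, 231)) (.leaf (57, 767))))))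 (.node (.node (.node (.node (.leaf (21, 162)) (.leaf (7, 544))) (.node (.leaf (58, 578)) (.leaf (50, 770)))) (.node (.node (.leaf (57, 61)) (.leaf (10, 679))) (.node (.leaf (57, 786)) (.leaf (0, 935))))) (.node (.node (.node (.leaf (25, 103)) (.leaf (59, 615))) (.node (.leaf (0, 619)) (.leaf (0, 0)))) (.node (.node (.leaf (17, 231)) (.leaf (47, 847))) (.node (.leaf (57, 491)) (.leaf (55, 999))))))) (.node (.node (.node (.node (.node (.leaf (0, 23)) (.leaf (57, 297))) (.node (.leaf (21, 70)) (.leaf (55, 1000)))) (.node (.node (.leaf (57, 204)) (.leaf (54, 140))) (.node (.leaf (58, 320)) (.leaf (57, 260))))) (.node (.node (.node (.leaf (8, 872)) (.leaf (57, 64))) (.node (.leaf (0, 343)) (.leaf (57, 725)))) (.node (.node (.leaf (25, 8)) (.leaf (57, 850))) (.node (.leaf (57, 793)) (.leaf (31, 166)))))) (.node (.node (.node (.node (.leaf (25, 137)) (.leaf (57, 298))) (.node (.leaf (0, 0)) (.leaf (56, 823)))) (.node (.node (.leaf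 (6, 633)) (.leaf (18, 695))) (.node (.leaf (5, 439)) (.leaf (6, 951))))) (.node (.node (.node (.leaf (31, 119)) (.leaf (36, 627))) (.node (.leaf (0, 375)) (.leaf (9, 776)))) (.node (.node (.leaf (7, 242)) (.leaf (0, 759))) (.node (.leaf (22, 503)) (.leaf (15, 1015)))))))) (.node (.node (.node (.node (.node (.node (.leaf (0, 0)) (.leaf (56, 56))) (.node (.leaf (0, 0)) (.leaf (56, 673)))) (.node (.node (.leaf (8, 935)) (.leaf (41, 655))) (.node (.leaf (55, 92)) (.leaf (54, 911))))) (.node (.node (.node (.leaf (0, 79)) (.leaf (25, 830))) (.node (.leaf (0, 580)) (.leaf (13, 836)))) (.node (.node (.leaf (41, 207)) (.leaf (4, 719))) (.node (.leaf (58, 287)) (.leaf (57, 335)))))) (.node (.node (.node (.node (.leaf (57, 7)) (.leaf (57, 559))) (.node (.leaf (57, 18)) (.leaf (58, 530)))) (.node (.node (.leaf (31, 175)) (.leaf (7, 687))) (.node (.leaf (56, 431)) (.leaf (38, 420))))) (.node (.node (.node (.leaf (57, 37)) (.leaf (0, 623)))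 (.node (.leaf (59, 576)) (.leaf (31, 797)))) (.node (.node (.leaf (7, 157)) (.leaf (58, 479))) (.node (.leaf (0, 624)) (.leaf (59, 875))))))) (.node (.node (.node (.node (.node (.leaf (25, 81)) (.leaf (0, 543))) (.node (.leaf (25, 189)) (.leaf (57, 686)))) (.node (.node (.leaf (4, 467)) (.leaf (55, 671))) (.node (.leaf (0, 0)) (.leaf (59, 927))))) (.node (.node (.node (.leaf (57, 305)) (.leaf (32, 163))) (.node (.leaf (4, 598)) (.leaf (57, 633)))) (.node (.node (.leaf (59, 773)) (.leaf (56, 467))) (.node (.leaf (7, 107)) (.leaf (59, 991)))))) (.node (.node (.node (.node (.leaf (56, 20)) (.leaf (0, 809))) (.node (.leaf (58, 531)) (.leaf (18, 831)))) (.node (.node (.leaf (25, 91)) (.leaf (0, 873))) (.node (.leaf (34, 90)) (.leaf (56, 999))))) (.node (.node (.node (.leaf (7, 126)) (.leaf (57, 639))) (.node (.leaf (57, 502)) (.leaf (10, 895)))) (.node (.node (.leaf (0, 0)) (.leaf (4, 767))) (.node (.leaf (0, 748)) (.leaf (58,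 421)))))))))))

def twoVia5 : Janko.Tree (ℕ × ℕ) :=
  (.node (.node (.node (.node (.node (.node (.node (.node (.node (.node (.leaf (0, 0)) (.leaf (5, 0))) (.leaf (59, 645))) (.node (.leaf (1, 257)) (.leaf (1, 769)))) (.node (.node (.leaf (1, 129)) (.leaf (0, 0))) (.node (.leaf (59, 629)) (.leaf (1, 897))))) (.node (.node (.node (.leaf (1, 65)) (.leaf (1, 577))) (.node (.leaf (0, 0)) (.leaf (1, 833)))) (.node (.node (.leaf (1, 193)) (.leaf (1, 705))) (.node (.leaf (58, 528)) (.leaf (1, 961)))))) (.node (.node (.node (.node (.leaf (1, 33)) (.leaf (0, 0))) (.node (.leaf (1, 289)) (.leaf (1, 958)))) (.node (.node (.leaf (1, 161)) (.leaf (1, 673))) (.node (.leaf (0, 0)) (.leaf (40, 630))))) (.node (.node (.node (.leaf (44, 291)) (.leaf (58, 467))) (.node (.leaf (0, 0)) (.leaf (1, 865)))) (.node (.node (.leaf (0, 0)) (.leaf (59, 798))) (.node (.leaf (1, 481)) (.leaf (1, 993))))))) (.node (.node (.node (.node (.node (.leaf (0, 0))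 (.leaf (59, 449))) (.node (.leaf (1, 273)) (.leaf (59, 591)))) (.node (.node (.leaf (0, 0)) (.leaf (59, 889))) (.node (.leaf (0, 0)) (.leaf (1, 913))))) (.node (.node (.node (.leaf (0, 0)) (.leaf (59, 830))) (.node (.leaf (0, 0)) (.leaf (59, 612)))) (.node (.node (.leaf (0, 0)) (.leaf (59, 856))) (.node (.leaf (0, 0)) (.leaf (1, 977)))))) (.node (.node (.node (.node (.leaf (0, 0)) (.leaf (0, 0))) (.node (.leaf (1, 305)) (.leaf (59, 704)))) (.node (.node (.leaf (0, 0)) (.leaf (0, 0))) (.node (.leaf (1, 433)) (.leaf (59, 881))))) (.node (.node (.node (.leaf (59, 235)) (.leaf (1, 625))) (.node (.leaf (58, 173)) (.leaf (59, 945)))) (.node (.node (.leaf (57, 369)) (.leaf (1, 753))) (.node (.leaf (59, 526)) (.leaf (1, 1009)))))))) (.node (.node (.node (.node (.node (.node (.node (.leaf (0, 0)) (.leaf (37, 479))) (.leaf (1, 521))) (.node (.leaf (0, 0)) (.leaf (57, 538)))) (.node (.node (.leaf (0, 0)) (.leaf (0, 0))) (.node (.leaf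 (1, 393)) (.leaf (1, 905))))) (.node (.node (.node (.leaf (0, 0)) (.leaf (47, 160))) (.node (.leaf (0, 0)) (.leaf (21, 730)))) (.node (.node (.leaf (0, 0)) (.leaf (1, 713))) (.node (.leaf (1, 457)) (.leaf (59, 885)))))) (.node (.node (.node (.node (.leaf (1, 41)) (.leaf (0, 0))) (.node (.leaf (0, 0)) (.leaf (1, 809)))) (.node (.node (.leaf (53, 376)) (.leaf (53, 664))) (.node (.leaf (1, 425)) (.leaf (52, 527))))) (.node (.node (.node (.leaf (1, 105)) (.leaf (55, 761))) (.node (.leaf (0, 0)) (.leaf (0, 0)))) (.node (.node (.leaf (1, 233)) (.leaf (55, 905))) (.node (.leaf (1, 489)) (.leaf (53, 1020))))))) (.node (.node (.node (.node (.node (.leaf (0, 0)) (.leaf (0, 0))) (.node (.leaf (44, 124)) (.leaf (1, 793)))) (.node (.node (.leaf (57, 97)) (.leaf (40, 787))) (.node (.leaf (1, 409)) (.leaf (53, 987))))) (.node (.node (.node (.leaf (0, 0)) (.leaf (58, 457))) (.node (.leaf (0, 0)) (.leaf (58, 957)))) (.node (.node (.leaf (0,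 0)) (.leaf (0, 0))) (.node (.leaf (1, 473)) (.leaf (1, 985)))))) (.node (.node (.node (.node (.leaf (1, 57)) (.leaf (0, 0))) (.node (.leaf (0, 0)) (.leaf (59, 728)))) (.node (.node (.leaf (1, 185)) (.leaf (1, 697))) (.node (.leaf (1, 441)) (.leaf (53, 962))))) (.node (.node (.node (.leaf (0, 0)) (.leaf (56, 500))) (.node (.leaf (0, 0)) (.leaf (1, 889)))) (.node (.node (.leaf (0, 0)) (.leaf (59, 952))) (.node (.leaf (58, 22)) (.leaf (1, 1017))))))))) (.node (.node (.node (.node (.node (.node (.node (.node (.leaf (1, 5)) (.leaf (21, 147))) (.leaf (57, 65))) (.node (.leaf (1, 261)) (.leaf (1, 773)))) (.node (.node (.leaf (1, 133)) (.leaf (59, 513))) (.node (.leaf (57, 594)) (.leaf (0, 0))))) (.node (.node (.node (.leaf (0, 0)) (.leaf (1, 581))) (.node (.leaf (1, 325)) (.leaf (1, 837)))) (.node (.node (.leaf (57, 92)) (.leaf (1, 709))) (.node (.leaf (57, 163)) (.leaf (1, 965)))))) (.node (.node (.node (.node (.leaf (0, 0)) (.leaf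 (57, 311))) (.node (.leaf (0, 0)) (.leaf (39, 541)))) (.node (.node (.leaf (58, 507)) (.leaf (57, 415))) (.node (.leaf (0, 0)) (.leaf (0, 0))))) (.node (.node (.node (.leaf (0, 0)) (.leaf (0, 0))) (.node (.leaf (53, 967)) (.leaf (59, 719)))) (.node (.node (.leaf (59, 797)) (.leaf (0, 0))) (.node (.leaf (27, 473)) (.leaf (1, 997))))))) (.node (.node (.node (.node (.node (.leaf (1, 21)) (.leaf (0, 0))) (.node (.leaf (57, 365)) (.leaf (0, 0)))) (.node (.node (.leaf (0, 0)) (.leaf (1, 661))) (.node (.leaf (0, 0)) (.leaf (49, 742))))) (.node (.node (.node (.leaf (57, 138)) (.leaf (56, 478))) (.node (.leaf (57, 190)) (.leaf (1, 853)))) (.node (.node (.leaf (0, 0)) (.leaf (57, 847))) (.node (.leaf (0, 0)) (.leaf (1, 981)))))) (.node (.node (.node (.node (.leaf (0, 0)) (.leaf (59, 880))) (.node (.leaf (1, 309)) (.leaf (0, 0)))) (.node (.node (.leaf (0, 0)) (.leaf (59, 818))) (.node (.leaf (1, 437)) (.leaf (56, 877))))) (.node (.node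 (.node (.leaf (1, 117)) (.leaf (56, 506))) (.node (.leaf (59, 272)) (.leaf (59, 969)))) (.node (.node (.leaf (0, 0)) (.leaf (55, 695))) (.node (.leaf (0, 0)) (.leaf (1, 1013)))))))) (.node (.node (.node (.node (.node (.node (.node (.leaf (0, 0)) (.leaf (53, 600))) (.leaf (0, 0))) (.node (.leaf (0, 0)) (.leaf (59, 681)))) (.node (.node (.leaf (57, 82)) (.leaf (1, 653))) (.node (.leaf (59, 626)) (.leaf (59, 705))))) (.node (.node (.node (.leaf (1, 77)) (.leaf (59, 824))) (.node (.leaf (0, 0)) (.leaf (1, 845)))) (.node (.node (.leaf (55, 769)) (.leaf (27, 675))) (.node (.leaf (1, 461)) (.leaf (0, 0)))))) (.node (.node (.node (.node (.leaf (0, 0)) (.leaf (59, 426))) (.node (.leaf (1, 301)) (.leaf (1, 813)))) (.node (.node (.leaf (1, 173)) (.leaf (0, 0))) (.node (.leaf (44, 766)) (.leaf (53, 887))))) (.node (.node (.node (.leaf (58, 636)) (.leaf (1, 621))) (.node (.leaf (1, 365)) (.leaf (0, 0)))) (.node (.node (.leaf (0, 0)) (.leaf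 (1, 749))) (.node (.leaf (53, 354)) (.leaf (59, 1016))))))) (.node (.node (.node (.node (.node (.leaf (0, 0)) (.leaf (0, 0))) (.node (.leaf (1, 285)) (.leaf (1, 797)))) (.node (.node (.leaf (0, 0)) (.leaf (1, 669))) (.node (.leaf (59, 567)) (.leaf (59, 753))))) (.node (.node (.node (.leaf (0, 0)) (.leaf (0, 0))) (.node (.leaf (0, 0)) (.leaf (59, 752)))) (.node (.node (.leaf (1, 221)) (.leaf (1, 733))) (.node (.leaf (1, 477)) (.leaf (1, 989)))))) (.node (.node (.node (.node (.leaf (0, 0)) (.leaf (55, 810))) (.node (.leaf (56, 205)) (.leaf (59, 931)))) (.node (.node (.leaf (57, 388)) (.leaf (1, 701))) (.node (.leaf (0, 0)) (.leaf (55, 851))))) (.node (.node (.node (.leaf (0, 0)) (.leaf (22, 387))) (.node (.leaf (1, 381)) (.leaf (50, 947)))) (.node (.node (.leaf (0, 0)) (.leaf (59, 619))) (.node (.leaf (0, 0)) (.leaf (1, 1021)))))))))) (.node (.node (.node (.node (.node (.node (.node (.node (.node (.leaf (0, 0)) (.leaf (13,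 420))) (.leaf (59, 622))) (.node (.leaf (59, 387)) (.leaf (0, 0)))) (.node (.node (.leaf (0, 0)) (.leaf (1, 643))) (.node (.leaf (57, 185)) (.leaf (56, 943))))) (.node (.node (.node (.leaf (1, 67)) (.leaf (1, 579))) (.node (.leaf (0, 0)) (.leaf (32, 956)))) (.node (.node (.leaf (1, 195)) (.leaf (59, 804))) (.node (.leaf (0, 0)) (.leaf (56, 883)))))) (.node (.node (.node (.node (.leaf (1, 35)) (.leaf (1, 547))) (.node (.leaf (57, 240)) (.leaf (56, 695)))) (.node (.node (.leaf (1, 163)) (.leaf (1, 675))) (.node (.leaf (23, 961)) (.leaf (59, 869))))) (.node (.node (.node (.leaf (0, 0)) (.leaf (0, 0))) (.node (.leaf (0, 0)) (.leaf (0, 0)))) (.node (.node (.leaf (0, 0)) (.leaf (42, 597))) (.node (.leaf (0, 0)) (.leaf (56, 889))))))) (.node (.node (.node (.node (.node (.leaf (0, 0)) (.leaf (1, 531))) (.node (.leaf (1, 275)) (.leaf (54, 665)))) (.node (.node (.leaf (0, 0)) (.leaf (9, 216))) (.node (.leaf (0, 0)) (.leaf (56, 735)))))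 (.node (.node (.node (.leaf (1, 83)) (.leaf (1, 595))) (.node (.leaf (1, 339)) (.leaf (56, 957)))) (.node (.node (.leaf (0, 0)) (.leaf (54, 455))) (.node (.leaf (57, 579)) (.leaf (54, 918)))))) (.node (.node (.node (.node (.leaf (0, 0)) (.leaf (0, 0))) (.node (.leaf (57, 208)) (.leaf (0, 0)))) (.node (.node (.leaf (0, 0)) (.leaf (1, 691))) (.node (.leaf (0, 0)) (.leaf (50, 897))))) (.node (.node (.node (.leaf (0, 0)) (.leaf (0, 0))) (.node (.leaf (53, 579)) (.leaf (0, 0)))) (.node (.node (.leaf (1, 243)) (.leaf (59, 514))) (.node (.leaf (0, 0)) (.leaf (1, 1011)))))))) (.node (.node (.node (.node (.node (.node (.node (.leaf (0, 0)) (.leaf (45, 104))) (.leaf (0, 0))) (.node (.leaf (0, 0)) (.leaf (59, 686)))) (.node (.node (.leaf (41, 291)) (.leaf (1, 651))) (.node (.leaf (56, 646)) (.leaf (1, 907))))) (.node (.node (.node (.leaf (0, 0)) (.leaf (53, 595))) (.node (.leaf (1, 331)) (.leaf (32, 960)))) (.node (.node (.leaf (0,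 0)) (.leaf (55, 758))) (.node (.leaf (14, 620)) (.leaf (1, 971)))))) (.node (.node (.node (.node (.leaf (1, 43)) (.leaf (59, 359))) (.node (.leaf (0, 0)) (.leaf (0, 0)))) (.node (.node (.leaf (0, 0)) (.leaf (0, 0))) (.node (.leaf (1, 427)) (.leaf (1, 939))))) (.node (.node (.node (.leaf (1, 107)) (.leaf (59, 765))) (.node (.leaf (57, 277)) (.leaf (0, 0)))) (.node (.node (.leaf (55, 616)) (.leaf (58, 484))) (.node (.leaf (21, 166)) (.leaf (53, 849))))))) (.node (.node (.node (.node (.node (.leaf (0, 0)) (.leaf (0, 0))) (.node (.leaf (55, 504)) (.leaf (0, 0)))) (.node (.node (.leaf (0, 0)) (.leaf (0, 0))) (.node (.leaf (0, 0)) (.leaf (54, 580))))) (.node (.node (.node (.leaf (0, 0)) (.leaf (54, 1009))) (.node (.leaf (1, 347)) (.leaf (1, 859)))) (.node (.node (.leaf (1, 219)) (.leaf (56, 892))) (.node (.leaf (0, 0)) (.leaf (59, 1022)))))) (.node (.node (.node (.node (.leaf (1, 59)) (.leaf (0, 0))) (.node (.leaf (1, 315)) (.leaf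 (0, 0)))) (.node (.node (.leaf (57, 360)) (.leaf (1, 699))) (.node (.leaf (57, 558)) (.leaf (0, 0))))) (.node (.node (.node (.leaf (0, 0)) (.leaf (1, 635))) (.node (.leaf (55, 635)) (.leaf (59, 953)))) (.node (.node (.leaf (1, 251)) (.leaf (59, 617))) (.node (.leaf (58, 165)) (.leaf (1, 1019))))))))) (.node (.node (.node (.node (.node (.node (.node (.node (.leaf (0, 0)) (.leaf (29, 86))) (.leaf (59, 831))) (.node (.leaf (59, 374)) (.leaf (1, 775)))) (.node (.node (.leaf (0, 0)) (.leaf (47, 140))) (.node (.leaf (59, 636)) (.leaf (59, 967))))) (.node (.node (.node (.leaf (0, 0)) (.leaf (57, 334))) (.node (.leaf (1, 327)) (.leaf (48, 714)))) (.node (.node (.leaf (58, 362)) (.leaf (53, 822))) (.node (.leaf (0, 0)) (.leaf (59, 903)))))) (.node (.node (.node (.node (.leaf (0, 0)) (.leaf (41, 412))) (.node (.leaf (57, 216)) (.leaf (0, 0)))) (.node (.node (.leaf (0, 0)) (.leaf (58, 297))) (.node (.leaf (1, 423)) (.leaf (0, 0)))))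 (.node (.node (.node (.leaf (55, 202)) (.leaf (1, 615))) (.node (.leaf (53, 379)) (.leaf (1, 871)))) (.node (.node (.leaf (0, 0)) (.leaf (1, 743))) (.node (.leaf (1, 487)) (.leaf (1, 999))))))) (.node (.node (.node (.node (.node (.leaf (0, 0)) (.leaf (41, 768))) (.node (.leaf (0, 0)) (.leaf (1, 791)))) (.node (.node (.leaf (1, 151)) (.leaf (1, 663))) (.node (.leaf (1, 407)) (.leaf (47, 992))))) (.node (.node (.node (.leaf (0, 0)) (.leaf (59, 506))) (.node (.leaf (0, 0)) (.leaf (1, 855)))) (.node (.node (.leaf (59, 397)) (.leaf (59, 882))) (.node (.leaf (1, 471)) (.leaf (52, 624)))))) (.node (.node (.node (.node (.leaf (0, 0)) (.leaf (55, 387))) (.node (.leaf (1, 311)) (.leaf (0, 0)))) (.node (.node (.leaf (0, 0)) (.leaf (55, 292))) (.node (.leaf (1, 439)) (.leaf (46, 203))))) (.node (.node (.node (.leaf (1, 119)) (.leaf (1, 631))) (.node (.leaf (0, 0)) (.leaf (48, 941)))) (.node (.node (.leaf (0, 0)) (.leaf (57, 522))) (.node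 (.leaf (1, 503)) (.leaf (56, 949)))))))) (.node (.node (.node (.node (.node (.node (.leaf (1, 15)) (.leaf (0, 0))) (.node (.leaf (1, 271)) (.leaf (59, 674)))) (.node (.node (.leaf (0, 0)) (.leaf (1, 655))) (.node (.leaf (1, 399)) (.leaf (1, 911))))) (.node (.node (.node (.leaf (0, 0)) (.leaf (59, 829))) (.node (.leaf (0, 0)) (.leaf (1, 847)))) (.node (.node (.leaf (0, 0)) (.leaf (55, 805))) (.node (.leaf (1, 463)) (.leaf (56, 923)))))) (.node (.node (.node (.node (.leaf (0, 0)) (.leaf (14, 770))) (.node (.leaf (18, 341)) (.leaf (59, 706)))) (.node (.node (.leaf (1, 175)) (.leaf (59, 848))) (.node (.leaf (1, 431)) (.leaf (1, 943))))) (.node (.node (.node (.leaf (0, 0)) (.leaf (59, 915))) (.node (.leaf (1, 367)) (.leaf (56, 962)))) (.node (.node (.leaf (59, 413)) (.leaf (1, 751))) (.node (.leaf (55, 624)) (.leaf (58, 836))))))) (.node (.node (.node (.node (.node (.leaf (0, 0)) (.leaf (0, 0))) (.node (.leaf (55, 67)) (.leaf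 (59, 687)))) (.node (.node (.leaf (55, 103)) (.leaf (1, 671))) (.node (.leaf (1, 415)) (.leaf (57, 983))))) (.node (.node (.node (.leaf (1, 95)) (.leaf (1, 607))) (.node (.leaf (47, 184)) (.leaf (53, 504)))) (.node (.node (.leaf (0, 0)) (.leaf (42, 978))) (.node (.leaf (0, 0)) (.leaf (58, 469)))))) (.node (.node (.node (.node (.leaf (0, 0)) (.leaf (1, 575))) (.node (.leaf (0, 0)) (.leaf (55, 722)))) (.node (.node (.leaf (0, 0)) (.leaf (0, 0))) (.node (.leaf (1, 447)) (.leaf (1, 959))))) (.node (.node (.node (.leaf (0, 0)) (.leaf (1, 639))) (.node (.leaf (1, 383)) (.leaf (32, 605)))) (.node (.node (.leaf (1, 255)) (.leaf (54, 530))) (.node (.leaf (1, 511)) (.leaf (1, 1023)))))))))))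

def twoVia6 : Janko.Tree (ℕ × ℕ) :=
  (.node (.node (.node (.node (.node (.node (.node (.node (.node (.node (.leaf (0, 0)) (.leaf (6, 0))) (.leaf (32, 260))) (.node (.leaf (56, 254)) (.leaf (46, 646)))) (.node (.node (.leaf (32, 251)) (.leaf (59, 992))) (.node (.leaf (59, 463)) (.leaf (59, 922))))) (.node (.node (.node (.leaf (0, 0)) (.leaf (54, 52))) (.node (.leaf (25, 152)) (.leaf (56, 459)))) (.node (.node (.leaf (0, 0)) (.leaf (0, 0))) (.node (.leaf (58, 791)) (.leaf (42, 883)))))) (.node (.node (.node (.node (.leaf (0, 0)) (.leaf (2, 545))) (.node (.leaf (0, 0)) (.leaf (59, 1017)))) (.node (.node (.leaf (57, 29)) (.leaf (56, 565))) (.node (.leaf (42, 243)) (.leaf (59, 858))))) (.node (.node (.node (.leaf (57, 303)) (.leaf (0, 0))) (.node (.leaf (58, 468)) (.leaf (58, 846)))) (.node (.node (.leaf (58, 145)) (.leaf (58, 160))) (.node (.leaf (0, 0)) (.leaf (2, 993))))))) (.node (.node (.node (.node (.node (.leaf (0, 0))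 (.leaf (59, 230))) (.node (.leaf (57, 283)) (.leaf (2, 785)))) (.node (.node (.leaf (2, 145)) (.leaf (28, 803))) (.node (.leaf (2, 401)) (.leaf (56, 821))))) (.node (.node (.node (.leaf (2, 81)) (.leaf (2, 593))) (.node (.leaf (2, 337)) (.leaf (2, 849)))) (.node (.node (.leaf (0, 0)) (.leaf (32, 120))) (.node (.leaf (2, 465)) (.leaf (14, 716)))))) (.node (.node (.node (.node (.leaf (25, 113)) (.leaf (58, 205))) (.node (.leaf (0, 0)) (.leaf (2, 817)))) (.node (.node (.leaf (0, 0)) (.leaf (2, 689))) (.node (.leaf (59, 378)) (.leaf (2, 945))))) (.node (.node (.node (.leaf (2, 113)) (.leaf (54, 253))) (.node (.leaf (0, 0)) (.leaf (52, 412)))) (.node (.node (.leaf (57, 24)) (.leaf (59, 712))) (.node (.leaf (57, 372)) (.leaf (14, 800)))))))) (.node (.node (.node (.node (.node (.node (.node (.leaf (2, 9)) (.leaf (38, 350))) (.leaf (0, 0))) (.node (.leaf (54, 282)) (.leaf (0, 0)))) (.node (.node (.leaf (2, 137)) (.leaf (2, 649)))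 (.node (.leaf (0, 0)) (.leaf (0, 0))))) (.node (.node (.node (.leaf (25, 169)) (.leaf (0, 0))) (.node (.leaf (2, 329)) (.leaf (59, 923)))) (.node (.node (.leaf (25, 397)) (.leaf (0, 0))) (.node (.leaf (0, 0)) (.leaf (32, 398)))))) (.node (.node (.node (.node (.leaf (0, 0)) (.leaf (58, 666))) (.node (.leaf (2, 297)) (.leaf (57, 897)))) (.node (.node (.leaf (25, 73)) (.leaf (59, 587))) (.node (.leaf (57, 323)) (.leaf (32, 318))))) (.node (.node (.node (.leaf (56, 103)) (.leaf (32, 287))) (.node (.leaf (2, 361)) (.leaf (59, 1013)))) (.node (.node (.leaf (0, 0)) (.leaf (32, 115))) (.node (.leaf (59, 481)) (.leaf (59, 987))))))) (.node (.node (.node (.node (.node (.leaf (2, 25)) (.leaf (0, 0))) (.node (.leaf (57, 698)) (.leaf (0, 0)))) (.node (.node (.leaf (57, 202)) (.leaf (2, 665))) (.node (.leaf (0, 0)) (.leaf (55, 1020))))) (.node (.node (.node (.leaf (2, 89)) (.leaf (58, 248))) (.node (.leaf (2, 345)) (.leaf (29, 277))))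 (.node (.node (.leaf (2, 217)) (.leaf (2, 729))) (.node (.leaf (0, 0)) (.leaf (55, 729)))))) (.node (.node (.node (.node (.leaf (0, 0)) (.leaf (58, 135))) (.node (.leaf (2, 313)) (.leaf (56, 355)))) (.node (.node (.leaf (54, 438)) (.leaf (58, 537))) (.node (.leaf (59, 367)) (.leaf (58, 603))))) (.node (.node (.node (.leaf (0, 0)) (.leaf (2, 633))) (.node (.leaf (2, 377)) (.leaf (56, 888)))) (.node (.node (.leaf (2, 249)) (.leaf (59, 871))) (.node (.leaf (59, 461)) (.leaf (18, 995))))))))) (.node (.node (.node (.node (.node (.node (.node (.node (.leaf (0, 0)) (.leaf (22, 749))) (.leaf (2, 517))) (.node (.leaf (58, 185)) (.leaf (57, 828)))) (.node (.node (.leaf (25, 474)) (.leaf (32, 389))) (.node (.leaf (2, 389)) (.leaf (59, 1023))))) (.node (.node (.node (.leaf (0, 0)) (.leaf (0, 0))) (.node (.leaf (0, 0)) (.leaf (56, 836)))) (.node (.node (.leaf (0, 0)) (.leaf (0, 0))) (.node (.leaf (2, 453)) (.leaf (54, 935)))))) (.node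 (.node (.node (.node (.leaf (0, 0)) (.leaf (0, 0))) (.node (.leaf (0, 0)) (.leaf (32, 952)))) (.node (.node (.leaf (0, 0)) (.leaf (0, 0))) (.node (.leaf (2, 421)) (.leaf (2, 933))))) (.node (.node (.node (.leaf (2, 101)) (.leaf (2, 613))) (.node (.leaf (57, 463)) (.leaf (2, 869)))) (.node (.node (.leaf (32, 425)) (.leaf (59, 973))) (.node (.leaf (59, 918)) (.leaf (57, 1008))))))) (.node (.node (.node (.node (.node (.leaf (0, 0)) (.leaf (2, 533))) (.node (.leaf (57, 262)) (.leaf (2, 789)))) (.node (.node (.leaf (2, 149)) (.leaf (58, 245))) (.node (.leaf (2, 405)) (.leaf (55, 509))))) (.node (.node (.node (.leaf (0, 0)) (.leaf (0, 0))) (.node (.leaf (2, 341)) (.leaf (55, 406)))) (.node (.node (.leaf (0, 0)) (.leaf (2, 725))) (.node (.leaf (2, 469)) (.leaf (44, 455)))))) (.node (.node (.node (.node (.leaf (0, 0)) (.leaf (32, 782))) (.node (.leaf (57, 102)) (.leaf (2, 821)))) (.node (.node (.leaf (2, 181)) (.leaf (32, 430)))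 (.node (.leaf (55, 472)) (.leaf (2, 949))))) (.node (.node (.node (.leaf (0, 0)) (.leaf (2, 629))) (.node (.leaf (0, 0)) (.leaf (56, 1013)))) (.node (.node (.leaf (0, 0)) (.leaf (2, 757))) (.node (.leaf (32, 588)) (.leaf (29, 964)))))))) (.node (.node (.node (.node (.node (.node (.node (.leaf (0, 0)) (.leaf (54, 974))) (.leaf (0, 0))) (.node (.leaf (2, 269)) (.leaf (59, 759)))) (.node (.node (.leaf (0, 0)) (.leaf (58, 961))) (.node (.leaf (2, 397)) (.leaf (58, 879))))) (.node (.node (.node (.leaf (25, 603)) (.leaf (0, 0))) (.node (.leaf (0, 0)) (.leaf (59, 1019)))) (.node (.node (.leaf (2, 205)) (.leaf (59, 941))) (.node (.leaf (0, 0)) (.leaf (2, 973)))))) (.node (.node (.node (.node (.leaf (0, 0)) (.leaf (2, 557))) (.node (.leaf (0, 0)) (.leaf (57, 476)))) (.node (.node (.leaf (0, 0)) (.leaf (2, 685))) (.node (.leaf (2, 429)) (.leaf (59, 959))))) (.node (.node (.node (.leaf (0, 0)) (.leaf (2, 621))) (.node (.leaf (0, 0))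 (.leaf (2, 877)))) (.node (.node (.leaf (0, 0)) (.leaf (58, 162))) (.node (.leaf (56, 866)) (.leaf (59, 980))))))) (.node (.node (.node (.node (.node (.leaf (0, 0)) (.leaf (0, 0))) (.node (.leaf (57, 171)) (.leaf (0, 0)))) (.node (.node (.leaf (2, 157)) (.leaf (0, 0))) (.node (.leaf (25, 220)) (.leaf (59, 920))))) (.node (.node (.node (.leaf (2, 93)) (.leaf (59, 976))) (.node (.leaf (0, 0)) (.leaf (57, 865)))) (.node (.node (.leaf (55, 521)) (.leaf (54, 343))) (.node (.leaf (0, 0)) (.leaf (52, 703)))))) (.node (.node (.node (.node (.leaf (0, 0)) (.leaf (2, 573))) (.node (.leaf (0, 0)) (.leaf (57, 489)))) (.node (.node (.leaf (2, 189)) (.leaf (58, 545))) (.node (.leaf (0, 0)) (.leaf (2, 957))))) (.node (.node (.node (.leaf (2, 125)) (.leaf (2, 637))) (.node (.leaf (58, 417)) (.leaf (59, 1011)))) (.node (.node (.leaf (2, 253)) (.leaf (2, 765))) (.node (.leaf (32, 236)) (.leaf (2, 1021)))))))))) (.node (.node (.node (.node (.node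 (.node (.node (.node (.node (.leaf (2, 3)) (.leaf (14, 1009))) (.leaf (2, 515))) (.node (.leaf (0, 0)) (.leaf (59, 907)))) (.node (.node (.leaf (0, 0)) (.leaf (0, 0))) (.node (.leaf (29, 637)) (.leaf (54, 892))))) (.node (.node (.node (.leaf (0, 0)) (.leaf (0, 0))) (.node (.leaf (2, 323)) (.leaf (59, 893)))) (.node (.node (.leaf (0, 0)) (.leaf (57, 997))) (.node (.leaf (2, 451)) (.leaf (2, 963)))))) (.node (.node (.node (.node (.leaf (0, 0)) (.leaf (0, 0))) (.node (.leaf (2, 291)) (.leaf (54, 405)))) (.node (.node (.leaf (0, 0)) (.leaf (0, 0))) (.node (.leaf (2, 419)) (.leaf (32, 444))))) (.node (.node (.node (.leaf (0, 0)) (.leaf (58, 582))) (.node (.leaf (0, 0)) (.leaf (2, 867)))) (.node (.node (.leaf (2, 227)) (.leaf (42, 484))) (.node (.leaf (2, 483)) (.leaf (54, 946))))))) (.node (.node (.node (.node (.node (.leaf (0, 0)) (.leaf (57, 564))) (.node (.leaf (59, 224)) (.leaf (2, 787)))) (.node (.node (.leaf (2, 147)) (.leaf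 (46, 93))) (.node (.leaf (59, 812)) (.leaf (56, 912))))) (.node (.node (.node (.leaf (2, 83)) (.leaf (0, 0))) (.node (.leaf (0, 0)) (.leaf (2, 851)))) (.node (.node (.leaf (2, 211)) (.leaf (2, 723))) (.node (.leaf (2, 467)) (.leaf (2, 979)))))) (.node (.node (.node (.node (.leaf (2, 51)) (.leaf (2, 563))) (.node (.leaf (2, 307)) (.leaf (2, 819)))) (.node (.node (.leaf (29, 327)) (.leaf (58, 583))) (.node (.leaf (2, 435)) (.leaf (59, 965))))) (.node (.node (.node (.leaf (2, 115)) (.leaf (59, 640))) (.node (.leaf (59, 491)) (.leaf (2, 883)))) (.node (.node (.leaf (0, 0)) (.leaf (59, 746))) (.node (.leaf (2, 499)) (.leaf (54, 800)))))))) (.node (.node (.node (.node (.node (.node (.node (.leaf (0, 0)) (.leaf (46, 160))) (.leaf (2, 523))) (.node (.leaf (2, 267)) (.leaf (0, 0)))) (.node (.node (.leaf (2, 139)) (.leaf (0, 0))) (.node (.leaf (2, 395)) (.leaf (57, 852))))) (.node (.node (.node (.leaf (0, 0)) (.leaf (59, 670))) (.node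 (.leaf (27, 547)) (.leaf (59, 1015)))) (.node (.node (.leaf (0, 0)) (.leaf (2, 715))) (.node (.leaf (2, 459)) (.leaf (57, 984)))))) (.node (.node (.node (.node (.leaf (0, 0)) (.leaf (58, 196))) (.node (.leaf (2, 299)) (.leaf (28, 782)))) (.node (.node (.leaf (2, 171)) (.leaf (2, 683))) (.node (.leaf (59, 898)) (.leaf (2, 939))))) (.node (.node (.node (.leaf (0, 0)) (.leaf (2, 619))) (.node (.leaf (2, 363)) (.leaf (32, 212)))) (.node (.node (.leaf (0, 0)) (.leaf (32, 384))) (.node (.leaf (55, 465)) (.leaf (57, 938))))))) (.node (.node (.node (.node (.node (.leaf (2, 27)) (.leaf (2, 539))) (.node (.leaf (2, 283)) (.leaf (59, 1014)))) (.node (.node (.leaf (0, 0)) (.leaf (2, 667))) (.node (.leaf (2, 411)) (.leaf (54, 234))))) (.node (.node (.node (.leaf (2, 91)) (.leaf (2, 603))) (.node (.leaf (0, 0)) (.leaf (57, 893)))) (.node (.node (.leaf (0, 0)) (.leaf (2, 731))) (.node (.leaf (2, 475)) (.leaf (54, 804)))))) (.node (.node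 (.node (.node (.leaf (0, 0)) (.leaf (2, 571))) (.node (.leaf (0, 0)) (.leaf (2, 827)))) (.node (.node (.leaf (0, 0)) (.leaf (57, 198))) (.node (.leaf (42, 228)) (.leaf (2, 955))))) (.node (.node (.node (.leaf (59, 503)) (.leaf (55, 183))) (.node (.leaf (2, 379)) (.leaf (2, 891)))) (.node (.node (.leaf (0, 0)) (.leaf (24, 765))) (.node (.leaf (58, 352)) (.leaf (54, 143))))))))) (.node (.node (.node (.node (.node (.node (.node (.node (.leaf (0, 0)) (.leaf (30, 289))) (.leaf (58, 720))) (.node (.leaf (0, 0)) (.leaf (0, 0)))) (.node (.node (.leaf (0, 0)) (.leaf (0, 0))) (.node (.leaf (59, 372)) (.leaf (58, 429))))) (.node (.node (.node (.leaf (0, 0)) (.leaf (0, 0))) (.node (.leaf (58, 833)) (.leaf (2, 839)))) (.node (.node (.leaf (0, 0)) (.leaf (58, 740))) (.node (.leaf (2, 455)) (.leaf (57, 971)))))) (.node (.node (.node (.node (.leaf (2, 39)) (.leaf (0, 0))) (.node (.leaf (2, 295)) (.leaf (59, 908)))) (.node (.node (.leaf (0,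 0)) (.leaf (0, 0))) (.node (.leaf (0, 0)) (.leaf (2, 935))))) (.node (.node (.node (.leaf (2, 103)) (.leaf (55, 201))) (.node (.leaf (2, 359)) (.leaf (57, 778)))) (.node (.node (.leaf (0, 0)) (.leaf (59, 738))) (.node (.leaf (55, 361)) (.leaf (56, 685))))))) (.node (.node (.node (.node (.node (.leaf (0, 0)) (.leaf (29, 774))) (.node (.leaf (0, 0)) (.leaf (0, 0)))) (.node (.node (.leaf (0, 0)) (.leaf (2, 663))) (.node (.leaf (58, 762)) (.leaf (59, 865))))) (.node (.node (.node (.leaf (0, 0)) (.leaf (0, 0))) (.node (.leaf (0, 0)) (.leaf (57, 469)))) (.node (.node (.leaf (24, 397)) (.leaf (58, 607))) (.node (.leaf (0, 0)) (.leaf (29, 459)))))) (.node (.node (.node (.node (.leaf (0, 0)) (.leaf (58, 151))) (.node (.leaf (0, 0)) (.leaf (2, 823)))) (.node (.node (.leaf (2, 183)) (.leaf (2, 695))) (.node (.leaf (54, 435)) (.leaf (2, 951))))) (.node (.node (.node (.leaf (58, 372)) (.leaf (59, 627))) (.node (.leaf (59, 860)) (.leaf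 (59, 900)))) (.node (.node (.leaf (2, 247)) (.leaf (0, 0))) (.node (.leaf (57, 801)) (.leaf (2, 1015)))))))) (.node (.node (.node (.node (.node (.node (.leaf (0, 0)) (.leaf (2, 527))) (.node (.leaf (58, 600)) (.leaf (41, 694)))) (.node (.node (.leaf (0, 0)) (.leaf (57, 217))) (.node (.leaf (0, 0)) (.leaf (56, 827))))) (.node (.node (.node (.leaf (0, 0)) (.leaf (57, 257))) (.node (.leaf (2, 335)) (.leaf (54, 484)))) (.node (.node (.leaf (0, 0)) (.leaf (2, 719))) (.node (.leaf (52, 231)) (.leaf (2, 975)))))) (.node (.node (.node (.node (.leaf (0, 0)) (.leaf (2, 559))) (.node (.leaf (2, 303)) (.leaf (29, 663)))) (.node (.node (.leaf (58, 271)) (.leaf (58, 665))) (.node (.leaf (0, 0)) (.leaf (0, 0))))) (.node (.node (.node (.leaf (0, 0)) (.leaf (24, 599))) (.node (.leaf (58, 443)) (.leaf (2, 879)))) (.node (.node (.leaf (24, 340)) (.leaf (0, 0))) (.node (.leaf (2, 495)) (.leaf (2, 1007))))))) (.node (.node (.node (.node (.node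 (.leaf (0, 0)) (.leaf (0, 0))) (.node (.leaf (26, 520)) (.leaf (2, 799)))) (.node (.node (.leaf (2, 159)) (.leaf (38, 806))) (.node (.leaf (0, 0)) (.leaf (2, 1006))))) (.node (.node (.node (.leaf (0, 0)) (.leaf (57, 600))) (.node (.leaf (0, 0)) (.leaf (58, 363)))) (.node (.node (.leaf (0, 0)) (.leaf (2, 735))) (.node (.leaf (2, 479)) (.leaf (2, 991)))))) (.node (.node (.node (.node (.leaf (2, 63)) (.leaf (57, 724))) (.node (.leaf (0, 0)) (.leaf (2, 831)))) (.node (.node (.leaf (57, 528)) (.leaf (57, 968))) (.node (.leaf (58, 312)) (.leaf (57, 942))))) (.node (.node (.node (.leaf (2, 127)) (.leaf (58, 234))) (.node (.leaf (58, 451)) (.leaf (59, 916)))) (.node (.node (.leaf (0, 0)) (.leaf (2, 767))) (.node (.leaf (58, 333)) (.leaf (59, 926)))))))))))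

def twoVia7 : Janko.Tree (ℕ × ℕ) :=
  (.node (.node (.node (.node (.node (.node (.node (.node (.node (.node (.leaf (0, 0)) (.leaf (7, 131))) (.leaf (3, 513))) (.node (.leaf (50, 489)) (.leaf (0, 0)))) (.node (.node (.leaf (57, 477)) (.leaf (3, 641))) (.node (.leaf (3, 385)) (.leaf (21, 843))))) (.node (.node (.node (.leaf (0, 0)) (.leaf (0, 0))) (.node (.leaf (3, 321)) (.leaf (0, 0)))) (.node (.node (.leaf (0, 0)) (.leaf (58, 683))) (.node (.leaf (58, 788)) (.leaf (59, 940)))))) (.node (.node (.node (.node (.leaf (0, 0)) (.leaf (0, 0))) (.node (.leaf (0, 0)) (.leaf (3, 801)))) (.node (.node (.leaf (0, 0)) (.leaf (52, 758))) (.node (.leaf (3, 417)) (.leaf (57, 920))))) (.node (.node (.node (.leaf (0, 0)) (.leaf (3, 609))) (.node (.leaf (3, 353)) (.leaf (59, 1018)))) (.node (.node (.leaf (3, 225)) (.leaf (3, 737))) (.node (.leaf (0, 0)) (.leaf (57, 685))))))) (.node (.node (.node (.node (.node (.leaf (0, 0)) (.leaf (3, 529)))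 (.node (.leaf (0, 0)) (.leaf (32, 810)))) (.node (.node (.leaf (0, 0)) (.leaf (3, 657))) (.node (.leaf (59, 809)) (.leaf (59, 501))))) (.node (.node (.node (.leaf (0, 0)) (.leaf (57, 635))) (.node (.leaf (0, 0)) (.leaf (59, 911)))) (.node (.node (.leaf (3, 209)) (.leaf (3, 721))) (.node (.leaf (32, 833)) (.leaf (59, 1005)))))) (.node (.node (.node (.node (.leaf (3, 49)) (.leaf (3, 561))) (.node (.leaf (0, 0)) (.leaf (32, 405)))) (.node (.node (.leaf (3, 177)) (.leaf (59, 539))) (.node (.leaf (58, 101)) (.leaf (57, 962))))) (.node (.node (.node (.leaf (3, 113)) (.leaf (0, 0))) (.node (.leaf (0, 0)) (.leaf (3, 881)))) (.node (.node (.leaf (3, 241)) (.leaf (57, 729))) (.node (.leaf (3, 497)) (.leaf (53, 839)))))))) (.node (.node (.node (.node (.node (.node (.node (.leaf (0, 0)) (.leaf (39, 133))) (.leaf (0, 0))) (.node (.leaf (3, 265)) (.leaf (28, 673)))) (.node (.node (.leaf (0, 0)) (.leaf (58, 207))) (.node (.leaf (0, 0))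 (.leaf (58, 877))))) (.node (.node (.node (.leaf (3, 73)) (.leaf (3, 585))) (.node (.leaf (57, 425)) (.leaf (3, 841)))) (.node (.node (.leaf (3, 201)) (.leaf (0, 0))) (.node (.leaf (0, 0)) (.leaf (3, 969)))))) (.node (.node (.node (.node (.leaf (0, 0)) (.leaf (3, 553))) (.node (.leaf (0, 0)) (.leaf (58, 1014)))) (.node (.node (.leaf (3, 169)) (.leaf (3, 681))) (.node (.leaf (0, 0)) (.leaf (3, 937))))) (.node (.node (.node (.leaf (0, 0)) (.leaf (3, 617))) (.node (.leaf (46, 383)) (.leaf (3, 873)))) (.node (.node (.leaf (0, 0)) (.leaf (3, 745))) (.node (.leaf (57, 332)) (.leaf (3, 1001))))))) (.node (.node (.node (.node (.node (.leaf (0, 0)) (.leaf (3, 537))) (.node (.leaf (59, 698)) (.leaf (0, 0)))) (.node (.node (.leaf (0, 0)) (.leaf (59, 651))) (.node (.leaf (0, 0)) (.leaf (3, 921))))) (.node (.node (.node (.leaf (0, 0)) (.leaf (3, 601))) (.node (.leaf (0, 0)) (.leaf (3, 857)))) (.node (.node (.leaf (0, 0)) (.leaf (58, 164)))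 (.node (.leaf (0, 0)) (.leaf (59, 638)))))) (.node (.node (.node (.node (.leaf (0, 0)) (.leaf (3, 569))) (.node (.leaf (0, 0)) (.leaf (3, 825)))) (.node (.node (.leaf (52, 391)) (.leaf (58, 1002))) (.node (.leaf (47, 503)) (.leaf (3, 953))))) (.node (.node (.node (.leaf (3, 121)) (.leaf (30, 589))) (.node (.leaf (58, 831)) (.leaf (0, 0)))) (.node (.node (.leaf (0, 0)) (.leaf (3, 761))) (.node (.leaf (3, 505)) (.leaf (59, 874))))))))) (.node (.node (.node (.node (.node (.node (.node (.node (.leaf (0, 0)) (.leaf (23, 889))) (.leaf (57, 286))) (.node (.leaf (0, 0)) (.leaf (58, 900)))) (.node (.node (.leaf (0, 0)) (.leaf (3, 645))) (.node (.leaf (29, 363)) (.leaf (3, 901))))) (.node (.node (.node (.leaf (0, 0)) (.leaf (0, 0))) (.node (.leaf (0, 0)) (.leaf (0, 0)))) (.node (.node (.leaf (29, 562)) (.leaf (57, 580))) (.node (.leaf (59, 352)) (.leaf (59, 703)))))) (.node (.node (.node (.node (.leaf (3, 37)) (.leaf (59, 962))) (.node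 (.leaf (3, 293)) (.leaf (53, 541)))) (.node (.node (.leaf (0, 0)) (.leaf (47, 647))) (.node (.leaf (0, 0)) (.leaf (58, 676))))) (.node (.node (.node (.leaf (0, 0)) (.leaf (59, 244))) (.node (.leaf (3, 357)) (.leaf (59, 803)))) (.node (.node (.leaf (3, 229)) (.leaf (3, 741))) (.node (.leaf (3, 485)) (.leaf (58, 949))))))) (.node (.node (.node (.node (.node (.leaf (0, 0)) (.leaf (58, 659))) (.node (.leaf (0, 0)) (.leaf (0, 0)))) (.node (.node (.leaf (0, 0)) (.leaf (53, 939))) (.node (.leaf (57, 444)) (.leaf (3, 917))))) (.node (.node (.node (.leaf (0, 0)) (.leaf (59, 736))) (.node (.leaf (57, 8)) (.leaf (57, 1009)))) (.node (.node (.leaf (3, 213)) (.leaf (57, 726))) (.node (.leaf (0, 0)) (.leaf (59, 983)))))) (.node (.node (.node (.node (.leaf (0, 0)) (.leaf (3, 565))) (.node (.leaf (0, 0)) (.leaf (59, 417)))) (.node (.node (.leaf (59, 625)) (.leaf (3, 693))) (.node (.leaf (57, 777)) (.leaf (59, 569))))) (.node (.node (.node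 (.leaf (0, 0)) (.leaf (0, 0))) (.node (.leaf (3, 373)) (.leaf (3, 885)))) (.node (.node (.leaf (3, 245)) (.leaf (0, 0))) (.node (.leaf (3, 501)) (.leaf (59, 917)))))))) (.node (.node (.node (.node (.node (.node (.node (.leaf (3, 13)) (.leaf (55, 934))) (.leaf (3, 525))) (.node (.leaf (30, 506)) (.leaf (3, 781)))) (.node (.node (.leaf (0, 0)) (.leaf (57, 603))) (.node (.leaf (3, 397)) (.leaf (59, 1021))))) (.node (.node (.node (.leaf (0, 0)) (.leaf (3, 589))) (.node (.leaf (3, 333)) (.leaf (57, 394)))) (.node (.node (.leaf (0, 0)) (.leaf (3, 717))) (.node (.leaf (0, 0)) (.leaf (53, 945)))))) (.node (.node (.node (.node (.leaf (0, 0)) (.leaf (59, 679))) (.node (.leaf (0, 0)) (.leaf (58, 1019)))) (.node (.node (.leaf (0, 0)) (.leaf (24, 798))) (.node (.leaf (38, 328)) (.leaf (3, 941))))) (.node (.node (.node (.leaf (0, 0)) (.leaf (0, 0))) (.node (.leaf (0, 0)) (.leaf (59, 434)))) (.node (.node (.leaf (3, 237)) (.leaf (58, 986)))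 (.node (.leaf (3, 493)) (.leaf (3, 1005))))))) (.node (.node (.node (.node (.node (.leaf (0, 0)) (.leaf (3, 541))) (.node (.leaf (0, 0)) (.leaf (0, 0)))) (.node (.node (.leaf (0, 0)) (.leaf (0, 0))) (.node (.leaf (3, 413)) (.leaf (3, 925))))) (.node (.node (.node (.leaf (0, 0)) (.leaf (3, 605))) (.node (.leaf (0, 0)) (.leaf (3, 861)))) (.node (.node (.leaf (0, 0)) (.leaf (58, 712))) (.node (.leaf (41, 257)) (.leaf (3, 989)))))) (.node (.node (.node (.node (.leaf (3, 61)) (.leaf (0, 0))) (.node (.leaf (59, 769)) (.leaf (3, 829)))) (.node (.node (.leaf (0, 0)) (.leaf (55, 71))) (.node (.leaf (3, 445)) (.leaf (58, 232))))) (.node (.node (.node (.leaf (57, 496)) (.leaf (58, 235))) (.node (.leaf (52, 628)) (.leaf (3, 893)))) (.node (.node (.leaf (0, 0)) (.leaf (57, 774))) (.node (.leaf (3, 509)) (.leaf (27, 974)))))))))) (.node (.node (.node (.node (.node (.node (.node (.node (.node (.leaf (0, 0)) (.leaf (10, 0))) (.leaf (59,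 929))) (.node (.leaf (59, 621)) (.leaf (3, 771)))) (.node (.node (.leaf (3, 131)) (.leaf (53, 857))) (.node (.leaf (57, 454)) (.leaf (0, 0))))) (.node (.node (.node (.leaf (0, 0)) (.leaf (59, 713))) (.node (.leaf (0, 0)) (.leaf (3, 835)))) (.node (.node (.leaf (55, 502)) (.leaf (3, 707))) (.node (.leaf (53, 878)) (.leaf (58, 951)))))) (.node (.node (.node (.node (.leaf (0, 0)) (.leaf (0, 0))) (.node (.leaf (3, 291)) (.leaf (0, 0)))) (.node (.node (.leaf (0, 0)) (.leaf (0, 0))) (.node (.leaf (59, 791)) (.leaf (3, 931))))) (.node (.node (.node (.leaf (3, 99)) (.leaf (3, 611))) (.node (.leaf (3, 355)) (.leaf (55, 696)))) (.node (.node (.leaf (59, 572)) (.leaf (0, 0))) (.node (.leaf (58, 915)) (.leaf (58, 731))))))) (.node (.node (.node (.node (.node (.leaf (3, 19)) (.leaf (0, 0))) (.node (.leaf (59, 575)) (.leaf (59, 423)))) (.node (.node (.leaf (0, 0)) (.leaf (0, 0))) (.node (.leaf (3, 403)) (.leaf (58, 834))))) (.node (.node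 (.node (.leaf (25, 9)) (.leaf (0, 0))) (.node (.leaf (53, 296)) (.leaf (0, 0)))) (.node (.node (.leaf (0, 0)) (.leaf (59, 274))) (.node (.leaf (53, 233)) (.leaf (57, 982)))))) (.node (.node (.node (.node (.leaf (0, 0)) (.leaf (58, 658))) (.node (.leaf (0, 0)) (.leaf (57, 915)))) (.node (.node (.leaf (3, 179)) (.leaf (57, 681))) (.node (.leaf (30, 699)) (.leaf (3, 947))))) (.node (.node (.node (.leaf (0, 0)) (.leaf (3, 627))) (.node (.leaf (3, 371)) (.leaf (59, 432)))) (.node (.node (.leaf (0, 0)) (.leaf (59, 964))) (.node (.leaf (57, 492)) (.leaf (58, 789)))))))) (.node (.node (.node (.node (.node (.node (.node (.leaf (0, 0)) (.leaf (47, 510))) (.leaf (59, 666))) (.node (.leaf (52, 510)) (.leaf (3, 779)))) (.node (.node (.leaf (25, 18)) (.leaf (53, 246))) (.node (.leaf (0, 0)) (.leaf (59, 892))))) (.node (.node (.node (.leaf (3, 75)) (.leaf (3, 587))) (.node (.leaf (57, 420)) (.leaf (3, 843)))) (.node (.node (.leaf (3, 203))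 (.leaf (59, 739))) (.node (.leaf (0, 0)) (.leaf (53, 222)))))) (.node (.node (.node (.node (.leaf (0, 0)) (.leaf (3, 555))) (.node (.leaf (0, 0)) (.leaf (3, 811)))) (.node (.node (.leaf (0, 0)) (.leaf (59, 537))) (.node (.leaf (58, 419)) (.leaf (57, 731))))) (.node (.node (.node (.leaf (0, 0)) (.leaf (59, 623))) (.node (.leaf (0, 0)) (.leaf (3, 875)))) (.node (.node (.leaf (0, 0)) (.leaf (3, 747))) (.node (.leaf (0, 0)) (.leaf (3, 1003))))))) (.node (.node (.node (.node (.node (.leaf (0, 0)) (.leaf (0, 0))) (.node (.leaf (57, 285)) (.leaf (3, 795)))) (.node (.node (.leaf (3, 155)) (.leaf (0, 0))) (.node (.leaf (0, 0)) (.leaf (59, 512))))) (.node (.node (.node (.leaf (0, 0)) (.leaf (57, 666))) (.node (.leaf (0, 0)) (.leaf (58, 851)))) (.node (.node (.leaf (0, 0)) (.leaf (59, 543))) (.node (.leaf (59, 343)) (.leaf (3, 987)))))) (.node (.node (.node (.node (.leaf (0, 0)) (.leaf (58, 655))) (.node (.leaf (57, 295)) (.leaf (59,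 451)))) (.node (.node (.leaf (55, 85)) (.leaf (0, 0))) (.node (.leaf (0, 0)) (.leaf (59, 571))))) (.node (.node (.node (.leaf (3, 123)) (.leaf (0, 0))) (.node (.leaf (0, 0)) (.leaf (29, 788)))) (.node (.node (.leaf (0, 0)) (.leaf (3, 763))) (.node (.leaf (52, 49)) (.leaf (59, 811))))))))) (.node (.node (.node (.node (.node (.node (.node (.node (.leaf (3, 7)) (.leaf (31, 261))) (.leaf (3, 519))) (.node (.leaf (3, 263)) (.leaf (0, 0)))) (.node (.node (.leaf (25, 132)) (.leaf (3, 647))) (.node (.leaf (3, 391)) (.leaf (3, 903))))) (.node (.node (.node (.leaf (3, 71)) (.leaf (59, 978))) (.node (.leaf (53, 295)) (.leaf (59, 914)))) (.node (.node (.leaf (3, 199)) (.leaf (3, 711))) (.node (.leaf (0, 0)) (.leaf (3, 967)))))) (.node (.node (.node (.node (.leaf (0, 0)) (.leaf (3, 551))) (.node (.leaf (0, 0)) (.leaf (3, 807)))) (.node (.node (.leaf (3, 167)) (.leaf (3, 679))) (.node (.leaf (0, 0)) (.leaf (59, 545))))) (.node (.node (.node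 (.leaf (0, 0)) (.leaf (55, 118))) (.node (.leaf (59, 456)) (.leaf (48, 610)))) (.node (.node (.leaf (3, 231)) (.leaf (55, 505))) (.node (.leaf (57, 110)) (.leaf (58, 685))))))) (.node (.node (.node (.node (.node (.leaf (25, 157)) (.leaf (3, 535))) (.node (.leaf (3, 279)) (.leaf (0, 0)))) (.node (.node (.leaf (0, 0)) (.leaf (57, 524))) (.node (.leaf (58, 759)) (.leaf (3, 919))))) (.node (.node (.node (.leaf (3, 87)) (.leaf (3, 599))) (.node (.leaf (3, 343)) (.leaf (0, 0)))) (.node (.node (.leaf (3, 215)) (.leaf (3, 727))) (.node (.leaf (0, 0)) (.leaf (3, 983)))))) (.node (.node (.node (.node (.leaf (3, 55)) (.leaf (3, 567))) (.node (.leaf (0, 0)) (.leaf (30, 634)))) (.node (.node (.leaf (57, 278)) (.leaf (0, 0))) (.node (.leaf (0, 0)) (.leaf (57, 952))))) (.node (.node (.node (.leaf (0, 0)) (.leaf (59, 981))) (.node (.leaf (3, 375)) (.leaf (3, 887)))) (.node (.node (.leaf (59, 586)) (.leaf (59, 1010))) (.node (.leaf (58, 913))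 (.leaf (57, 873)))))))) (.node (.node (.node (.node (.node (.node (.leaf (0, 0)) (.leaf (57, 572))) (.node (.leaf (57, 597)) (.leaf (3, 783)))) (.node (.node (.leaf (3, 143)) (.leaf (0, 0))) (.node (.leaf (0, 0)) (.leaf (48, 686))))) (.node (.node (.node (.leaf (25, 76)) (.leaf (3, 591))) (.node (.leaf (0, 0)) (.leaf (53, 891)))) (.node (.node (.leaf (3, 207)) (.leaf (57, 629))) (.node (.leaf (53, 372)) (.leaf (59, 628)))))) (.node (.node (.node (.node (.leaf (3, 47)) (.leaf (57, 560))) (.node (.leaf (0, 0)) (.leaf (3, 815)))) (.node (.node (.leaf (0, 0)) (.leaf (3, 687))) (.node (.leaf (0, 0)) (.leaf (0, 0))))) (.node (.node (.node (.leaf (3, 111)) (.leaf (59, 743))) (.node (.leaf (55, 280)) (.leaf (24, 944)))) (.node (.node (.leaf (3, 239)) (.leaf (57, 638))) (.node (.leaf (59, 511)) (.leaf (57, 951))))))) (.node (.node (.node (.node (.node (.leaf (3, 31)) (.leaf (3, 543))) (.node (.leaf (3, 287)) (.leaf (57, 898)))) (.node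 (.node (.leaf (0, 0)) (.leaf (0, 0))) (.node (.leaf (0, 0)) (.leaf (3, 927))))) (.node (.node (.node (.leaf (0, 0)) (.leaf (59, 600))) (.node (.leaf (3, 351)) (.leaf (3, 863)))) (.node (.node (.leaf (3, 223)) (.leaf (46, 743))) (.node (.leaf (0, 0)) (.leaf (57, 964)))))) (.node (.node (.node (.node (.leaf (0, 0)) (.leaf (58, 965))) (.node (.leaf (3, 319)) (.leaf (0, 0)))) (.node (.node (.leaf (3, 191)) (.leaf (3, 703))) (.node (.leaf (52, 346)) (.leaf (59, 942))))) (.node (.node (.node (.leaf (57, 379)) (.leaf (58, 979))) (.node (.leaf (53, 374)) (.leaf (3, 895)))) (.node (.node (.leaf (0, 0)) (.leaf (57, 806))) (.node (.leaf (55, 281)) (.leaf (57, 846)))))))))))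

def twoVia : Janko.Tree (ℕ × ℕ) := (.node (.node (.node twoVia0 twoVia4) (.node twoVia2 twoVia6)) (.node (.node twoVia1 twoVia5) (.node twoVia3 twoVia7)))

def twoOrd0 : Janko.Tree (ℕ) :=
  (.node (.node (.node (.node (.node (.node (.node (.leaf 45) (.leaf 584)) (.node (.leaf 440) (.leaf 815))) (.node (.node (.leaf 486) (.leaf 403)) (.node (.leaf 923) (.leaf 533)))) (.node (.node (.node (.leaf 864) (.leaf 713)) (.node (.leaf 917) (.leaf 918))) (.node (.node (.leaf 195) (.leaf 157)) (.node (.leaf 242) (.leaf 673))))) (.node (.node (.node (.node (.leaf 875) (.leaf 417)) (.node (.leaf 350) (.leaf 744))) (.node (.node (.leaf 768) (.leaf 553)) (.node (.leaf 3) (.leaf 563)))) (.node (.node (.node (.leaf 167) (.leaf 844)) (.node (.leaf 977) (.leaf 997))) (.node (.node (.leaf 1005) (.leaf 690)) (.node (.leaf 429) (.leaf 324)))))) (.node (.node (.node (.node (.node (.leaf 309) (.leaf 346)) (.node (.leaf 946) (.leaf 1006))) (.node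 (.node (.leaf 919) (.leaf 348)) (.node (.leaf 700) (.leaf 388)))) (.node (.node (.node (.leaf 932) (.leaf 283)) (.node (.leaf 693) (.leaf 985))) (.node (.node (.leaf 530) (.leaf 647)) (.node (.leaf 469) (.leaf 151))))) (.node (.node (.node (.node (.leaf 245) (.leaf 225)) (.node (.leaf 912) (.leaf 143))) (.node (.node (.leaf 866) (.leaf 803)) (.node (.leaf 1021) (.leaf 313)))) (.node (.node (.node (.leaf 162) (.leaf 385)) (.node (.leaf 320) (.leaf 524))) (.node (.node (.leaf 754) (.leaf 978)) (.node (.leaf 729) (.leaf 172))))))) (.node (.node (.node (.node (.node (.node (.leaf 644) (.leaf 703)) (.node (.leaf 133) (.leaf 293))) (.node (.node (.leaf 367) (.leaf 138)) (.node (.leaf 559) (.leaf 607)))) (.node (.node (.node (.leaf 472) (.leaf 543)) (.node (.leaf 634) (.leaf 500))) (.node (.node (.leaf 974) (.leaf 517)) (.node (.leaf 44) (.leaf 382))))) (.node (.node (.node (.node (.leaf 785) (.leaf 630)) (.node (.leaf 113) (.leaf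 158))) (.node (.node (.leaf 119) (.leaf 582)) (.node (.leaf 456) (.leaf 874)))) (.node (.node (.node (.leaf 1022) (.leaf 211)) (.node (.leaf 741) (.leaf 504))) (.node (.node (.leaf 485) (.leaf 676)) (.node (.leaf 800) (.leaf 192)))))) (.node (.node (.node (.node (.node (.leaf 832) (.leaf 837)) (.node (.leaf 757) (.leaf 189))) (.node (.node (.leaf 939) (.leaf 153)) (.node (.leaf 980) (.leaf 805)))) (.node (.node (.node (.leaf 781) (.leaf 239)) (.node (.leaf 290) (.leaf 755))) (.node (.node (.leaf 271) (.leaf 528)) (.node (.leaf 984) (.leaf 820))))) (.node (.node (.node (.node (.leaf 850) (.leaf 85)) (.node (.leaf 601) (.leaf 518))) (.node (.node (.leaf 681) (.leaf 973)) (.node (.leaf 927) (.leaf 74)))) (.node (.node (.node (.leaf 396) (.leaf 90)) (.node (.leaf 626) (.leaf 33))) (.node (.node (.leaf 467) (.leaf 540)) (.node (.leaf 481) (.leaf 967))))))))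

def twoOrd1 : Janko.Tree (ℕ) :=
  (.node (.node (.node (.node (.node (.node (.node (.leaf 94) (.leaf 928)) (.node (.leaf 925) (.leaf 537))) (.node (.node (.leaf 695) (.leaf 1002)) (.node (.leaf 323) (.leaf 20)))) (.node (.node (.node (.leaf 11) (.leaf 441)) (.node (.leaf 373) (.leaf 68))) (.node (.node (.leaf 42) (.leaf 930)) (.node (.leaf 868) (.leaf 643))))) (.node (.node (.node (.node (.leaf 54) (.leaf 672)) (.node (.leaf 281) (.leaf 544))) (.node (.node (.leaf 129) (.leaf 448)) (.node (.leaf 571) (.leaf 990)))) (.node (.node (.node (.leaf 827) (.leaf 318)) (.node (.leaf 901) (.leaf 398))) (.node (.node (.leaf 14) (.leaf 652)) (.node (.leaf 916) (.leaf 1023)))))) (.node (.node (.node (.node (.node (.leaf 887) (.leaf 444)) (.node (.leaf 412) (.leaf 266))) (.node (.node (.leaf 62) (.leaf 525)) (.node (.leaf 840) (.leaf 599)))) (.node (.node (.node (.leaf 39) (.leaf 841)) (.node (.leaf 310) (.leaf 489))) (.node (.node (.leaf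 25) (.leaf 842)) (.node (.leaf 339) (.leaf 330))))) (.node (.node (.node (.node (.leaf 577) (.leaf 753)) (.node (.leaf 304) (.leaf 502))) (.node (.node (.leaf 102) (.leaf 670)) (.node (.leaf 168) (.leaf 333)))) (.node (.node (.node (.leaf 845) (.leaf 203)) (.node (.leaf 892) (.leaf 884))) (.node (.node (.leaf 1019) (.leaf 4)) (.node (.leaf 224) (.leaf 911))))))) (.node (.node (.node (.node (.node (.node (.leaf 674) (.leaf 776)) (.node (.leaf 769) (.leaf 402))) (.node (.node (.leaf 708) (.leaf 87)) (.node (.leaf 981) (.leaf 858)))) (.node (.node (.node (.leaf 656) (.leaf 692)) (.node (.leaf 308) (.leaf 734))) (.node (.node (.leaf 261) (.leaf 976)) (.node (.leaf 210) (.leaf 921))))) (.node (.node (.node (.node (.leaf 590) (.leaf 535)) (.node (.leaf 852) (.leaf 902))) (.node (.node (.leaf 317) (.leaf 935)) (.node (.leaf 986) (.leaf 560)))) (.node (.node (.node (.leaf 71) (.leaf 595)) (.node (.leaf 223) (.leaf 774))) (.node (.node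 (.leaf 554) (.leaf 655)) (.node (.leaf 746) (.leaf 572)))))) (.node (.node (.node (.node (.node (.leaf 98) (.leaf 80)) (.node (.leaf 956) (.leaf 740))) (.node (.node (.leaf 61) (.leaf 565)) (.node (.leaf 114) (.leaf 243)))) (.node (.node (.node (.leaf 885) (.leaf 180)) (.node (.leaf 409) (.leaf 532))) (.node (.node (.leaf 305) (.leaf 12)) (.node (.leaf 199) (.leaf 810))))) (.node (.node (.node (.node (.leaf 519) (.leaf 568)) (.node (.leaf 405) (.leaf 326))) (.node (.node (.leaf 110) (.leaf 362)) (.node (.leaf 432) (.leaf 865)))) (.node (.node (.node (.leaf 387) (.leaf 66)) (.node (.leaf 10) (.leaf 187))) (.node (.node (.leaf 301) (.leaf 426)) (.node (.leaf 75) (.leaf 408))))))))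

def twoOrd2 : Janko.Tree (ℕ) :=
  (.node (.node (.node (.node (.node (.node (.node (.leaf 853) (.leaf 43)) (.node (.leaf 597) (.leaf 699))) (.node (.node (.leaf 251) (.leaf 862)) (.node (.leaf 16) (.leaf 334)))) (.node (.node (.node (.leaf 328) (.leaf 175)) (.node (.leaf 124) (.leaf 299))) (.node (.node (.leaf 610) (.leaf 726)) (.node (.leaf 513) (.leaf 130))))) (.node (.node (.node (.node (.leaf 338) (.leaf 691)) (.node (.leaf 272) (.leaf 1013))) (.node (.node (.leaf 512) (.leaf 337)) (.node (.leaf 297) (.leaf 91)))) (.node (.node (.node (.leaf 770) (.leaf 179)) (.node (.leaf 685) (.leaf 627))) (.node (.node (.leaf 824) (.leaf 159)) (.node (.leaf 393) (.leaf 943)))))) (.node (.node (.node (.node (.node (.leaf 547) (.leaf 615)) (.node (.leaf 380) (.leaf 954))) (.node (.node (.leaf 689) (.leaf 38)) (.node (.leaf 254) (.leaf 922)))) (.node (.node (.node (.leaf 645) (.leaf 709)) (.node (.leaf 717) (.leaf 37))) (.node (.node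 (.leaf 51) (.leaf 294)) (.node (.leaf 218) (.leaf 59))))) (.node (.node (.node (.node (.leaf 586) (.leaf 653)) (.node (.leaf 766) (.leaf 331))) (.node (.node (.leaf 46) (.leaf 352)) (.node (.leaf 882) (.leaf 557)))) (.node (.node (.node (.leaf 765) (.leaf 613)) (.node (.leaf 213) (.leaf 353))) (.node (.node (.leaf 107) (.leaf 1016)) (.node (.leaf 460) (.leaf 888))))))) (.node (.node (.node (.node (.node (.node (.leaf 941) (.leaf 237)) (.node (.leaf 72) (.leaf 937))) (.node (.node (.leaf 205) (.leaf 325)) (.node (.leaf 241) (.leaf 809)))) (.node (.node (.node (.leaf 856) (.leaf 183)) (.node (.leaf 431) (.leaf 473))) (.node (.node (.leaf 942) (.leaf 909)) (.node (.leaf 149) (.leaf 340))))) (.node (.node (.node (.node (.leaf 802) (.leaf 883)) (.node (.leaf 376) (.leaf 992))) (.node (.node (.leaf 870) (.leaf 314)) (.node (.leaf 527) (.leaf 82)))) (.node (.node (.node (.leaf 197) (.leaf 303)) (.node (.leaf 455) (.leaf 394))) (.node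 (.node (.leaf 792) (.leaf 111)) (.node (.leaf 541) (.leaf 505)))))) (.node (.node (.node (.node (.node (.leaf 801) (.leaf 1003)) (.node (.leaf 356) (.leaf 666))) (.node (.node (.leaf 311) (.leaf 88)) (.node (.leaf 819) (.leaf 963)))) (.node (.node (.node (.leaf 236) (.leaf 987)) (.node (.leaf 855) (.leaf 556))) (.node (.node (.leaf 982) (.leaf 758)) (.node (.leaf 889) (.leaf 948))))) (.node (.node (.node (.node (.leaf 101) (.leaf 207)) (.node (.leaf 654) (.leaf 248))) (.node (.node (.leaf 414) (.leaf 570)) (.node (.leaf 996) (.leaf 233)))) (.node (.node (.node (.leaf 683) (.leaf 847)) (.node (.leaf 944) (.leaf 933))) (.node (.node (.leaf 21) (.leaf 458)) (.node (.leaf 92) (.leaf 384))))))))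

def twoOrd3 : Janko.Tree (ℕ) :=
  (.node (.node (.node (.node (.node (.node (.node (.leaf 341) (.leaf 19)) (.node (.leaf 391) (.leaf 424))) (.node (.node (.leaf 545) (.leaf 163)) (.node (.leaf 250) (.leaf 58)))) (.node (.node (.node (.leaf 427) (.leaf 926)) (.node (.leaf 598) (.leaf 18))) (.node (.node (.leaf 482) (.leaf 216)) (.node (.leaf 534) (.leaf 450))))) (.node (.node (.node (.node (.leaf 548) (.leaf 435)) (.node (.leaf 79) (.leaf 366))) (.node (.node (.leaf 955) (.leaf 591)) (.node (.leaf 477) (.leaf 520)))) (.node (.node (.node (.leaf 474) (.leaf 287)) (.node (.leaf 116) (.leaf 788))) (.node (.node (.leaf 738) (.leaf 752)) (.node (.leaf 971) (.leaf 0)))))) (.node (.node (.node (.node (.node (.leaf 234) (.leaf 471)) (.node (.leaf 97) (.leaf 823))) (.node (.node (.leaf 193) (.leaf 877)) (.node (.leaf 566) (.leaf 276)))) (.node (.node (.node (.leaf 767) (.leaf 817)) (.node (.leaf 457) (.leaf 558))) (.node (.node (.leaf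 876) (.leaf 104)) (.node (.leaf 756) (.leaf 155))))) (.node (.node (.node (.node (.leaf 633) (.leaf 344)) (.node (.leaf 270) (.leaf 771))) (.node (.node (.leaf 764) (.leaf 354)) (.node (.leaf 497) (.leaf 750)))) (.node (.node (.node (.leaf 278) (.leaf 807)) (.node (.leaf 35) (.leaf 869))) (.node (.node (.leaf 49) (.leaf 148)) (.node (.leaf 235) (.leaf 298))))))) (.node (.node (.node (.node (.node (.node (.leaf 451) (.leaf 640)) (.node (.leaf 475) (.leaf 821))) (.node (.node (.leaf 50) (.leaf 284)) (.node (.leaf 905) (.leaf 219)))) (.node (.node (.node (.leaf 164) (.leaf 830)) (.node (.leaf 484) (.leaf 745))) (.node (.node (.leaf 1018) (.leaf 198)) (.node (.leaf 1012) (.leaf 725))))) (.node (.node (.node (.node (.leaf 228) (.leaf 496)) (.node (.leaf 249) (.leaf 454))) (.node (.node (.leaf 226) (.leaf 920)) (.node (.leaf 816) (.leaf 604)))) (.node (.node (.node (.leaf 413) (.leaf 906)) (.node (.leaf 26) (.leaf 704))) (.node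 (.node (.leaf 588) (.leaf 449)) (.node (.leaf 636) (.leaf 77)))))) (.node (.node (.node (.node (.node (.leaf 428) (.leaf 567)) (.node (.leaf 252) (.leaf 96))) (.node (.node (.leaf 430) (.leaf 374)) (.node (.leaf 36) (.leaf 434)))) (.node (.node (.node (.leaf 209) (.leaf 688)) (.node (.leaf 968) (.leaf 1011))) (.node (.node (.leaf 575) (.leaf 949)) (.node (.leaf 846) (.leaf 206))))) (.node (.node (.node (.node (.leaf 796) (.leaf 975)) (.node (.leaf 345) (.leaf 118))) (.node (.node (.leaf 960) (.leaf 715)) (.node (.leaf 6) (.leaf 442)))) (.node (.node (.node (.leaf 446) (.leaf 964)) (.node (.leaf 360) (.leaf 397))) (.node (.node (.leaf 747) (.leaf 795)) (.node (.leaf 215) (.leaf 619))))))))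

def twoOrd4 : Janko.Tree (ℕ) :=
  (.node (.node (.node (.node (.node (.node (.node (.leaf 712) (.leaf 799)) (.node (.leaf 624) (.leaf 464))) (.node (.node (.leaf 166) (.leaf 761)) (.node (.leaf 970) (.leaf 115)))) (.node (.node (.node (.leaf 579) (.leaf 838)) (.node (.leaf 28) (.leaf 267))) (.node (.node (.leaf 951) (.leaf 433)) (.node (.leaf 629) (.leaf 70))))) (.node (.node (.node (.node (.leaf 531) (.leaf 947)) (.node (.leaf 112) (.leaf 22))) (.node (.node (.leaf 521) (.leaf 452)) (.node (.leaf 694) (.leaf 349)))) (.node (.node (.node (.leaf 141) (.leaf 972)) (.node (.leaf 5) (.leaf 257))) (.node (.node (.leaf 139) (.leaf 395)) (.node (.leaf 623) (.leaf 890)))))) (.node (.node (.node (.node (.node (.leaf 635) (.leaf 724)) (.node (.leaf 204) (.leaf 52))) (.node (.node (.leaf 447) (.leaf 392)) (.node (.leaf 100) (.leaf 705)))) (.node (.node (.node (.leaf 786) (.leaf 539)) (.node (.leaf 370) (.leaf 321))) (.node (.node (.leaf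 733) (.leaf 279)) (.node (.leaf 169) (.leaf 773))))) (.node (.node (.node (.node (.leaf 476) (.leaf 495)) (.node (.leaf 30) (.leaf 710))) (.node (.node (.leaf 999) (.leaf 410)) (.node (.leaf 32) (.leaf 587)))) (.node (.node (.node (.leaf 664) (.leaf 165)) (.node (.leaf 638) (.leaf 515))) (.node (.node (.leaf 389) (.leaf 364)) (.node (.leaf 407) (.leaf 17))))))) (.node (.node (.node (.node (.node (.node (.leaf 379) (.leaf 109)) (.node (.leaf 632) (.leaf 336))) (.node (.node (.leaf 867) (.leaf 117)) (.node (.leaf 648) (.leaf 625)))) (.node (.node (.node (.leaf 616) (.leaf 246)) (.node (.leaf 536) (.leaf 329))) (.node (.node (.leaf 83) (.leaf 125)) (.node (.leaf 499) (.leaf 798))))) (.node (.node (.node (.node (.leaf 516) (.leaf 661)) (.node (.leaf 188) (.leaf 227))) (.node (.node (.leaf 1007) (.leaf 722)) (.node (.leaf 375) (.leaf 182)))) (.node (.node (.node (.leaf 736) (.leaf 488)) (.node (.leaf 69) (.leaf 718))) (.node (.node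 (.leaf 357) (.leaf 957)) (.node (.leaf 701) (.leaf 814)))))) (.node (.node (.node (.node (.node (.leaf 580) (.leaf 47)) (.node (.leaf 622) (.leaf 463))) (.node (.node (.leaf 152) (.leaf 99)) (.node (.leaf 56) (.leaf 73)))) (.node (.node (.node (.leaf 600) (.leaf 479)) (.node (.leaf 220) (.leaf 174))) (.node (.node (.leaf 492) (.leaf 277)) (.node (.leaf 743) (.leaf 958))))) (.node (.node (.node (.node (.leaf 315) (.leaf 128)) (.node (.leaf 418) (.leaf 140))) (.node (.node (.leaf 782) (.leaf 2)) (.node (.leaf 171) (.leaf 779)))) (.node (.node (.node (.leaf 160) (.leaf 727)) (.node (.leaf 836) (.leaf 910))) (.node (.node (.leaf 872) (.leaf 675)) (.node (.leaf 714) (.leaf 605))))))))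

def twoOrd5 : Janko.Tree (ℕ) :=
  (.node (.node (.node (.node (.node (.node (.node (.leaf 994) (.leaf 60)) (.node (.leaf 784) (.leaf 835))) (.node (.node (.leaf 804) (.leaf 196)) (.node (.leaf 132) (.leaf 551)))) (.node (.node (.node (.leaf 147) (.leaf 214)) (.node (.leaf 934) (.leaf 420))) (.node (.node (.leaf 390) (.leaf 550)) (.node (.leaf 651) (.leaf 561))))) (.node (.node (.node (.node (.leaf 716) (.leaf 775)) (.node (.leaf 1010) (.leaf 217))) (.node (.node (.leaf 40) (.leaf 707)) (.node (.leaf 1015) (.leaf 668)))) (.node (.node (.node (.leaf 280) (.leaf 777)) (.node (.leaf 136) (.leaf 13))) (.node (.node (.leaf 57) (.leaf 423)) (.node (.leaf 342) (.leaf 170)))))) (.node (.node (.node (.node (.node (.leaf 783) (.leaf 719)) (.node (.leaf 231) (.leaf 898))) (.node (.node (.leaf 273) (.leaf 983)) (.node (.leaf 748) (.leaf 93)))) (.node (.node (.node (.leaf 386) (.leaf 86)) (.node (.leaf 142) (.leaf 907))) (.node (.node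 (.leaf 677) (.leaf 698)) (.node (.leaf 797) (.leaf 501))))) (.node (.node (.node (.node (.leaf 307) (.leaf 637)) (.node (.leaf 574) (.leaf 156))) (.node (.node (.leaf 404) (.leaf 966)) (.node (.leaf 608) (.leaf 732)))) (.node (.node (.node (.leaf 646) (.leaf 437)) (.node (.leaf 332) (.leaf 244))) (.node (.node (.leaf 679) (.leaf 291)) (.node (.leaf 511) (.leaf 993))))))) (.node (.node (.node (.node (.node (.node (.leaf 411) (.leaf 894)) (.node (.leaf 589) (.leaf 282))) (.node (.node (.leaf 995) (.leaf 936)) (.node (.leaf 358) (.leaf 940)))) (.node (.node (.node (.leaf 763) (.leaf 105)) (.node (.leaf 938) (.leaf 335))) (.node (.node (.leaf 146) (.leaf 522)) (.node (.leaf 53) (.leaf 238))))) (.node (.node (.node (.node (.leaf 893) (.leaf 64)) (.node (.leaf 962) (.leaf 650))) (.node (.node (.leaf 190) (.leaf 144)) (.node (.leaf 538) (.leaf 381)))) (.node (.node (.node (.leaf 849) (.leaf 895)) (.node (.leaf 89) (.leaf 161)))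 (.node (.node (.leaf 904) (.leaf 859)) (.node (.leaf 831) (.leaf 723)))))) (.node (.node (.node (.node (.node (.leaf 564) (.leaf 760)) (.node (.leaf 108) (.leaf 222))) (.node (.node (.leaf 265) (.leaf 641)) (.node (.leaf 899) (.leaf 134)))) (.node (.node (.node (.leaf 663) (.leaf 880)) (.node (.leaf 609) (.leaf 55))) (.node (.node (.leaf 886) (.leaf 813)) (.node (.leaf 15) (.leaf 416))))) (.node (.node (.node (.node (.leaf 1001) (.leaf 860)) (.node (.leaf 461) (.leaf 929))) (.node (.node (.leaf 793) (.leaf 778)) (.node (.leaf 137) (.leaf 176)))) (.node (.node (.node (.leaf 509) (.leaf 562)) (.node (.leaf 1008) (.leaf 839))) (.node (.node (.leaf 697) (.leaf 863)) (.node (.leaf 989) (.leaf 202))))))))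

def twoOrd6 : Janko.Tree (ℕ) :=
  (.node (.node (.node (.node (.node (.node (.node (.leaf 194) (.leaf 686)) (.node (.leaf 34) (.leaf 682))) (.node (.node (.leaf 822) (.leaf 508)) (.node (.leaf 415) (.leaf 751)))) (.node (.node (.node (.leaf 1004) (.leaf 8)) (.node (.leaf 259) (.leaf 592))) (.node (.node (.leaf 1020) (.leaf 826)) (.node (.leaf 878) (.leaf 1017))))) (.node (.node (.node (.node (.leaf 173) (.leaf 642)) (.node (.leaf 742) (.leaf 494))) (.node (.node (.leaf 621) (.leaf 711)) (.node (.leaf 363) (.leaf 1014)))) (.node (.node (.node (.leaf 369) (.leaf 618)) (.node (.leaf 825) (.leaf 529))) (.node (.node (.leaf 263) (.leaf 343)) (.node (.leaf 274) (.leaf 135)))))) (.node (.node (.node (.node (.node (.leaf 212) (.leaf 459)) (.node (.leaf 808) (.leaf 1))) (.node (.node (.leaf 596) (.leaf 122)) (.node (.leaf 443) (.leaf 201)))) (.node (.node (.node (.leaf 950) (.leaf 462)) (.node (.leaf 593) (.leaf 549))) (.node (.node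 (.leaf 470) (.leaf 833)) (.node (.leaf 953) (.leaf 264))))) (.node (.node (.node (.node (.leaf 359) (.leaf 81)) (.node (.leaf 639) (.leaf 371))) (.node (.node (.leaf 606) (.leaf 617)) (.node (.leaf 952) (.leaf 491)))) (.node (.node (.node (.leaf 861) (.leaf 383)) (.node (.leaf 576) (.leaf 602))) (.node (.node (.leaf 569) (.leaf 483)) (.node (.leaf 445) (.leaf 728))))))) (.node (.node (.node (.node (.node (.node (.leaf 780) (.leaf 230)) (.node (.leaf 660) (.leaf 578))) (.node (.node (.leaf 24) (.leaf 834)) (.node (.leaf 123) (.leaf 507)))) (.node (.node (.node (.leaf 669) (.leaf 818)) (.node (.leaf 65) (.leaf 555))) (.node (.node (.leaf 848) (.leaf 400)) (.node (.leaf 480) (.leaf 961))))) (.node (.node (.node (.node (.leaf 552) (.leaf 399)) (.node (.leaf 891) (.leaf 120))) (.node (.node (.leaf 914) (.leaf 772)) (.node (.leaf 186) (.leaf 355)))) (.node (.node (.node (.leaf 667) (.leaf 269)) (.node (.leaf 945) (.leaf 466)))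 (.node (.node (.leaf 523) (.leaf 41)) (.node (.leaf 95) (.leaf 268)))))) (.node (.node (.node (.node (.node (.leaf 680) (.leaf 612)) (.node (.leaf 931) (.leaf 908))) (.node (.node (.leaf 913) (.leaf 702)) (.node (.leaf 687) (.leaf 514)))) (.node (.node (.node (.leaf 490) (.leaf 289)) (.node (.leaf 401) (.leaf 468))) (.node (.node (.leaf 478) (.leaf 857)) (.node (.leaf 322) (.leaf 256))))) (.node (.node (.node (.node (.leaf 737) (.leaf 48)) (.node (.leaf 721) (.leaf 422))) (.node (.node (.leaf 258) (.leaf 296)) (.node (.leaf 583) (.leaf 959)))) (.node (.node (.node (.leaf 200) (.leaf 789)) (.node (.leaf 1009) (.leaf 739))) (.node (.node (.leaf 365) (.leaf 255)) (.node (.leaf 879) (.leaf 347))))))))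

def twoOrd7 : Janko.Tree (ℕ) :=
  (.node (.node (.node (.node (.node (.node (.node (.leaf 924) (.leaf 300)) (.node (.leaf 965) (.leaf 253))) (.node (.node (.leaf 829) (.leaf 260)) (.node (.leaf 628) (.leaf 900)))) (.node (.node (.node (.leaf 262) (.leaf 649)) (.node (.leaf 854) (.leaf 998))) (.node (.node (.leaf 438) (.leaf 316)) (.node (.leaf 63) (.leaf 84))))) (.node (.node (.node (.node (.leaf 503) (.leaf 487)) (.node (.leaf 991) (.leaf 302))) (.node (.node (.leaf 812) (.leaf 312)) (.node (.leaf 988) (.leaf 361)))) (.node (.node (.node (.leaf 696) (.leaf 29)) (.node (.leaf 23) (.leaf 851))) (.node (.node (.leaf 421) (.leaf 506)) (.node (.leaf 27) (.leaf 735)))))) (.node (.node (.node (.node (.node (.leaf 493) (.leaf 706)) (.node (.leaf 178) (.leaf 67))) (.node (.node (.leaf 406) (.leaf 662)) (.node (.leaf 419) (.leaf 759)))) (.node (.node (.node (.leaf 106) (.leaf 671)) (.node (.leaf 425) (.leaf 498))) (.node (.node (.leaf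 368) (.leaf 185)) (.node (.leaf 295) (.leaf 731))))) (.node (.node (.node (.node (.leaf 903) (.leaf 896)) (.node (.leaf 126) (.leaf 659))) (.node (.node (.leaf 191) (.leaf 614)) (.node (.leaf 319) (.leaf 762)))) (.node (.node (.node (.leaf 103) (.leaf 658)) (.node (.leaf 378) (.leaf 620))) (.node (.node (.leaf 292) (.leaf 678)) (.node (.leaf 603) (.leaf 7))))))) (.node (.node (.node (.node (.node (.node (.leaf 208) (.leaf 439)) (.node (.leaf 787) (.leaf 184))) (.node (.node (.leaf 881) (.leaf 749)) (.node (.leaf 76) (.leaf 436)))) (.node (.node (.node (.leaf 843) (.leaf 828)) (.node (.leaf 631) (.leaf 154))) (.node (.node (.leaf 327) (.leaf 351)) (.node (.leaf 979) (.leaf 145))))) (.node (.node (.node (.node (.leaf 232) (.leaf 286)) (.node (.leaf 221) (.leaf 78))) (.node (.node (.leaf 611) (.leaf 372)) (.node (.leaf 9) (.leaf 665)))) (.node (.node (.node (.leaf 131) (.leaf 573)) (.node (.leaf 871) (.leaf 730))) (.node (.node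 (.leaf 581) (.leaf 873)) (.node (.leaf 453) (.leaf 510)))))) (.node (.node (.node (.node (.node (.leaf 285) (.leaf 288)) (.node (.leaf 791) (.leaf 377))) (.node (.node (.leaf 585) (.leaf 794)) (.node (.leaf 150) (.leaf 594)))) (.node (.node (.node (.leaf 897) (.leaf 306)) (.node (.leaf 181) (.leaf 465))) (.node (.node (.leaf 229) (.leaf 247)) (.node (.leaf 240) (.leaf 127))))) (.node (.node (.node (.node (.leaf 542) (.leaf 811)) (.node (.leaf 684) (.leaf 1000))) (.node (.node (.leaf 969) (.leaf 915)) (.node (.leaf 790) (.leaf 31)))) (.node (.node (.node (.leaf 720) (.leaf 526)) (.node (.leaf 275) (.leaf 121))) (.node (.node (.leaf 657) (.leaf 546)) (.node (.leaf 177) (.leaf 806))))))))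

def twoOrd : Janko.Tree (ℕ) := (.node (.node (.node twoOrd0 twoOrd4) (.node twoOrd2 twoOrd6)) (.node (.node twoOrd1 twoOrd5) (.node twoOrd3 twoOrd7)))

def twoRels : List (List ℕ) := [[0, 0],
  [1, 1],
  [2, 2],
  [3, 3],
  [0, 2, 3, 0, 3, 2],
  [0, 1, 0, 1, 0, 1, 0, 1],
  [0, 2, 0, 2, 0, 2, 0, 2],
  [0, 2, 0, 2, 0, 3, 0, 3],
  [0, 2, 1, 2, 0, 2, 1, 2],
  [0, 2, 1, 3, 0, 3, 1, 2],
  [0, 3, 1, 3, 0, 3, 1, 3],
  [2, 3, 2, 3, 2, 3, 2, 3],
  [0, 1, 0, 1, 2, 0, 1, 0, 1, 2],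
  [0, 1, 0, 1, 2, 1, 0, 1, 0, 2],
  [0, 1, 0, 2, 1, 0, 1, 0, 2, 1],
  [0, 1, 0, 2, 1, 2, 1, 2, 1, 2],
  [0, 1, 2, 0, 2, 1, 0, 2, 0, 2],
  [0, 1, 2, 0, 2, 1, 0, 3, 0, 3],
  [0, 1, 2, 1, 2, 0, 1, 2, 1, 2],
  [0, 1, 2, 3, 1, 0, 1, 2, 3, 1],
  [0, 1, 3, 0, 3, 1, 0, 2, 0, 2],
  [0, 1, 3, 0, 3, 1, 0, 3, 0, 3],
  [0, 1, 3, 2, 1, 0, 1, 3, 2, 1],
  [0, 2, 1, 2, 1, 0, 2, 1, 2, 1],
  [0, 2, 3, 0, 2, 3, 2, 3, 2, 3],
  [0, 2, 3, 2, 3, 0, 3, 2, 3, 2],
  [0, 3, 2, 0, 3, 2, 3, 2, 3, 2],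
  [1, 2, 3, 2, 1, 3, 1, 3, 1, 3],
  [1, 2, 3, 2, 3, 1, 2, 3, 2, 3],
  [1, 2, 3, 2, 3, 1, 3, 2, 3, 2],
  [1, 3, 2, 3, 2, 1, 3, 2, 3, 2],
  [0, 1, 0, 1, 0, 1, 2, 3, 0, 3, 2, 1],
  [0, 1, 0, 1, 0, 1, 3, 2, 0, 2, 3, 1],
  [0, 1, 0, 1, 0, 2, 3, 1, 0, 1, 2, 3],
  [0, 1, 0, 1, 0, 3, 2, 1, 0, 1, 3, 2],
  [0, 1, 0, 1, 2, 0, 3, 2, 1, 0, 1, 3],
  [0, 1, 0, 1, 2, 3, 2, 0, 1, 0, 1, 3],
  [0, 1, 0, 1, 2, 3, 2, 1, 0, 1, 0, 3],
  [0, 1, 0, 1, 3, 0, 3, 2, 1, 0, 1, 2],
  [0, 1, 0, 1, 3, 1, 0, 1, 0, 2, 3, 2],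
  [0, 1, 0, 1, 3, 1, 0, 1, 2, 3, 0, 2],
  [0, 1, 0, 2, 0, 2, 0, 1, 0, 3, 0, 3],
  [0, 1, 0, 2, 0, 2, 1, 2, 1, 0, 1, 2],
  [0, 1, 0, 2, 0, 3, 2, 1, 0, 1, 3, 1],
  [0, 1, 0, 2, 1, 0, 1, 2, 1, 2, 0, 2],
  [0, 1, 0, 2, 1, 0, 1, 2, 1, 3, 0, 3],
  [0, 1, 0, 2, 1, 0, 1, 2, 3, 0, 3, 1],
  [0, 1, 0, 2, 3, 2, 1, 0, 1, 0, 3, 1],
  [0, 1, 0, 3, 0, 1, 0, 3, 1, 3, 1, 3],
  [0, 1, 0, 3, 0, 1, 3, 1, 3, 0, 1, 3],
  [0, 1, 0, 3, 0, 3, 0, 1, 0, 3, 0, 3],
  [0, 1, 0, 3, 0, 3, 1, 2, 1, 0, 1, 2],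
  [0, 1, 0, 3, 1, 0, 1, 2, 3, 0, 2, 1],
  [0, 1, 0, 3, 1, 0, 3, 1, 3, 1, 0, 3],
  [0, 1, 2, 0, 1, 2, 0, 2, 0, 1, 2, 1],
  [0, 1, 2, 0, 1, 3, 0, 3, 0, 1, 2, 1],
  [0, 1, 2, 0, 2, 1, 0, 1, 2, 0, 2, 1],
  [0, 1, 2, 0, 2, 1, 0, 1, 3, 0, 3, 1],
  [0, 1, 2, 0, 3, 0, 2, 1, 0, 1, 3, 1],
  [0, 1, 2, 0, 3, 1, 0, 1, 2, 0, 3, 1]]

/-- the generators, their inverses and their factorisations along the chain -/
def twoGens : List Elem := [(0x89be8165b59988610c6b2ac8ee05b9ad501b163713c0c1db388a7659449daf874311eaf41b1fd1ce424821f2ec53b699af7138113ef03da147b082b84da70245ba8d45958c2daa776ea51a2d0533f9d2841b9e0ac93102d042f657014cab939a89603a461e98023838fd0cc687bedaebd57b0d5a52851f5530575b3caaa44d2f89ea072c04862817a8c3458049903ed26424904903abc4e8bb6da28de00272d5c4cc33a44288079185543371ae81eca6a3f11e8d5f9c8e270449081a6c83364d268418e182961a438fc462f81c482b88135b0986fb254a12132b0941150a1cb42925945de1884981fa444e9b84a325b089c23c7faf0726665bcc6a633e100550d4d8383b032e0c4989c7394c825d5c0f98ac74a8185a1c8226432480b05c2a816f150a0103c8b8db00888292eee2f07984e60100c0288,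 0x89be8165b59988610c6b2ac8ee05b9ad501b163713c0c1db388a7659449daf874311eaf41b1fd1ce424821f2ec53b699af7138113ef03da147b082b84da70245ba8d45958c2daa776ea51a2d0533f9d2841b9e0ac93102d042f657014cab939a89603a461e98023838fd0cc687bedaebd57b0d5a52851f5530575b3caaa44d2f89ea072c04862817a8c3458049903ed26424904903abc4e8bb6da28de00272d5c4cc33a44288079185543371ae81eca6a3f11e8d5f9c8e270449081a6c83364d268418e182961a438fc462f81c482b88135b0986fb254a12132b0941150a1cb42925945de1884981fa444e9b84a325b089c23c7faf0726665bcc6a633e100550d4d8383b032e0c4989c7394c825d5c0f98ac74a8185a1c8226432480b05c2a816f150a0103c8b8db00888292eee2f07984e60100c0288, [175, 199, 54, 44, 38, 3, 0, 0]),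
  (0x808c0402444979f46d5f011b2e4793941cf4232de267c688e9547679c3548ed62a3403047dc1cc2584a2d5f0ba40b20cebb3a02e0d08548186c73063784e254594a12933296cf6c16225dfe44650b48e9a4433d08ea559e5eed343a01a8154c42d7a11743b0be09811b9dc2c42a702cb0501f8565963bf5c61f0129828f90c174c6af358d442b21cb309abf69098a2ef6c170ae3b1b939ec436d8161ecb6188966c9350cdd6c220ab89f006a9c98c780bbf062e7701e81a190f2da183c4fa0c201b748e1ae5350989e20f5cc3944926b16958f0489200612323692a1d3ea393208200b8465666c0c68d046108fe4b1f8a4506c483f9366647b853c4541028eb120e1299cb4568007c3d6ea59b91024a193b11541bca02f34068e0a33bac580a509951786930414e2df730c9704c03b89150a2aa9dea2a, 0x808c0402444979f46d5f011b2e4793941cf4232de267c688e9547679c3548ed62a3403047dc1cc2584a2d5f0ba40b20cebb3a02e0d08548186c73063784e254594a12933296cf6c16225dfe44650b48e9a4433d08ea559e5eed343a01a8154c42d7a11743b0be09811b9dc2c42a702cb0501f8565963bf5c61f0129828f90c174c6af358d442b21cb309abf69098a2ef6c170ae3b1b939ec436d8161ecb6188966c9350cdd6c220ab89f006a9c98c780bbf062e7701e81a190f2da183c4fa0c201b748e1ae5350989e20f5cc3944926b16958f0489200612323692a1d3ea393208200b8465666c0c68d046108fe4b1f8a4506c483f9366647b853c4541028eb120e1299cb4568007c3d6ea59b91024a193b11541bca02f34068e0a33bac580a509951786930414e2df730c9704c03b89150a2aa9dea2a,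 [176, 6, 104, 60, 11, 1, 1, 0]),
  (0xb3e9fa3475ae860d53ca85062f73191d0e412174b100202ee22d03f4480eb643bc4e0774ba3decc0628f8c43f878b9d3050741c4d042596d509e433797000092b9b28e341fe18151d24cdafc490d8d4cc31ab4ac2d12851de9513a646af00d9f426ac7f438e6dd01be0f82055928beb000b6994bc598c4e2e127a288a6e4d22614694b380a2114c28d849b79a7d888d6933d220d79361280945a99442c7bb7c6e1884a0882786b3ed7cb50517a16807a1b01e1d5c90952f515291a27629b3540d723910390665bb48604589ea045a711703f0114b240c543588d3a21538f40a3371ac85048338094a66309c902ff763b89c381934c2e3c42b398310260ed550d843a990880d1bcae4961b958f0329020a0b42c82ce8655f8ac20841cc4da8c65eb6d38193ab9d200c0f1ed18227c9549a605b9195edc, 0xb3e9fa3475ae860d53ca85062f73191d0e412174b100202ee22d03f4480eb643bc4e0774ba3decc0628f8c43f878b9d3050741c4d042596d509e433797000092b9b28e341fe18151d24cdafc490d8d4cc31ab4ac2d12851de9513a646af00d9f426ac7f438e6dd01be0f82055928beb000b6994bc598c4e2e127a288a6e4d22614694b380a2114c28d849b79a7d888d6933d220d79361280945a99442c7bb7c6e1884a0882786b3ed7cb50517a16807a1b01e1d5c90952f515291a27629b3540d723910390665bb48604589ea045a711703f0114b240c543588d3a21538f40a3371ac85048338094a66309c902ff763b89c381934c2e3c42b398310260ed550d843a990880d1bcae4961b958f0329020a0b42c82ce8655f8ac20841cc4da8c65eb6d38193ab9d200c0f1ed18227c9549a605b9195edc,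 [123, 27, 9, 29, 43, 0, 0, 0]),
  (0x71a0e22d687be6130c658b61b0883b098657551f45e3b0639958802c99e1cb61a27420b17989c002908bb8bc3f4a1e426e207bf8b88689ba10a98601a80c896d9fd7a430ac40e25f22aac2ca63600d60488591192c8638a168b282c1814df5a985b2bc5d81cf8b8303e17ec527b11e8cd57a1cecfd6940d520e0eb40166e5194542a002a79ec414da692ce00126510eb3a19880172d9751a362a0e1b89557391c284890c840fc6d0c604b91c989d43c342b46e9326109aa191629038cf15b78d2777d248964d1e9e97cb76a3b51ce54794df65882158aa8b2d0794450598b8c873328a892cc18119a6ca6c1c9389176088c6788008cf68a3aa301af70da08fc478093a146f35929e0c679068421f1d0f84a81121494e6d19898e01848345ae1474849def573aa06aff52b0408085d3753e096725c02f1, 0x71a0e22d687be6130c658b61b0883b098657551f45e3b0639958802c99e1cb61a27420b17989c002908bb8bc3f4a1e426e207bf8b88689ba10a98601a80c896d9fd7a430ac40e25f22aac2ca63600d60488591192c8638a168b282c1814df5a985b2bc5d81cf8b8303e17ec527b11e8cd57a1cecfd6940d520e0eb40166e5194542a002a79ec414da692ce00126510eb3a19880172d9751a362a0e1b89557391c284890c840fc6d0c604b91c989d43c342b46e9326109aa191629038cf15b78d2777d248964d1e9e97cb76a3b51ce54794df65882158aa8b2d0794450598b8c873328a892cc18119a6ca6c1c9389176088c6788008cf68a3aa301af70da08fc478093a146f35929e0c679068421f1d0f84a81121494e6d19898e01848345ae1474849def573aa06aff52b0408085d3753e096725c02f1,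 [180, 120, 11, 0, 28, 2, 0, 0])]

/-- the additional relations with conjugating elements -/
def twoSpecs : List Spec := [((0, [0, 3, 2], [0], [0, 1], [2, 0, 2]), (0x3da6848285f1b192425514598ad24a79d45721c0c0a7a390e8545f7ba8d2c38743f5eacf012c8c0905e1784cfc00018cee12907536d11f235e4801db341d020991612d3269bd6c1a61b59aa77602e1071220ae5b6ae53940061e461cc987c05095d30b4b991be4e08c1904ef188f5326a503ccca3730b207ee72ec109476092d11c7080970fe0915a2c728a05a61768f1705dda712cc1e20ce58305427d42a4526fa422e85a164e89ce8401114c581b2d1a188cb25998dc10599addcd41791c3278243d16b0887b41b420530f1b0bf628d558927f950fcde7016dc4a50f98c380c548d046300c05144b13cb9502ec4f9881ed7521d41a1563010da4f193e13856612de0afb7208600fe6e9618ef65401dcd0a1b3c50ee319c4c030d430a594d26caf622696e11810f944430ab0e22255e09475aad5e89, 0xd330228d31820300a5e081b264472d85aa6813713e292b8a1ecec1621018327d891ea66573843c055a1b5224001c157af754084842b0e145d0535c9504e0f64984265d1e349a26c6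c051c8627a231bd093a0561aaa128dcb675698bd14cf2e43c24ef4aa0994ce17354caa237bc8888b00b2210590142c96236397ca03b7d11512af1fc18fe3172c4962965dbe40c04429610cf04a285c4c34d260000b0e85d0e8366ad482e04e95510c089c00866868290747d613fd20a06b1c46b0e372c02076749c95aba270f956f17e3b94e9e291dd1e26820c012563d39e14c61a2e1aec139a960e6735039b40781c31967c54b8d645e6fbf932f85607cb44a0d8cd664835a4d02794dbf42d103f3b57d11249ec546027b11cc4d3c350d2474920070466da8d6e701eb74724c4bafd380d113aa023662bcc32eb, [118, 261, 78, 33, 29, 0, 1, 0])),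
  ((0, [0, 3, 2], [2, 0, 2], [0, 1], [2, 0, 3, 2, 3]), (0x3da6848285f1b192425514598ad24a79d45721c0c0a7a390e8545f7ba8d2c38743f5eacf012c8c0905e1784cfc00018cee12907536d11f235e4801db341d020991612d3269bd6c1a61b59aa77602e1071220ae5b6ae53940061e461cc987c05095d30b4b991be4e08c1904ef188f5326a503ccca3730b207ee72ec109476092d11c7080970fe0915a2c728a05a61768f1705dda712cc1e20ce58305427d42a4526fa422e85a164e89ce8401114c581b2d1a188cb25998dc10599addcd41791c3278243d16b0887b41b420530f1b0bf628d558927f950fcde7016dc4a50f98c380c548d046300c05144b13cb9502ec4f9881ed7521d41a1563010da4f193e13856612de0afb7208600fe6e9618ef65401dcd0a1b3c50ee319c4c030d430a594d26caf622696e11810f944430ab0e22255e09475aad5e89, 0xd330228d31820300a5e081b264472d85aa6813713e292b8a1ecec1621018327d891ea66573843c055a1b5224001c157af754084842b0e145d0535c9504e0f64984265d1e349a26c6c051c8627a231bd093a0561aaa128dcb675698bd14cf2e43c24ef4aa0994ce17354caa237bc8888b00b2210590142c96236397ca03b7d11512af1fc18fe3172c4962965dbe40c04429610cf04a285c4c34d260000b0e85d0e8366ad482e04e95510c089c00866868290747d613fd20a06b1c46b0e372c02076749c95aba270f956f17e3b94e9e291dd1e26820c012563d39e14c61a2e1aec139a960e6735039b40781c31967c54b8d645e6fbf932f85607cb44a0d8cd664835a4d02794dbf42d103f3b57d11249ec546027b11cc4d3c350d2474920070466da8d6e701eb74724c4bafd380d113aa023662bcc32eb,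 [118, 261, 78, 33, 29, 0, 1, 0])),
  ((0, [0, 3, 2], [1, 2, 1, 2, 3, 1, 2, 1], [0, 1], [0, 2, 1, 0, 2]), (0x3da6848285f1b192425514598ad24a79d45721c0c0a7a390e8545f7ba8d2c38743f5eacf012c8c0905e1784cfc00018cee12907536d11f235e4801db341d020991612d3269bd6c1a61b59aa77602e1071220ae5b6ae53940061e461cc987c05095d30b4b991be4e08c1904ef188f5326a503ccca3730b207ee72ec109476092d11c7080970fe0915a2c728a05a61768f1705dda712cc1e20ce58305427d42a4526fa422e85a164e89ce8401114c581b2d1a188cb25998dc10599addcd41791c3278243d16b0887b41b420530f1b0bf628d558927f950fcde7016dc4a50f98c380c548d046300c05144b13cb9502ec4f9881ed7521d41a1563010da4f193e13856612de0afb7208600fe6e9618ef65401dcd0a1b3c50ee319c4c030d430a594d26caf622696e11810f944430ab0e22255e09475aad5e89, 0xd330228d31820300a5e081b264472d85aa6813713e292b8a1ecec1621018327d891ea66573843c055a1b5224001c157af754084842b0e145d0535c9504e0f64984265d1e349a26c6c051c8627a231bd093a0561aaa128dcb675698bd14cf2e43c24ef4aa0994ce17354caa237bc8888b00b2210590142c96236397ca03b7d11512af1fc18fe3172c4962965dbe40c04429610cf04a285c4c34d260000b0e85d0e8366ad482e04e95510c089c00866868290747d613fd20a06b1c46b0e372c02076749c95aba270f956f17e3b94e9e291dd1e26820c012563d39e14c61a2e1aec139a960e6735039b40781c31967c54b8d645e6fbf932f85607cb44a0d8cd664835a4d02794dbf42d103f3b57d11249ec546027b11cc4d3c350d2474920070466da8d6e701eb74724c4bafd380d113aa023662bcc32eb,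 [118, 261, 78, 33, 29, 0, 1, 0])),
  ((2, [0, 1, 2, 1, 3, 1, 2, 1, 0], [], [0, 2, 1, 0, 1, 2], []), (0x1b1e0faf40eab9530a7b2759f09000d4e4e1890dcce115b198425234aa210fe60375ead179ae118124ca252a6583a80762d3b3a11e226d922088a7ba1e16335e938943c028d0c65787a9086a7559b8f4945799096c16326c08440c03954716194df268818a168fb5144dac5650af8b8ff5611872e7078f946730d0a9601c86a72028d2c2b49806302198e4142a949ef05326120b77c079a6ba1837190e55fb14a20a30825d82473334fce20f8bd16b94225cde9a77b68c4cc8292410773c88104f12da3864267d2ee0c4717381663a149addceb2037c70e3883b432e440ba9622c86115a0bc6ab6196026a059944262154a89f350fcfed212bf510fc492d4b43188834d8d73a2584e177486c467c80325265d26a0cea592f02db270402c8203d0184e047b0a17d9c016101d230e4f3c8a02b6f054186d, 0x5b40c5e5369821464b6ec3210f975984dee15d8454223583e06c345c18d7a8f6fc2deb1079818d09439964a4812c1384ee6561fd10502a1f2085e2b00dec8a719c83246162d48e43468e1e84984834fc702290444894cb1d0c3f5f82d90f743ac9b64831230f0f2483fc64b92e8589aa565c393caf67b061afa6824d2cd254add66ea1e01e14a2631d1de923b0a9dacc108cc12917299940f13cb81dc356f2692e770f1a49e171c9f6222408334d7123639c3a2b5441580183ab38002d2d0edf6bc80bf9d8ca6a9c5069b0706c40b1338c4389f6a2d07c3d5f3f10a054ab683e9d64b64dce2302b894c46890130571d2a828d8749715a558144e0cd66e194608b3d17dd04c02298b6ba149906e8012b91fa6a3da3a1ea41329ca2c314108040f093c2001555b085c010d211046d05271aec5099101907,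 [262, 161, 45, 71, 12, 1, 1, 1])),
  ((0, [1, 0, 2, 3, 1, 3, 1], [0, 2, 0, 3, 1, 2, 1, 3], [3, 0, 2, 1], [1, 2, 3, 1, 2, 3]), (0x68c4d9c11698dcaea6149f8d2230989d621a6097050ca413a4fe253437c690715945408e568548afc8226db49c3a80c24163a258fa998800184a5888ec3c652a3f51643319b0f0ea7793cb23a76c30844087a8c6af76ca49dc7907921e0661c42dc024403d8b4a8040748ce340c35883208139f2c874024d683161e926bb1cb85425e71231e83e631f1f02d352552e4982b260c855a882067b5b2698e4733bcc7b083827ce2ba1821958bc0fa24be56378d8785d26ad1ca0159aac62eb6c0fc0e2e7a981c82a43a8888225f03a1218291c9ad0a538cc286e2db9898647f1dd084173b404cff57b791e94892e01a2f2a8302e0b80bc89621011b57f0269401b81c5ba740805521298ab02830d14d4592797aa946985ba733b3321c580524196cd4c36c36627d2215ccf032a9aa9178bedd8b96014c32d7, 0x8910dbee36586564ce5f160ba847c24526ef468d076322413db4f00303d5a99642e8ce9d430e80ec169b159e0536351fcab25948e2655a27d44bd7d1183a31093b58e6b001641224878ce264a06444281a0ac0124ac44a6c52b11338606031a97c427c52200084217a2d1e723788e0a2823835e67d3702840b82bc31c02b6518942f5410885cec77229c8134ab992c4452b18101622bd03e9e6c894f40e319f9204d543fd66bb7ec29ca9a4629988d52706dd6e70e16902833b9506cd654a5e12fb43b01b8506b8403c663ca80e90229ae5a218869e07edb0116dec27692b8e6511c8a928c2442d5e2616c33498cc352710a756f34146bf871d992f92b2c0da7f201a130a77b992170183125f8bc84180708e3db756c3008c10025c1eba1e45583ba620af61978823e1e05d54b73482c582d750dce0e2,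 [195, 119, 110, 62, 1, 2, 1, 1])),
  ((2, [0, 1, 0, 2, 1], [], [2, 0, 3, 1, 2, 3], []), (0x6a2f5ac440f295de9c2ba158c284c12609060720cb44c54120d4733ec34aac35b0299eb525a05e0133d015d22433bed36894d1ec390a1ea40e27231a00d04d2100dd0af6d3160e9977181d69550251c4e47a889241d1f190767e6e158181f879d0726514bb46a6e6eb34c4b00c145b67651be6126c512a89c002a331fc2a4538478782084842a607a3c22152dc40bec434a3184381b38086f6012092ed973b95ae321fc1610cb0b0057f0c608b9167c79128a6de36c445a080da1cb2b12f37d80fd560353ed315b1d0c1067220fe705d91cba310b8e9aa8e801dc602353b8e26667e25832b435add3cbc7ba906806103d08aff49a34ea50570ddf43381b4a24f113b9957025cb455af876438290b5902da05c651493a2550acdb04f7981174404881dd4845c09952460d184b0c8049be02795f0bc58c9, 0x268c4e4965f899f47c123915a816ac110505198b00a531e294d04b750d55c2821a31963e0b9dc60f186b4d742768845dad9438b90ccc27335448e351d16ec358b5d101942c44ab13320c854217a97d6ca64007c000831425ac947c244f6693e80e24442d854560f233dde8480d08cd8b46c0dc526716aa81aff27a721c4257aac36cf329143b0c74b9da90744929a0ce1db2426e24d15074923ca8dd05e37186141081229e4de2eb11f678733bc08a0292c072be7e381c25c032e0e6ac23bf526dd7593178c66fad414d24a9acb2204bc04da0985b09f2a73a87964380c2a5b900799da0cfe2d0307b1046b6d3e1441b1dc6a1629597a901b23d72411a210b051011e8e20131a9177081783838ec283293a3f6043d90e53782c92b32b9fd30257827932604dc0cccc1113d80e7009101dc166d22cfca8,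 [51, 129, 22, 48, 5, 1, 1, 1])),
  ((0, [2, 1, 0, 3, 1, 2, 3], [0, 1, 3, 0, 1, 3, 1], [1, 0], [0, 1, 3, 1, 0, 1, 3]), (0x74c4c06156e0a47c677a141bcba421d00d0274100f6be4e34962fd79bb928491942ccccb44029be0d03b91700b6501426c151445ec9839891187a7ba79e41634a00d848301f212b420908c214582961ab327b4190d4119d4ac4e410e20a2136c110cfe56880fecf4d0e5484a5bb847b015786c32ff73308e4c4268c07e975603076a069b80963771b697a6a0d155d50e689c0001f4997c8c2b08049e2e748be0fce229a3d4c8b6b9a114438601050267d8d1540f842add86b2d870e23a13a58ec5d1e1f4a2eb518bcae2a18ad600011999192cd12b60bc9f08994a50a0bb0088471718d6c1e89255201d3b820b879112a53a0281b1db2a12caa1f2cc838d9ba352c23502c57a9bd060e61b3924b94cafc30a7228b1deed5dbe9ca8957239ac5a264185adb59215e11004a1cf0d54db19f8bc311b8a90f, 0x8911dcc0c002519a7b7b141aa731984982be1dc11605d562f1f8053b8686a866fb94570b7db75120d0ebe83871322562703442ac32ee4da11649e78c24630f0826872563f85410c84fbf926ca5c098b0347a3acb2c91d01858a813aa9d04e1140132040dc2048ed59924bcd46603dfacf5785d76a3391d47c36102059cb531b9c70a02a3787aff03adc46e4521a88cf9478950e45410585ce1401f430f3052f41d0714b0c5ada5ca14ccd680b808009219a58d0671aa4da92150097ed938261b67e863d4a45a2500da2d747154d041378506e2f30b152c0141944cb0a65b114e134ead1f0d8262343e4d3e349a70252c356267509b16cc24e0c860762dbdcbea63112c221e461821c79359e0aee2638fd80ba48120886e5725d5a2127b7220d074a28a68b3a0a1e0a2763c8164277c15d47a888f0b891,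 [157, 82, 96, 26, 38, 0, 1, 1])),
  ((2, [1, 2, 1, 0, 2], [], [0, 1, 2, 1, 0], []), (0x4f201a243183be14a85a8a40e025391db8d786b19570037c19d6aa8896820d86f075ce86848b0a6e670945acaf82bc0aec38789066687e03056c82328172170d1c4a8163d334286c8980488d412974f6e5311d046d05f139feda4d9b80c266c8edea810e141f0d21e2fcb2d5523910ef130bf5743617034d2607ba3924f44eacd803145930cc754804d76b6029cd70a5583e8421829120fe1b4532da6bc568a080bd3e30884dd7118cec0466381884f42bb89a78442861041823ccfb03419b52e7976244b08f790d528c11d171184a83c41ec38073243c551c9add0b1100440089638644496518206e2f323a87e5f5333cca0b382661c03513f9b6ed04a34ad027da084e775bbe4543d33915c64b2d8f99d0c65405649f091f958df350d014724e03d08152f0c83e9374b1552ae4a926242d5a269310b, 0x69815f65a738e6062000435e6712dbf9d66f360c03d00628d95ce317a4854b9539657aa43718d60ea871d868677e90816517abc198b2129fdde7a0c3dd01051ab117ef8823b568d044ae222c81f085ac7b4507cace025c08147974208c0a15b31d08884cab5ba9515a62160351074a093760210e1980bf0130c838fd28b3238dce4de0e44d4613618087401349200e6106294cc9b32298645d4fa2c987358bd0ee11358b9791246868da8366b5cd074161f538ca4b051b43b7fb08d4d42905d52e413a747a433f32d5ea82003d9c5e11be96a65748c4a8d978a3ddcba3c318ea9e121700c8e8337c4cd188204e0852088850b75f17ca65822ab0c41672839410f222ac08f2708a6148616b019ee664925224f06955ecbb4636c94906e36020d54d06c9cf90915d54e21e054664684b052e7c1c421a44d,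 [245, 64, 88, 13, 2, 3, 0, 1])),
  ((0, [1, 0, 2, 3, 1, 3, 1], [0, 1, 0, 1], [0, 1, 3, 0, 1, 2, 3], [0, 1, 2, 1, 3, 1, 0, 2, 1]), (0x86ac582d11cac8be2f5095d5ec30f0a98cee7593cc6985808d6ad6249a0940e49a013400301404c227984d1110199aca90a368111d0c0fa29665b82a446a2d661ed16f081aae02fb02a65120f212b03040323e1e84c528da22736501c60711f2e476df46174107c5e0d1d097613153a0c6486d491322394b011681b89a370ab3c38704ab898eb875350bc2e05b612065330fd3c594692c52fe6dad93e2040bc97f0034a6dba724e3201a8f5118428ec6e2a1a4fc54aba10a371b69e2f75f211ea24501d6247d5690c3a55288b1df0e2998924cb271dc2c12379721ece15885743d5529c06ff00948ec7f5a215cce973b3528e16c9b1f487050088ee485b78f0d713a982e743d300f245833116e251e2f5a6fd4b0e034836abe432828499cfc3a191220e1020c1062e02d3d80c6a81219dabb23024ac28, 0x561958aec2897226e419ba02e710889dbe0e6b81daa842423040746a0e434ca36028d2c977a18dad82ec100a7881a6c80b51f905543437a78780c5e0c90277459b87696183f0369a109d620a7511407cdb2c30d5e7e4ec156426842ce222a429ac44b7021357c9c12a29fa4370c3a24ff849c8c6ce6b12ce676250b98ead381ee166744a45627f413d5a5005a07d3e3d7b965bc953e3951ebb6cb89a2ed1c018846a0e0610ef622054c8b86d0ac52312b114cc2c6220180a029a99ce3a7502106fa0b24d28cb80968f4f386a6574527002d20a985004c0e92d918bef28115d4ac8473e5f6121a80c50ab3133c1ecc492fc98235e8521e1e52319bab67584c1ac186261b85e27c191a0017bc448687f3c09c8871c1cc2a15707432cd169554679771515010683e0fab04b8dc04b961025a6e6248d88ef4,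 [53, 245, 42, 39, 39, 3, 1, 1])),
  ((0, [1, 3, 1, 3], [0, 3, 0], [1, 0, 3, 1, 2, 1, 3, 1], [0, 2, 1, 0, 1, 2]), (0x22a9deeef75a608cd1863c44a05300580eb63f3f16adc1b8b128d0002ec2a5f1342d7af24e1f4f41e069313ce02da1556c42990cd6520109180900608578e75806da51381b75848e33a49488931935e6af3109cd4b8618d906386aa7df03f282854a0f4616201020c4209edb660713ac674880d90a4cb60140340358f70166bb622d960b3c68123c3d4944b70b89022e868f12aff872345a84383920aac7eb98c85605bedc6bf4b2e86a4259b5c9ca8151cd9c480a1dc56a33b2c5fc888341c020e143c064ea6d0bc123088350086538aa8de5c48865641043a2ddccb7d2a4ba7439019446911904a8613326c8eae7a2991e593cb7d8e44644489304373a07c1d4317862390b8452eb7289d568f936b298a331142434d3413d9929a760ec7a1f1d378ae135cc3d26be3e1015a2934155ca5a451fd4008, 0x6c0d9425f0723d270b7b2b03cb6351ad12346bae148b9481b50f024113c48c188869343f66bd21466881454417879915e326e2180a8a40a592eec1d049ad005a18d40aa3d299865e0e36618fc4f1d546b32808832371cac042e863b553ee140031eadd7d1f81ec81441202253d954dcdb661001288749689c78890f97ad1381257c01613b562f321061570e149fd22fd06b48aee01eb511cbb2900da06c298bdd48c6286d2aa70140de40b52bc4769b391bc4c4c3b12cb68b2c8cc46ad72b2490076990cb88567b2c89077c0b89a587581078ba08a100c4573b904ebf5a9e59cee4c2646a7420c362638731f08c0a600c42a920b04c58c47fb18fa9d101945a60312511afe389dc1067653de12e22387dbcae0a3c060b26d074acb715c19f2730827054545e1a1dedf41aa4c2008292a105d5438cd2fb,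 [275, 66, 87, 80, 32, 2, 0, 0])),
  ((0, [0, 2, 0, 1, 2, 3, 1], [2, 3], [0, 1, 2, 3, 2, 1, 2], [1, 2, 0, 3, 1, 2, 3]), (0x823e942ef743e6249f16c3c2692448ee22bf85928566c4b095f700270c1483f2e96ce05a138009216461d8e442030c5d25157085fe652b8b9ac8006c24f22464a39b2956529dcaa67b914983e4f2719a487326ca8dc1418cde0e283503873608448ec87b3e1c8ac6c18814e7079d59e6700a042b0349bc60c2329405a6b6458513a6919014fc8561048b08a83aa408dd593d1a0865e081e47d2b1a1860b693462084581116e5f30bac54e33e3b11e2f3c2454ae10b9b8d6a01b979beee201a9ea995e830730c0f9e83ada26ae956b163b8144ad3db6dfa9a6a90caac61642a10905a8e88ccc6f38a040844439886403bf20a2229acc3682048d172be36898050d2e3f91aa86bb3896ea659c554940f0e0b2414b9fc9ec0782615e18898d434f341a8d8a194380c663c3a0a46c66768f4eeb4302ec20b8, 0xbc360a8585108606481939bc4d4baa47b13561154cfc728b8aa3e7ec4a1cba69aecd2920a235541b881b00e7a3f0a1d30f5a32daab93e118e85a3691d28c82b181b2b715b84a6c252a1d0c91588a99a4813b5db6bc2d940224144a6d7e1c820d0ce8f011786a0040a9096041d24cb8830cb9cb0b82e8952c2c6b350eaf90916622708633d42ce65150d01a0fbfdb02455c20ec4c3cb685aef51a620e4307a413884098e15ce00f275187b2b989ba7702bb9640b603b44cf5629c86700389a9408a58021c840632d8fe03401b9ee2f7b3d0429971a2ca2c91da9dd0c30ebecbed114c09e2cc5e925a482293b0406b7c3400c0c83128ca22378242c3606a7dd4fa3c38a164f809f414c7798c9fcdc540f1cc8e3188cc2c11c854201839bc15aa284a697c0159b11be66442d46e441fbad3c95070c55ef2,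 [184, 70, 82, 1, 27, 1, 1, 0])),
  ((2, [0], [], [0, 2, 0, 1, 3, 1, 3, 2], []), (0x6d0f4cee58790c2e4161bf8aa4a7f9485ea40f869531052be5d66183c0c2cd83129a0c9a370b5d0115116014e14a9fc6a4239c281c3a5c12600373228588cf143dc0e7c84c2c2101379a068b223be10c845d010b60b1f338f299202bdbe393c12c00304923452aa6a32c4a1d6e8859a31401dc58bf88994e8083aba5eccc2cb0406564438218fa1318d94607a39d060c1022df866842748cad79a312d13172ed2818390e15876638a920a74b81938ab772b8e2c626b6c90f51e3896c2b228fc1e9f3d309728564c0950f0450ed22d63588a0836681384e336bb8dcc536941536f100af0fc8e0103428d34c224af0d4784c2a5477af4b805761796ea304b7846d1221ed6a515f20448b0368c8365f75449f69e6c9c03869769698a876e3c824c87eb00d87d5a3921c5d3507904d55886540504993d664c, 0x44089570087834809d6b399ae8f7dbd49c597d189a8e183c28269110a71fcce6d294e0974585898601d9dc36377e88d4cf14b146200e291b9d89e608c966173944c3ef82997010b72213c60576e31962a45b264c6143f9d032dd859994412560ac744a4332ccae31a9b45a0f00b400e28611d918813c2e202613e3d9ff041a3bdbc05340811c7926bd188433da25d68501aecba7d1f921748a4917c849f0c334c8cc4a82454af7512420d81719d8abf572014ea973a0cea1e69bcc4e112d82c38d288a4154df4d3ddf898120d818396486946ee20a82123c28418580401158e6005f421c47167a34d62f873a218c33531e246f2f391808270161d2d12a09960bc82a1de4ad361f972db2aa6d6a2918969649381829681d12c080c8486be47a451f055e0d534b948c94643b466a86c9e870ca5091c96bd,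 [1, 6, 86, 49, 3, 1, 0, 0]))]

/-- the combinations -/
def twoCombos : List (List (ℤ × ℕ) × List (ℤ × (ℕ × ℕ))) := [([(1, 0), (1, 1), (1, 11), (1, 9)], [(1, (0, 223))]),
  ([(1, 0), (1, 2), (1, 5), (1, 6), (1, 10), (1, 7), (1, 8), (1, 1)], [(1, (0, 88))]),
  ([(1, 1), (1, 11), (1, 7), (1, 4), (1, 9), (1, 2)], [(1, (0, 88)), (1, (0, 223))]),
  ([(1, 3), (1, 1), (1, 0)], []),
  ([(1, 3), (1, 2), (1, 6), (1, 10), (1, 7), (1, 8), (1, 1)], [(1, (0, 88)), (1, (0, 223))]),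
  ([], [(1, (0, 88))]),
  ([(1, 1), (1, 0)], []),
  ([(1, 5), (1, 1), (1, 11), (1, 7), (1, 4), (1, 9), (1, 2)], [(1, (0, 88))]),
  ([], [(1, (0, 223))]),
  ([(1, 1), (1, 11), (1, 7), (1, 4), (1, 9), (1, 2)], [(1, (0, 188)), (1, (0, 223))]),
  ([(1, 8), (1, 6), (1, 10), (1, 11), (1, 9), (1, 2)], [(1, (0, 188)), (1, (0, 88))]),
  ([(1, 10), (1, 7), (1, 0), (1, 3), (1, 4), (1, 9), (1, 2), (1, 6)], [(1, (0, 188)), (1, (0, 223))]),
  ([(1, 11), (1, 7), (1, 0), (1, 9), (1, 2), (1, 8)], [(1, (0, 223)), (1, (0, 188))]),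
  ([(1, 4), (1, 9), (1, 2), (1, 8), (1, 1), (1, 6)], [(1, (0, 223))]),
  ([(1, 9), (1, 2), (1, 8), (1, 1), (1, 6)], [(1, (0, 188)), (1, (0, 88))])]

/-- the certificate -/
def twoCert : CentralLocal.Cert :=
  { act := actC twoGens, one := oneC, N := 1024, k := 4, q := 2, rels := twoRels, P := 15,
    elt := twoElt, next := twoNext, word := twoWord, par := twoPar, L := twoL, kind := twoKind, rank := twoRank,
    via := twoVia, pv := [4096, 4097, 4098, 4099, 4100, 4101, 4102, 4104, 4107, 4108, 4111, 4115, 4123, 1025, 1122] }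

end Cfsg.Agent.Lie.ConwayThreeMult
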